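import Cfsg.Prelude.Def_KGroupFacts
import Mathlib.GroupTheory.FreeGroup.Basic
import Mathlib.GroupTheory.Schreier
import Mathlib.GroupTheory.Abelianization.Defs
import Mathlib.Algebra.Module.Projective
import Mathlib.LinearAlgebra.FreeModule.PID
import Mathlib.Tactic

/-!
The Schur multiplier of a finite group through the free central extension `F / [R, F]`.

* `UExt Q`, `proj : UExt Q →* Q` the free central extension,
  `mult Q = proj.ker ⊓ commutator` the multiplier (a finite commutative group);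
* `exists_lift`: `UExt Q` maps to every central extension; `map_mult` its effect on `mult Q`;
* `exists_complement_le`, `cover_spec`: covering groups;
* `hasSchurMultiplier_mult`, `mulEquiv_mult`: `Cfsg.HasSchurMultiplier Q A ↔ A ≅ mult Q`.
-/

set_option autoImplicit false

open Subgroup
open scoped commutatorElement

universe u v w

namespace CfsgLib.Schur

section central

variable {X : Type v} [Group X] {Y : Type w} [Group Y]

theorem commutatorElement_congr {a a' b b' : X} (ha : a⁻¹ * a' ∈ center X)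
    (hb : b⁻¹ * b' ∈ center X) : ⁅a, b⁆ = ⁅a', b'⁆ := by
  obtain ⟨z, hz, rfl⟩ : ∃ z ∈ center X, a' = a * z := ⟨_, ha, by group⟩
  obtain ⟨w, hw, rfl⟩ : ∃ w ∈ center X, b' = b * w := ⟨_, hb, by group⟩
  have cz : ∀ g, g * z = z * g := mem_center_iff.mp hz
  have cw : ∀ g, g * w = w * g := mem_center_iff.mp hw
  calc ⁅a, b⁆ = a * b * a⁻¹ * b⁻¹ := commutatorElement_def a b
    _ = a * b * a⁻¹ * (z * z⁻¹) * b⁻¹ * (w * w⁻¹) := by group
    _ = a * z * (b * w) * (a * z)⁻¹ * (b * w)⁻¹ := by
        have e1 : a * z * (b * w) = a * b * (z * w) := by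
          rw [mul_assoc, ← mul_assoc z b w, ← cz b]; group
        rw [e1, mul_inv_rev a z, mul_inv_rev b w]
        have cz' : ∀ g, g * z⁻¹ = z⁻¹ * g := mem_center_iff.mp (inv_mem hz)
        have cw' : ∀ g, g * w⁻¹ = w⁻¹ * g := mem_center_iff.mp (inv_mem hw)
        calc a * b * a⁻¹ * (z * z⁻¹) * b⁻¹ * (w * w⁻¹) = a * b * a⁻¹ * b⁻¹ := by group
          _ = a * b * (z * z⁻¹) * (w * w⁻¹) * a⁻¹ * b⁻¹ := by group
          _ = a * b * (z * (z⁻¹ * w)) * w⁻¹ * a⁻¹ * b⁻¹ := by group
          _ = a * b * (z * (w * z⁻¹)) * (w⁻¹ * a⁻¹) * b⁻¹ := by rw [cz' w]; group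
          _ = a * b * (z * w) * z⁻¹ * (a⁻¹ * w⁻¹) * b⁻¹ := by rw [cw' a⁻¹]; group
          _ = a * b * (z * w) * (z⁻¹ * a⁻¹) * (w⁻¹ * b⁻¹) := by group
    _ = ⁅a * z, b * w⁆ := (commutatorElement_def _ _).symm

/-- A central extension of a finite group has a finite derived subgroup. -/
theorem finite_commutator_of_central [Finite Y] (f : X →* Y) (h : f.ker ≤ center X) :
    Finite (commutator X) := by
  have : Finite (commutatorSet X) := by
    refine Set.Finite.to_subtype ((Set.finite_range
      fun t : Y × Y => ⁅Function.invFun f t.1, Function.invFun f t.2⁆).subset ?_)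
    rintro _ ⟨a, b, rfl⟩
    have key : ∀ x : X, (Function.invFun f (f x))⁻¹ * x ∈ center X := fun x => h (by
      rw [MonoidHom.mem_ker, map_mul, map_inv, Function.invFun_eq (f := (f : X → Y)) (b := f x) ⟨x, rfl⟩,
        inv_mul_cancel])
    exact ⟨(f a, f b), commutatorElement_congr (key a) (key b)⟩
  infer_instance

/-- A homomorphism covering a surjection of central extensions covers the derived subgroup. -/
theorem map_commutator_eq {Z : Type*} [Group Z] (β : X →* Y) (ξ : Y →* Z) (h : ξ.ker ≤ center Y)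
    (hsurj : Function.Surjective (ξ.comp β)) : (commutator X).map β = commutator Y := by
  rw [commutator_def, Subgroup.map_commutator]
  refine le_antisymm (commutator_mono le_top le_top) ?_
  rw [commutator_def, commutator_le]
  intro a _ b _
  obtain ⟨x, hx⟩ := hsurj (ξ a)
  obtain ⟨y, hy⟩ := hsurj (ξ b)
  have he : ⁅a, b⁆ = ⁅β x, β y⁆ := commutatorElement_congr
    (h (by rw [MonoidHom.mem_ker, map_mul, map_inv, show ξ (β x) = ξ a from hx, inv_mul_cancel]))
    (h (by rw [MonoidHom.mem_ker, map_mul, map_inv, show ξ (β y) = ξ b from hy, inv_mul_cancel]))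
  rw [he]
  exact commutator_mem_commutator (mem_map_of_mem β (mem_top x)) (mem_map_of_mem β (mem_top y))

/-- A homomorphism covering a surjection of stem extensions is surjective. -/
theorem surjective_of_stem {Z : Type*} [Group Z] (β : X →* Y) (ξ : Y →* Z)
    (h : Cfsg.IsStemExtension ξ) (hsurj : Function.Surjective (ξ.comp β)) :
    Function.Surjective β := by
  intro y
  obtain ⟨x, hx⟩ := hsurj (ξ y)
  have hk : (β x)⁻¹ * y ∈ ξ.ker := by
    rw [MonoidHom.mem_ker, map_mul, map_inv, show ξ (β x) = ξ y from hx, inv_mul_cancel]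
  have h2 := h.2.2 hk
  rw [← map_commutator_eq β ξ h.2.1 hsurj] at h2
  obtain ⟨c, -, hc⟩ := h2
  exact ⟨x * c, by rw [map_mul, hc, mul_inv_cancel_left]⟩

theorem isStemExtension_comp_equiv {Z : Type*} [Group Z] (e : X ≃* Y) {σ : Y →* Z}
    (h : Cfsg.IsStemExtension σ) : Cfsg.IsStemExtension (σ.comp e.toMonoidHom) := by
  refine ⟨h.1.comp e.surjective, fun x hx => mem_center_iff.mpr fun g => e.injective ?_, fun x hx => ?_⟩
  · rw [map_mul, map_mul]
    exact mem_center_iff.mp (h.2.1 hx) (e g)
  · have h2 : e x ∈ (commutator X).map e.toMonoidHom := by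
      rw [commutator_def, Subgroup.map_commutator, map_top_of_surjective e.toMonoidHom e.surjective]
      exact h.2.2 hx
    obtain ⟨y, hy, hyx⟩ := h2
    exact (e.injective hyx : y = x) ▸ hy

/-- A finite group lives in every universe. -/
theorem exists_equiv_type (Γ : Type v) [Group Γ] [Finite Γ] :
    ∃ (Γ' : Type w) (_ : Group Γ') (_ : Finite Γ'), Nonempty (Γ' ≃* Γ) := by
  let e : ULift.{w} (Fin (Nat.card Γ)) ≃ Γ := Equiv.ulift.trans (Finite.equivFin Γ).symm
  refine ⟨ULift.{w} (Fin (Nat.card Γ)), e.group, inferInstance, ?_⟩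
  exact ⟨e.mulEquiv⟩

end central

/-- Two lifts from a perfect group through a central extension agree. -/
theorem eq_of_perfect {G : Type*} {X : Type v} {Y : Type w} [Group G] [Group X] [Group Y]
    (hG : commutator G = ⊤) {ξ : X →* Y} (hξ : ξ.ker ≤ center X) {η₁ η₂ : G →* X}
    (h : ξ.comp η₁ = ξ.comp η₂) : η₁ = η₂ := by
  have hle : commutator G ≤ η₁.eqLocus η₂ := by
    rw [commutator_def, commutator_le]
    intro a _ b _
    show η₁ ⁅a, b⁆ = η₂ ⁅a, b⁆
    rw [map_commutatorElement, map_commutatorElement]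
    have key : ∀ x : G, (η₁ x)⁻¹ * η₂ x ∈ center X := fun x => hξ (by
      rw [MonoidHom.mem_ker, map_mul, map_inv, ← MonoidHom.comp_apply, h, MonoidHom.comp_apply,
        inv_mul_cancel])
    exact commutatorElement_congr (key a) (key b)
  refine MonoidHom.ext fun x => hle ?_
  rw [hG]
  exact mem_top x

/-- The derived subgroup of a central extension of a perfect group is perfect and covers it. -/
theorem perfect_commutator_of_central {X : Type v} {Y : Type w} [Group X] [Group Y]
    (f : X →* Y) (hf : Function.Surjective f) (hker : f.ker ≤ center X) (hY : commutator Y = ⊤) :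
    commutator ↥(commutator X) = ⊤ ∧
      Function.Surjective (f.comp (commutator X).subtype) := by
  have hmap : (commutator X).map f = ⊤ := by
    rw [commutator_def, Subgroup.map_commutator, map_top_of_surjective f hf, ← commutator_def, hY]
  have hsurj : Function.Surjective (f.comp (commutator X).subtype) := fun y => by
    obtain ⟨x, hx, rfl⟩ : y ∈ (commutator X).map f := hmap ▸ mem_top y
    exact ⟨⟨x, hx⟩, rfl⟩
  refine ⟨?_, hsurj⟩
  have h := map_commutator_eq (commutator X).subtype f hker hsurj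
  exact Subgroup.map_injective (commutator X).subtype_injective
    (h.trans (by rw [← MonoidHom.range_eq_map, Subgroup.range_subtype]))

variable (Q : Type u) [Group Q]

/-- The relations of the standard presentation of `Q`. -/
abbrev presKer : Subgroup (FreeGroup Q) := (FreeGroup.lift id : FreeGroup Q →* Q).ker

/-- The subgroup `[R, F]`. -/
abbrev presRel : Subgroup (FreeGroup Q) := ⁅presKer Q, (⊤ : Subgroup (FreeGroup Q))⁆

/-- The free central extension `F / [R, F]` of `Q`. -/
abbrev UExt : Type u := FreeGroup Q ⧸ presRel Q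

/-- The projection of the free central extension. -/
def proj : UExt Q →* Q :=
  QuotientGroup.lift (presRel Q) (FreeGroup.lift id) (commutator_le_left _ _)

/-- The multiplier `(R ⊓ F') / [R, F]`. -/
def mult : Subgroup (UExt Q) := (proj Q).ker ⊓ commutator (UExt Q)

variable {Q}

theorem proj_mk (x : FreeGroup Q) : proj Q (QuotientGroup.mk' (presRel Q) x) = FreeGroup.lift id x :=
  rfl

theorem proj_surjective : Function.Surjective (proj Q) := fun q =>
  ⟨QuotientGroup.mk' (presRel Q) (FreeGroup.of q), by rw [proj_mk, FreeGroup.lift_apply_of]; rfl⟩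

theorem ker_proj_le_center : (proj Q).ker ≤ center (UExt Q) := by
  intro e he
  refine mem_center_iff.mpr fun g => ?_
  obtain ⟨x, rfl⟩ := QuotientGroup.mk'_surjective _ e
  obtain ⟨y, rfl⟩ := QuotientGroup.mk'_surjective _ g
  have hx : x ∈ presKer Q := he
  have h : ⁅x, y⁆ ∈ presRel Q := commutator_mem_commutator hx (mem_top y)
  rw [← QuotientGroup.eq_one_iff] at h
  have h' : ⁅QuotientGroup.mk' (presRel Q) x, QuotientGroup.mk' (presRel Q) y⁆ = 1 := by
    rw [← map_commutatorElement]; exact h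
  exact (commutatorElement_eq_one_iff_mul_comm.mp h').symm

theorem mult_le_ker : mult Q ≤ (proj Q).ker := inf_le_left

theorem mult_le_center : mult Q ≤ center (UExt Q) := mult_le_ker.trans ker_proj_le_center

instance : CommGroup ↥(mult Q) :=
  { (inferInstance : Group ↥(mult Q)) with
    mul_comm := fun a b => Subtype.ext (mem_center_iff.mp (mult_le_center b.2) a) }

instance finite_commutator_uext [Finite Q] : Finite (commutator (UExt Q)) :=
  finite_commutator_of_central (proj Q) ker_proj_le_center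

instance finite_mult [Finite Q] : Finite ↥(mult Q) :=
  Finite.of_injective _ (Subgroup.inclusion_injective (inf_le_right : mult Q ≤ commutator (UExt Q)))

/-- The free central extension maps to every central extension. -/
theorem exists_lift {Q' : Type w} [Group Q'] (f : Q →* Q') {X : Type v} [Group X] (ξ : X →* Q')
    (hξ : Function.Surjective ξ) (hker : ξ.ker ≤ center X) :
    ∃ β : UExt Q →* X, ξ.comp β = f.comp (proj Q) := by
  let g : FreeGroup Q →* X := FreeGroup.lift fun q => Function.surjInv hξ (f q)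
  have hg : ξ.comp g = f.comp (FreeGroup.lift id) := by
    refine FreeGroup.ext_hom _ _ fun q => ?_
    simp [g, Function.surjInv_eq hξ]
  have hrel : presRel Q ≤ g.ker := by
    rw [commutator_le]
    intro r hr y _
    have hgr : g r ∈ center X := hker (by
      rw [MonoidHom.mem_ker, ← MonoidHom.comp_apply, hg, MonoidHom.comp_apply,
        MonoidHom.mem_ker.mp hr, map_one])
    rw [MonoidHom.mem_ker, map_commutatorElement]
    exact commutatorElement_eq_one_iff_mul_comm.mpr (mem_center_iff.mp hgr _).symm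
  refine ⟨QuotientGroup.lift (presRel Q) g hrel, MonoidHom.ext fun e => ?_⟩
  obtain ⟨x, rfl⟩ := QuotientGroup.mk'_surjective _ e
  exact DFunLike.congr_fun hg x

/-- The free central extension maps `mult Q` onto the kernel meet the derived subgroup. -/
theorem map_mult {X : Type v} [Group X] {ξ : X →* Q} (hker : ξ.ker ≤ center X)
    {β : UExt Q →* X} (hβ : ξ.comp β = proj Q) :
    (mult Q).map β = ξ.ker ⊓ commutator X := by
  have hc := map_commutator_eq β ξ hker (hβ ▸ proj_surjective)
  apply le_antisymm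
  · rintro _ ⟨e, ⟨he1, he2⟩, rfl⟩
    refine ⟨?_, hc ▸ mem_map_of_mem β he2⟩
    show ξ (β e) = 1
    rw [← MonoidHom.comp_apply, hβ]; exact he1
  · rintro x ⟨hx1, hx2⟩
    rw [← hc] at hx2
    obtain ⟨e, he, rfl⟩ := hx2
    refine ⟨e, ⟨?_, he⟩, rfl⟩
    show proj Q e = 1
    rw [← hβ]; exact hx1

theorem map_mult_stem {X : Type v} [Group X] {ξ : X →* Q} (hξ : Cfsg.IsStemExtension ξ)
    {β : UExt Q →* X} (hβ : ξ.comp β = proj Q) : (mult Q).map β = ξ.ker := by
  rw [map_mult hξ.2.1 hβ, inf_eq_left.mpr hξ.2.2]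

/-- The kernel of every stem extension is an image of the multiplier. -/
theorem exists_surjective_of_stem {X : Type v} [Group X] {ξ : X →* Q}
    (hξ : Cfsg.IsStemExtension ξ) : ∃ π : ↥(mult Q) →* ξ.ker, Function.Surjective π := by
  obtain ⟨β, hβ⟩ := exists_lift (MonoidHom.id Q) ξ hξ.1 hξ.2.1
  rw [MonoidHom.id_comp] at hβ
  have h := map_mult_stem hξ hβ
  refine ⟨(β.comp (mult Q).subtype).codRestrict ξ.ker fun e => h ▸ mem_map_of_mem β e.2, ?_⟩
  rintro ⟨x, hx⟩
  rw [← h] at hx
  obtain ⟨e, he, rfl⟩ := hx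
  exact ⟨⟨e, he⟩, rfl⟩

/-- The exponent sums of a word. -/
def expHom [DecidableEq Q] : UExt Q →* Multiplicative (Q → ℤ) :=
  QuotientGroup.lift (presRel Q) (FreeGroup.lift fun q => Multiplicative.ofAdd (Pi.single q 1))
    ((commutator_mono le_top le_top).trans
      ((commutator_def (FreeGroup Q)).symm.le.trans (Abelianization.commutator_subset_ker _)))

theorem ker_expHom [DecidableEq Q] [Finite Q] : (expHom (Q := Q)).ker = commutator (UExt Q) := by
  refine le_antisymm ?_ (Abelianization.commutator_subset_ker _)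
  have := Fintype.ofFinite Q
  intro e he
  let ι := QuotientGroup.mk' (presRel Q)
  let back : Multiplicative (Q → ℤ) →* Abelianization (UExt Q) :=
    { toFun := fun v => ∏ q, Abelianization.of (ι (FreeGroup.of q)) ^ (v.toAdd q)
      map_one' := by simp
      map_mul' := fun v w => by simp [zpow_add, Finset.prod_mul_distrib] }
  have hback : back.comp ((expHom (Q := Q)).comp ι) = (Abelianization.of).comp ι := by
    refine FreeGroup.ext_hom _ _ fun q => ?_
    show back (expHom (ι (FreeGroup.of q))) = _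
    have : expHom (ι (FreeGroup.of q)) = Multiplicative.ofAdd (Pi.single q 1) :=
      FreeGroup.lift_apply_of
    rw [this]
    show ∏ r, Abelianization.of (ι (FreeGroup.of r)) ^ ((Pi.single q (1 : ℤ) : Q → ℤ) r) = _
    rw [Finset.prod_eq_single q (fun r _ hr => by simp [hr]) (by simp)]
    simp [ι]
  obtain ⟨x, rfl⟩ := QuotientGroup.mk'_surjective _ e
  rw [← Abelianization.ker_of, MonoidHom.mem_ker]
  have h := DFunLike.congr_fun hback x
  simp only [MonoidHom.comp_apply] at h
  rw [← h, MonoidHom.mem_ker.mp he, map_one]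

/-- Inside every part of the kernel covering it modulo the multiplier lies a complement. -/
theorem exists_complement_le [Finite Q] {K₀ : Subgroup (UExt Q)} (hK₀ : K₀ ≤ (proj Q).ker)
    (hcov : (proj Q).ker ≤ mult Q ⊔ K₀) :
    ∃ L : Subgroup (UExt Q), L ≤ K₀ ∧ L ⊓ commutator (UExt Q) = ⊥ ∧
      (proj Q).ker ≤ mult Q ⊔ L := by
  classical
  let _ : CommGroup K₀ :=
    { (inferInstance : Group K₀) with
      mul_comm := fun a b => Subtype.ext (mem_center_iff.mp (ker_proj_le_center (hK₀ b.2)) a) }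
  let T : Additive K₀ →+ (Q → ℤ) :=
    { toFun := fun k => (expHom (k.toMul : UExt Q)).toAdd
      map_zero' := by simp
      map_add' := fun a b => by simp }
  let Tl := T.toIntLinearMap
  obtain ⟨s, hs⟩ := Tl.rangeRestrict.exists_rightInverse_of_surjective Tl.range_rangeRestrict
  let s' : Multiplicative ↥(LinearMap.range Tl) →* UExt Q :=
    { toFun := fun v => (((s v.toAdd).toMul : K₀) : UExt Q)
      map_one' := by simp
      map_mul' := fun a b => by simp }
  have hsx : ∀ v, (expHom (s' v)).toAdd = (v.toAdd : Q → ℤ) := fun v =>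
    congrArg Subtype.val (DFunLike.congr_fun hs v.toAdd : _ = v.toAdd)
  refine ⟨s'.range, ?_, ?_, ?_⟩
  · rintro _ ⟨v, rfl⟩
    exact SetLike.coe_mem _
  · rw [eq_bot_iff]
    rintro _ ⟨⟨v, rfl⟩, hv⟩
    have h1 : expHom (s' v) = 1 := Abelianization.commutator_subset_ker _ hv
    have hv0 : v = 1 := by
      apply Multiplicative.toAdd.injective
      apply Subtype.ext
      rw [← hsx v, h1]
      rfl
    rw [hv0, map_one]
    exact one_mem _
  · refine hcov.trans (sup_le le_sup_left fun k hk => ?_)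
    let v : Multiplicative ↥(LinearMap.range Tl) :=
      Multiplicative.ofAdd (Tl.rangeRestrict (Additive.ofMul ⟨k, hk⟩))
    have hm : k * (s' v)⁻¹ ∈ mult Q := by
      refine ⟨(proj Q).ker.mul_mem (hK₀ hk) ((proj Q).ker.inv_mem (hK₀ (SetLike.coe_mem _))), ?_⟩
      show k * (s' v)⁻¹ ∈ commutator (UExt Q)
      rw [← ker_expHom, MonoidHom.mem_ker, map_mul, map_inv, mul_inv_eq_one]
      apply Multiplicative.toAdd.injective
      rw [hsx]
      rfl
    rw [show k = k * (s' v)⁻¹ * s' v by group]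
    exact mul_mem_sup hm ⟨v, rfl⟩

/-- The quotient of the free central extension by such a complement is a covering group. -/
theorem cover_spec [Finite Q] {L : Subgroup (UExt Q)} [L.Normal] (hL : L ≤ (proj Q).ker)
    (hLd : L ⊓ commutator (UExt Q) = ⊥) (hcov : (proj Q).ker ≤ mult Q ⊔ L) :
    Finite (UExt Q ⧸ L) ∧ Cfsg.IsStemExtension (QuotientGroup.lift L (proj Q) hL) ∧
      Nonempty ((QuotientGroup.lift L (proj Q) hL).ker ≃* ↥(mult Q)) := by
  let σ := QuotientGroup.lift L (proj Q) hL
  let m := QuotientGroup.mk' L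
  have hσm : σ.comp m = proj Q := rfl
  have hker : σ.ker = (mult Q).map m := by
    apply le_antisymm
    · intro x hx
      obtain ⟨e, rfl⟩ := QuotientGroup.mk'_surjective L x
      obtain ⟨a, ha, b, hb, rfl⟩ := mem_sup_of_normal_right.mp (hcov (show e ∈ (proj Q).ker from hx))
      refine ⟨a, ha, ?_⟩
      rw [map_mul]
      simp [m, (QuotientGroup.eq_one_iff b).mpr hb]
    · rintro _ ⟨a, ha, rfl⟩
      exact mult_le_ker ha
  have hinj : Function.Injective (m.comp (mult Q).subtype) := by
    rw [← MonoidHom.ker_eq_bot_iff, eq_bot_iff]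
    intro x hx
    have h : (x : UExt Q) ∈ L ⊓ commutator (UExt Q) := ⟨(QuotientGroup.eq_one_iff _).mp hx, x.2.2⟩
    rw [hLd, mem_bot] at h
    exact mem_bot.mpr (Subtype.ext h)
  have e : σ.ker ≃* ↥(mult Q) :=
    ((MulEquiv.subgroupCongr hker).trans (MulEquiv.subgroupCongr
      (by rw [MonoidHom.range_comp, Subgroup.range_subtype]))).trans (MonoidHom.ofInjective hinj).symm
  have hfin : Finite (UExt Q ⧸ L) := by
    have : Finite σ.ker := Finite.of_equiv _ e.symm.toEquiv
    have : Finite ((UExt Q ⧸ L) ⧸ σ.ker) :=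
      Finite.of_injective _ (QuotientGroup.kerLift_injective σ)
    exact Finite.of_equiv _ (Subgroup.groupEquivQuotientProdSubgroup (s := σ.ker)).symm
  refine ⟨hfin, ⟨fun q => ?_, ?_, ?_⟩, ⟨e⟩⟩
  · obtain ⟨x, hx⟩ := proj_surjective q
    exact ⟨m x, hx⟩
  · intro x hx
    obtain ⟨e, rfl⟩ := QuotientGroup.mk'_surjective L x
    refine mem_center_iff.mpr fun g => ?_
    obtain ⟨y, rfl⟩ := QuotientGroup.mk'_surjective L g
    rw [← map_mul, ← map_mul, mem_center_iff.mp (ker_proj_le_center hx) y]
  · rw [hker]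
    rintro _ ⟨a, ha, rfl⟩
    have h := mem_map_of_mem m ha.2
    rw [commutator_def, Subgroup.map_commutator] at h
    exact commutator_mono le_top le_top h

/-- Every stem extension is covered by a covering group. -/
theorem exists_cover_over [Finite Q] {X : Type v} [Group X] {τ : X →* Q}
    (hτ : Cfsg.IsStemExtension τ) :
    ∃ (Γ : Type u) (_ : Group Γ) (_ : Finite Γ) (σ : Γ →* Q), Cfsg.IsStemExtension σ ∧
      Nonempty (σ.ker ≃* ↥(mult Q)) ∧ ∃ β : Γ →* X, Function.Surjective β ∧ τ.comp β = σ := by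
  obtain ⟨β, hβ⟩ := exists_lift (MonoidHom.id Q) τ hτ.1 hτ.2.1
  rw [MonoidHom.id_comp] at hβ
  have hm := map_mult_stem hτ hβ
  obtain ⟨L, hL, hLd, hcov⟩ := exists_complement_le (K₀ := (proj Q).ker ⊓ β.ker) inf_le_left (by
    intro k hk
    have h : β k ∈ (mult Q).map β := by
      rw [hm, MonoidHom.mem_ker, ← MonoidHom.comp_apply, hβ]; exact hk
    obtain ⟨a, ha, hab⟩ := h
    rw [show k = a * (a⁻¹ * k) by group]
    exact mul_mem_sup ha ⟨(proj Q).ker.mul_mem ((proj Q).ker.inv_mem (mult_le_ker ha)) hk, by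
      simp [hab]⟩)
  have : L.Normal := ⟨fun n hn g => by
    rwa [mem_center_iff.mp (ker_proj_le_center (hL hn).1) g, mul_inv_cancel_right]⟩
  obtain ⟨hfin, hstem, he⟩ := cover_spec (hL.trans inf_le_left) hLd hcov
  refine ⟨_, inferInstance, hfin, _, hstem, he,
    QuotientGroup.lift L β (hL.trans inf_le_right), ?_, ?_⟩
  · exact fun x => (surjective_of_stem β τ hτ (hβ ▸ proj_surjective) x).elim
      fun e he => ⟨QuotientGroup.mk' L e, he⟩
  · refine MonoidHom.ext fun x => ?_
    obtain ⟨e, rfl⟩ := QuotientGroup.mk'_surjective L x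
    exact DFunLike.congr_fun hβ e

theorem isStemExtension_id (Q : Type u) [Group Q] : Cfsg.IsStemExtension (MonoidHom.id Q) :=
  ⟨Function.surjective_id, by simp, by simp⟩

/-- A finite group has a Schur multiplier. -/
theorem hasSchurMultiplier_mult [Finite Q] : Cfsg.HasSchurMultiplier Q ↥(mult Q) := by
  refine ⟨?_, fun Γ _ _ σ hσ => exists_surjective_of_stem hσ⟩
  obtain ⟨Γ, hg, hf, σ, hσ, he, -⟩ := exists_cover_over (isStemExtension_id Q)
  exact ⟨Γ, hg, hf, σ, hσ, he⟩

/-- The Schur multiplier is unique. -/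
theorem mulEquiv_mult [Finite Q] {A : Type v} [CommGroup A] (hA : Cfsg.HasSchurMultiplier Q A) :
    Nonempty (A ≃* ↥(mult Q)) := by
  obtain ⟨⟨Γ, _, _, σ, hσ, ⟨e⟩⟩, h2⟩ := hA
  have : Finite A := Finite.of_equiv _ e.toEquiv
  obtain ⟨π, hπ⟩ := exists_surjective_of_stem hσ
  obtain ⟨Γ', _, _, σ', hσ', ⟨e'⟩, -⟩ := exists_cover_over (isStemExtension_id Q)
  obtain ⟨π', hπ'⟩ := h2 Γ' σ' hσ'
  have h1 : Nat.card A ≤ Nat.card ↥(mult Q) :=
    Nat.card_le_card_of_surjective (e.toMonoidHom.comp π) (e.surjective.comp hπ)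
  have hsurj : Function.Surjective (e'.toMonoidHom.comp π') := e'.surjective.comp hπ'
  exact ⟨MulEquiv.ofBijective (e'.toMonoidHom.comp π')
    ((Nat.bijective_iff_surjective_and_card _).mpr
      ⟨hsurj, le_antisymm h1 (Nat.card_le_card_of_surjective _ hsurj)⟩)⟩

theorem hasSchurMultiplier_congr {A : Type v} {B : Type w} [CommGroup A] [CommGroup B]
    (f : A ≃* B) (hA : Cfsg.HasSchurMultiplier Q A) : Cfsg.HasSchurMultiplier Q B := by
  obtain ⟨⟨Γ, hg, hf, σ, hσ, ⟨e⟩⟩, h2⟩ := hA
  refine ⟨⟨Γ, hg, hf, σ, hσ, ⟨e.trans f⟩⟩, fun Γ' _ _ σ' hσ' => ?_⟩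
  obtain ⟨π, hπ⟩ := h2 Γ' σ' hσ'
  exact ⟨π.comp f.symm.toMonoidHom, hπ.comp f.symm.surjective⟩

/-- `A` is the Schur multiplier exactly when it is isomorphic to `mult Q`. -/
theorem hasSchurMultiplier_iff [Finite Q] {A : Type v} [CommGroup A] :
    Cfsg.HasSchurMultiplier Q A ↔ Nonempty (A ≃* ↥(mult Q)) :=
  ⟨mulEquiv_mult, fun ⟨e⟩ => hasSchurMultiplier_congr e.symm hasSchurMultiplier_mult⟩

theorem card_mult_of_cyclic [Finite Q] {n : ℕ} (h : Cfsg.HasCyclicSchurMultiplier Q n) :
    Nat.card ↥(mult Q) = n := by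
  obtain ⟨e⟩ := mulEquiv_mult h
  rw [← Nat.card_congr e.toEquiv]
  exact Nat.card_zmod n

theorem hasCyclicSchurMultiplier_iff [Finite Q] {n : ℕ} :
    Cfsg.HasCyclicSchurMultiplier Q n ↔ IsCyclic ↥(mult Q) ∧ Nat.card ↥(mult Q) = n := by
  constructor
  · intro h
    obtain ⟨e⟩ := mulEquiv_mult h
    have : IsCyclic (Multiplicative (ZMod n)) := inferInstance
    exact ⟨e.isCyclic.mp this, card_mult_of_cyclic h⟩
  · rintro ⟨h1, h2⟩
    exact hasSchurMultiplier_iff.mpr ⟨mulEquivOfCyclicCardEq ((Nat.card_zmod n).trans h2.symm)⟩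

/-- With trivial multiplier every stem extension, in any universe, is an isomorphism. -/
theorem ker_eq_bot_of_cyclic_one [Finite Q] (h : Cfsg.HasCyclicSchurMultiplier Q 1) {X : Type v}
    [Group X] {ξ : X →* Q} (hξ : Cfsg.IsStemExtension ξ) : ξ.ker = ⊥ := by
  obtain ⟨π, hπ⟩ := exists_surjective_of_stem hξ
  have hc := card_mult_of_cyclic h
  have : Subsingleton ↥(mult Q) := (Nat.card_eq_one_iff_unique.mp hc).1
  have : Subsingleton ξ.ker := hπ.subsingleton
  exact eq_bot_iff.mpr fun x hx =>
    mem_bot.mpr (congrArg Subtype.val (Subsingleton.elim (⟨x, hx⟩ : ξ.ker) 1))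

/-- A group with only trivial stem extensions in its universe has trivial multiplier. -/
theorem cyclic_one_of_forall [Finite Q]
    (h : ∀ (Γ : Type u) [Group Γ] [Finite Γ] (σ : Γ →* Q), Cfsg.IsStemExtension σ → σ.ker = ⊥) :
    Cfsg.HasCyclicSchurMultiplier Q 1 := by
  obtain ⟨Γ, _, _, σ, hσ, ⟨e⟩, -⟩ := exists_cover_over (isStemExtension_id Q)
  have hc : Nat.card ↥(mult Q) = 1 := by
    rw [← Nat.card_congr e.toEquiv, h Γ σ hσ, card_bot]
  have : Subsingleton ↥(mult Q) := (Nat.card_eq_one_iff_unique.mp hc).1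
  exact hasCyclicSchurMultiplier_iff.mpr ⟨inferInstance, hc⟩

end CfsgLib.Schur
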