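import Cfsg.Agent.Lib.Coprime.Basic
set_option autoImplicit false

/-!
Conjugacy part of the Schur-Zassenhaus theorem.
-/

namespace CfsgLib.Coprime

open Subgroup MulAction MulOpposite
open scoped Pointwise

universe u

/-- Complements of an abelian normal subgroup of coprime index are conjugate under it. -/
theorem isComplement'_conj_of_abelian {G : Type*} [Group G] [Finite G] (N : Subgroup G)
    [N.Normal] [IsMulCommutative N] (hN : (Nat.card N).Coprime N.index) {H K : Subgroup G}
    (hH : IsComplement' N H) (hK : IsComplement' N K) :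
    ∃ n ∈ N, K = H.map (MulAut.conj n).toMonoidHom := by
  have key : ∀ L : Subgroup G, IsComplement' N L →
      ∃ q : N.QuotientDiff, L = stabilizer G q := by
    intro L hL
    let α : N.LeftTransversal := ⟨(L : Set G), hL.symm⟩
    let q : N.QuotientDiff := Quotient.mk'' α
    have hle : L ≤ stabilizer G q := by
      intro l hl
      rw [mem_stabilizer_iff]
      have h1 : op l⁻¹ • α = α := by
        apply Subtype.ext
        show op l⁻¹ • (L : Set G) = L
        exact op_smul_coe_set (inv_mem hl)
      exact congrArg Quotient.mk'' h1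
    refine ⟨q, eq_of_le_of_card_ge hle ?_⟩
    have h2 : IsComplement' N (stabilizer G q) := isComplement'_stabilizer_of_coprime hN
    have h3 := h2.card_mul_card.trans hL.card_mul_card.symm
    exact le_of_eq (Nat.eq_of_mul_eq_mul_left Nat.card_pos h3)
  obtain ⟨qH, rfl⟩ := key H hH
  obtain ⟨qK, rfl⟩ := key K hK
  obtain ⟨n, hn⟩ := exists_smul_eq hN qH qK
  refine ⟨n, n.2, ?_⟩
  rw [← hn]
  exact stabilizer_smul_eq_stabilizer_map_conj (n : G) qH

/-- Conjugacy of complements, abelian normal subgroup, ambient form. -/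
theorem exists_conj_eq_of_abelian {X : Type*} [Group X] [Finite X] {N A B : Subgroup X}
    [N.Normal] [IsMulCommutative N] (hAB : N ⊔ A = N ⊔ B)
    (hA : (Nat.card A).Coprime (Nat.card N)) (hB : (Nat.card B).Coprime (Nat.card N)) :
    ∃ n ∈ N, B = A.map (MulAut.conj n).toMonoidHom := by
  let K : Subgroup X := N ⊔ A
  have hNK : N ≤ K := le_sup_left
  have hAK : A ≤ K := le_sup_right
  have hBK : B ≤ K := by show B ≤ N ⊔ A; rw [hAB]; exact le_sup_right
  have : (N.subgroupOf K).Normal := normal_subgroupOf
  have : IsMulCommutative (N.subgroupOf K) :=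
    ⟨⟨fun a b => by
      apply Subtype.ext; apply Subtype.ext
      have := congrArg Subtype.val (mul_comm' (⟨_, a.2⟩ : N) ⟨_, b.2⟩)
      exact this⟩⟩
  have hN' : Nat.card (N.subgroupOf K) = Nat.card N := card_subgroupOf hNK
  have hcomp : ∀ C : Subgroup X, C ≤ K → N ⊔ C = K → (Nat.card C).Coprime (Nat.card N) →
      IsComplement' (N.subgroupOf K) (C.subgroupOf K) := by
    intro C hCK hC hcop
    refine isComplement'_of_coprime ?_ ?_
    · rw [hN', card_subgroupOf hCK, ← hC,
        card_sup_of_inf_eq_bot ((normalizer_eq_top N).symm ▸ le_top) (inf_eq_bot_of_coprime hcop)]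
    · rw [hN', card_subgroupOf hCK]; exact hcop.symm
  have cA := hcomp A hAK rfl hA
  have cB := hcomp B hBK hAB.symm hB
  have hidx : (Nat.card (N.subgroupOf K)).Coprime (N.subgroupOf K).index := by
    rw [cA.symm.index_eq_card, hN', card_subgroupOf hAK]
    exact hA.symm
  obtain ⟨n, hn, h⟩ := isComplement'_conj_of_abelian _ hidx cA cB
  refine ⟨n, hn, ?_⟩
  have h2 := congrArg (Subgroup.map K.subtype) h
  rw [map_conj_map, subgroupOf_map_subtype, subgroupOf_map_subtype, inf_eq_left.mpr hBK,
    inf_eq_left.mpr hAK] at h2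
  exact h2

/-- Pulling back a conjugacy from the quotient by a normal subgroup. -/
theorem exists_conj_sup_of_quotient {X : Type*} [Group X] {M A B N : Subgroup X} [M.Normal]
    (h : ∃ n ∈ N.map (QuotientGroup.mk' M),
      B.map (QuotientGroup.mk' M) = (A.map (QuotientGroup.mk' M)).map (MulAut.conj n).toMonoidHom) :
    ∃ n ∈ N, M ⊔ B = M ⊔ A.map (MulAut.conj n).toMonoidHom := by
  obtain ⟨_, ⟨n, hn, rfl⟩, h⟩ := h
  refine ⟨n, hn, ?_⟩
  rw [← map_conj_map, map_eq_map_iff, QuotientGroup.ker_mk'] at h
  rw [sup_comm M B, h, sup_comm]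

/-- Complements of a solvable normal subgroup of coprime order are conjugate under it. -/
theorem exists_conj_eq_of_isSolvable_normal {X : Type u} [Group X] [Finite X]
    {N A B : Subgroup X} [N.Normal] (hN : Group.IsSolvable N) (hAB : N ⊔ A = N ⊔ B)
    (hA : (Nat.card A).Coprime (Nat.card N)) (hB : (Nat.card B).Coprime (Nat.card N)) :
    ∃ n ∈ N, B = A.map (MulAut.conj n).toMonoidHom := by
  induction hm : Nat.card N using Nat.strong_induction_on generalizing X N A B with
  | _ m ih =>
    subst hm
    by_cases hbot : N = ⊥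
    · subst hbot
      rw [bot_sup_eq, bot_sup_eq] at hAB
      exact ⟨1, one_mem _, by simp [hAB, MulEquiv.toMonoidHom, Subgroup.ext_iff, mem_map]⟩
    by_cases habel : IsMulCommutative N
    · exact exists_conj_eq_of_abelian hAB hA hB
    have : Group.IsSolvable N := hN
    have : Nontrivial N := (nontrivial_iff_ne_bot N).mpr hbot
    let M : Subgroup X := ⁅N, N⁆
    have hMN : M ≤ N := commutator_le_self N
    have hlt : M < N := by
      refine lt_of_le_of_ne hMN fun hEq => ?_
      have h1 : commutator N = ⊤ := by
        apply map_injective N.subtype_injective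
        rw [N.map_subtype_commutator, ← MonoidHom.range_eq_map, N.range_subtype]
        exact hEq
      exact (Group.IsSolvable.commutator_lt_top_of_nontrivial N).ne h1
    have hcardlt : Nat.card M < Nat.card N := by
      refine lt_of_le_of_ne (card_le_of_le hMN) fun hEq => hlt.ne ?_
      exact eq_of_le_of_card_ge hMN hEq.ge
    have hMbot : M ≠ ⊥ := by
      intro hEq
      apply habel
      exact ⟨⟨fun a b => by
        apply Subtype.ext
        show (a : X) * b = b * a
        rw [← commutatorElement_eq_one_iff_mul_comm, ← mem_bot, ← hEq]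
        exact commutator_mem_commutator a.2 b.2⟩⟩
    let f := QuotientGroup.mk' M
    have : (N.map f).Normal := Normal.map inferInstance f (QuotientGroup.mk'_surjective M)
    have : IsMulCommutative (N.map f) := ⟨⟨by
      rintro ⟨_, a, ha, rfl⟩ ⟨_, b, hb, rfl⟩
      apply Subtype.ext
      show f a * f b = f b * f a
      rw [← commutatorElement_eq_one_iff_mul_comm, ← map_commutatorElement]
      exact (QuotientGroup.eq_one_iff _).mpr (commutator_mem_commutator ha hb)⟩⟩
    have hd : ∀ C : Subgroup X, Nat.card (C.map f) ∣ Nat.card C := fun C => card_map_dvd C f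
    obtain ⟨n, hn, h1⟩ := exists_conj_sup_of_quotient (M := M) (A := A) (B := B) (N := N)
      (exists_conj_eq_of_abelian
        (by rw [← Subgroup.map_sup, ← Subgroup.map_sup, hAB])
        ((hA.coprime_dvd_left (hd A)).coprime_dvd_right (hd N))
        ((hB.coprime_dvd_left (hd B)).coprime_dvd_right (hd N)))
    have hdvd : Nat.card M ∣ Nat.card N := card_dvd_of_le hMN
    obtain ⟨m, hm, h2⟩ := ih _ hcardlt (X := X) (N := M) (A := A.map (MulAut.conj n).toMonoidHom)
      (B := B) (isSolvable_of_le hN hMN) h1.symm
      (by rw [card_map_conj]; exact hA.coprime_dvd_right hdvd)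
      (hB.coprime_dvd_right hdvd) rfl
    exact ⟨m * n, mul_mem (hMN hm) hn, by rw [h2, map_conj_conj]⟩

/-- Passing to the group `N_X(N)`: lets one assume that `N` is normal. -/
theorem exists_conj_eq_of_normal_case {X : Type*} [Group X] [Finite X] {N A B : Subgroup X}
    (hA : A ≤ normalizer (N : Set X)) (hB : B ≤ normalizer (N : Set X))
    (h : ∃ n ∈ N.subgroupOf (normalizer (N : Set X)), B.subgroupOf (normalizer (N : Set X)) =
      (A.subgroupOf (normalizer (N : Set X))).map (MulAut.conj n).toMonoidHom) :
    ∃ n ∈ N, B = A.map (MulAut.conj n).toMonoidHom := by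
  obtain ⟨n, hn, h⟩ := h
  refine ⟨n, hn, ?_⟩
  have h2 := congrArg (Subgroup.map (normalizer (N : Set X)).subtype) h
  rw [map_conj_map, subgroupOf_map_subtype, subgroupOf_map_subtype, inf_eq_left.mpr hB,
    inf_eq_left.mpr hA] at h2
  exact h2

/-- Complements with solvable quotient are conjugate. -/
theorem exists_conj_eq_of_isSolvable_complement {X : Type u} [Group X] [Finite X]
    {N A B : Subgroup X} [N.Normal] (hs : Group.IsSolvable A) (hAB : N ⊔ A = N ⊔ B)
    (hA : (Nat.card A).Coprime (Nat.card N)) (hB : (Nat.card B).Coprime (Nat.card N)) :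
    ∃ n ∈ N, B = A.map (MulAut.conj n).toMonoidHom := by
  induction hm : Nat.card A using Nat.strong_induction_on generalizing X N A B with
  | _ m ih =>
    subst hm
    have hnorm : ∀ C : Subgroup X, C ≤ normalizer (N : Set X) := fun C =>
      (normalizer_eq_top N).symm ▸ le_top
    have hcard : Nat.card A = Nat.card B :=
      card_eq_of_sup_eq (hnorm A) (hnorm B) (inf_eq_bot_of_coprime hA) (inf_eq_bot_of_coprime hB)
        hAB
    by_cases hbot : A = ⊥
    · subst hbot
      rw [card_bot] at hcard
      exact ⟨1, one_mem _, by rw [card_eq_one.mp hcard.symm]; simp⟩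
    have : Group.IsSolvable A := hs
    have : Nontrivial A := (nontrivial_iff_ne_bot A).mpr hbot
    obtain ⟨M, hMn, hMp⟩ := exists_normal_prime_index A
    let A₁ : Subgroup X := M.map A.subtype
    have hA₁A : A₁ ≤ A := map_subtype_le M
    have hA₁card : Nat.card A₁ = Nat.card M := card_map_of_injective A.subtype_injective
    have hMcard : Nat.card M * M.index = Nat.card A := M.card_mul_index
    by_cases hA₁ : A₁ = ⊥
    · have hM1 : Nat.card M = 1 := by rw [← hA₁card, hA₁, card_bot]
      rw [hM1, one_mul] at hMcard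
      set p := M.index with hp
      have : Fact p.Prime := ⟨hMp⟩
      let K : Subgroup X := N ⊔ A
      have hAK : A ≤ K := le_sup_right
      have hBK : B ≤ K := by show B ≤ N ⊔ A; rw [hAB]; exact le_sup_right
      have hpN : ¬ p ∣ Nat.card N := by
        intro h
        exact hMp.ne_one (Nat.eq_one_of_dvd_coprimes hA (dvd_of_eq hMcard) h)
      have hK : (Nat.card K).factorization p = 1 := by
        rw [card_sup_of_inf_eq_bot (hnorm A) (inf_eq_bot_of_coprime hA), ← hMcard,
          Nat.factorization_mul Nat.card_pos.ne' hMp.pos.ne']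
        simp [Nat.factorization_eq_zero_of_not_dvd hpN, hMp.factorization_self]
      let P : Sylow p K := Sylow.ofCard (A.subgroupOf K)
        (by rw [hK, card_subgroupOf hAK, pow_one, hMcard])
      let Q : Sylow p K := Sylow.ofCard (B.subgroupOf K)
        (by rw [hK, card_subgroupOf hBK, pow_one, ← hcard, hMcard])
      obtain ⟨g, hg⟩ := exists_smul_eq K P Q
      obtain ⟨n, hn, a, ha, hna⟩ := (mem_sup_of_le_normalizer (hnorm A)).mp g.2
      refine ⟨n, hn, ?_⟩
      have h2 : (A.subgroupOf K).map (MulAut.conj g).toMonoidHom = B.subgroupOf K :=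
        congrArg (fun S : Sylow p K => (S : Subgroup K)) hg
      replace h2 := congrArg (Subgroup.map K.subtype) h2
      rw [map_conj_map, subgroupOf_map_subtype, subgroupOf_map_subtype, inf_eq_left.mpr hBK,
        inf_eq_left.mpr hAK] at h2
      rw [← h2, show K.subtype g = n * a from hna.symm, ← map_conj_conj,
        map_conj_of_mem_normalizer (le_normalizer ha)]
    · let B₁ : Subgroup X := B ⊓ (N ⊔ A₁)
      have hsup₁ : N ⊔ A₁ = N ⊔ B₁ := by
        refine le_antisymm (sup_le le_sup_left ?_) (sup_le le_sup_left inf_le_right)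
        intro a ha
        have h3 : a ∈ N ⊔ B := by rw [← hAB]; exact mem_sup_right (hA₁A ha)
        obtain ⟨n, hn, b, hb, rfl⟩ := (mem_sup_of_le_normalizer (hnorm B)).mp h3
        refine mul_mem (mem_sup_left hn) (mem_sup_right (mem_inf.mpr ⟨hb, ?_⟩))
        have h4 : n⁻¹ * (n * b) ∈ N ⊔ A₁ :=
          mul_mem (inv_mem (mem_sup_left hn)) (mem_sup_right ha)
        rwa [inv_mul_cancel_left] at h4
      have hlt : Nat.card A₁ < Nat.card A := by
        rw [hA₁card, ← hMcard]
        exact lt_mul_of_one_lt_right Nat.card_pos hMp.one_lt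
      obtain ⟨n, hn, hn1⟩ := ih _ hlt (X := X) (N := N) (A := A₁) (B := B₁)
        (isSolvable_of_le hs hA₁A) hsup₁ (hA.coprime_dvd_left (card_dvd_of_le hA₁A))
        (hB.coprime_dvd_left (card_dvd_of_le inf_le_left)) rfl
      let A' : Subgroup X := A.map (MulAut.conj n).toMonoidHom
      have hA'B : N ⊔ A' = N ⊔ B :=
        (sup_map_conj_eq (hnorm A) (mem_sup_left hn)).trans hAB
      have hB₁A' : B₁ ≤ A' := hn1 ▸ map_mono hA₁A
      let Y : Subgroup X := normalizer (B₁ : Set X)
      have hA'Y : A' ≤ Y := by
        have hA₁n : A ≤ normalizer (A₁ : Set X) := by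
          intro a ha
          rw [mem_normalizer_iff'']
          intro x
          constructor
          · rintro ⟨m, hm, rfl⟩
            exact ⟨(⟨a, ha⟩ : A)⁻¹ * m * ⟨a, ha⟩, hMn.conj_mem' m hm _, by simp⟩
          · rintro ⟨m, hm, hx⟩
            refine ⟨(⟨a, ha⟩ : A) * m * (⟨a, ha⟩ : A)⁻¹, hMn.conj_mem m hm _, ?_⟩
            simp only [coe_subtype, Subgroup.coe_mul, InvMemClass.coe_inv] at hx ⊢
            rw [hx]; group
        show A.map (MulAut.conj n).toMonoidHom ≤ normalizer (B₁ : Set X)
        rw [hn1, ← map_equiv_normalizer_eq]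
        exact map_mono hA₁n
      have hBY : B ≤ Y := by
        intro b hb
        have hb' : b ∈ N ⊔ A' := by rw [hA'B]; exact mem_sup_right hb
        have hb2 : b ∈ normalizer ((N ⊔ A₁ : Subgroup X) : Set X) := by
          obtain ⟨k, hk, a, ha, rfl⟩ := (mem_sup_of_le_normalizer (hnorm A')).mp hb'
          refine mul_mem (le_normalizer (mem_sup_left hk)) ?_
          have h5 : N ⊔ A₁ = N ⊔ B₁ := hsup₁
          rw [h5, mem_normalizer_iff'']
          have h6 : (N ⊔ B₁).map (MulAut.conj a).toMonoidHom = N ⊔ B₁ := by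
            rw [Subgroup.map_sup, map_conj_of_mem_normalizer (hnorm A' ha),
              map_conj_of_mem_normalizer (hA'Y ha)]
          intro x
          constructor
          · intro hx
            rw [← h6, mem_map_conj] at hx
            exact hx
          · intro hx
            rw [← h6, mem_map_conj]
            exact hx
        show b ∈ normalizer (((B ⊓ (N ⊔ A₁)) : Subgroup X) : Set X)
        rw [mem_normalizer_iff''] at hb2 ⊢
        intro x
        rw [mem_inf, mem_inf, ← hb2 x]
        exact and_congr_left fun _ => (mem_normalizer_iff''.mp (le_normalizer hb) x)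
      -- work in Y, modulo B₁
      let N' : Subgroup Y := N.subgroupOf Y
      have : (B₁.subgroupOf Y).Normal := normal_subgroupOf_of_le_normalizer le_rfl
      have : N'.Normal := normal_subgroupOf
      let f := QuotientGroup.mk' (B₁.subgroupOf Y)
      have : (N'.map f).Normal := Normal.map inferInstance f (QuotientGroup.mk'_surjective _)
      have hsupY : N' ⊔ A'.subgroupOf Y = N' ⊔ B.subgroupOf Y := by
        have key : ∀ C D : Subgroup X, C ≤ Y → D ≤ Y → N ⊔ C = N ⊔ D →
            C.subgroupOf Y ≤ N' ⊔ D.subgroupOf Y := by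
          intro C D hC hD hCD
          rintro ⟨c, hcY⟩ hc
          have h7 : c ∈ N ⊔ D := by rw [← hCD]; exact mem_sup_right hc
          obtain ⟨k, hk, d, hd, rfl⟩ := (mem_sup_of_le_normalizer (hnorm D)).mp h7
          have hkY : k ∈ Y := by simpa using mul_mem hcY (inv_mem (hD hd))
          have h8 : (⟨k * d, hcY⟩ : Y) = ⟨k, hkY⟩ * ⟨d, hD hd⟩ := rfl
          rw [h8]
          exact mul_mem (mem_sup_left hk) (mem_sup_right hd)
        exact le_antisymm (sup_le le_sup_left (key A' B hA'Y hBY hA'B))
          (sup_le le_sup_left (key B A' hBY hA'Y hA'B.symm))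
      have hNd : Nat.card (N'.map f) ∣ Nat.card N := by
        refine (card_map_dvd N' f).trans ?_
        exact card_dvd_of_injective (f := Y.subtype.subgroupComap N)
          fun a b h => Subtype.ext (Subtype.ext (congrArg Subtype.val h :))
      have hCd : ∀ C : Subgroup X, C ≤ Y → Nat.card ((C.subgroupOf Y).map f) ∣ Nat.card C :=
        fun C hC => (card_map_dvd _ f).trans (dvd_of_eq (card_subgroupOf hC))
      have hltA' : Nat.card ((A'.subgroupOf Y).map f) < Nat.card A := by
        have h9 : B₁.subgroupOf Y ≤ A'.subgroupOf Y := fun x hx => hB₁A' hx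
        have h10 : B₁.subgroupOf Y ≠ ⊥ := by
          intro hEq
          rw [subgroupOf_eq_bot, disjoint_iff, inf_eq_left.mpr le_normalizer] at hEq
          apply hA₁
          rw [← card_eq_one, ← card_map_conj n A₁, ← hn1, hEq, card_bot]
        have h11 := (MonoidHom.ker (f.subgroupMap (A'.subgroupOf Y))).card_mul_index
        rw [index_ker, MonoidHom.range_eq_top.mpr (f.subgroupMap_surjective _), card_top,
          card_subgroupOf hA'Y, card_map_conj] at h11
        rw [← h11]
        refine lt_mul_of_one_lt_left Nat.card_pos (one_lt_card_iff_ne_bot _ |>.mpr fun hk => h10 ?_)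
        rw [eq_bot_iff]
        intro x hx
        have h12 : (⟨x, h9 hx⟩ : A'.subgroupOf Y) ∈
            MonoidHom.ker (f.subgroupMap (A'.subgroupOf Y)) := by
          rw [MonoidHom.mem_ker]
          exact Subtype.ext ((QuotientGroup.eq_one_iff x).mpr hx)
        rw [hk, mem_bot] at h12
        exact mem_bot.mpr (congrArg Subtype.val h12)
      obtain ⟨_, hm, h13⟩ := ih _ hltA' (X := Y ⧸ B₁.subgroupOf Y) (N := N'.map f)
        (A := (A'.subgroupOf Y).map f) (B := (B.subgroupOf Y).map f)
        (isSolvable_map f (isSolvable_subgroupOf hA'Y (isSolvable_map _ hs)))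
        (by rw [← Subgroup.map_sup, ← Subgroup.map_sup, hsupY])
        ((((card_map_conj n A).symm ▸ hA : (Nat.card A').Coprime _).coprime_dvd_left
          (hCd A' hA'Y)).coprime_dvd_right hNd)
        ((hB.coprime_dvd_left (hCd B hBY)).coprime_dvd_right hNd) rfl
      obtain ⟨k, hk, h14⟩ := exists_conj_sup_of_quotient ⟨_, hm, h13⟩
      refine ⟨k * n, mul_mem hk hn, ?_⟩
      rw [← map_conj_conj]
      show B = A'.map (MulAut.conj (k : X)).toMonoidHom
      have e1 : B₁.subgroupOf Y ≤ B.subgroupOf Y := fun x hx => inf_le_left (a := B) hx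
      have e2 : B₁.subgroupOf Y ≤ (A'.subgroupOf Y).map (MulAut.conj k).toMonoidHom := by
        intro x hx
        rw [mem_map_conj]
        exact hB₁A' ((mem_normalizer_iff''.mp k.2 (x : X)).mp hx)
      rw [sup_eq_right.mpr e1, sup_eq_right.mpr e2] at h14
      have h15 := congrArg (Subgroup.map Y.subtype) h14
      rw [map_conj_map, subgroupOf_map_subtype, subgroupOf_map_subtype, inf_eq_left.mpr hBY,
        inf_eq_left.mpr hA'Y] at h15
      exact h15

/-- **Schur-Zassenhaus conjugacy**: two complements of `N` of coprime order are conjugate by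
an element of `N`, provided `N` or a complement is solvable. -/
theorem exists_conj_eq_of_coprime {X : Type u} [Group X] [Finite X] {N A B : Subgroup X}
    (hAN : A ≤ normalizer (N : Set X)) (hBN : B ≤ normalizer (N : Set X)) (hAB : N ⊔ A = N ⊔ B)
    (hA : (Nat.card A).Coprime (Nat.card N)) (hB : (Nat.card B).Coprime (Nat.card N))
    (hs : Group.IsSolvable A ∨ Group.IsSolvable N) :
    ∃ n ∈ N, B = A.map (MulAut.conj n).toMonoidHom := by
  refine exists_conj_eq_of_normal_case hAN hBN ?_
  let K : Subgroup X := normalizer (N : Set X)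
  have : (N.subgroupOf K).Normal := normal_subgroupOf_of_le_normalizer le_rfl
  have h1 : N.subgroupOf K ⊔ A.subgroupOf K = N.subgroupOf K ⊔ B.subgroupOf K := by
    rw [← subgroupOf_sup le_normalizer hAN, ← subgroupOf_sup le_normalizer hBN, hAB]
  have hN := card_subgroupOf (le_normalizer (H := N))
  rcases hs with hs | hs
  · exact exists_conj_eq_of_isSolvable_complement (isSolvable_subgroupOf hAN hs) h1
      (by rwa [card_subgroupOf hAN, hN]) (by rwa [card_subgroupOf hBN, hN])
  · exact exists_conj_eq_of_isSolvable_normal (isSolvable_subgroupOf le_normalizer hs) h1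
      (by rwa [card_subgroupOf hAN, hN]) (by rwa [card_subgroupOf hBN, hN])

end CfsgLib.Coprime
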