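import Cfsg.Agent.Lib.Coprime.Schur
import Cfsg.Agent.Lib.KnownA.Stem
import Mathlib.GroupTheory.SpecificGroups.Cyclic
import Mathlib.GroupTheory.Sylow
import Mathlib.Algebra.Group.MinimalAxioms
import Mathlib.Data.ZMod.QuotientGroup
import Mathlib.Tactic

/-!
Schur multipliers of abelian groups: the criterion by a bound and one extension, `ℤ_m × ℤ_n`,
and cyclicity of abelian groups with trivial multiplier.
-/

set_option autoImplicit false

open Subgroup
open scoped commutatorElement

universe u v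

namespace CfsgLib.Schur

/-- One stem extension with kernel of order `n` and a cyclic bound on all of them. -/
theorem hasCyclicSchurMultiplier_of_bound' {Q : Type u} [Group Q] [Finite Q] {n : ℕ} {X : Type v}
    [Group X] {τ : X →* Q} (hτ : Cfsg.IsStemExtension τ) (hcard : Nat.card τ.ker = n)
    (hbd : ∀ (Γ : Type u) [Group Γ] [Finite Γ] (σ : Γ →* Q), Cfsg.IsStemExtension σ →
      IsCyclic σ.ker ∧ Nat.card σ.ker ∣ n) :
    Cfsg.HasCyclicSchurMultiplier Q n := by
  obtain ⟨Γ, _, _, σ, hσ, ⟨e⟩, -⟩ := exists_cover_over hτ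
  obtain ⟨hcyc, hdvd⟩ := hbd Γ σ hσ
  obtain ⟨π, hπ⟩ := exists_surjective_of_stem hτ
  refine hasCyclicSchurMultiplier_iff.mpr ⟨e.isCyclic.mp hcyc, ?_⟩
  refine Nat.dvd_antisymm (Nat.card_congr e.toEquiv ▸ hdvd) ?_
  rw [← hcard]
  exact Subgroup.card_dvd_of_surjective π hπ

/-- In a stem extension of an abelian group generated by two elements, the kernel is generated by
the commutator of their lifts. -/
theorem ker_le_zpowers_of_two {Q Γ : Type*} [CommGroup Q] [Group Γ] {σ : Γ →* Q}
    (hσ : Cfsg.IsStemExtension σ) {a b : Q} (hgen : Subgroup.closure ({a, b} : Set Q) = ⊤)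
    {A B : Γ} (hA : σ A = a) (hB : σ B = b) : σ.ker ≤ Subgroup.zpowers ⁅A, B⁆ := by
  have hc : ⁅A, B⁆ ∈ σ.ker := by
    rw [MonoidHom.mem_ker, map_commutatorElement, commutatorElement_eq_one_iff_mul_comm, mul_comm]
  have hcz : ∀ g : Γ, g * ⁅A, B⁆ = ⁅A, B⁆ * g := mem_center_iff.mp (hσ.2.1 hc)
  let S : Set Γ := (σ.ker : Set Γ) ∪ {A, B}
  have hS : Subgroup.closure S = ⊤ := by
    refine eq_top_iff.mpr fun x _ => ?_
    have hle : Subgroup.closure ({a, b} : Set Q) ≤ (Subgroup.closure S).map σ := by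
      rw [Subgroup.closure_le]
      intro y hy
      simp only [Set.mem_insert_iff, Set.mem_singleton_iff] at hy
      rcases hy with rfl | rfl
      · exact ⟨A, Subgroup.subset_closure (Or.inr (by simp)), hA⟩
      · exact ⟨B, Subgroup.subset_closure (Or.inr (by simp)), hB⟩
    obtain ⟨y, hy, hyx⟩ := hle (hgen ▸ mem_top (σ x))
    have hk : x * y⁻¹ ∈ σ.ker := by rw [MonoidHom.mem_ker, map_mul, map_inv, hyx, mul_inv_cancel]
    have h := mul_mem (Subgroup.subset_closure (Or.inl hk) : x * y⁻¹ ∈ Subgroup.closure S) hy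
    rwa [inv_mul_cancel_right] at h
  refine hσ.2.2.trans ?_
  rw [commutator_def, ← hS]
  refine CfsgLib.KnownA.commutator_closure_le S _ ?_ ?_
  · intro s _
    apply CfsgLib.KnownA.mem_normalizer_zpowers
    left
    rw [hcz s, mul_inv_cancel_right]
  · intro s hs t ht
    rcases hs with hs | hs
    · rw [commutatorElement_eq_one_iff_mul_comm.mpr (mem_center_iff.mp (hσ.2.1 hs) t).symm]
      exact one_mem _
    rcases ht with ht | ht
    · rw [commutatorElement_eq_one_iff_mul_comm.mpr (mem_center_iff.mp (hσ.2.1 ht) s)]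
      exact one_mem _
    simp only [Set.mem_insert_iff, Set.mem_singleton_iff] at hs ht
    rcases hs with rfl | rfl <;> rcases ht with rfl | rfl
    · rw [commutatorElement_self]; exact one_mem _
    · exact mem_zpowers _
    · rw [← commutatorElement_inv t s]; exact (zpowers ⁅t, s⁆).inv_mem (mem_zpowers _)
    · rw [commutatorElement_self]; exact one_mem _

/-- The group with normal form `(a, b, c)` covering `ℤ_m × ℤ_n`. -/
@[ext] structure HeisMN (m n : ℕ) where
  a : ZMod m
  b : ZMod n
  c : ZMod n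

namespace HeisMN

variable {m n : ℕ} [h : Fact (n ∣ m)]

instance : Mul (HeisMN m n) :=
  ⟨fun x y => ⟨x.a + y.a, x.b + y.b, x.c + y.c + ZMod.castHom h.out (ZMod n) x.a * y.b⟩⟩
instance : One (HeisMN m n) := ⟨⟨0, 0, 0⟩⟩
instance : Inv (HeisMN m n) :=
  ⟨fun x => ⟨-x.a, -x.b, -x.c + ZMod.castHom h.out (ZMod n) x.a * x.b⟩⟩

theorem mul_def (x y : HeisMN m n) : x * y =
    ⟨x.a + y.a, x.b + y.b, x.c + y.c + ZMod.castHom h.out (ZMod n) x.a * y.b⟩ := rfl
theorem one_def : (1 : HeisMN m n) = ⟨0, 0, 0⟩ := rfl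
theorem inv_def (x : HeisMN m n) :
    x⁻¹ = ⟨-x.a, -x.b, -x.c + ZMod.castHom h.out (ZMod n) x.a * x.b⟩ := rfl

instance : Group (HeisMN m n) :=
  Group.ofLeftAxioms
    (fun x y z => by
      ext
      · simp [mul_def, add_assoc]
      · simp [mul_def, add_assoc]
      · simp only [mul_def, map_add]; ring)
    (fun x => by ext <;> simp [mul_def, one_def])
    (fun x => by
      ext
      · simp [mul_def, one_def, inv_def]
      · simp [mul_def, one_def, inv_def]
      · simp only [mul_def, one_def, inv_def, map_neg]; ring)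

/-- The projection to `ℤ_m × ℤ_n`. -/
def toAb : HeisMN m n →* Multiplicative (ZMod m × ZMod n) where
  toFun x := Multiplicative.ofAdd (x.a, x.b)
  map_one' := rfl
  map_mul' _ _ := rfl

theorem mem_ker_toAb {x : HeisMN m n} : x ∈ (toAb (m := m) (n := n)).ker ↔ x.a = 0 ∧ x.b = 0 := by
  rw [MonoidHom.mem_ker]
  show Multiplicative.ofAdd (x.a, x.b) = 1 ↔ _
  rw [ofAdd_eq_one, Prod.mk_eq_zero]

theorem isStem_toAb : Cfsg.IsStemExtension (toAb (m := m) (n := n)) := by
  refine ⟨fun t => ⟨⟨t.toAdd.1, t.toAdd.2, 0⟩, rfl⟩, fun x hx => ?_, fun x hx => ?_⟩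
  · obtain ⟨ha, hb⟩ := mem_ker_toAb.mp hx
    refine mem_center_iff.mpr fun y => ?_
    ext <;> simp [mul_def, ha, hb, add_comm]
  · obtain ⟨ha, hb⟩ := mem_ker_toAb.mp hx
    obtain ⟨t, ht⟩ := ZMod.castHom_surjective h.out x.c
    have : x = ⁅(⟨t, 0, 0⟩ : HeisMN m n), ⟨0, 1, 0⟩⁆ := by
      rw [commutatorElement_def]
      simp only [mul_def, inv_def, map_add, map_neg, map_zero]
      ext
      · simp [ha]
      · simp [hb]
      · simp [ht]
    rw [this]
    exact commutator_mem_commutator (mem_top _) (mem_top _)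

theorem card_ker_toAb : Nat.card (toAb (m := m) (n := n)).ker = n := by
  refine (Nat.card_congr ?_).trans (Nat.card_zmod n)
  exact { toFun := fun x => x.1.c, invFun := fun t => ⟨⟨0, 0, t⟩, mem_ker_toAb.mpr ⟨rfl, rfl⟩⟩,
          left_inv := fun x => by
            obtain ⟨⟨a, b, c⟩, hx⟩ := x
            obtain ⟨h1, h2⟩ := mem_ker_toAb.mp hx
            subst h1 h2
            rfl,
          right_inv := fun t => rfl }

end HeisMN

/-- The multiplier of `ℤ_m × ℤ_n` for `n ∣ m` is cyclic of order `n`. -/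
theorem hasCyclicSchurMultiplier_prod_zmod (m n : ℕ) [NeZero m] [NeZero n] (hnm : n ∣ m) :
    Cfsg.HasCyclicSchurMultiplier (Multiplicative (ZMod m × ZMod n)) n := by
  have : Fact (n ∣ m) := ⟨hnm⟩
  refine hasCyclicSchurMultiplier_of_bound' (HeisMN.isStem_toAb (m := m) (n := n))
    HeisMN.card_ker_toAb fun Γ _ _ σ hσ => ?_
  let a : Multiplicative (ZMod m × ZMod n) := Multiplicative.ofAdd (1, 0)
  let b : Multiplicative (ZMod m × ZMod n) := Multiplicative.ofAdd (0, 1)
  have hgen : Subgroup.closure ({a, b} : Set (Multiplicative (ZMod m × ZMod n))) = ⊤ := by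
    refine eq_top_iff.mpr fun x _ => ?_
    have : x = a ^ x.toAdd.1.val * b ^ x.toAdd.2.val := by
      apply Multiplicative.toAdd.injective
      simp [a, b, toAdd_mul, toAdd_pow, Prod.ext_iff]
    rw [this]
    exact mul_mem (pow_mem (Subgroup.subset_closure (by simp)) _)
      (pow_mem (Subgroup.subset_closure (by simp)) _)
  obtain ⟨A, hA⟩ := hσ.1 a
  obtain ⟨B, hB⟩ := hσ.1 b
  have hle := ker_le_zpowers_of_two hσ hgen hA hB
  have hcn : ⁅A, B⁆ ^ n = 1 := by
    have hc : ⁅A, B⁆ ∈ center Γ := hσ.2.1 (by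
      rw [MonoidHom.mem_ker, map_commutatorElement, commutatorElement_eq_one_iff_mul_comm, mul_comm])
    have hBn : B ^ n ∈ center Γ := hσ.2.1 (by
      rw [MonoidHom.mem_ker, map_pow, hB]
      apply Multiplicative.toAdd.injective
      simp [b, toAdd_pow])
    have key : ∀ k : ℕ, ⁅A, B ^ k⁆ = ⁅A, B⁆ ^ k := by
      intro k
      induction k with
      | zero => simp
      | succ k ih =>
        have e : ⁅A, B ^ k * B⁆ = ⁅A, B ^ k⁆ * (B ^ k * ⁅A, B⁆ * (B ^ k)⁻¹) := by
          simp only [commutatorElement_def]; group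
        rw [pow_succ, e, ih, mem_center_iff.mp hc (B ^ k), mul_inv_cancel_right, pow_succ]
    rw [← key, commutatorElement_eq_one_iff_mul_comm]
    exact (mem_center_iff.mp hBn A)
  refine ⟨?_, ?_⟩
  · exact isCyclic_of_injective (Subgroup.inclusion hle) (Subgroup.inclusion_injective hle)
  · exact (Subgroup.card_dvd_of_le hle).trans (by rw [Nat.card_zpowers]; exact orderOf_dvd_of_pow_eq_one hcn)

/-- Pulling back a stem extension of an abelian group along a surjection from an abelian group. -/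
theorem exists_stem_of_surjective {G Q : Type*} [CommGroup G] [CommGroup Q] {X : Type v} [Group X]
    {τ : X →* Q} (hτ : Cfsg.IsStemExtension τ) {f : G →* Q} (hf : Function.Surjective f) :
    ∃ (P : Subgroup (G × X)), Cfsg.IsStemExtension ((MonoidHom.fst G X).comp P.subtype) ∧
      ∀ z ∈ τ.ker, ((1 : G), z) ∈ P := by
  let P : Subgroup (G × X) := (f.comp (MonoidHom.fst G X)).eqLocus (τ.comp (MonoidHom.snd G X))
  let σ : P →* G := (MonoidHom.fst G X).comp P.subtype
  refine ⟨P, ⟨fun g => ?_, fun x hx => ?_, fun x hx => ?_⟩, fun z hz => ?_⟩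
  · obtain ⟨x, hx⟩ := hτ.1 (f g)
    exact ⟨⟨(g, x), hx.symm⟩, rfl⟩
  · refine mem_center_iff.mpr fun y => Subtype.ext (Prod.ext (mul_comm _ _) ?_)
    have h1 : (x : G × X).1 = 1 := hx
    have h2 : τ (x : G × X).2 = 1 := by
      rw [← show f (x : G × X).1 = τ (x : G × X).2 from x.2, h1, map_one]
    exact mem_center_iff.mp (hτ.2.1 h2) _
  · have h1 : (x : G × X).1 = 1 := hx
    have h2 : (x : G × X).2 ∈ τ.ker := by
      rw [MonoidHom.mem_ker, ← show f (x : G × X).1 = τ (x : G × X).2 from x.2, h1, map_one]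
    have hs : Function.Surjective (τ.comp ((MonoidHom.snd G X).comp P.subtype)) := fun q => by
      obtain ⟨g, rfl⟩ := hf q
      obtain ⟨y, hy⟩ := hτ.1 (f g)
      exact ⟨⟨(g, y), hy.symm⟩, hy⟩
    have hm := map_commutator_eq ((MonoidHom.snd G X).comp P.subtype) τ hτ.2.1 hs
    obtain ⟨y, hy, hyx⟩ : (x : G × X).2 ∈ (commutator P).map ((MonoidHom.snd G X).comp P.subtype) :=
      hm.symm ▸ hτ.2.2 h2
    have hy1 : (y : G × X).1 = 1 := Abelianization.commutator_subset_ker σ hy
    have : y = x := Subtype.ext (Prod.ext (hy1.trans h1.symm) hyx)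
    exact this ▸ hy
  · show f 1 = τ z
    rw [map_one, MonoidHom.mem_ker.mp hz]

/-- A finite abelian group with at most `p` elements killed by each prime `p` is cyclic. -/
theorem isCyclic_of_card_ker_pow_le {G : Type*} [CommGroup G] [Finite G]
    (h : ∀ p : ℕ, p.Prime → Nat.card (powMonoidHom p : G →* G).ker ≤ p) : IsCyclic G := by
  classical
  have := Fintype.ofFinite G
  have hn : ∀ n : ℕ, 0 < n → Nat.card (powMonoidHom n : G →* G).ker ≤ n := by
    intro n
    induction n using Nat.strong_induction_on with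
    | _ n ih =>
      intro hn0
      by_cases h1 : n = 1
      · subst h1
        have : (powMonoidHom 1 : G →* G).ker = ⊥ := by
          ext x; simp
        rw [this, Subgroup.card_bot]
      obtain ⟨p, hp, m, rfl⟩ := Nat.exists_prime_and_dvd h1
      have hm0 : 0 < m := Nat.pos_of_mul_pos_left hn0
      let g : (powMonoidHom (p * m) : G →* G).ker →* G :=
        (powMonoidHom p).comp (Subgroup.subtype _)
      rw [← g.ker.card_mul_index, Subgroup.index_ker]
      refine Nat.mul_le_mul (le_trans ?_ (h p hp)) (le_trans ?_ (ih m ?_ hm0))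
      · exact Nat.card_le_card_of_injective (fun x : g.ker => (⟨x.1.1, x.2⟩ : (powMonoidHom p : G →* G).ker))
          fun x y e => Subtype.ext (Subtype.ext (congrArg Subtype.val e :))
      · refine Subgroup.card_le_of_le ?_
        rintro _ ⟨x, rfl⟩
        have hx : (x : G) ^ (p * m) = 1 := x.2
        show ((x : G) ^ p) ^ m = 1
        rw [← pow_mul]; exact hx
      · exact lt_mul_of_one_lt_left hm0 hp.one_lt
  refine isCyclic_of_card_pow_eq_one_le fun n hn' => le_trans (le_of_eq ?_) (hn n hn')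
  rw [← Fintype.card_subtype, ← Nat.card_eq_fintype_card]
  rfl

/-- A finite abelian group with trivial multiplier is cyclic. -/
theorem isCyclic_of_trivial_multiplier {G : Type u} [CommGroup G] [Finite G]
    (h : Cfsg.HasCyclicSchurMultiplier G 1) : IsCyclic G := by
  by_contra hnc
  obtain ⟨p, hp, hlt⟩ : ∃ p : ℕ, p.Prime ∧ p < Nat.card (powMonoidHom p : G →* G).ker := by
    by_contra hno
    push Not at hno
    exact hnc (isCyclic_of_card_ker_pow_le hno)
  have : Fact p.Prime := ⟨hp⟩
  let R := (powMonoidHom p : G →* G).range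
  have hexp : ∀ q : G ⧸ R, q ^ p = 1 := fun q => by
    obtain ⟨g, rfl⟩ := QuotientGroup.mk'_surjective R q
    rw [← map_pow]
    exact (QuotientGroup.eq_one_iff _).mpr ⟨g, rfl⟩
  have hP : IsPGroup p (G ⧸ R) := fun q => ⟨1, by rw [pow_one]; exact hexp q⟩
  have hcardR : p < Nat.card (G ⧸ R) := by
    rw [← Subgroup.index_eq_card]
    have h1 := R.card_mul_index
    have h2 := (powMonoidHom p : G →* G).ker.card_mul_index
    rw [Subgroup.index_ker] at h2
    have : R.index = Nat.card (powMonoidHom p : G →* G).ker := by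
      refine Nat.eq_of_mul_eq_mul_left (Nat.card_pos (α := R)) ?_
      rw [h1, ← h2, mul_comm]
    rw [this]; exact hlt
  obtain ⟨k, hk⟩ := IsPGroup.iff_card.mp hP
  have hk2 : 2 ≤ k := by
    by_contra hk'
    rw [hk] at hcardR
    have := Nat.pow_le_pow_right hp.pos (show k ≤ 1 by omega)
    rw [pow_one] at this
    omega
  obtain ⟨N, hN⟩ := Sylow.exists_subgroup_card_pow_prime (G := G ⧸ R) p (n := k - 2)
    (hk ▸ pow_dvd_pow p (Nat.sub_le _ _))
  let Q' := (G ⧸ R) ⧸ N
  have hexp' : ∀ q : Q', q ^ p = 1 := fun q => by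
    obtain ⟨g, rfl⟩ := QuotientGroup.mk'_surjective N q
    rw [← map_pow, hexp, map_one]
  have hQ' : Nat.card Q' = p * p := by
    have h1 := N.card_mul_index
    rw [hN, hk, Subgroup.index_eq_card] at h1
    refine Nat.eq_of_mul_eq_mul_left (pow_pos hp.pos (k - 2)) ?_
    rw [h1, ← sq, ← pow_add, Nat.sub_add_cancel hk2]
  have : Nontrivial Q' := Finite.one_lt_card_iff_nontrivial.mp (by rw [hQ']; nlinarith [hp.two_le])
  obtain ⟨a, ha⟩ := exists_ne (1 : Q')
  have hA : Nat.card (zpowers a) = p := by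
    rw [Nat.card_zpowers]; exact orderOf_eq_prime (hexp' a) ha
  obtain ⟨b, hb⟩ : ∃ b : Q', b ∉ zpowers a := by
    by_contra hno
    push Not at hno
    have htop : zpowers a = ⊤ := eq_top_iff.mpr fun x _ => hno x
    rw [htop, Subgroup.card_top, hQ'] at hA
    nlinarith [hp.two_le]
  let φ : Multiplicative (ZMod p × ZMod p) →* Q' :=
    { toFun := fun v => a ^ v.toAdd.1.val * b ^ v.toAdd.2.val
      map_one' := by simp
      map_mul' := fun v w => by
        have key : ∀ (c : Q') (i j : ZMod p), c ^ (i + j).val = c ^ i.val * c ^ j.val := fun c i j => by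
          rw [ZMod.val_add, ← pow_add, ← pow_eq_pow_mod _ (hexp' c)]
        simp only [toAdd_mul, Prod.fst_add, Prod.snd_add, key]
        exact mul_mul_mul_comm _ _ _ _ }
  have hlt' : zpowers a < φ.range := by
    have ha' : a ∈ φ.range := ⟨Multiplicative.ofAdd (1, 0), by simp [φ, ZMod.val_one]⟩
    have hb' : b ∈ φ.range := ⟨Multiplicative.ofAdd (0, 1), by simp [φ, ZMod.val_one]⟩
    exact lt_of_le_of_ne (zpowers_le.mpr ha') fun h => hb (h ▸ hb')
  have hφ : Function.Bijective φ := by
    have hc : Nat.card (Multiplicative (ZMod p × ZMod p)) = p * p := by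
      show Nat.card (ZMod p × ZMod p) = _
      rw [Nat.card_prod, Nat.card_zmod]
    have hr : φ.range = ⊤ := by
      have h1 := φ.range.card_subgroup_dvd_card
      rw [hQ', ← sq] at h1
      obtain ⟨i, hi, he⟩ := (Nat.dvd_prime_pow hp).mp h1
      have h2 : p < Nat.card φ.range := by
        have h3 : Nat.card (zpowers a) < Nat.card φ.range :=
          Set.Finite.card_lt_card (Set.toFinite _) (SetLike.coe_ssubset_coe.mpr hlt')
        rwa [hA] at h3
      rw [he] at h2
      have : i = 2 := by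
        by_contra hne
        have := Nat.pow_le_pow_right hp.pos (show i ≤ 1 by omega)
        rw [pow_one] at this
        omega
      exact Subgroup.eq_top_of_card_eq _ (by rw [he, hQ', this, sq])
    exact (Nat.bijective_iff_surjective_and_card _).mpr ⟨MonoidHom.range_eq_top.mp hr, hc.trans hQ'.symm⟩
  let e := MulEquiv.ofBijective φ hφ
  let f : G →* Multiplicative (ZMod p × ZMod p) :=
    e.symm.toMonoidHom.comp ((QuotientGroup.mk' N).comp (QuotientGroup.mk' R))
  have hf : Function.Surjective f :=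
    e.symm.surjective.comp ((QuotientGroup.mk'_surjective N).comp (QuotientGroup.mk'_surjective R))
  have : Fact (p ∣ p) := ⟨dvd_rfl⟩
  obtain ⟨P, hP', hz⟩ := exists_stem_of_surjective (HeisMN.isStem_toAb (m := p) (n := p)) hf
  have hbot := ker_eq_bot_of_cyclic_one h hP'
  have hsub : (HeisMN.toAb (m := p) (n := p)).ker = ⊥ := by
    refine eq_bot_iff.mpr fun z hzk => ?_
    have : (⟨(1, z), hz z hzk⟩ : P) ∈ ((MonoidHom.fst G _).comp P.subtype).ker := rfl
    rw [hbot, mem_bot] at this
    exact mem_bot.mpr (congrArg Prod.snd (congrArg Subtype.val this))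
  have h1 := HeisMN.card_ker_toAb (m := p) (n := p)
  rw [hsub, Subgroup.card_bot] at h1
  exact hp.ne_one h1.symm

/-- Cyclic groups have trivial multiplier. -/
theorem hasCyclicSchurMultiplier_one_of_isCyclic {G : Type u} [Group G] [Finite G] [IsCyclic G] :
    Cfsg.HasCyclicSchurMultiplier G 1 := by
  refine cyclic_one_of_forall fun Γ _ _ σ hσ => ?_
  have hc : ∀ x y : Γ, x * y = y * x := commutative_of_cyclic_center_quotient σ hσ.2.1
  refine le_bot_iff.mp (hσ.2.2.trans ?_)
  rw [commutator_def, commutator_le]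
  intro x _ y _
  exact mem_bot.mpr (commutatorElement_eq_one_iff_mul_comm.mpr (hc x y))

end CfsgLib.Schur
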