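import Cfsg.Agent.Lib.Coprime.Complements
import Mathlib.GroupTheory.GroupAction.Basic
set_option autoImplicit false

/-!
Coprime action, ambient form: `A` normalises `G`, the orders are coprime, `A` or `G` is solvable.
Fixed point lemma, fixed points in cosets and quotients, `G = [G,A] C_G(A)`, `[G,A,A] = [G,A]`.
-/

namespace CfsgLib.Coprime

open Subgroup
open scoped commutatorElement

variable {X : Type*} [Group X]

theorem relIndex_eq_card_of_sup_eq {G A H : Subgroup X} (hA : A ≤ normalizer (G : Set X))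
    (hH : H ≤ normalizer (G : Set X)) (hAG : A ⊓ G = ⊥) (h : G ⊔ H = G ⊔ A) :
    G.relIndex H = Nat.card A := by
  let Y : Subgroup X := normalizer (G : Set X)
  have : (G.subgroupOf Y).Normal := normal_subgroupOf_of_le_normalizer le_rfl
  have h1 : G.subgroupOf Y ⊔ H.subgroupOf Y = G.subgroupOf Y ⊔ A.subgroupOf Y := by
    rw [← subgroupOf_sup le_normalizer hH, ← subgroupOf_sup le_normalizer hA, h]
  rw [← relIndex_subgroupOf (L := Y) hH, ← relIndex_sup_right, sup_comm, h1, sup_comm,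
    relIndex_sup_right, relIndex_subgroupOf hA, ← inf_relIndex_right, inf_comm, hAG,
    relIndex_bot_left]

theorem mem_centralizer_of_mem_normalizer {A G : Subgroup X} (hA : A ≤ normalizer (G : Set X))
    (hAG : A ⊓ G = ⊥) {g : X} (hg : g ∈ G) (hgA : g ∈ normalizer (A : Set X)) :
    g ∈ centralizer (A : Set X) := by
  rw [mem_centralizer_iff]
  intro a ha
  have h1 : g * a * g⁻¹ * a⁻¹ ∈ A ⊓ G := by
    refine mem_inf.mpr ⟨mul_mem ((mem_normalizer_iff.mp hgA a).mp ha) (inv_mem ha), ?_⟩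
    rw [show g * a * g⁻¹ * a⁻¹ = g * (a * g⁻¹ * a⁻¹) by group]
    exact mul_mem hg ((mem_normalizer_iff.mp (hA ha) _).mp (inv_mem hg))
  rw [hAG, mem_bot] at h1
  calc a * g = (g * a * g⁻¹ * a⁻¹) * (a * g) := by rw [h1, one_mul]
    _ = g * a := by group

variable [Finite X]

/-- **Glauberman's lemma**, existence part. -/
theorem exists_fixed_point {A G : Subgroup X} (hA : A ≤ normalizer (G : Set X))
    (hcop : (Nat.card A).Coprime (Nat.card G)) (hs : Group.IsSolvable A ∨ Group.IsSolvable G)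
    {α : Type*} [MulAction X α] (S : Set α) (hne : S.Nonempty)
    (hAS : ∀ a ∈ A, ∀ s ∈ S, a • s ∈ S) (hGS : ∀ g ∈ G, ∀ s ∈ S, g • s ∈ S)
    (htrans : ∀ s ∈ S, ∀ t ∈ S, ∃ g ∈ G, g • s = t) :
    ∃ s ∈ S, ∀ a ∈ A, a • s = s := by
  obtain ⟨s, hsS⟩ := hne
  let H : Subgroup X := MulAction.stabilizer X s ⊓ (G ⊔ A)
  have hHY : H ≤ normalizer (G : Set X) := inf_le_right.trans (sup_le le_normalizer hA)
  have hAG : A ⊓ G = ⊥ := inf_eq_bot_of_coprime hcop
  have hsup : G ⊔ H = G ⊔ A := by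
    refine le_antisymm (sup_le le_sup_left inf_le_right) (sup_le le_sup_left ?_)
    intro a ha
    obtain ⟨g, hg, hgs⟩ := htrans (a • s) (hAS a ha s hsS) s hsS
    have h1 : g * a ∈ H := mem_inf.mpr ⟨MulAction.mem_stabilizer_iff.mpr (by rw [mul_smul, hgs]),
      mul_mem (mem_sup_left hg) (mem_sup_right ha)⟩
    have h2 := mul_mem (inv_mem (mem_sup_left (T := H) hg)) (mem_sup_right (S := G) h1)
    rwa [inv_mul_cancel_left] at h2
  have hrel : G.relIndex H = Nat.card A := relIndex_eq_card_of_sup_eq hA hHY hAG hsup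
  have : (G.subgroupOf H).Normal := normal_subgroupOf_of_le_normalizer hHY
  have hd : Nat.card (G.subgroupOf H) ∣ Nat.card G :=
    card_dvd_of_injective (f := H.subtype.subgroupComap G)
      fun a b h => Subtype.ext (Subtype.ext (congrArg Subtype.val h :))
  have hc : (Nat.card (G.subgroupOf H)).Coprime (G.subgroupOf H).index := by
    change (Nat.card (G.subgroupOf H)).Coprime (G.relIndex H)
    rw [hrel]
    exact (hcop.coprime_dvd_right hd).symm
  obtain ⟨C, hC⟩ := exists_right_complement'_of_coprime hc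
  let C' : Subgroup X := C.map H.subtype
  have hC'card : Nat.card C' = Nat.card A := by
    rw [card_map_of_injective H.subtype_injective, ← hC.symm.index_eq_card]
    exact hrel
  have hC'H : C' ≤ H := map_subtype_le C
  have hsup' : G ⊔ A = G ⊔ C' := by
    refine le_antisymm ?_ (sup_le le_sup_left (hC'H.trans inf_le_right))
    rw [← hsup]
    refine sup_le le_sup_left ?_
    have h3 := congrArg (Subgroup.map H.subtype) hC.sup_eq_top
    rw [Subgroup.map_sup, ← MonoidHom.range_eq_map, H.range_subtype] at h3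
    rw [← h3]
    exact sup_le_sup_right (by rw [subgroupOf_map_subtype]; exact inf_le_left) _
  obtain ⟨n, hn, hnC⟩ := exists_conj_eq_of_coprime hA (hC'H.trans hHY) hsup' hcop
    (hC'card ▸ hcop) hs
  refine ⟨n⁻¹ • s, hGS _ (inv_mem hn) s hsS, fun a ha => ?_⟩
  have h4 : n * a * n⁻¹ ∈ H := hC'H (hnC ▸ ⟨a, ha, rfl⟩)
  have h5 : (n * a * n⁻¹) • s = s := MulAction.mem_stabilizer_iff.mp (mem_inf.mp h4).1
  conv_rhs => rw [← h5]
  simp only [← mul_smul]
  congr 1
  group

/-- Fixed points of coprime action in cosets: if `g⁻¹ a g a⁻¹ ∈ N` for all `a ∈ A` then the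
coset `g N` contains an element centralizing `A` (here `N ≤ G` is `A`-invariant). -/
theorem exists_mem_centralizer_of_coset {A G N : Subgroup X} (hA : A ≤ normalizer (G : Set X))
    (hAN : A ≤ normalizer (N : Set X)) (hNG : N ≤ G) (hcop : (Nat.card A).Coprime (Nat.card G))
    (hs : Group.IsSolvable A ∨ Group.IsSolvable N) {g : X} (hg : g ∈ G)
    (h : ∀ a ∈ A, g⁻¹ * a * g * a⁻¹ ∈ N) : ∃ n ∈ N, g * n ∈ centralizer (A : Set X) := by
  let B : Subgroup X := A.map (MulAut.conj g⁻¹).toMonoidHom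
  have hBN : B ≤ normalizer (N : Set X) := by
    rintro _ ⟨a, ha, rfl⟩
    have : (MulAut.conj g⁻¹).toMonoidHom a = g⁻¹ * a * g * a⁻¹ * a := by simp [mul_assoc]
    rw [this]
    exact mul_mem (le_normalizer (h a ha)) (hAN ha)
  have hsup : N ⊔ A = N ⊔ B := by
    refine le_antisymm (sup_le le_sup_left fun a ha => ?_) (sup_le le_sup_left ?_)
    · have hb : g⁻¹ * a * g ∈ B := ⟨a, ha, by simp⟩
      have h2 := mul_mem (inv_mem (mem_sup_left (T := B) (h a ha))) (mem_sup_right (S := N) hb)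
      rwa [show (g⁻¹ * a * g * a⁻¹)⁻¹ * (g⁻¹ * a * g) = a by group] at h2
    · rintro _ ⟨a, ha, rfl⟩
      have : (MulAut.conj g⁻¹).toMonoidHom a = g⁻¹ * a * g * a⁻¹ * a := by simp [mul_assoc]
      rw [this]
      exact mul_mem (mem_sup_left (h a ha)) (mem_sup_right ha)
  have hcN : (Nat.card A).Coprime (Nat.card N) := hcop.coprime_dvd_right (card_dvd_of_le hNG)
  obtain ⟨n, hn, hnB⟩ := exists_conj_eq_of_coprime hAN hBN hsup hcN
    ((card_map_conj g⁻¹ A).symm ▸ hcN) hs
  refine ⟨n, hn, mem_centralizer_of_mem_normalizer hA (inf_eq_bot_of_coprime hcop)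
    (mul_mem hg (hNG hn)) ?_⟩
  have h3 : A.map (MulAut.conj (g * n)).toMonoidHom = A := by
    rw [← map_conj_conj, ← hnB, map_conj_conj, mul_inv_cancel]
    simp [MulEquiv.toMonoidHom, Subgroup.ext_iff, mem_map]
  rw [mem_normalizer_iff]
  intro x
  conv_rhs => rw [← h3, mem_map_conj]
  rw [show (g * n)⁻¹ * (g * n * x * (g * n)⁻¹) * (g * n) = x by group]

/-- **Glauberman's lemma**, conjugacy part: `C_G(A)` is transitive on the fixed points. -/
theorem exists_smul_eq_of_fixed {A G : Subgroup X} (hA : A ≤ normalizer (G : Set X))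
    (hcop : (Nat.card A).Coprime (Nat.card G)) (hs : Group.IsSolvable A ∨ Group.IsSolvable G)
    {α : Type*} [MulAction X α] {s t : α} (hsA : ∀ a ∈ A, a • s = s) (htA : ∀ a ∈ A, a • t = t)
    (h : ∃ g ∈ G, g • s = t) : ∃ c ∈ G ⊓ centralizer (A : Set X), c • s = t := by
  obtain ⟨g, hg, hgs⟩ := h
  let N : Subgroup X := G ⊓ MulAction.stabilizer X s
  have hAN : A ≤ normalizer (N : Set X) := by
    intro a ha
    have h1 : a ∈ MulAction.stabilizer X s := MulAction.mem_stabilizer_iff.mpr (hsA a ha)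
    rw [mem_normalizer_iff]
    intro x
    simp only [SetLike.mem_coe, N, mem_inf]
    exact and_congr ((mem_normalizer_iff.mp (hA ha)) x)
      ((mem_normalizer_iff.mp (le_normalizer h1)) x)
  have hmem : ∀ a ∈ A, g⁻¹ * a * g * a⁻¹ ∈ N := fun a ha => mem_inf.mpr ⟨by
      rw [show g⁻¹ * a * g * a⁻¹ = g⁻¹ * (a * g * a⁻¹) by group]
      exact mul_mem (inv_mem hg) ((mem_normalizer_iff.mp (hA ha) g).mp hg),
    MulAction.mem_stabilizer_iff.mpr (by
      have h2 : a⁻¹ • s = s := hsA _ (inv_mem ha)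
      have h3 : g⁻¹ • t = s := inv_smul_eq_iff.mpr hgs.symm
      rw [mul_smul, h2, mul_smul, hgs, mul_smul, htA a ha, h3])⟩
  obtain ⟨n, hn, hc⟩ := exists_mem_centralizer_of_coset hA hAN inf_le_left hcop
    (hs.imp_right fun h => isSolvable_of_le h (inf_le_left : N ≤ G)) hg hmem
  exact ⟨g * n, mem_inf.mpr ⟨mul_mem hg (mem_inf.mp hn).1, hc⟩,
    by rw [mul_smul, MulAction.mem_stabilizer_iff.mp (mem_inf.mp hn).2, hgs]⟩

/-- `C_{G/N}(A) = C_G(A) N / N`, for an arbitrary homomorphism. -/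
theorem map_inf_centralizer {Y : Type*} [Group Y] (f : X →* Y) {A G : Subgroup X}
    (hA : A ≤ normalizer (G : Set X)) (hcop : (Nat.card A).Coprime (Nat.card G))
    (hs : Group.IsSolvable A ∨ Group.IsSolvable G) :
    (G ⊓ centralizer (A : Set X)).map f = G.map f ⊓ centralizer (A.map f : Set Y) := by
  refine le_antisymm ?_ ?_
  · rintro _ ⟨g, hg, rfl⟩
    refine mem_inf.mpr ⟨⟨g, (mem_inf.mp hg).1, rfl⟩, mem_centralizer_iff.mpr ?_⟩
    rintro _ ⟨a, ha, rfl⟩
    rw [← map_mul, ← map_mul, mem_centralizer_iff.mp (mem_inf.mp hg).2 a ha]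
  · intro y hy
    obtain ⟨⟨g, hg, rfl⟩, hc⟩ := mem_inf.mp hy
    let N : Subgroup X := G ⊓ f.ker
    have hAN : A ≤ normalizer (N : Set X) := by
      intro a ha
      rw [mem_normalizer_iff]
      intro x
      simp only [SetLike.mem_coe, N, mem_inf]
      exact and_congr ((mem_normalizer_iff.mp (hA ha)) x)
        (by rw [MonoidHom.mem_ker, MonoidHom.mem_ker]; simp)
    have hmem : ∀ a ∈ A, g⁻¹ * a * g * a⁻¹ ∈ N := fun a ha => mem_inf.mpr ⟨by
      rw [show g⁻¹ * a * g * a⁻¹ = g⁻¹ * (a * g * a⁻¹) by group]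
      exact mul_mem (inv_mem hg) ((mem_normalizer_iff.mp (hA ha) g).mp hg), by
      rw [MonoidHom.mem_ker]
      have := mem_centralizer_iff.mp hc (f a) ⟨a, ha, rfl⟩
      simp only [map_mul, map_inv, mul_assoc]
      rw [← mul_assoc (f a), this]; group⟩
    obtain ⟨n, hn, hcn⟩ := exists_mem_centralizer_of_coset hA hAN inf_le_left hcop
      (hs.imp_right fun h => isSolvable_of_le h (inf_le_left : N ≤ G)) hg hmem
    refine ⟨g * n, mem_inf.mpr ⟨mul_mem hg (mem_inf.mp hn).1, hcn⟩, ?_⟩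
    rw [map_mul, MonoidHom.mem_ker.mp (mem_inf.mp hn).2, mul_one]

/-- `G = C_G(A) [G, A]`. -/
theorem exists_mul_eq {A G : Subgroup X} (hA : A ≤ normalizer (G : Set X))
    (hcop : (Nat.card A).Coprime (Nat.card G)) (hs : Group.IsSolvable A ∨ Group.IsSolvable G)
    {g : X} (hg : g ∈ G) : ∃ c ∈ G ⊓ centralizer (A : Set X), ∃ n ∈ ⁅G, A⁆, c * n = g := by
  have hle : ⁅G, A⁆ ≤ G := le_normalizer_iff_commutator_le_left.mp hA
  obtain ⟨n, hn, hc⟩ := exists_mem_centralizer_of_coset hA (normalizer_commutator_ge_right G A) hle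
    hcop (hs.imp_right fun h => isSolvable_of_le h hle) hg fun a ha => by
      have h := commutator_mem_commutator (inv_mem hg) ha
      rwa [commutatorElement_def, inv_inv] at h
  exact ⟨g * n, mem_inf.mpr ⟨mul_mem hg (hle hn), hc⟩, n⁻¹, inv_mem hn, by group⟩

/-- `G = [G, A] C_G(A)`. -/
theorem exists_mul_eq' {A G : Subgroup X} (hA : A ≤ normalizer (G : Set X))
    (hcop : (Nat.card A).Coprime (Nat.card G)) (hs : Group.IsSolvable A ∨ Group.IsSolvable G)
    {g : X} (hg : g ∈ G) : ∃ n ∈ ⁅G, A⁆, ∃ c ∈ G ⊓ centralizer (A : Set X), n * c = g := by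
  obtain ⟨c, hc, n, hn, h⟩ := exists_mul_eq hA hcop hs (inv_mem hg)
  exact ⟨n⁻¹, inv_mem hn, c⁻¹, inv_mem hc, by rw [← inv_inv g, ← h]; group⟩

theorem commutator_sup_centralizer {A G : Subgroup X} (hA : A ≤ normalizer (G : Set X))
    (hcop : (Nat.card A).Coprime (Nat.card G)) (hs : Group.IsSolvable A ∨ Group.IsSolvable G) :
    ⁅G, A⁆ ⊔ (G ⊓ centralizer (A : Set X)) = G := by
  refine le_antisymm (sup_le (le_normalizer_iff_commutator_le_left.mp hA) inf_le_left) fun g hg => ?_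
  obtain ⟨n, hn, c, hc, rfl⟩ := exists_mul_eq' hA hcop hs hg
  exact mul_mem (mem_sup_left hn) (mem_sup_right hc)

/-- `[G, A, A] = [G, A]`. -/
theorem commutator_commutator_eq {A G : Subgroup X} (hA : A ≤ normalizer (G : Set X))
    (hcop : (Nat.card A).Coprime (Nat.card G)) (hs : Group.IsSolvable A ∨ Group.IsSolvable G) :
    ⁅⁅G, A⁆, A⁆ = ⁅G, A⁆ := by
  refine le_antisymm (le_normalizer_iff_commutator_le_left.mp (normalizer_commutator_ge_right G A))
    (commutator_le.mpr fun g hg a ha => ?_)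
  obtain ⟨n, hn, c, hc, rfl⟩ := exists_mul_eq' hA hcop hs hg
  have h1 : a * c = c * a := mem_centralizer_iff.mp (mem_inf.mp hc).2 a ha
  have h2 : ⁅n * c, a⁆ = ⁅n, a⁆ := by
    rw [commutatorElement_def, commutatorElement_def, mul_inv_rev]
    calc n * c * a * (c⁻¹ * n⁻¹) * a⁻¹ = n * (c * a) * c⁻¹ * n⁻¹ * a⁻¹ := by group
      _ = n * a * n⁻¹ * a⁻¹ := by rw [← h1]; group
  rw [h2]
  exact commutator_mem_commutator hn ha

/-- If `A` centralizes `[G, A]` in coprime action then it centralizes `G`. -/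
theorem commutator_eq_bot_of_commutator_commutator {A G : Subgroup X}
    (hA : A ≤ normalizer (G : Set X)) (hcop : (Nat.card A).Coprime (Nat.card G))
    (hs : Group.IsSolvable A ∨ Group.IsSolvable G) (h : ⁅⁅G, A⁆, A⁆ = ⊥) : ⁅G, A⁆ = ⊥ :=
  (commutator_commutator_eq hA hcop hs).symm.trans h

end CfsgLib.Coprime
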