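import Cfsg.Agent.Lib.Coprime.Action
import Mathlib.GroupTheory.Nilpotent
set_option autoImplicit false

/-!
Invariant conjugates and invariant Sylow subgroups under coprime action; factorizations.
-/

namespace CfsgLib.Coprime

open Subgroup

variable {X : Type*} [Group X]

/-- Conjugation of subgroups, as an action (not an instance). -/
@[reducible]
def conjSubgroupAction (X : Type*) [Group X] : MulAction X (Subgroup X) where
  smul x H := H.map (MulAut.conj x).toMonoidHom
  one_smul H := by
    show H.map (MulAut.conj (1 : X)).toMonoidHom = H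
    ext x; simp [mem_map_conj]
  mul_smul x y H := (map_conj_conj x y H).symm

theorem mem_normalizer_iff_map_conj {x : X} {H : Subgroup X} :
    x ∈ normalizer (H : Set X) ↔ H.map (MulAut.conj x).toMonoidHom = H := by
  refine ⟨map_conj_of_mem_normalizer, fun h => ?_⟩
  rw [mem_normalizer_iff'']
  intro y
  show y ∈ H ↔ x⁻¹ * y * x ∈ H
  conv_lhs => rw [← h, mem_map_conj]

theorem map_subtype_le_normalizer_of_conj {A G H : Subgroup X} (hHG : H ≤ G)
    (hA : A ≤ normalizer (G : Set X)) {a : X} (ha : a ∈ A) :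
    H.map (MulAut.conj a).toMonoidHom ≤ G :=
  (map_mono hHG).trans (map_conj_of_mem_normalizer (hA ha)).le

variable [Finite X]

/-- An `A`-invariant conjugacy class of subgroups contains an `A`-invariant member. -/
theorem exists_invariant_conjugate {A G : Subgroup X} (hA : A ≤ normalizer (G : Set X))
    (hcop : (Nat.card A).Coprime (Nat.card G)) (hs : Group.IsSolvable A ∨ Group.IsSolvable G)
    {H : Subgroup X}
    (h : ∀ a ∈ A, ∃ g ∈ G, H.map (MulAut.conj a).toMonoidHom = H.map (MulAut.conj g).toMonoidHom) :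
    ∃ g ∈ G, A ≤ normalizer ((H.map (MulAut.conj g).toMonoidHom : Subgroup X) : Set X) := by
  letI := conjSubgroupAction X
  let S : Set (Subgroup X) := {K | ∃ g ∈ G, K = H.map (MulAut.conj g).toMonoidHom}
  obtain ⟨_, ⟨g, hg, rfl⟩, hfix⟩ := exists_fixed_point hA hcop hs S
    ⟨_, 1, one_mem G, rfl⟩
    (by
      rintro a ha _ ⟨g, hg, rfl⟩
      obtain ⟨g', hg', he⟩ := h a ha
      refine ⟨(a * g * a⁻¹) * g', mul_mem ((mem_normalizer_iff.mp (hA ha) g).mp hg) hg', ?_⟩
      show (H.map (MulAut.conj g).toMonoidHom).map (MulAut.conj a).toMonoidHom = _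
      rw [← map_conj_conj (a * g * a⁻¹), ← he, map_conj_conj, map_conj_conj]
      congr 3; group)
    (by
      rintro k hk _ ⟨g, hg, rfl⟩
      exact ⟨k * g, mul_mem hk hg, map_conj_conj k g H⟩)
    (by
      rintro _ ⟨g, hg, rfl⟩ _ ⟨k, hk, rfl⟩
      refine ⟨k * g⁻¹, mul_mem hk (inv_mem hg), ?_⟩
      show (H.map (MulAut.conj g).toMonoidHom).map (MulAut.conj (k * g⁻¹)).toMonoidHom = _
      rw [map_conj_conj]; congr 3; group)
  exact ⟨g, hg, fun a ha => mem_normalizer_iff_map_conj.mpr (hfix a ha)⟩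

/-- Two `A`-invariant `G`-conjugate subgroups are conjugate under `C_G(A)`. -/
theorem exists_conj_centralizer_of_invariant {A G : Subgroup X}
    (hA : A ≤ normalizer (G : Set X)) (hcop : (Nat.card A).Coprime (Nat.card G))
    (hs : Group.IsSolvable A ∨ Group.IsSolvable G) {H K : Subgroup X}
    (hH : A ≤ normalizer (H : Set X)) (hK : A ≤ normalizer (K : Set X))
    (h : ∃ g ∈ G, H.map (MulAut.conj g).toMonoidHom = K) :
    ∃ c ∈ G ⊓ centralizer (A : Set X), H.map (MulAut.conj c).toMonoidHom = K := by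
  letI := conjSubgroupAction X
  exact exists_smul_eq_of_fixed hA hcop hs (s := H) (t := K)
    (fun a ha => map_conj_of_mem_normalizer (hH ha))
    (fun a ha => map_conj_of_mem_normalizer (hK ha)) h

omit [Finite X] in
theorem map_conj_subtype {G : Subgroup X} (g : G) (P : Subgroup G) :
    (P.map (MulAut.conj g).toMonoidHom).map G.subtype
      = (P.map G.subtype).map (MulAut.conj (g : X)).toMonoidHom := map_conj_map G.subtype g P

/-- `G` has an `A`-invariant Sylow `p`-subgroup. -/
theorem exists_invariant_sylow {A G : Subgroup X} (hA : A ≤ normalizer (G : Set X))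
    (hcop : (Nat.card A).Coprime (Nat.card G)) (hs : Group.IsSolvable A ∨ Group.IsSolvable G)
    (p : ℕ) [Fact p.Prime] :
    ∃ P : Sylow p G, A ≤ normalizer (((P : Subgroup G).map G.subtype : Subgroup X) : Set X) := by
  obtain ⟨P₀⟩ : Nonempty (Sylow p G) := inferInstance
  let H : Subgroup X := (P₀ : Subgroup G).map G.subtype
  obtain ⟨g, hg, hn⟩ := exists_invariant_conjugate hA hcop hs (H := H) (fun a ha => by
    have hle : H.map (MulAut.conj a).toMonoidHom ≤ G :=
      map_subtype_le_normalizer_of_conj (map_subtype_le _) hA ha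
    let Q : Subgroup G := (H.map (MulAut.conj a).toMonoidHom).subgroupOf G
    have hQ : Nat.card Q = p ^ (Nat.card G).factorization p := by
      rw [card_subgroupOf hle, card_map_conj, card_map_of_injective G.subtype_injective]
      exact P₀.card_eq_multiplicity
    obtain ⟨g, hg⟩ := MulAction.exists_smul_eq G P₀ (Sylow.ofCard Q hQ)
    refine ⟨g, g.2, ?_⟩
    have h1 : (P₀ : Subgroup G).map (MulAut.conj g).toMonoidHom = Q :=
      congrArg (fun S : Sylow p G => (S : Subgroup G)) hg
    replace h1 := congrArg (Subgroup.map G.subtype) h1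
    rw [map_conj_subtype, subgroupOf_map_subtype, inf_eq_left.mpr hle] at h1
    exact h1.symm)
  refine ⟨(⟨g, hg⟩ : G) • P₀, ?_⟩
  show A ≤ normalizer ((((P₀ : Subgroup G).map (MulAut.conj (⟨g, hg⟩ : G)).toMonoidHom).map
    G.subtype : Subgroup X) : Set X)
  rw [map_conj_subtype]
  exact hn

/-- Two `A`-invariant Sylow `p`-subgroups of `G` are conjugate under `C_G(A)`. -/
theorem exists_conj_invariant_sylow {A G : Subgroup X} (hA : A ≤ normalizer (G : Set X))
    (hcop : (Nat.card A).Coprime (Nat.card G)) (hs : Group.IsSolvable A ∨ Group.IsSolvable G)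
    {p : ℕ} [Fact p.Prime] (P Q : Sylow p G)
    (hP : A ≤ normalizer (((P : Subgroup G).map G.subtype : Subgroup X) : Set X))
    (hQ : A ≤ normalizer (((Q : Subgroup G).map G.subtype : Subgroup X) : Set X)) :
    ∃ c ∈ G ⊓ centralizer (A : Set X),
      ((P : Subgroup G).map G.subtype).map (MulAut.conj c).toMonoidHom
        = (Q : Subgroup G).map G.subtype := by
  refine exists_conj_centralizer_of_invariant hA hcop hs hP hQ ?_
  obtain ⟨g, rfl⟩ := MulAction.exists_smul_eq G P Q
  exact ⟨g, g.2, (map_conj_subtype g (P : Subgroup G)).symm⟩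

/-- Every `A`-invariant `p`-subgroup lies in an `A`-invariant Sylow `p`-subgroup. -/
theorem exists_invariant_sylow_ge {A G : Subgroup X} (hA : A ≤ normalizer (G : Set X))
    (hcop : (Nat.card A).Coprime (Nat.card G)) (hs : Group.IsSolvable A ∨ Group.IsSolvable G)
    {p : ℕ} [Fact p.Prime] {U : Subgroup X} (hU : IsPGroup p U) (hUG : U ≤ G)
    (hUA : A ≤ normalizer (U : Set X)) :
    ∃ P : Sylow p G, U ≤ (P : Subgroup G).map G.subtype ∧
      A ≤ normalizer (((P : Subgroup G).map G.subtype : Subgroup X) : Set X) := by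
  let S : Set (Subgroup X) := {V | U ≤ V ∧ V ≤ G ∧ IsPGroup p V ∧ A ≤ normalizer (V : Set X)}
  obtain ⟨V, hV⟩ := (Set.toFinite S).exists_maximal ⟨U, le_rfl, hUG, hU, hUA⟩
  obtain ⟨hUV, hVG, hVp, hVA⟩ := hV.prop
  let N : Subgroup X := G ⊓ normalizer (V : Set X)
  have hVN : V ≤ N := le_inf hVG le_normalizer
  have hNA : A ≤ normalizer (N : Set X) := fun a ha => by
    rw [mem_normalizer_iff_map_conj]
    refine le_antisymm ?_ ?_
    · rintro _ ⟨x, hx, rfl⟩
      exact mem_inf.mpr ⟨(mem_normalizer_iff.mp (hA ha) x).mp (mem_inf.mp hx).1,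
        mul_mem (mul_mem (hVA ha) (mem_inf.mp hx).2) (inv_mem (hVA ha))⟩
    · intro x hx
      rw [mem_map_conj]
      exact mem_inf.mpr ⟨(mem_normalizer_iff''.mp (hA ha) x).mp (mem_inf.mp hx).1,
        mul_mem (mul_mem (inv_mem (hVA ha)) (mem_inf.mp hx).2) (hVA ha)⟩
  obtain ⟨W, hW⟩ := exists_invariant_sylow hNA (hcop.coprime_dvd_right (card_dvd_of_le inf_le_left))
    (hs.imp_right fun h => isSolvable_of_le h (inf_le_left : N ≤ G)) p
  have : (V.subgroupOf N).Normal := normal_subgroupOf_of_le_normalizer inf_le_right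
  have hVW : V.subgroupOf N ≤ (W : Subgroup N) := by
    have : ((V.subgroupOf N)).Normal := normal_subgroupOf_of_le_normalizer inf_le_right
    exact le_sup_right.trans (W.is_maximal'
      (show IsPGroup p ((W : Subgroup N) ⊔ V.subgroupOf N : Subgroup N) from
        W.isPGroup'.to_sup_of_normal_right (K := V.subgroupOf N)
          (hVp.comap_of_injective N.subtype N.subtype_injective))
      le_sup_left).le
  have hVW' : V ≤ (W : Subgroup N).map N.subtype := by
    rw [← inf_eq_left.mpr hVN, ← subgroupOf_map_subtype]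
    exact map_mono hVW
  have hmax : (W : Subgroup N).map N.subtype = V := (hV.eq_of_ge
    ⟨hUV.trans hVW', (map_subtype_le _).trans inf_le_left, W.isPGroup'.map _, hW⟩ hVW')
  obtain ⟨P, hP⟩ := (hVp.comap_of_injective G.subtype G.subtype_injective).exists_le_sylow
  refine ⟨P, ?_, ?_⟩
  all_goals
    have hPV : (P : Subgroup G).map G.subtype = V := by
      by_contra hne
      let P' : Subgroup X := (P : Subgroup G).map G.subtype
      have hVP : V ≤ P' := by
        rw [← inf_eq_left.mpr hVG, ← subgroupOf_map_subtype]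
        exact map_mono hP
      have hP' : IsPGroup p P' := P.isPGroup'.map _
      have : Group.IsNilpotent P' := hP'.isNilpotent
      have hlt : V.subgroupOf P' < ⊤ := lt_top_iff_ne_top.mpr fun h => hne
        (le_antisymm (subgroupOf_eq_top.mp h) hVP)
      have h2 := normalizerCondition_of_isNilpotent (G := P') (V.subgroupOf P') hlt
      obtain ⟨y, hy1, hy2⟩ := SetLike.exists_of_lt h2
      rw [← subgroupOf_normalizer_eq hVP, mem_subgroupOf] at hy1
      rw [mem_subgroupOf] at hy2
      have hyN : (y : X) ∈ N := mem_inf.mpr ⟨map_subtype_le _ y.2, hy1⟩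
      let T : Subgroup X := P' ⊓ N
      have hWT : (W : Subgroup N) ≤ T.subgroupOf N := by
        intro x hx
        refine mem_inf.mpr ⟨hVP ?_, x.2⟩
        rw [← hmax]
        exact ⟨x, hx, rfl⟩
      have hTW : T.subgroupOf N = (W : Subgroup N) :=
        W.is_maximal' ((hP'.to_le inf_le_left).comap_of_injective N.subtype N.subtype_injective) hWT
      apply hy2
      rw [← hmax]
      exact ⟨⟨y, hyN⟩, hTW ▸ mem_inf.mpr ⟨y.2, hyN⟩, rfl⟩
  · rw [hPV]; exact hUV
  · rw [hPV]; exact hVA

/-- `C_{HK}(A) = C_H(A) C_K(A)` for `A`-invariant `H`, `K`. -/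
theorem exists_mul_centralizer {A G H K : Subgroup X} (hA : A ≤ normalizer (G : Set X))
    (hcop : (Nat.card A).Coprime (Nat.card G)) (hs : Group.IsSolvable A ∨ Group.IsSolvable G)
    (hH : H ≤ G) (hK : K ≤ G) (hHA : A ≤ normalizer (H : Set X))
    (hKA : A ≤ normalizer (K : Set X)) {h k : X} (hh : h ∈ H) (hk : k ∈ K)
    (hc : h * k ∈ centralizer (A : Set X)) :
    ∃ h' ∈ H ⊓ centralizer (A : Set X), ∃ k' ∈ K ⊓ centralizer (A : Set X), h' * k' = h * k := by
  let N : Subgroup X := H ⊓ K
  have hAN : A ≤ normalizer (N : Set X) := by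
    intro a ha
    rw [mem_normalizer_iff]
    intro x
    exact and_congr (mem_normalizer_iff.mp (hHA ha) x) (mem_normalizer_iff.mp (hKA ha) x)
  have hmem : ∀ a ∈ A, h⁻¹ * a * h * a⁻¹ ∈ N := by
    intro a ha
    refine mem_inf.mpr ⟨?_, ?_⟩
    · rw [show h⁻¹ * a * h * a⁻¹ = h⁻¹ * (a * h * a⁻¹) by group]
      exact mul_mem (inv_mem hh) ((mem_normalizer_iff.mp (hHA ha) h).mp hh)
    · have h1 : a * (h * k) = h * k * a := mem_centralizer_iff.mp hc a ha
      rw [show h⁻¹ * a * h * a⁻¹ = h⁻¹ * (a * (h * k)) * k⁻¹ * a⁻¹ by group, h1,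
        show h⁻¹ * (h * k * a) * k⁻¹ * a⁻¹ = k * (a * k⁻¹ * a⁻¹) by group]
      exact mul_mem hk ((mem_normalizer_iff.mp (hKA ha) _).mp (inv_mem hk))
  obtain ⟨n, hn, hcn⟩ := exists_mem_centralizer_of_coset hA hAN
    ((inf_le_left : N ≤ H).trans hH) hcop
    (hs.imp_right fun hG => isSolvable_of_le hG ((inf_le_left : N ≤ H).trans hH)) (hH hh) hmem
  refine ⟨h * n, mem_inf.mpr ⟨mul_mem hh (mem_inf.mp hn).1, hcn⟩, n⁻¹ * k,
    mem_inf.mpr ⟨mul_mem (inv_mem (mem_inf.mp hn).2) hk, ?_⟩, by group⟩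
  rw [show n⁻¹ * k = (h * n)⁻¹ * (h * k) by group]
  exact mul_mem (inv_mem hcn) hc

end CfsgLib.Coprime
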