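import Mathlib.GroupTheory.SchurZassenhaus
import Mathlib.GroupTheory.Solvable
import Mathlib.GroupTheory.SpecificGroups.Cyclic
import Mathlib.GroupTheory.Sylow
import Mathlib.Algebra.Group.Subgroup.Pointwise
set_option autoImplicit false

/-!
Elementary lemmas on subgroups for the coprime action library.
-/

namespace CfsgLib.Coprime

open Subgroup

variable {X : Type*} [Group X]

theorem inf_eq_bot_of_coprime {A N : Subgroup X} (h : (Nat.card A).Coprime (Nat.card N)) :
    A ⊓ N = ⊥ :=
  Subgroup.card_eq_one.mp (Nat.eq_one_of_dvd_coprimes h (Subgroup.card_dvd_of_le inf_le_left)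
    (Subgroup.card_dvd_of_le inf_le_right))

theorem mem_sup_of_le_normalizer {A N : Subgroup X} (hA : A ≤ normalizer (N : Set X)) {x : X} :
    x ∈ N ⊔ A ↔ ∃ n ∈ N, ∃ a ∈ A, n * a = x := by
  constructor
  · intro hx
    have : x ∈ ((N ⊔ A : Subgroup X) : Set X) := hx
    rw [coe_mul_of_right_le_normalizer_left N A hA] at this
    exact Set.mem_mul.mp this
  · rintro ⟨n, hn, a, ha, rfl⟩
    exact mul_mem (mem_sup_left hn) (mem_sup_right ha)

theorem mem_sup_of_le_normalizer' {A N : Subgroup X} (hA : A ≤ normalizer (N : Set X)) {x : X} :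
    x ∈ N ⊔ A ↔ ∃ a ∈ A, ∃ n ∈ N, a * n = x := by
  constructor
  · intro hx
    obtain ⟨n, hn, a, ha, h⟩ := (mem_sup_of_le_normalizer hA).mp (inv_mem hx)
    exact ⟨a⁻¹, inv_mem ha, n⁻¹, inv_mem hn, by rw [← inv_inv x, ← h, mul_inv_rev]⟩
  · rintro ⟨a, ha, n, hn, rfl⟩
    exact mul_mem (mem_sup_right ha) (mem_sup_left hn)

theorem card_sup_of_inf_eq_bot {A N : Subgroup X} (hA : A ≤ normalizer (N : Set X))
    (h : A ⊓ N = ⊥) : Nat.card ↥(N ⊔ A) = Nat.card N * Nat.card A := by
  have e : Function.Bijective (fun q : N × A => (⟨q.1 * q.2, mul_mem (mem_sup_left q.1.2)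
      (mem_sup_right q.2.2)⟩ : ↥(N ⊔ A))) := by
    refine ⟨?_, ?_⟩
    · rintro ⟨n, a⟩ ⟨n', a'⟩ hq
      have hq' : (n : X) * a = n' * a' := congrArg Subtype.val hq
      have h1 : (a : X) * (a' : X)⁻¹ = (n : X)⁻¹ * n' := by
        rw [eq_inv_mul_iff_mul_eq, ← mul_assoc, hq', mul_inv_cancel_right]
      have h2 : (a : X) * (a' : X)⁻¹ ∈ A ⊓ N :=
        mem_inf.mpr ⟨mul_mem a.2 (inv_mem a'.2), by rw [h1]; exact mul_mem (inv_mem n.2) n'.2⟩
      rw [h, mem_bot] at h2
      have ha : (a : X) = a' := eq_of_mul_inv_eq_one h2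
      rw [ha, mul_left_inj] at hq'
      exact Prod.ext (Subtype.ext hq') (Subtype.ext ha)
    · rintro ⟨x, hx⟩
      obtain ⟨n, hn, a, ha, rfl⟩ := (mem_sup_of_le_normalizer hA).mp hx
      exact ⟨(⟨n, hn⟩, ⟨a, ha⟩), rfl⟩
  rw [← Nat.card_eq_of_bijective _ e, Nat.card_prod]

theorem card_eq_of_sup_eq [Finite X] {A B N : Subgroup X} (hA : A ≤ normalizer (N : Set X))
    (hB : B ≤ normalizer (N : Set X)) (hAN : A ⊓ N = ⊥) (hBN : B ⊓ N = ⊥)
    (h : N ⊔ A = N ⊔ B) : Nat.card A = Nat.card B := by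
  have h1 := card_sup_of_inf_eq_bot hA hAN
  rw [h, card_sup_of_inf_eq_bot hB hBN] at h1
  exact (Nat.eq_of_mul_eq_mul_left Nat.card_pos h1).symm

theorem map_conj_map {Y : Type*} [Group Y] (f : X →* Y) (g : X) (A : Subgroup X) :
    (A.map (MulAut.conj g).toMonoidHom).map f
      = (A.map f).map (MulAut.conj (f g)).toMonoidHom := by
  rw [Subgroup.map_map, Subgroup.map_map]
  congr 1
  ext x
  simp

theorem map_conj_conj (g h : X) (A : Subgroup X) :
    (A.map (MulAut.conj h).toMonoidHom).map (MulAut.conj g).toMonoidHom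
      = A.map (MulAut.conj (g * h)).toMonoidHom := by
  rw [Subgroup.map_map]
  congr 1
  ext x
  simp [mul_assoc]

theorem mem_map_conj {g : X} {A : Subgroup X} {x : X} :
    x ∈ A.map (MulAut.conj g).toMonoidHom ↔ g⁻¹ * x * g ∈ A := by
  show x ∈ A.map (MulAut.conj g : X ≃* X).toMonoidHom ↔ _
  rw [Subgroup.mem_map_equiv]
  simp

theorem card_map_conj (g : X) (A : Subgroup X) :
    Nat.card (A.map (MulAut.conj g).toMonoidHom) = Nat.card A :=
  card_map_of_injective (MulAut.conj g).injective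

theorem map_conj_of_mem_normalizer {g : X} {N : Subgroup X}
    (hg : g ∈ normalizer (N : Set X)) : N.map (MulAut.conj g).toMonoidHom = N := by
  ext x
  rw [mem_map_conj]
  exact (mem_normalizer_iff''.mp hg x).symm

theorem map_conj_le_normalizer {g : X} {A N : Subgroup X} (hA : A ≤ normalizer (N : Set X))
    (hg : g ∈ normalizer (N : Set X)) :
    A.map (MulAut.conj g).toMonoidHom ≤ normalizer (N : Set X) := by
  rintro _ ⟨a, ha, rfl⟩
  exact mul_mem (mul_mem hg (hA ha)) (inv_mem hg)

theorem sup_map_conj_eq {N A : Subgroup X} (hA : A ≤ normalizer (N : Set X)) {g : X}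
    (hg : g ∈ N ⊔ A) : N ⊔ A.map (MulAut.conj g).toMonoidHom = N ⊔ A := by
  have hgN : g ∈ normalizer (N : Set X) := sup_le le_normalizer hA hg
  have h1 : (N ⊔ A).map (MulAut.conj g).toMonoidHom = N ⊔ A :=
    map_conj_of_mem_normalizer (le_normalizer hg)
  rw [Subgroup.map_sup, map_conj_of_mem_normalizer hgN] at h1
  exact h1

theorem isSolvable_of_le {A B : Subgroup X} (hB : Group.IsSolvable B) (h : A ≤ B) :
    Group.IsSolvable A :=
  Group.isSolvable_of_isSolvable_injective (f := inclusion h) (inclusion_injective h)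

theorem isSolvable_map {Y : Type*} [Group Y] (f : X →* Y) {A : Subgroup X}
    (hA : Group.IsSolvable A) : Group.IsSolvable (A.map f) :=
  Group.isSolvable_of_surjective (f := f.subgroupMap A) (f.subgroupMap_surjective A)

theorem isSolvable_subgroupOf {A K : Subgroup X} (h : A ≤ K) (hA : Group.IsSolvable A) :
    Group.IsSolvable (A.subgroupOf K) :=
  Group.isSolvable_of_surjective (f := (subgroupOfEquivOfLe h).symm.toMonoidHom)
    (subgroupOfEquivOfLe h).symm.surjective

theorem card_subgroupOf {A K : Subgroup X} (h : A ≤ K) :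
    Nat.card (A.subgroupOf K) = Nat.card A :=
  Nat.card_congr (subgroupOfEquivOfLe h).toEquiv

theorem normal_subgroupOf_of_le_normalizer {N K : Subgroup X}
    (hK : K ≤ normalizer (N : Set X)) : (N.subgroupOf K).Normal where
  conj_mem n hn k := by
    rw [mem_subgroupOf] at hn ⊢
    exact (mem_normalizer_iff.mp (hK k.2) n).mp hn

/-- A nontrivial finite solvable group has a normal subgroup of prime index. -/
theorem exists_normal_prime_index (A : Type*) [Group A] [Finite A] [Nontrivial A]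
    [hs : Group.IsSolvable A] : ∃ M : Subgroup A, M.Normal ∧ M.index.Prime := by
  have hc : commutator A ≠ ⊤ := (Group.IsSolvable.commutator_lt_top_of_nontrivial A).ne
  obtain ⟨M, hM, hle⟩ := (eq_top_or_exists_le_coatom (commutator A)).resolve_left hc
  have hn : M.Normal := Normal.of_commutator_le (h := hle)
  refine ⟨M, hn, ?_⟩
  have : IsMulCommutative (A ⧸ M) :=
    (Subgroup.Normal.quotient_commutative_iff_commutator_le).mpr hle
  have : IsSimpleGroup (A ⧸ M) := by
    have : Nontrivial (A ⧸ M) := QuotientGroup.nontrivial_iff.mpr hM.1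
    refine ⟨fun H _ => ?_⟩
    have h1 : M ≤ H.comap (QuotientGroup.mk' M) := by
      conv_lhs => rw [← QuotientGroup.ker_mk' M]
      exact MonoidHom.ker_le_comap _ H
    rcases (IsCoatom.le_iff hM).mp h1 with h | h
    · exact Or.inr (comap_injective (QuotientGroup.mk'_surjective M) (by rw [h, comap_top]))
    · exact Or.inl (comap_injective (QuotientGroup.mk'_surjective M)
        (by rw [h, MonoidHom.comap_bot, QuotientGroup.ker_mk']))
  rw [index_eq_card]
  letI : CommGroup (A ⧸ M) := { (inferInstance : Group (A ⧸ M)) with mul_comm := mul_comm' }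
  exact IsSimpleGroup.prime_card

end CfsgLib.Coprime
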