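import Cfsg.Agent.Lib.Coprime.Sylow
import Cfsg.Agent.Lib.Solvable.Hall
import Cfsg.Agent.Lib.Solvable.MinNormal
import Cfsg.Prelude.Def_OddOrderLocal
import Mathlib.Tactic

/-! Hall subgroups of a solvable group under a coprime action. -/

set_option autoImplicit false

open Subgroup

namespace CfsgLib.Coprime

universe u

/-- Splitting a positive number into a `π`-part and a `π'`-part. -/
theorem exists_pi_split (π : Set ℕ) {n : ℕ} (hn : n ≠ 0) :
    ∃ m l, n = m * l ∧ m.Coprime l ∧ (∀ p : ℕ, p.Prime → p ∣ m → p ∈ π) ∧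
      (∀ p : ℕ, p.Prime → p ∈ π → ¬ p ∣ l) := by
  classical
  let S : Finset ℕ := n.divisors.filter fun m => ∀ p : ℕ, p.Prime → p ∣ m → p ∈ π
  have hS : S.Nonempty := ⟨1, Finset.mem_filter.mpr ⟨Nat.one_mem_divisors.mpr hn, fun p hp h =>
    absurd (Nat.dvd_one.mp h) hp.ne_one⟩⟩
  obtain ⟨m, hm, hmax⟩ := S.exists_max_image id hS
  simp only [S, Finset.mem_filter, Nat.mem_divisors] at hm
  obtain ⟨⟨⟨l, rfl⟩, -⟩, hmπ⟩ := hm
  have hl : ∀ p : ℕ, p.Prime → p ∈ π → ¬ p ∣ l := by
    intro p hp hpπ hpl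
    have hmem : m * p ∈ S := by
      refine Finset.mem_filter.mpr ⟨Nat.mem_divisors.mpr ⟨Nat.mul_dvd_mul_left m hpl, hn⟩, ?_⟩
      intro q hq hqd
      rcases hq.dvd_mul.mp hqd with h | h
      · exact hmπ q hq h
      · exact ((Nat.prime_dvd_prime_iff_eq hq hp).mp h) ▸ hpπ
    have h := hmax _ hmem
    simp only [id] at h
    nlinarith [hp.two_le, Nat.pos_of_ne_zero (left_ne_zero_of_mul hn)]
  exact ⟨m, l, rfl, Nat.coprime_of_dvd fun p hp h1 h2 => hl p hp (hmπ p hp h1) h2, hmπ, hl⟩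

/-- A `π`-number is coprime to a `π'`-number. -/
theorem coprime_of_pi {π : Set ℕ} {m l : ℕ} (hm : ∀ p : ℕ, p.Prime → p ∣ m → p ∈ π)
    (hl : ∀ p : ℕ, p.Prime → p ∈ π → ¬ p ∣ l) : m.Coprime l :=
  Nat.coprime_of_dvd fun p hp h1 h2 => hl p hp (hm p hp h1) h2

variable {X : Type u} [Group X]

theorem card_mul_relIndex {H G : Subgroup X} (h : H ≤ G) :
    Nat.card H * H.relIndex G = Nat.card G := by
  rw [← card_subgroupOf h]
  exact (H.subgroupOf G).card_mul_index

theorem card_eq_of_isPiHallOf [Finite X] {π : Set ℕ} {H₁ H₂ G : Subgroup X}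
    (h₁ : Cfsg.IsPiHallOf π H₁ G) (h₂ : Cfsg.IsPiHallOf π H₂ G) :
    Nat.card H₁ = Nat.card H₂ := by
  have e : Nat.card H₁ * H₁.relIndex G = Nat.card H₂ * H₂.relIndex G :=
    (card_mul_relIndex h₁.1).trans (card_mul_relIndex h₂.1).symm
  refine Nat.dvd_antisymm ?_ ?_
  · exact (coprime_of_pi h₁.2.1 h₂.2.2).dvd_of_dvd_mul_right ⟨_, e.symm⟩
  · exact (coprime_of_pi h₂.2.1 h₁.2.2).dvd_of_dvd_mul_right ⟨_, e⟩

theorem exists_conj_of_isPiHallOf [Finite X] {π : Set ℕ} {H₁ H₂ G : Subgroup X}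
    (hG : Group.IsSolvable G) (h₁ : Cfsg.IsPiHallOf π H₁ G) (h₂ : Cfsg.IsPiHallOf π H₂ G) :
    ∃ g ∈ G, H₁.map (MulAut.conj g).toMonoidHom = H₂ := by
  have hcG : Nat.card G = Nat.card H₁ * H₁.relIndex G := (card_mul_relIndex h₁.1).symm
  obtain ⟨g, hg⟩ := CfsgLib.Solvable.hall_conj hcG (coprime_of_pi h₁.2.1 h₁.2.2)
    (card_subgroupOf h₁.1)
    (K := H₂.subgroupOf G) ((card_subgroupOf h₂.1).trans (card_eq_of_isPiHallOf h₂ h₁))
  refine ⟨g, g.2, ?_⟩
  have h := congrArg (fun K : Subgroup G => K.map G.subtype) hg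
  simp only [Subgroup.pointwise_smul_def] at h
  rw [Subgroup.map_subgroupOf_eq_of_le h₂.1] at h
  rw [← h]
  have : (H₁.subgroupOf G).map G.subtype = H₁ := Subgroup.map_subgroupOf_eq_of_le h₁.1
  conv_lhs => rw [← this]
  exact (map_conj_subtype g _).symm

theorem isPiHallOf_map_conj {π : Set ℕ} {H G : Subgroup X} (h : Cfsg.IsPiHallOf π H G) {a : X}
    (ha : a ∈ normalizer (G : Set X)) :
    Cfsg.IsPiHallOf π (H.map (MulAut.conj a).toMonoidHom) G := by
  refine ⟨?_, ?_, ?_⟩
  · rw [← map_conj_of_mem_normalizer ha]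
    exact Subgroup.map_mono h.1
  · rw [card_map_conj]; exact h.2.1
  · have : (H.map (MulAut.conj a).toMonoidHom).relIndex G = H.relIndex G := by
      conv_lhs => rw [← map_conj_of_mem_normalizer ha]
      exact Subgroup.relIndex_map_map_of_injective _ _ (MulAut.conj a).injective
    rw [this]; exact h.2.2

/-- A coprime solvable group has an invariant Hall `π`-subgroup. -/
theorem exists_invariant_hall [Finite X] {A G : Subgroup X} (hA : A ≤ normalizer (G : Set X))
    (hcop : (Nat.card A).Coprime (Nat.card G)) (hG : Group.IsSolvable G) (π : Set ℕ) :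
    ∃ H : Subgroup X, Cfsg.IsPiHallOf π H G ∧ A ≤ normalizer (H : Set X) := by
  obtain ⟨m, l, hml, hcml, hm, hl⟩ := exists_pi_split π (Nat.card_pos (α := G)).ne'
  obtain ⟨H, hH⟩ := CfsgLib.Solvable.exists_hall hml hcml
  have hle : H.map G.subtype ≤ G := Subgroup.map_subtype_le H
  have hcard : Nat.card (H.map G.subtype) = m :=
    (Subgroup.card_map_of_injective G.subtype_injective).trans hH
  have hm0 : m ≠ 0 := fun h => by
    rw [h, zero_mul] at hml
    exact (Nat.card_pos (α := G)).ne' hml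
  have hrel : (H.map G.subtype).relIndex G = l := by
    have := card_mul_relIndex hle
    rw [hcard, hml] at this
    exact Nat.eq_of_mul_eq_mul_left (Nat.pos_of_ne_zero hm0) this
  have hHall : Cfsg.IsPiHallOf π (H.map G.subtype) G := ⟨hle, by rwa [hcard], by rwa [hrel]⟩
  obtain ⟨g, hg, hAn⟩ := exists_invariant_conjugate hA hcop (Or.inr hG) (H := H.map G.subtype)
    (fun a ha => by
      obtain ⟨g, hg, h⟩ := exists_conj_of_isPiHallOf hG hHall (isPiHallOf_map_conj hHall (hA ha))
      exact ⟨g, hg, h.symm⟩)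
  exact ⟨_, isPiHallOf_map_conj hHall (Subgroup.le_normalizer hg), hAn⟩

theorem exists_conj_invariant_hall [Finite X] {A G H₁ H₂ : Subgroup X}
    (hA : A ≤ normalizer (G : Set X)) (hcop : (Nat.card A).Coprime (Nat.card G))
    (hG : Group.IsSolvable G) {π : Set ℕ} (h₁ : Cfsg.IsPiHallOf π H₁ G)
    (hA₁ : A ≤ normalizer (H₁ : Set X)) (h₂ : Cfsg.IsPiHallOf π H₂ G)
    (hA₂ : A ≤ normalizer (H₂ : Set X)) :
    ∃ c ∈ G ⊓ centralizer (A : Set X), H₂ = H₁.map (MulAut.conj c).toMonoidHom := by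
  obtain ⟨c, hc, h⟩ := exists_conj_centralizer_of_invariant hA hcop (Or.inr hG) hA₁ hA₂
    (exists_conj_of_isPiHallOf hG h₁ h₂)
  exact ⟨c, hc, h.symm⟩

/-- A nontrivial solvable group normalised by `A` has a nontrivial normal invariant `p`-subgroup. -/
theorem exists_invariant_normal_pgroup [Finite X] {A G : Subgroup X}
    (hA : A ≤ normalizer (G : Set X)) (hG : Group.IsSolvable G) (hne : G ≠ ⊥) :
    ∃ (p : ℕ) (M : Subgroup X), p.Prime ∧ M ≤ G ∧ M ≠ ⊥ ∧ IsPGroup p M ∧
      A ≤ normalizer (M : Set X) ∧ G ≤ normalizer (M : Set X) := by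
  let N := normalizer (G : Set X)
  have : (G.subgroupOf N).Normal := normal_subgroupOf_of_le_normalizer le_rfl
  have hne' : G.subgroupOf N ≠ ⊥ := fun h => hne (by
    rw [Subgroup.subgroupOf_eq_bot, disjoint_iff, inf_eq_left.mpr le_normalizer] at h
    exact h)
  obtain ⟨M, hMn, hM0, hMle, hmin⟩ := CfsgLib.Solvable.exists_minimal_normal_le this hne'
  have : M.Normal := hMn
  have : Group.IsSolvable M :=
    isSolvable_of_le (isSolvable_subgroupOf le_normalizer hG) hMle
  obtain ⟨p, hp, hpM, -, -⟩ := CfsgLib.Solvable.exists_isPGroup_of_minimal_normal hM0 hmin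
  have hN : N ≤ normalizer ((M.map N.subtype : Subgroup X) : Set X) := by
    intro x hx
    rw [mem_normalizer_iff_map_conj]
    have h := map_conj_subtype (⟨x, hx⟩ : N) M
    rw [← h, map_conj_of_mem_normalizer (show (⟨x, hx⟩ : N) ∈ normalizer (M : Set N) by
      rw [Subgroup.normalizer_eq_top]; exact Subgroup.mem_top _)]
  refine ⟨p, M.map N.subtype, hp, ?_, ?_, hpM.map _, hA.trans hN, le_normalizer.trans hN⟩
  · rintro _ ⟨x, hx, rfl⟩
    exact hMle hx
  · rwa [Ne, Subgroup.map_eq_bot_iff_of_injective _ N.subtype_injective]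

theorem isPiHallOf_trans {π : Set ℕ} {H K G : Subgroup X} (hKG : K ≤ G)
    (hH : Cfsg.IsPiHallOf π H K) (hK : ∀ p : ℕ, p.Prime → p ∈ π → ¬ p ∣ K.relIndex G) :
    Cfsg.IsPiHallOf π H G := by
  refine ⟨hH.1.trans hKG, hH.2.1, fun p hp hpπ h => ?_⟩
  rw [← Subgroup.relIndex_mul_relIndex H K G hH.1 hKG] at h
  rcases hp.dvd_mul.mp h with h | h
  · exact hH.2.2 p hp hpπ h
  · exact hK p hp hpπ h

theorem card_map_mul_card_ker {Y : Type*} [Group Y] (f : X →* Y) {S : Subgroup X}
    (h : f.ker ≤ S) : Nat.card (S.map f) * Nat.card f.ker = Nat.card S := by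
  have h1 := ((f.comp S.subtype).ker).card_mul_index
  rw [Subgroup.index_ker, MonoidHom.range_comp, Subgroup.range_subtype, ← MonoidHom.comap_ker,
    show Nat.card (f.ker.comap S.subtype) = Nat.card f.ker from card_subgroupOf h] at h1
  rw [mul_comm]
  exact h1

theorem exists_invariant_hall_ge_aux (π : Set ℕ) : ∀ (k : ℕ) {X : Type u} [Group X] [Finite X]
    (A G U : Subgroup X), Nat.card G ≤ k → A ≤ normalizer (G : Set X) →
      (Nat.card A).Coprime (Nat.card G) → Group.IsSolvable G → U ≤ G →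
      A ≤ normalizer (U : Set X) → (∀ p : ℕ, p.Prime → p ∣ Nat.card U → p ∈ π) →
      ∃ H : Subgroup X, Cfsg.IsPiHallOf π H G ∧ A ≤ normalizer (H : Set X) ∧ U ≤ H := by
  intro k
  induction k with
  | zero =>
    intro X _ _ A G U hk
    exact absurd hk (by have := Nat.card_pos (α := G); omega)
  | succ k ih =>
    intro X _ _ A G U hk hA hcop hG hUG hUA hU
    by_cases hne : G = ⊥
    · subst hne
      refine ⟨⊥, ⟨le_rfl, fun p hp h => ?_, fun p hp _ h => ?_⟩, ?_, hUG⟩
      · rw [Subgroup.card_bot, Nat.dvd_one] at h; exact absurd h hp.ne_one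
      · rw [Subgroup.relIndex_self, Nat.dvd_one] at h; exact absurd h hp.ne_one
      · exact hA
    obtain ⟨p, M, hp, hMG, hM0, hpM, hAM, hGM⟩ := exists_invariant_normal_pgroup hA hG hne
    have : Fact p.Prime := ⟨hp⟩
    let N := normalizer (M : Set X)
    let M' : Subgroup N := M.subgroupOf N
    have : M'.Normal := normal_subgroupOf_of_le_normalizer le_rfl
    let f := QuotientGroup.mk' M'
    let G' := (G.subgroupOf N).map f
    let A' := (A.subgroupOf N).map f
    let U' := (U.subgroupOf N).map f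
    have hM'G : M' ≤ G.subgroupOf N := fun x hx => hMG hx
    have hnorm : ∀ S : Subgroup X, S ≤ N → A ≤ normalizer (S : Set X) →
        A' ≤ normalizer (((S.subgroupOf N).map f : Subgroup _) : Set (N ⧸ M')) := by
      rintro S hS hAS _ ⟨a, ha, rfl⟩
      rw [mem_normalizer_iff_map_conj, ← map_conj_map]
      congr 1
      apply Subgroup.map_injective N.subtype_injective
      rw [map_conj_map N.subtype a, Subgroup.map_subgroupOf_eq_of_le hS]
      exact mem_normalizer_iff_map_conj.mp (hAS ha)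
    have hcardG : Nat.card G' * Nat.card M = Nat.card G := by
      rw [← card_subgroupOf (show G ≤ N from hGM), ← card_subgroupOf (show M ≤ N from le_normalizer)]
      have := card_map_mul_card_ker f (S := G.subgroupOf N) (by rw [QuotientGroup.ker_mk']; exact hM'G)
      rwa [QuotientGroup.ker_mk'] at this
    have hMcard : 1 < Nat.card M := (Subgroup.one_lt_card_iff_ne_bot M).mpr hM0
    have hsmall : Nat.card G' ≤ k := by
      have : 0 < Nat.card G' := Nat.card_pos
      nlinarith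
    have hcop' : (Nat.card A').Coprime (Nat.card G') := by
      refine Nat.Coprime.of_dvd ?_ ⟨Nat.card M, hcardG.symm⟩ hcop
      rw [← card_subgroupOf (show A ≤ N from hAM)]
      exact Subgroup.card_map_dvd _ f
    obtain ⟨K', hK', hAK', hUK'⟩ := ih A' G' U' hsmall (hnorm G hGM hA) hcop'
      (isSolvable_map f (isSolvable_subgroupOf hGM hG)) (Subgroup.map_mono (fun x hx => hUG hx))
      (hnorm U (hUG.trans hGM) hUA) (by
        intro q hq hqd
        refine hU q hq (hqd.trans ?_)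
        rw [← card_subgroupOf (hUG.trans hGM : U ≤ N)]
        exact Subgroup.card_map_dvd _ f)
    let K : Subgroup X := (K'.comap f).map N.subtype
    have hKG : K ≤ G := by
      rintro _ ⟨x, hx, rfl⟩
      have h : x ∈ G'.comap f := hK'.1 hx
      rw [show G'.comap f = G.subgroupOf N from Subgroup.comap_map_eq_self (by
        rw [QuotientGroup.ker_mk']; exact hM'G)] at h
      exact h
    have hUK : U ≤ K := fun x hx =>
      ⟨⟨x, hGM (hUG hx)⟩, hUK' (Subgroup.mem_map_of_mem f hx), rfl⟩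
    have hMK : M ≤ K := fun x hx => ⟨⟨x, le_normalizer hx⟩, by
      show f ⟨x, le_normalizer hx⟩ ∈ K'
      rw [show f ⟨x, le_normalizer hx⟩ = 1 from (QuotientGroup.eq_one_iff _).mpr hx]
      exact K'.one_mem, rfl⟩
    have hAK : A ≤ normalizer (K : Set X) := by
      intro a ha
      rw [mem_normalizer_iff_map_conj]
      have h := map_conj_subtype (⟨a, hAM ha⟩ : N) (K'.comap f)
      rw [← h]
      congr 1
      have h2 := mem_normalizer_iff_map_conj.mp (hAK' (Subgroup.mem_map_of_mem f (x := ⟨a, hAM ha⟩) ha))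
      apply Subgroup.comap_injective (f := (MulAut.conj (⟨a, hAM ha⟩ : N)).toMonoidHom) (MulAut.conj _).surjective
      rw [Subgroup.comap_map_eq_self_of_injective (MulAut.conj _).injective, Subgroup.comap_comap]
      conv_rhs => rw [← h2]
      ext x
      simp [Subgroup.mem_map, mul_assoc]
    have hcardK : Nat.card K = Nat.card K' * Nat.card M := by
      rw [Subgroup.card_map_of_injective N.subtype_injective,
        ← card_subgroupOf (show M ≤ N from le_normalizer)]
      have := card_map_mul_card_ker f (S := K'.comap f) (Subgroup.ker_le_comap f K')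
      rw [Subgroup.map_comap_eq_self_of_surjective (QuotientGroup.mk'_surjective M'),
        QuotientGroup.ker_mk'] at this
      exact this.symm
    have hrelK : K.relIndex G = K'.relIndex G' := by
      have h1 := card_mul_relIndex hKG
      have h2 := card_mul_relIndex hK'.1
      rw [hcardK, ← hcardG, ← h2] at h1
      refine Nat.eq_of_mul_eq_mul_left (Nat.mul_pos Nat.card_pos Nat.card_pos :
        0 < Nat.card K' * Nat.card M) ?_
      rw [h1]; ring
    have hKidx : ∀ q : ℕ, q.Prime → q ∈ π → ¬ q ∣ K.relIndex G := hrelK ▸ hK'.2.2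
    obtain ⟨e, he⟩ := IsPGroup.iff_card.mp hpM
    by_cases hpπ : p ∈ π
    · refine ⟨K, ⟨hKG, fun q hq h => ?_, hKidx⟩, hAK, hUK⟩
      rw [hcardK, he] at h
      rcases hq.dvd_mul.mp h with h | h
      · exact hK'.2.1 q hq h
      · rwa [(Nat.prime_dvd_prime_iff_eq hq hp).mp (hq.dvd_of_dvd_pow h)]
    by_cases hKtop : K = G
    swap
    · have hlt : Nat.card K < Nat.card G :=
        Set.Finite.card_lt_card (Set.toFinite _)
          (SetLike.coe_ssubset_coe.mpr (lt_of_le_of_ne hKG hKtop))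
      obtain ⟨H, hH, hAH, hUH⟩ := ih A K U (by omega) hAK
        (Nat.Coprime.of_dvd dvd_rfl (Subgroup.card_dvd_of_le hKG) hcop) (isSolvable_of_le hG hKG)
        hUK hUA hU
      exact ⟨H, isPiHallOf_trans hKG hH hKidx, hAH, hUH⟩
    -- now `G` is the product of `M` and a Hall `π`-subgroup
    have hcardG2 : Nat.card G = Nat.card K' * Nat.card M := hKtop ▸ hcardK
    obtain ⟨H, hH, hAH⟩ := exists_invariant_hall hA hcop hG π
    have hM' : ∀ q : ℕ, q.Prime → q ∈ π → ¬ q ∣ Nat.card M := by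
      intro q hq hqπ h
      rw [he] at h
      exact hpπ ((Nat.prime_dvd_prime_iff_eq hq hp).mp (hq.dvd_of_dvd_pow h) ▸ hqπ)
    have hHM : H ⊓ M = ⊥ := inf_eq_bot_of_coprime (coprime_of_pi hH.2.1 hM')
    have hUM : U ⊓ M = ⊥ := inf_eq_bot_of_coprime (coprime_of_pi hU hM')
    have hHN : H ≤ normalizer (M : Set X) := hH.1.trans hGM
    have hUN : U ≤ normalizer (M : Set X) := hUG.trans hGM
    have hMH : M ⊔ H = G := by
      refine SetLike.coe_injective ((Set.toFinite _).eq_of_subset_of_card_le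
        (SetLike.coe_subset_coe.mpr (sup_le hMG hH.1)) ?_)
      show Nat.card G ≤ Nat.card ↥(M ⊔ H)
      rw [card_sup_of_inf_eq_bot hHN hHM, hcardG2, mul_comm (Nat.card M)]
      refine Nat.mul_le_mul_right _ (le_of_eq ?_)
      have e : Nat.card H * H.relIndex G = Nat.card K' * Nat.card M :=
        (card_mul_relIndex hH.1).trans hcardG2
      exact Nat.dvd_antisymm ((coprime_of_pi hK'.2.1 hH.2.2).dvd_of_dvd_mul_right ⟨_, e⟩)
        ((coprime_of_pi hH.2.1 hM').dvd_of_dvd_mul_right ⟨_, e.symm⟩)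
    let U₀ := H ⊓ (M ⊔ U)
    have hU0 : M ⊔ U₀ = M ⊔ U := by
      refine le_antisymm (sup_le le_sup_left inf_le_right) (sup_le le_sup_left fun u hu => ?_)
      obtain ⟨m, hm, h, hh, rfl⟩ := (mem_sup_of_le_normalizer hHN).mp (hMH.symm ▸ hUG hu : u ∈ M ⊔ H)
      refine Subgroup.mul_mem_sup hm ⟨hh, ?_⟩
      have : h = m⁻¹ * (m * h) := by group
      rw [this]
      exact Subgroup.mul_mem _ (Subgroup.mem_sup_left (M.inv_mem hm)) (Subgroup.mem_sup_right hu)
    have hAW : A ≤ normalizer ((M ⊔ U : Subgroup X) : Set X) := by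
      intro a ha
      rw [mem_normalizer_iff_map_conj, Subgroup.map_sup, map_conj_of_mem_normalizer (hAM ha),
        map_conj_of_mem_normalizer (hUA ha)]
    have hWG : M ⊔ U ≤ G := sup_le hMG hUG
    have hAU0 : A ≤ normalizer (U₀ : Set X) := by
      intro a ha
      rw [mem_normalizer_iff_map_conj, Subgroup.map_inf _ _ _ (MulAut.conj a).injective,
        map_conj_of_mem_normalizer (hAH ha), map_conj_of_mem_normalizer (hAW ha)]
    have hU0π : ∀ q : ℕ, q.Prime → q ∣ Nat.card U₀ → q ∈ π := fun q hq h =>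
      hH.2.1 q hq (h.trans (Subgroup.card_dvd_of_le inf_le_left))
    obtain ⟨n, hn, hconj⟩ := exists_conj_eq_of_coprime (N := M) (A := U₀) (B := U)
      (inf_le_left.trans hHN) hUN hU0 (coprime_of_pi hU0π hM') (coprime_of_pi hU hM')
      (Or.inr (isSolvable_of_le hG hMG))
    obtain ⟨c, hc, hcU⟩ := exists_conj_centralizer_of_invariant (G := M) hAM
      (Nat.Coprime.of_dvd dvd_rfl (Subgroup.card_dvd_of_le hMG) hcop)
      (Or.inr (isSolvable_of_le hG hMG)) hAU0 hUA ⟨n, hn, hconj.symm⟩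
    refine ⟨H.map (MulAut.conj c).toMonoidHom, isPiHallOf_map_conj hH
      (le_normalizer (hMG hc.1)), ?_, ?_⟩
    · intro a ha
      rw [mem_normalizer_iff_map_conj, map_conj_conj,
        show a * c = c * a from Subgroup.mem_centralizer_iff.mp hc.2 a ha, ← map_conj_conj,
        map_conj_of_mem_normalizer (hAH ha)]
    · rw [← hcU]
      exact Subgroup.map_mono inf_le_left

/-- Invariant `π`-subgroups lie in invariant Hall `π`-subgroups. -/
theorem exists_invariant_hall_ge [Finite X] {A G U : Subgroup X} (hA : A ≤ normalizer (G : Set X))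
    (hcop : (Nat.card A).Coprime (Nat.card G)) (hG : Group.IsSolvable G) (hUG : U ≤ G)
    (hUA : A ≤ normalizer (U : Set X)) {π : Set ℕ}
    (hU : ∀ p : ℕ, p.Prime → p ∣ Nat.card U → p ∈ π) :
    ∃ H : Subgroup X, Cfsg.IsPiHallOf π H G ∧ A ≤ normalizer (H : Set X) ∧ U ≤ H :=
  exists_invariant_hall_ge_aux π _ A G U le_rfl hA hcop hG hUG hUA hU

end CfsgLib.Coprime
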