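import Cfsg.Agent.Lib.Coprime.Abelian
import Cfsg.Agent.Lib.Coprime.Sylow
import Mathlib.GroupTheory.Nilpotent
set_option autoImplicit false

/-!
Coprime action on abelian groups in ambient form; generation of `G` by centralizers.
-/

namespace CfsgLib.Coprime

open Subgroup
open scoped commutatorElement

variable {X : Type*} [Group X]

/-- The action of `A` on the abelian subgroup `V` it normalises. -/
noncomputable def conjHom {A V : Subgroup X} (hA : A ≤ normalizer (V : Set X)) :
    A →* MulAut V :=
  V.normalizerMonoidHom.comp (Subgroup.inclusion hA)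

theorem conjHom_apply {A V : Subgroup X} (hA : A ≤ normalizer (V : Set X)) (a : A) (v : V) :
    (conjHom hA a v : X) = a * v * (a : X)⁻¹ := rfl

variable [Finite X]

/-- For abelian `V` and coprime action, `[V, A] ∩ C_V(A) = 1`. -/
theorem commutator_inf_centralizer_eq_bot {A V : Subgroup X} (hV : IsMulCommutative V)
    (hA : A ≤ normalizer (V : Set X)) (hcop : (Nat.card A).Coprime (Nat.card V)) :
    ⁅V, A⁆ ⊓ centralizer (A : Set X) = ⊥ := by
  classical
  have := Fintype.ofFinite A
  open scoped IsMulCommutative in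
  let θ : V →* V := orbitProd (conjHom hA) ⊤
  have hle : ⁅V, A⁆ ≤ V := le_normalizer_iff_commutator_le_left.mp hA
  have h1 : ⁅V, A⁆ ≤ θ.ker.map V.subtype := by
    open scoped IsMulCommutative in
    refine commutator_le.mpr fun v hv a ha => ⟨⟨⁅v, a⁆, hle (commutator_mem_commutator hv ha)⟩,
      ?_, rfl⟩
    show θ _ = 1
    have h2 : (⟨⁅v, a⁆, hle (commutator_mem_commutator hv ha)⟩ : V)
        = ⟨v, hv⟩ * conjHom hA ⟨a, ha⟩ ⟨v, hv⟩⁻¹ := by
      apply Subtype.ext
      simp [conjHom_apply, commutatorElement_def, mul_assoc]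
    rw [h2, map_mul]
    show θ _ * orbitProd (conjHom hA) ⊤ (conjHom hA ⟨a, ha⟩ _) = 1
    rw [orbitProd_apply _ _ (mem_top _), map_inv, mul_inv_cancel]
  rw [eq_bot_iff]
  intro x hx
  obtain ⟨hxc, hxA⟩ := mem_inf.mp hx
  obtain ⟨v, hv, rfl⟩ := h1 hxc
  have h3 : v ^ Nat.card A = 1 := by
    open scoped IsMulCommutative in
    have h4 := orbitProd_eq_pow (conjHom hA) ⊤ v (fun a _ => Subtype.ext (by
      have h5 : (a : X) * v = v * a := mem_centralizer_iff.mp hxA a a.2
      rw [conjHom_apply, h5]
      exact mul_inv_cancel_right _ _))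
    rw [show orbitProd (conjHom hA) ⊤ v = 1 from hv, card_top] at h4
    exact h4.symm
  rw [mem_bot]
  exact congrArg Subtype.val (orderOf_eq_one_iff.mp (Nat.eq_one_of_dvd_coprimes hcop
    (orderOf_dvd_of_pow_eq_one h3) (orderOf_dvd_natCard v)))

/-- The subgroup generated by `C_G(B)` over the `B ≤ A` with `A/B` cyclic. -/
abbrev cocyclicJoin (A G : Subgroup X) : Subgroup X :=
  ⨆ B ∈ {B : Subgroup X | B ≤ A ∧ ∃ a ∈ A, B ⊔ zpowers a = A}, G ⊓ centralizer (B : Set X)

theorem le_cocyclicJoin {A G B : Subgroup X} (hB : B ≤ A) (a : X) (ha : a ∈ A)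
    (hBa : B ⊔ zpowers a = A) : G ⊓ centralizer (B : Set X) ≤ cocyclicJoin A G :=
  le_iSup₂ (f := fun B (_ : B ∈ {B : Subgroup X | B ≤ A ∧ ∃ a ∈ A, B ⊔ zpowers a = A}) =>
    G ⊓ centralizer (B : Set X)) B ⟨hB, a, ha, hBa⟩

theorem cocyclicJoin_mono {A G G' : Subgroup X} (h : G ≤ G') :
    cocyclicJoin A G ≤ cocyclicJoin A G' := iSup₂_mono fun _ _ => inf_le_inf_right _ h

theorem eq_cocyclicJoin_of_abelian {A V : Subgroup X} (hAab : IsMulCommutative A)
    (hV : IsMulCommutative V) (hA : A ≤ normalizer (V : Set X))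
    (hcop : (Nat.card A).Coprime (Nat.card V)) : V ≤ cocyclicJoin A V := by
  induction hm : Nat.card V using Nat.strong_induction_on generalizing V with
  | _ m ih =>
    subst hm
    by_cases hsplit : ∃ a ∈ A, V ⊓ centralizer ({a} : Set X) ≠ ⊥ ∧
        V ⊓ centralizer ({a} : Set X) ≠ V
    · obtain ⟨a, ha, h0, h1⟩ := hsplit
      let C : Subgroup X := V ⊓ centralizer ({a} : Set X)
      have hz : zpowers a ≤ A := zpowers_le.mpr ha
      have hcz : centralizer ((zpowers a : Subgroup X) : Set X) = centralizer {a} := by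
        rw [zpowers_eq_closure, centralizer_closure]
      have hcop' : (Nat.card (zpowers a)).Coprime (Nat.card V) :=
        hcop.coprime_dvd_left (card_dvd_of_le hz)
      have hCA : A ≤ normalizer (C : Set X) := by
        intro b hb
        rw [mem_normalizer_iff]
        intro x
        refine and_congr (mem_normalizer_iff.mp (hA hb) x) ?_
        have hba : a * b = b * a := congrArg Subtype.val (mul_comm' (⟨a, ha⟩ : A) ⟨b, hb⟩)
        show x ∈ centralizer ({a} : Set X) ↔ b * x * b⁻¹ ∈ centralizer ({a} : Set X)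
        simp only [mem_centralizer_iff, Set.mem_singleton_iff, forall_eq]
        constructor
        · intro h
          calc a * (b * x * b⁻¹) = b * (a * x) * b⁻¹ := by
                rw [← mul_assoc, ← mul_assoc, hba, mul_assoc b a x]
            _ = b * x * (b⁻¹ * b) * a * b⁻¹ := by rw [h]; group
            _ = b * x * b⁻¹ * (a * b) * b⁻¹ := by rw [hba]; group
            _ = b * x * b⁻¹ * a := by group
        · intro h
          have e1 : b⁻¹ * a = a * b⁻¹ := by
            rw [inv_mul_eq_iff_eq_mul, ← mul_assoc, ← hba, mul_inv_cancel_right]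
          calc a * x = a * b⁻¹ * (b * x * b⁻¹) * b := by group
            _ = b⁻¹ * (a * (b * x * b⁻¹)) * b := by rw [← e1]; group
            _ = x * (b⁻¹ * (a * b)) := by rw [h]; group
            _ = x * a := by rw [hba]; group
      let D : Subgroup X := ⁅V, zpowers a⁆
      have hDV : D ≤ V := le_normalizer_iff_commutator_le_left.mp (hz.trans hA)
      have hDA : A ≤ normalizer (D : Set X) := by
        intro b hb
        rw [mem_normalizer_iff_map_conj]
        show (⁅V, zpowers a⁆).map _ = ⁅V, zpowers a⁆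
        rw [map_commutator, map_conj_of_mem_normalizer (hA hb)]
        congr 1
        rw [MonoidHom.map_zpowers]
        congr 1
        have hba : a * b = b * a := congrArg Subtype.val (mul_comm' (⟨a, ha⟩ : A) ⟨b, hb⟩)
        show b * a * b⁻¹ = a
        rw [← hba, mul_inv_cancel_right]
      have hsup : D ⊔ C = V := by
        have := commutator_sup_centralizer (hz.trans hA) hcop'
          (Or.inr (by
            have : IsMulCommutative V := hV
            exact Group.isSolvable_of_comm fun x y => mul_comm' x y))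
        rwa [hcz] at this
      have hinf : D ⊓ C = ⊥ := by
        rw [eq_bot_iff]
        refine le_trans ?_ (commutator_inf_centralizer_eq_bot hV (hz.trans hA) hcop').le
        rw [hcz]
        exact inf_le_inf le_rfl inf_le_right
      have hlt : ∀ W : Subgroup X, W ≤ V → W ≠ V → Nat.card W < Nat.card V := fun W hW hne =>
        lt_of_le_of_ne (card_le_of_le hW) fun h => hne (eq_of_le_of_card_ge hW h.ge)
      have hW : ∀ W : Subgroup X, W ≤ V → W ≠ V → A ≤ normalizer (W : Set X) →
          W ≤ cocyclicJoin A V := fun W hW hne hWA =>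
        (ih _ (hlt W hW hne) (V := W) ⟨⟨fun x y => Subtype.ext
          (congrArg Subtype.val (mul_comm' (⟨x, hW x.2⟩ : V) ⟨y, hW y.2⟩) :)⟩⟩ hWA
          (hcop.coprime_dvd_right (card_dvd_of_le hW)) rfl).trans (cocyclicJoin_mono hW)
      conv_lhs => rw [← hsup]
      refine sup_le (hW D hDV (fun hD => h0 ?_) hDA) (hW C inf_le_left h1 hCA)
      rw [hD, inf_eq_right.mpr inf_le_left] at hinf
      exact hinf
    · push Not at hsplit
      by_cases hVbot : V = ⊥
      · rw [hVbot]; exact bot_le
      open scoped IsMulCommutative in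
      let φ : A →* MulAut V := conjHom hA
      let B : Subgroup X := φ.ker.map A.subtype
      have hBC : V ≤ centralizer (B : Set X) := by
        intro v hv
        rw [mem_centralizer_iff]
        rintro _ ⟨b, hb, rfl⟩
        have h2 : φ b ⟨v, hv⟩ = ⟨v, hv⟩ := by rw [MonoidHom.mem_ker.mp hb]; rfl
        have h3 : (b : X) * v * (b : X)⁻¹ = v := congrArg Subtype.val h2
        calc (b : X) * v = (b : X) * v * (b : X)⁻¹ * b := by group
          _ = v * b := by rw [h3]
      have hcyc : IsCyclic φ.range := by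
        open scoped IsMulCommutative in
        by_contra hnc
        have : IsMulCommutative φ.range := ⟨⟨by
          rintro ⟨_, x, rfl⟩ ⟨_, y, rfl⟩
          apply Subtype.ext
          show φ x * φ y = φ y * φ x
          rw [← map_mul, mul_comm' x y, map_mul]⟩⟩
        have : Nontrivial V := (nontrivial_iff_ne_bot V).mpr hVbot
        obtain ⟨⟨_, a, rfl⟩, ha1, v, hv1, hv⟩ :=
          exists_ne_one_fixed_of_not_isCyclic φ.range.subtype
            (hcop.coprime_dvd_left (card_range_dvd φ)) hnc
        have hv' : (v : X) ∈ V ⊓ centralizer ({(a : X)} : Set X) := by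
          refine mem_inf.mpr ⟨v.2, mem_centralizer_singleton_iff.mpr ?_⟩
          have h3 : (a : X) * v * (a : X)⁻¹ = v := congrArg Subtype.val hv
          calc (v : X) * a = (a : X) * v * (a : X)⁻¹ * a := by rw [h3]
            _ = a * v := by group
        have h4 := hsplit a a.2 (fun h => hv1 (Subtype.ext (mem_bot.mp (h ▸ hv'))))
        apply ha1
        apply Subtype.ext
        refine MulEquiv.ext fun w => Subtype.ext ?_
        have h5 : (w : X) ∈ V ⊓ centralizer ({(a : X)} : Set X) := by rw [h4]; exact w.2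
        show (a : X) * w * (a : X)⁻¹ = w
        rw [← mem_centralizer_singleton_iff.mp (mem_inf.mp h5).2, mul_inv_cancel_right]
      obtain ⟨⟨_, a, rfl⟩, hgen⟩ := hcyc.exists_generator
      refine le_trans (le_inf le_rfl hBC)
        (le_cocyclicJoin (map_subtype_le _) (a : X) a.2 (le_antisymm (sup_le (map_subtype_le _)
          (zpowers_le.mpr a.2)) fun x hx => ?_))
      obtain ⟨k, hk⟩ := mem_zpowers_iff.mp (hgen ⟨φ ⟨x, hx⟩, ⟨x, hx⟩, rfl⟩)
      have hker : (⟨x, hx⟩ : A) * (a ^ k)⁻¹ ∈ φ.ker := by
        rw [MonoidHom.mem_ker, map_mul, map_inv, map_zpow]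
        have hk' := congrArg Subtype.val hk
        rw [SubgroupClass.coe_zpow] at hk'
        rw [hk']; simp
      have hx' := mul_mem (mem_sup_left (T := zpowers (a : X)) (mem_map_of_mem A.subtype hker))
        (mem_sup_right (S := B) (zpow_mem (mem_zpowers (a : X)) k))
      simpa using hx'

theorem center_map_normal {P : Subgroup X} [P.Normal] :
    ((center P).map P.subtype).Normal := inferInstance

universe u in
theorem eq_cocyclicJoin_of_isPGroup_normal {X : Type u} [Group X] [Finite X] {p : ℕ}
    [Fact p.Prime] {A P : Subgroup X} [P.Normal] (hAab : IsMulCommutative A) (hP : IsPGroup p P)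
    (hcop : (Nat.card A).Coprime (Nat.card P)) : P ≤ cocyclicJoin A P := by
  induction hm : Nat.card P using Nat.strong_induction_on generalizing X A P with
  | _ m ih =>
    subst hm
    have hAnorm : ∀ N : Subgroup X, N.Normal → A ≤ normalizer (N : Set X) := fun N _ =>
      (normalizer_eq_top N).symm ▸ le_top
    by_cases hPab : IsMulCommutative P
    · exact eq_cocyclicJoin_of_abelian hAab hPab (hAnorm P inferInstance) hcop
    have : Nontrivial P := by
      rw [← not_subsingleton_iff_nontrivial]
      exact fun h => hPab ⟨⟨fun _ _ => Subsingleton.elim _ _⟩⟩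
    let Z : Subgroup X := (center P).map P.subtype
    have hZn : Z.Normal := center_map_normal
    have hZP : Z ≤ P := map_subtype_le _
    have hZ1 : Z ≠ ⊥ := fun h => hP.bot_lt_center.ne'
      (map_injective P.subtype_injective (h.trans (Subgroup.map_bot _).symm))
    have hZab : IsMulCommutative Z := ⟨⟨by
      rintro ⟨_, x, hx, rfl⟩ ⟨_, y, hy, rfl⟩
      apply Subtype.ext
      show (x : X) * y = y * x
      exact congrArg Subtype.val (mem_center_iff.mp hy x)⟩⟩
    have hZH : Z ≤ cocyclicJoin A P :=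
      (eq_cocyclicJoin_of_abelian hAab hZab (hAnorm Z hZn)
        (hcop.coprime_dvd_right (card_dvd_of_le hZP))).trans (cocyclicJoin_mono hZP)
    let f := QuotientGroup.mk' Z
    have : (P.map f).Normal := Normal.map inferInstance f (QuotientGroup.mk'_surjective Z)
    have hab' : IsMulCommutative (A.map f) := ⟨⟨by
      rintro ⟨_, x, hx, rfl⟩ ⟨_, y, hy, rfl⟩
      apply Subtype.ext
      show f x * f y = f y * f x
      rw [← map_mul, ← map_mul]
      exact congrArg f (congrArg Subtype.val (mul_comm' (⟨x, hx⟩ : A) ⟨y, hy⟩))⟩⟩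
    have hlt : Nat.card (P.map f) < Nat.card P := by
      have h1 := (f.subgroupMap P).ker.card_mul_index
      rw [index_ker, MonoidHom.range_eq_top.mpr (f.subgroupMap_surjective P), card_top] at h1
      rw [← h1]
      refine lt_mul_of_one_lt_left Nat.card_pos (one_lt_card_iff_ne_bot _ |>.mpr fun hk => hZ1 ?_)
      rw [eq_bot_iff]
      intro z hz
      have h2 : (⟨z, hZP hz⟩ : P) ∈ (f.subgroupMap P).ker := by
        rw [MonoidHom.mem_ker]
        exact Subtype.ext ((QuotientGroup.eq_one_iff z).mpr hz)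
      rw [hk, mem_bot] at h2
      exact mem_bot.mpr (congrArg Subtype.val h2)
    have h3 := ih _ hlt (X := X ⧸ Z) (A := A.map f) (P := P.map f) hab' (hP.map f)
      ((hcop.coprime_dvd_left (card_map_dvd A f)).coprime_dvd_right (card_map_dvd P f)) rfl
    have h4 : cocyclicJoin (A.map f) (P.map f) ≤ (cocyclicJoin A P).map f := by
      refine iSup₂_le ?_
      rintro B' ⟨hB', a', ⟨a, ha, rfl⟩, hBa⟩
      let B : Subgroup X := A ⊓ B'.comap f
      have hBmap : B.map f = B' := by
        refine le_antisymm (map_le_iff_le_comap.mpr inf_le_right) fun y hy => ?_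
        obtain ⟨x, hx, rfl⟩ := hB' hy
        exact ⟨x, mem_inf.mpr ⟨hx, hy⟩, rfl⟩
      have hsup : B ⊔ zpowers a = A := by
        refine le_antisymm (sup_le inf_le_left (zpowers_le.mpr ha)) fun x hx => ?_
        have hnorm : zpowers (f a) ≤ normalizer (B' : Set (X ⧸ Z)) := by
          intro y hy
          have hy' : y ∈ A.map f :=
            zpowers_le.mpr (show f a ∈ A.map f from ⟨a, ha, rfl⟩) hy
          rw [mem_normalizer_iff_map_conj]
          refine (map_le_iff_le_comap.mpr fun b hb => ?_).antisymm fun b hb => ⟨b, hb, ?_⟩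
          · show y * b * y⁻¹ ∈ B'
            have : y * b = b * y := congrArg Subtype.val (mul_comm' (⟨y, hy'⟩ : A.map f) ⟨b, hB' hb⟩)
            rwa [this, mul_inv_cancel_right]
          · show y * b * y⁻¹ = b
            have : y * b = b * y := congrArg Subtype.val (mul_comm' (⟨y, hy'⟩ : A.map f) ⟨b, hB' hb⟩)
            rw [this, mul_inv_cancel_right]
        have h5 : f x ∈ B' ⊔ zpowers (f a) := by rw [hBa]; exact ⟨x, hx, rfl⟩
        obtain ⟨b, hb, c, hc, hbc⟩ := (mem_sup_of_le_normalizer hnorm).mp h5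
        obtain ⟨k, rfl⟩ := mem_zpowers_iff.mp hc
        have h6 : x * (a ^ k)⁻¹ ∈ B := mem_inf.mpr ⟨mul_mem hx (inv_mem (zpow_mem ha k)), by
          show f (x * (a ^ k)⁻¹) ∈ B'
          rw [map_mul, map_inv, map_zpow, ← hbc, mul_inv_cancel_right]; exact hb⟩
        have h7 := mul_mem (mem_sup_left (T := zpowers a) h6)
          (mem_sup_right (S := B) (zpow_mem (mem_zpowers a) k))
        rwa [inv_mul_cancel_right] at h7
      have hBA : B ≤ A := inf_le_left
      rw [← hBmap, ← map_inf_centralizer f (hBA.trans (hAnorm P inferInstance))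
        (hcop.coprime_dvd_left (card_dvd_of_le hBA))
        (Or.inl (Group.isSolvable_of_comm fun x y => Subtype.ext (congrArg Subtype.val
          (mul_comm' (⟨x, hBA x.2⟩ : A) ⟨y, hBA y.2⟩) :)))]
      exact map_mono (le_cocyclicJoin hBA a ha hsup)
    intro x hx
    obtain ⟨y, hy, hyx⟩ := h4 (h3 ⟨x, hx, rfl⟩)
    have hz : y⁻¹ * x ∈ Z := (QuotientGroup.eq_one_iff _).mp (by
      show f (y⁻¹ * x) = 1
      rw [map_mul, map_inv, hyx, inv_mul_cancel])
    have := mul_mem hy (hZH hz)
    rwa [mul_inv_cancel_left] at this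

theorem map_cocyclicJoin_subtype_le {K : Subgroup X} {A P : Subgroup X} (hA : A ≤ K) :
    (cocyclicJoin (A.subgroupOf K) (P.subgroupOf K)).map K.subtype ≤ cocyclicJoin A P := by
  simp only [Subgroup.map_iSup]
  refine iSup₂_le ?_
  rintro B ⟨hB, a, ha, hBa⟩
  have h1 : B.map K.subtype ≤ A :=
    (map_mono hB).trans (by rw [subgroupOf_map_subtype]; exact inf_le_left)
  have h2 : B.map K.subtype ⊔ zpowers (a : X) = A := by
    have := congrArg (Subgroup.map K.subtype) hBa
    rw [Subgroup.map_sup, MonoidHom.map_zpowers, subgroupOf_map_subtype, inf_eq_left.mpr hA] at this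
    exact this
  refine le_trans ?_ (le_cocyclicJoin h1 (a : X) ha h2)
  rintro _ ⟨x, hx, rfl⟩
  refine mem_inf.mpr ⟨(mem_inf.mp hx).1, mem_centralizer_iff.mpr ?_⟩
  rintro _ ⟨b, hb, rfl⟩
  exact congrArg Subtype.val (mem_centralizer_iff.mp (mem_inf.mp hx).2 b hb)

/-- Coprime action of an abelian group: `G` is generated by the `C_G(B)`, `A/B` cyclic. -/
theorem cocyclicJoin_eq {A G : Subgroup X} (hAab : IsMulCommutative A)
    (hA : A ≤ normalizer (G : Set X)) (hcop : (Nat.card A).Coprime (Nat.card G)) :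
    cocyclicJoin A G = G := by
  let H : Subgroup X := cocyclicJoin A G
  have hHG : H ≤ G := iSup₂_le fun _ _ => inf_le_left
  refine eq_of_le_of_card_ge hHG (Nat.le_of_dvd Nat.card_pos ?_)
  rw [← Nat.factorization_prime_le_iff_dvd Nat.card_pos.ne' Nat.card_pos.ne']
  intro p hp
  have : Fact p.Prime := ⟨hp⟩
  obtain ⟨P, hPA⟩ := exists_invariant_sylow hA hcop
    (Or.inl (Group.isSolvable_of_comm fun x y => mul_comm' x y)) p
  let P' : Subgroup X := (P : Subgroup G).map G.subtype
  have hP' : IsPGroup p P' := P.isPGroup'.map _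
  have hP'card : Nat.card P' = p ^ (Nat.card G).factorization p := by
    rw [card_map_of_injective G.subtype_injective]; exact P.card_eq_multiplicity
  have hdiv : Nat.card P' ∣ Nat.card H := by
    refine card_dvd_of_le (le_trans ?_ (cocyclicJoin_mono (G := P') (G' := G) (map_subtype_le _)))
    let K : Subgroup X := normalizer (P' : Set X)
    have : (P'.subgroupOf K).Normal := normal_subgroupOf_of_le_normalizer le_rfl
    have := eq_cocyclicJoin_of_isPGroup_normal (p := p) (X := K) (A := A.subgroupOf K)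
      (P := P'.subgroupOf K)
      ⟨⟨fun x y => Subtype.ext (Subtype.ext
        (congrArg Subtype.val (mul_comm' (⟨_, x.2⟩ : A) ⟨_, y.2⟩) :))⟩⟩
      (hP'.comap_of_injective K.subtype K.subtype_injective)
      (by
        rw [card_subgroupOf hPA, card_subgroupOf le_normalizer, hP'card]
        exact hcop.coprime_dvd_right (Nat.ordProj_dvd _ _))
    have h := (map_mono this).trans (map_cocyclicJoin_subtype_le (P := P') hPA)
    rwa [subgroupOf_map_subtype, inf_eq_left.mpr le_normalizer] at h
  rw [hP'card] at hdiv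
  exact (hp.pow_dvd_iff_le_factorization Nat.card_pos.ne').mp hdiv

/-- `[G, A]` is generated by the `[C_G(B), A]`, `A/B` cyclic. -/
theorem iSup_commutator_eq {A G : Subgroup X} (hAab : IsMulCommutative A)
    (hA : A ≤ normalizer (G : Set X)) (hcop : (Nat.card A).Coprime (Nat.card G)) :
    (⨆ B ∈ {B : Subgroup X | B ≤ A ∧ ∃ a ∈ A, B ⊔ zpowers a = A},
      ⁅G ⊓ centralizer (B : Set X), A⁆) = ⁅G, A⁆ := by
  have hs : Group.IsSolvable A ∨ Group.IsSolvable G :=
    Or.inl (Group.isSolvable_of_comm fun x y => mul_comm' x y)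
  let K : Subgroup X := ⨆ B ∈ {B : Subgroup X | B ≤ A ∧ ∃ a ∈ A, B ⊔ zpowers a = A},
      ⁅G ⊓ centralizer (B : Set X), A⁆
  refine le_antisymm (iSup₂_le fun B _ => commutator_mono inf_le_left le_rfl) ?_
  let D : Subgroup X := ⁅G, A⁆
  have hDG : D ≤ G := le_normalizer_iff_commutator_le_left.mp hA
  have hDA : A ≤ normalizer (D : Set X) := normalizer_commutator_ge_right G A
  let C : Subgroup X := G ⊓ centralizer (A : Set X)
  have hKA : A ≤ normalizer (K : Set X) := by
    intro a ha
    rw [mem_normalizer_iff_map_conj]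
    refine le_antisymm ?_ ?_
    · simp only [K, Subgroup.map_iSup]
      exact iSup₂_mono fun B _ =>
        (map_conj_of_mem_normalizer (normalizer_commutator_ge_right _ A ha)).le
    · simp only [K, Subgroup.map_iSup]
      exact iSup₂_mono fun B _ =>
        (map_conj_of_mem_normalizer (normalizer_commutator_ge_right _ A ha)).ge
  have hKC : C ≤ normalizer (K : Set X) := by
    intro c hc
    obtain ⟨hcG, hcA⟩ := mem_inf.mp hc
    have hmap : A.map (MulAut.conj c).toMonoidHom = A := map_conj_of_mem_normalizer (by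
      rw [mem_normalizer_iff]
      intro x
      constructor
      · intro hx
        rw [← mem_centralizer_iff.mp hcA x hx, mul_inv_cancel_right]; exact hx
      · intro hx
        have hx2 := mem_centralizer_iff.mp (inv_mem hcA) _ hx
        rw [show x = c⁻¹ * (c * x * c⁻¹) * c by group, ← hx2, inv_mul_cancel_right]; exact hx)
    have h1 : ∀ B ∈ {B : Subgroup X | B ≤ A ∧ ∃ a ∈ A, B ⊔ zpowers a = A},
        (⁅G ⊓ centralizer (B : Set X), A⁆).map (MulAut.conj c).toMonoidHom
          = ⁅G ⊓ centralizer (B : Set X), A⁆ := fun B hB => by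
      rw [map_commutator, hmap, map_conj_of_mem_normalizer (le_normalizer
        (mem_inf.mpr ⟨hcG, centralizer_le hB.1 hcA⟩))]
    rw [mem_normalizer_iff_map_conj]
    simp only [K, Subgroup.map_iSup]
    exact iSup_congr fun B => iSup_congr fun hB => h1 B hB
  have hDle : D ≤ K ⊔ C := by
    rw [← cocyclicJoin_eq hAab hDA (hcop.coprime_dvd_right (card_dvd_of_le hDG))]
    refine iSup₂_le ?_
    rintro B ⟨hB, a, ha, hBa⟩
    have hnA : A ≤ normalizer ((D ⊓ centralizer (B : Set X) : Subgroup X) : Set X) := by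
      intro b hb
      rw [mem_normalizer_iff_map_conj, map_inf _ _ _ (MulAut.conj b).injective,
        map_conj_of_mem_normalizer (hDA hb)]
      congr 1
      refine (map_centralizer_le_centralizer_image _ _).antisymm ?_ |>.trans ?_
      · intro x hx
        refine ⟨b⁻¹ * x * b, ?_, by simp [mul_assoc]⟩
        rw [SetLike.mem_coe, mem_centralizer_iff]
        intro y hy
        have h2 := mem_centralizer_iff.mp hx (b * y * b⁻¹) ⟨y, hy, rfl⟩
        calc y * (b⁻¹ * x * b) = b⁻¹ * (b * y * b⁻¹ * x) * b := by group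
          _ = b⁻¹ * x * b * y := by rw [h2]; group
      · congr 1
        ext y
        have hcomm : ∀ z ∈ B, b * z * b⁻¹ = z := fun z hz => by
          have : b * z = z * b := congrArg Subtype.val (mul_comm' (⟨b, hb⟩ : A) ⟨z, hB hz⟩)
          rw [this, mul_inv_cancel_right]
        exact ⟨fun ⟨z, hz, hzy⟩ => by rw [← hzy]; show b * z * b⁻¹ ∈ B; rw [hcomm z hz]; exact hz,
          fun hy => ⟨y, hy, hcomm y hy⟩⟩
    rw [← commutator_sup_centralizer hnA
      (hcop.coprime_dvd_right (card_dvd_of_le (inf_le_left.trans hDG)))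
      (hs.imp_right fun h => isSolvable_of_le h (inf_le_left.trans hDG))]
    exact sup_le_sup
      ((commutator_mono (inf_le_inf_right _ hDG) le_rfl).trans
        (le_iSup₂ (f := fun B (_ : B ∈ {B : Subgroup X | B ≤ A ∧ ∃ a ∈ A, B ⊔ zpowers a = A}) =>
          ⁅G ⊓ centralizer (B : Set X), A⁆) B ⟨hB, a, ha, hBa⟩))
      (inf_le_inf_right _ (inf_le_left.trans hDG))
  rw [← commutator_commutator_eq hA hcop hs]
  refine commutator_le.mpr fun d hd a ha => ?_
  obtain ⟨k, hk, c, hc, rfl⟩ := (mem_sup_of_le_normalizer hKC).mp (hDle hd)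
  have hac : a * c = c * a := mem_centralizer_iff.mp (mem_inf.mp hc).2 a ha
  have h3 : ⁅k * c, a⁆ = ⁅k, a⁆ := by
    rw [commutatorElement_def, commutatorElement_def, mul_inv_rev]
    calc k * c * a * (c⁻¹ * k⁻¹) * a⁻¹ = k * (c * a) * c⁻¹ * k⁻¹ * a⁻¹ := by group
      _ = k * a * k⁻¹ * a⁻¹ := by rw [← hac]; group
  rw [h3, commutatorElement_def, show k * a * k⁻¹ * a⁻¹ = k * (a * k⁻¹ * a⁻¹) by group]
  exact mul_mem hk ((mem_normalizer_iff.mp (hKA ha) _).mp (inv_mem hk))

/-- A noncyclic abelian group acting coprimely: `G = ⟨C_G(a) : a ≠ 1⟩`. -/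
theorem iSup_centralizer_eq {A G : Subgroup X} (hAab : IsMulCommutative A) (hnc : ¬ IsCyclic A)
    (hA : A ≤ normalizer (G : Set X)) (hcop : (Nat.card A).Coprime (Nat.card G)) :
    (⨆ a : {a : X // a ∈ A ∧ a ≠ 1}, G ⊓ centralizer ({(a : X)} : Set X)) = G := by
  refine le_antisymm (iSup_le fun _ => inf_le_left) ?_
  conv_lhs => rw [← cocyclicJoin_eq hAab hA hcop]
  refine iSup₂_le ?_
  rintro B ⟨hB, a, ha, hBa⟩
  have hBne : B ≠ ⊥ := by
    rintro rfl
    apply hnc
    rw [bot_sup_eq] at hBa
    rw [← hBa]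
    infer_instance
  obtain ⟨b, hb, hb1⟩ := SetLike.exists_of_lt (bot_lt_iff_ne_bot.mpr hBne)
  refine le_trans (inf_le_inf_left G ?_)
    (le_iSup (fun a : {a : X // a ∈ A ∧ a ≠ 1} => G ⊓ centralizer ({(a : X)} : Set X))
      ⟨b, hB hb, fun h => hb1 (mem_bot.mpr h)⟩)
  exact centralizer_le (Set.singleton_subset_iff.mpr hb)

end CfsgLib.Coprime
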