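import Mathlib
set_option autoImplicit false

/-!
Invariant complements in elementary abelian groups under coprime operators.
-/

namespace CfsgLib.Coprime

open Subgroup

variable {V : Type*} [CommGroup V] [Finite V] {X : Type*} [Group X] [Finite X]

/-- A complement inside a subgroup of exponent `p`. -/
theorem exists_compl_of_exponent {p : ℕ} (hp : p.Prime) {T W : Subgroup V}
    (hT : ∀ t ∈ T, t ^ p = 1) (hWT : W ≤ T) :
    ∃ K : Subgroup V, K ≤ T ∧ K ⊓ W = ⊥ ∧ W ⊔ K = T := by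
  obtain ⟨K, hK⟩ := (Set.toFinite {K : Subgroup V | K ≤ T ∧ K ⊓ W = ⊥}).exists_maximal
    ⟨⊥, bot_le, bot_inf_eq _⟩
  obtain ⟨hKT, hKW⟩ := hK.prop
  refine ⟨K, hKT, hKW, le_antisymm (sup_le hWT hKT) fun a ha => ?_⟩
  by_contra hna
  have hle : K ⊔ zpowers a ≤ T := sup_le hKT (zpowers_le.2 ha)
  by_cases h : (K ⊔ zpowers a) ⊓ W = ⊥
  · exact hna (le_sup_right (a := W) (hK.le_of_ge ⟨hle, h⟩ le_sup_left
      (mem_sup_right (mem_zpowers a))))
  obtain ⟨w, hw, hw1⟩ := (ne_bot_iff_exists_ne_one (H := (K ⊔ zpowers a) ⊓ W)).1 h |>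
    fun ⟨⟨w, hw⟩, h1⟩ => (⟨w, hw, fun e => h1 (Subtype.ext e)⟩ : ∃ w ∈ (K ⊔ zpowers a) ⊓ W, w ≠ 1)
  obtain ⟨k, hk, _, ⟨i, rfl⟩, rfl⟩ := mem_sup.1 hw.1
  by_cases hi : (p : ℤ) ∣ i
  · obtain ⟨j, rfl⟩ := hi
    have h1 : a ^ ((p : ℤ) * j) = 1 := by rw [zpow_mul, zpow_natCast, hT a ha, one_zpow]
    simp only [h1, mul_one] at hw hw1
    exact hw1 (mem_bot.1 (hKW ▸ ⟨hk, hw.2⟩))
  · obtain ⟨u, v, huv⟩ := ((Nat.prime_iff_prime_int.1 hp).coprime_iff_not_dvd.2 hi)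
    have h1 : a ^ i ∈ W ⊔ K := by
      have := mul_mem (mem_sup_right (S := W) (inv_mem hk)) (mem_sup_left (T := K) hw.2)
      simpa using this
    refine hna ?_
    have : a = (a ^ i) ^ v := by
      conv_lhs => rw [← zpow_one a, ← huv, zpow_add, mul_comm u, zpow_mul, zpow_natCast, hT a ha,
        one_zpow, one_mul, mul_comm v, zpow_mul]
    rw [this]
    exact zpow_mem h1 v

/-- Maschke: an invariant subgroup has an invariant complement. -/
theorem exists_invariant_compl {p : ℕ} (hp : p.Prime) (ρ : X →* MulAut V)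
    (hX : (Nat.card X).Coprime p) {T W : Subgroup V} (hT : ∀ t ∈ T, t ^ p = 1) (hWT : W ≤ T)
    (hTi : ∀ x : X, ∀ t ∈ T, ρ x t ∈ T) (hWi : ∀ x : X, ∀ w ∈ W, ρ x w ∈ W) :
    ∃ U : Subgroup V, U ≤ T ∧ U ⊓ W = ⊥ ∧ W ⊔ U = T ∧ ∀ x : X, ∀ u ∈ U, ρ x u ∈ U := by
  classical
  have := Fintype.ofFinite X
  obtain ⟨K, hKT, hKW, hWK⟩ := exists_compl_of_exponent hp hT hWT
  let f : W × K →* T := MonoidHom.coprod (Subgroup.inclusion hWT) (Subgroup.inclusion hKT)
  have hf : Function.Bijective f := by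
    constructor
    · rw [injective_iff_map_eq_one]
      rintro ⟨⟨w, hw⟩, ⟨k, hk⟩⟩ h
      have h' : w * k = 1 := congrArg Subtype.val h
      have hw1 : w = 1 := by
        refine mem_bot.1 (hKW ▸ ⟨?_, hw⟩)
        rw [eq_inv_of_mul_eq_one_left h']
        exact K.inv_mem hk
      have hk1 : k = 1 := by rw [hw1, one_mul] at h'; exact h'
      exact Prod.ext (Subtype.ext hw1) (Subtype.ext hk1)
    · rintro ⟨t, ht⟩
      rw [← hWK] at ht
      obtain ⟨w, hw, k, hk, rfl⟩ := mem_sup.1 ht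
      exact ⟨(⟨w, hw⟩, ⟨k, hk⟩), rfl⟩
  let e := MulEquiv.ofBijective f hf
  let π : T →* V := W.subtype.comp ((MonoidHom.fst W K).comp e.symm.toMonoidHom)
  have hπW : ∀ t, π t ∈ W := fun t => Subtype.prop _
  have hπ : ∀ t : T, (t : V) ∈ W → π t = t := by
    intro t ht
    have : e.symm t = (⟨t, ht⟩, 1) := by
      rw [MulEquiv.symm_apply_eq]
      apply Subtype.ext
      simp [e, f]
    simp [π, this]
  let r : X → T →* T := fun x =>
    ((ρ x).toMonoidHom.comp T.subtype).codRestrict T (fun t => hTi x t t.2)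
  let g : T →* V := ∏ x : X, (ρ x).toMonoidHom.comp (π.comp (r x⁻¹))
  have hg : ∀ t : T, g t = ∏ x : X, ρ x (π (r x⁻¹ t)) := fun t => by simp [g]
  have hgW : ∀ t : T, g t ∈ W := fun t => by
    rw [hg]
    exact W.prod_mem fun x _ => hWi x _ (hπW _)
  have hgw : ∀ t : T, (t : V) ∈ W → g t = (t : V) ^ Nat.card X := by
    intro t ht
    rw [hg, Finset.prod_eq_pow_card (b := (t : V)), Finset.card_univ, Nat.card_eq_fintype_card]
    intro x _
    rw [hπ _ (hWi x⁻¹ _ ht)]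
    show ρ x (ρ x⁻¹ (t : V)) = t
    rw [← MulAut.mul_apply, ← map_mul, mul_inv_cancel, map_one, MulAut.one_apply]
  refine ⟨g.ker.map T.subtype, map_subtype_le _, ?_, ?_, ?_⟩
  · rw [eq_bot_iff]
    rintro _ ⟨⟨t, ht, rfl⟩, htW⟩
    rw [SetLike.mem_coe, MonoidHom.mem_ker, hgw t htW] at ht
    have h2 : (t : V) ^ (Nat.gcd (Nat.card X) p) = 1 := pow_gcd_eq_one.2 ⟨ht, hT t t.2⟩
    rw [hX, pow_one] at h2
    exact h2
  · refine le_antisymm (sup_le hWT (map_subtype_le _)) fun v hv => ?_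
    obtain ⟨m, hm⟩ := Nat.exists_mul_mod_eq_one_of_coprime hX hp.one_lt
    set w : V := g ⟨v, hv⟩ ^ m
    have hwW : w ∈ W := pow_mem (hgW _) m
    have hwg : g ⟨w, hWT hwW⟩ = g ⟨v, hv⟩ := by
      rw [hgw _ hwW]
      show (g ⟨v, hv⟩ ^ m) ^ Nat.card X = _
      rw [← pow_mul, pow_eq_pow_mod _ (hT _ (hWT (hgW _))), mul_comm, hm.2, pow_one]
    have hker : (⟨w, hWT hwW⟩⁻¹ * ⟨v, hv⟩ : T) ∈ g.ker := by
      rw [MonoidHom.mem_ker, map_mul, map_inv, hwg, inv_mul_cancel]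
    have := mul_mem (mem_sup_left (T := g.ker.map T.subtype) hwW)
      (mem_sup_right (S := W) (mem_map_of_mem T.subtype hker))
    simpa using this
  · rintro y _ ⟨t, ht, rfl⟩
    refine ⟨r y t, ?_, rfl⟩
    rw [SetLike.mem_coe, MonoidHom.mem_ker] at ht ⊢
    have : g (r y t) = ρ y (g t) := by
      rw [hg, hg, map_prod]
      refine (Fintype.prod_equiv (Equiv.mulLeft y) _ _ fun x => ?_).symm
      simp only [Equiv.coe_mulLeft]
      rw [← MulAut.mul_apply, ← map_mul]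
      congr 2
      apply Subtype.ext
      show ρ x⁻¹ (t : V) = ρ (y * x)⁻¹ (ρ y (t : V))
      rw [← MulAut.mul_apply, ← map_mul, mul_inv_rev, inv_mul_cancel_right]
    rw [this, ht, map_one]

end CfsgLib.Coprime
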