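import Cfsg.Agent.Lib.Coprime.BGroupZ
import Cfsg.Agent.Lib.Coprime.Generation
import Cfsg.Agent.Lib.Solvable.HallHigman
import Cfsg.Agent.Lib.Solvable.Fitting
import Mathlib.RingTheory.ZMod.UnitsCyclic

/-!
Sylow subgroups of soluble groups with conjugate abelian subgroups of equal order, when the minimal
normal subgroups have prime order.
-/

set_option autoImplicit false
set_option linter.style.haveILetI false

namespace CfsgLib.Coprime

open Subgroup CfsgLib.Solvable

universe u

variable {G : Type u} [Group G] [Finite G]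

omit [Finite G] in
theorem AbConj.mem_of_orderOf_eq (hB : AbConj G) {M : Subgroup G} [hM : M.Normal] {m a : G}
    (hm : m ∈ M) (h : orderOf a = orderOf m) : a ∈ M := by
  obtain ⟨g, hg⟩ := hB (zpowers m) (zpowers a) inferInstance inferInstance
    (by rw [Nat.card_zpowers, Nat.card_zpowers, h])
  obtain ⟨w, hw, hwa⟩ : a ∈ (zpowers m).map (MulAut.conj g).toMonoidHom := hg ▸ mem_zpowers a
  rw [← hwa]
  exact hM.conj_mem w (zpowers_le.2 hm hw) g

theorem fitting_le_of_pCore {K : Subgroup G}
    (h : ∀ r : ℕ, r.Prime → Cfsg.pCore r G ≤ K) : Cfsg.fittingSubgroup G ≤ K := by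
  rw [fittingSubgroup_eq_iSup_pCore]
  exact iSup_le fun q => h q q.2

theorem pCore_ne_bot_of_dvd {p : ℕ} [Fact p.Prime] (h : p ∣ Nat.card (Cfsg.fittingSubgroup G)) :
    Cfsg.pCore p G ≠ ⊥ := by
  intro hb
  have hle : Cfsg.fittingSubgroup G ≤ Cfsg.pPrimeCore p G := fitting_le_of_pCore fun r hr => by
    by_cases hrp : r = p
    · rw [hrp, hb]; exact bot_le
    · haveI : Fact r.Prime := ⟨hr⟩
      refine le_pPrimeCore (pCore_normal _ G) ?_
      obtain ⟨k, hk⟩ := IsPGroup.iff_card.mp (pCore_isPGroup (G := G) r)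
      rw [hk]
      exact Nat.Coprime.pow_left k ((Nat.coprime_primes hr Fact.out).2 hrp)
  have := (pPrimeCore_coprime (G := G) p).coprime_dvd_left (h.trans (card_dvd_of_le hle))
  exact (Fact.out : p.Prime).ne_one (by simpa using this)

/-- A quaternion Sylow group in group-theoretic terms. -/
theorem quaternion_facts {P : Subgroup G} {k : ℕ} (e : P ≃* QuaternionGroup (2 ^ k)) (hnc : ¬ IsCyclic P) :
    (∀ x ∈ P, ∀ y ∈ P, orderOf x = 2 → orderOf y = 2 → x = y) ∧
    (∀ M : Subgroup G, (∀ x : G, orderOf x = 4 → x ∈ M) → P ≤ M) ∧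
    (∃ x ∈ P, ∃ y ∈ P, orderOf x = 4 ∧ x * y ≠ y * x) ∧ Nat.card P = 4 * 2 ^ k ∧ 1 ≤ k := by
  have hk : 1 ≤ k := by
    by_contra h
    obtain rfl : k = 0 := by omega
    have hc : IsCyclic (QuaternionGroup (2 ^ 0)) := isCyclic_of_orderOf_eq_card (.xa 0) (by
      rw [QuaternionGroup.orderOf_xa, Nat.card_eq_fintype_card, QuaternionGroup.card]; norm_num)
    exact hnc (isCyclic_of_surjective e.symm.toMonoidHom e.symm.surjective)
  have hn2 : 2 ≤ 2 ^ k := by
    calc 2 = 2 ^ 1 := (pow_one 2).symm
      _ ≤ 2 ^ k := Nat.pow_le_pow_right two_pos hk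
  have horder : ∀ i, orderOf ((e.symm (.xa i) : P) : G) = 4 := fun i => by
    rw [Subgroup.orderOf_coe, MulEquiv.orderOf_eq, QuaternionGroup.orderOf_xa]
  refine ⟨fun x hx y hy hx2 hy2 => ?_, fun M hM x hx => ?_, ?_, ?_, hk⟩
  · have key : ∀ z : G, ∀ hz : z ∈ P, orderOf z = 2 → e ⟨z, hz⟩ = .a ((2 ^ k : ℕ) : ZMod (2 * 2 ^ k)) := by
      intro z hz hz2
      have h1 : orderOf (e ⟨z, hz⟩) = 2 := by rw [MulEquiv.orderOf_eq, Subgroup.orderOf_mk, hz2]
      rcases quaternion_sq_eq_one _ (h1 ▸ pow_orderOf_eq_one (e ⟨z, hz⟩)) with h | h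
      · rw [h, orderOf_one] at h1; norm_num at h1
      · exact h
    exact congrArg Subtype.val (e.injective ((key x hx hx2).trans (key y hy hy2).symm))
  · have hall : ∀ q : QuaternionGroup (2 ^ k), ((e.symm q : P) : G) ∈ M := by
      rintro (i | i)
      · have : (QuaternionGroup.a i) = .xa 0 * .xa (i - ((2 ^ k : ℕ) : ZMod (2 * 2 ^ k))) := by
          rw [QuaternionGroup.xa_mul_xa]; congr 1; ring
        rw [this, map_mul]
        exact mul_mem (hM _ (horder _)) (hM _ (horder _))
      · exact hM _ (horder i)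
    simpa using hall (e ⟨x, hx⟩)
  · refine ⟨(e.symm (.xa 0) : P), SetLike.coe_mem _, (e.symm (.a 1) : P), SetLike.coe_mem _, horder 0,
      fun h => ?_⟩
    have h2 := e.symm.injective (show e.symm (.xa 0 * .a 1) = e.symm (.a 1 * .xa 0) by
      rw [map_mul, map_mul]; exact Subtype.ext h)
    rw [QuaternionGroup.xa_mul_a, QuaternionGroup.a_mul_xa, QuaternionGroup.xa.injEq] at h2
    have h3 : ((2 : ℕ) : ZMod (2 * 2 ^ k)) = 0 := by push_cast; linear_combination h2
    rw [ZMod.natCast_eq_zero_iff] at h3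
    have := Nat.le_of_dvd two_pos h3
    omega
  · rw [Nat.card_congr e.toEquiv, Nat.card_eq_fintype_card, QuaternionGroup.card]

theorem conj_involution_unique {X : Subgroup G} [hX : X.Normal]
    (hu : ∀ x ∈ X, ∀ y ∈ X, orderOf x = 2 → orderOf y = 2 → x = y) {z : G} (hz : z ∈ X)
    (hz2 : orderOf z = 2) : z ∈ center G := by
  refine mem_center_iff.2 fun g => ?_
  have h := hu _ (hX.conj_mem z hz g) z hz
    (((orderOf_injective (MulAut.conj g).toMonoidHom (MulAut.conj g).injective z)).trans hz2) hz2
  exact mul_inv_eq_iff_eq_mul.1 h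

/-- A normal quaternion Sylow subgroup has order eight. -/
theorem AbConj.quaternion_card (hB : AbConj G) [Group.IsSolvable G] (P : Sylow 2 G)
    [hPn : (P : Subgroup G).Normal] {k : ℕ} (e : (P : Subgroup G) ≃* QuaternionGroup (2 ^ k))
    (hnc : ¬ IsCyclic (P : Subgroup G)) : Nat.card (P : Subgroup G) = 8 := by
  haveI : Fact (Nat.Prime 2) := ⟨Nat.prime_two⟩
  obtain ⟨hu, -, ⟨x, hx, y, hy, -, hxy⟩, hcard, hk⟩ := quaternion_facts e hnc
  have hne : ∀ i, orderOf ((e.symm (.xa i) : (P : Subgroup G)) : G) = 4 := fun i => by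
    rw [Subgroup.orderOf_coe, MulEquiv.orderOf_eq, QuaternionGroup.orderOf_xa]
  set z : G := ((e.symm (.a ((2 ^ k : ℕ) : ZMod (2 * 2 ^ k))) : (P : Subgroup G)) : G) with hzdef
  have hsq : ∀ i, ((e.symm (.xa i) : (P : Subgroup G)) : G) ^ 2 = z := fun i => by
    rw [hzdef, ← QuaternionGroup.xa_sq i, map_pow, Subgroup.coe_pow]
  have hz2 : orderOf z = 2 := by
    rw [← hsq 0, orderOf_pow, hne 0]; rfl
  have hzc : z ∈ center G := conj_involution_unique hu (SetLike.coe_mem _) hz2
  set Z := zpowers z with hZdef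
  haveI : Z.Normal := ⟨fun n hn g => by
    rw [mem_center_iff.1 (zpowers_le.2 hzc hn) g, mul_inv_cancel_right]; exact hn⟩
  set π := QuotientGroup.mk' Z with hπ
  have himg : IsPGroup 2 ((P : Subgroup G).map π) := P.2.map _
  have hZmem : ∀ w ∈ Z, w = 1 ∨ w = z := fun w hw => by
    obtain ⟨i, rfl⟩ := mem_zpowers_iff.1 hw
    rcases Int.even_or_odd i with ⟨c, rfl⟩ | ⟨c, rfl⟩
    · left
      rw [← two_mul, zpow_mul, show z ^ (2 : ℤ) = z ^ orderOf z by rw [hz2]; exact zpow_natCast z 2,
        pow_orderOf_eq_one, one_zpow]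
    · right
      rw [zpow_add, zpow_mul, show z ^ (2 : ℤ) = z ^ orderOf z by rw [hz2]; exact zpow_natCast z 2,
        pow_orderOf_eq_one, one_zpow, one_mul, zpow_one]
  rcases (hB.quotient_of_isSolvable Z).pgroup_structure himg with hc | ⟨-, n, ⟨f⟩⟩ | hexp
  · exfalso
    have h1 := commutative_of_cyclic_center_quotient (π.subgroupMap (P : Subgroup G)) (fun w hw => by
      refine mem_center_iff.2 fun v => Subtype.ext ?_
      have : (w : G) ∈ Z := (QuotientGroup.eq_one_iff _).1 (congrArg Subtype.val hw)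
      exact mem_center_iff.1 (zpowers_le.2 hzc this) v) ⟨x, hx⟩ ⟨y, hy⟩
    exact hxy (congrArg Subtype.val h1)
  · exfalso
    let v : ∀ i, ↥((P : Subgroup G).map π) := fun i =>
      ⟨π ((e.symm (.xa i) : (P : Subgroup G)) : G), mem_map_of_mem _ (SetLike.coe_mem _)⟩
    have hv1 : ∀ i, v i ≠ 1 := fun i h => by
      have h1 := (QuotientGroup.eq_one_iff _).1 (congrArg Subtype.val h)
      have h2 := hne i
      rcases hZmem _ h1 with h3 | h3 <;> rw [h3] at h2
      · rw [orderOf_one] at h2; norm_num at h2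
      · rw [hz2] at h2; norm_num at h2
    have hv2 : ∀ i, v i ^ 2 = 1 := fun i => Subtype.ext (by
      show π _ ^ 2 = 1
      rw [← map_pow, hsq]
      exact (QuotientGroup.eq_one_iff _).2 (mem_zpowers z))
    have key : ∀ i, f (v i) = .a ((2 ^ n : ℕ) : ZMod (2 * 2 ^ n)) := fun i => by
      rcases quaternion_sq_eq_one (f (v i)) (by rw [← map_pow, hv2, map_one]) with h | h
      · exact absurd (f.injective (h.trans f.map_one.symm)) (hv1 i)
      · exact h
    have hveq := congrArg Subtype.val (f.injective ((key 0).trans (key 1).symm))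
    have hmem : ((e.symm (.xa 0) : (P : Subgroup G)) : G)⁻¹ * (e.symm (.xa 1) : (P : Subgroup G)) ∈ Z :=
      QuotientGroup.eq.1 hveq
    have hn2 : 2 ≤ 2 ^ k := by
      calc 2 = 2 ^ 1 := (pow_one 2).symm
        _ ≤ 2 ^ k := Nat.pow_le_pow_right two_pos hk
    rcases hZmem _ hmem with h | h
    · have h1 : e.symm (.xa 0) = e.symm (.xa 1) := Subtype.ext (inv_mul_eq_one.1 h)
      have h2 := e.symm.injective h1
      rw [QuaternionGroup.xa.injEq] at h2
      have h3 : ((1 : ℕ) : ZMod (2 * 2 ^ k)) = 0 := by push_cast; exact h2.symm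
      rw [ZMod.natCast_eq_zero_iff] at h3
      have := Nat.le_of_dvd one_pos h3
      omega
    · have h1 : e.symm (.xa 1) = e.symm (.xa 0 * .a ((2 ^ k : ℕ) : ZMod (2 * 2 ^ k))) := Subtype.ext (by
        rw [map_mul, Subgroup.coe_mul, ← hzdef, inv_mul_eq_iff_eq_mul.1 h])
      have h2 := e.symm.injective h1
      rw [QuaternionGroup.xa_mul_a, QuaternionGroup.xa.injEq, zero_add] at h2
      have h3 : ((2 ^ k - 1 : ℕ) : ZMod (2 * 2 ^ k)) = 0 := by
        rw [Nat.cast_sub (by omega)]
        rw [← h2]; simp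
      rw [ZMod.natCast_eq_zero_iff] at h3
      have := Nat.le_of_dvd (by omega) h3
      omega
  · set a : G := ((e.symm (.a 1) : (P : Subgroup G)) : G)
    have h1 : a ^ 2 ∈ Z := by
      have := hexp _ (mem_map_of_mem π (show a ∈ (P : Subgroup G) from SetLike.coe_mem _))
      rw [← map_pow] at this
      exact (QuotientGroup.eq_one_iff _).1 this
    have h4 : a ^ 4 = 1 := by
      rw [show a ^ 4 = (a ^ 2) ^ 2 by rw [← pow_mul]]
      rcases hZmem _ h1 with h | h <;> rw [h]
      · simp
      · exact hz2 ▸ pow_orderOf_eq_one z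
    have h5 := orderOf_dvd_of_pow_eq_one h4
    rw [Subgroup.orderOf_coe, MulEquiv.orderOf_eq, QuaternionGroup.orderOf_a_one] at h5
    have := Nat.le_of_dvd four_pos h5
    rw [hcard]
    have hn2 : 2 ≤ 2 ^ k := by
      calc 2 = 2 ^ 1 := (pow_one 2).symm
        _ ≤ 2 ^ k := Nat.pow_le_pow_right two_pos hk
    omega

/-- A noncyclic group of prime exponent has a noncyclic subgroup of order `q ^ 2`. -/
theorem exists_sq_subgroup {q : ℕ} [Fact q.Prime] {R : Subgroup G} (hR : IsPGroup q R)
    (hnc : ¬ IsCyclic R) (hexp : ∀ x ∈ R, x ^ q = 1) :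
    ∃ E : Subgroup G, E ≤ R ∧ Nat.card E = q ^ 2 ∧ IsMulCommutative E ∧ ¬ IsCyclic E := by
  have hq := (Fact.out : q.Prime)
  obtain ⟨n, hn⟩ := IsPGroup.iff_card.1 hR
  have h2 : 2 ≤ n := by
    by_contra h
    rcases (show n = 0 ∨ n = 1 by omega) with rfl | rfl
    · rw [pow_zero] at hn
      haveI := (Nat.card_eq_one_iff_unique.1 hn).1
      exact hnc inferInstance
    · exact hnc (isCyclic_of_prime_card (hn.trans (pow_one q)))
  obtain ⟨E, hE⟩ := Sylow.exists_subgroup_card_pow_prime q (n := 2) (G := R) (hn ▸ pow_dvd_pow q h2)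
  have hc : Nat.card (E.map R.subtype) = q ^ 2 := by
    rw [card_map_of_injective R.subtype_injective, hE]
  refine ⟨E.map R.subtype, map_subtype_le E, hc, ⟨⟨IsPGroup.commutative_of_card_eq_prime_sq hc⟩⟩, ?_⟩
  intro hcyc
  obtain ⟨g, hg⟩ := (Subgroup.isCyclic_iff_exists_zpowers_eq_top (E.map R.subtype)).1 hcyc
  have h1 : orderOf g ∣ q := orderOf_dvd_of_pow_eq_one (hexp g (map_subtype_le E (hg ▸ mem_zpowers g)))
  rw [← hg, Nat.card_zpowers] at hc
  rw [hc] at h1
  have := Nat.le_of_dvd hq.pos h1
  nlinarith [hq.two_le]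

/-- A coprime noncyclic abelian group fixes part of a nontrivial group pointwise through one of its
nontrivial subgroups, and these parts generate. -/
theorem exists_fixed_not_le {E X D : Subgroup G} (hEab : IsMulCommutative E) (hEn : ¬ IsCyclic E)
    (hE : E ≤ normalizer (X : Set G)) (hcop : (Nat.card E).Coprime (Nat.card X)) (hXD : ¬ X ≤ D) :
    ∃ a ∈ E, a ≠ 1 ∧ ∃ x ∈ X, x ∉ D ∧ a * x = x * a := by
  by_contra hno
  push Not at hno
  refine hXD ((cocyclicJoin_eq hEab hE hcop).ge.trans (iSup₂_le fun B ⟨hBE, b, hb, hBb⟩ => ?_))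
  intro x hx
  by_contra hxD
  have hBne : B ≠ ⊥ := fun h => hEn (by
    rw [h, bot_sup_eq] at hBb
    rw [← hBb]; exact isCyclic_zpowers b)
  obtain ⟨a, ha, ha1⟩ := (bot_or_exists_ne_one B).resolve_left hBne
  exact hno a (hBE ha) ha1 x hx.1 hxD (mem_centralizer_iff.1 hx.2 a ha)

theorem exists_minimal_prime (hE : ∀ N : Subgroup G, N.Normal → N ≠ ⊥ →
      (∀ K : Subgroup G, K.Normal → K ≤ N → K = ⊥ ∨ K = N) → (Nat.card N).Prime)
    {r : ℕ} [Fact r.Prime] {M : Subgroup G} [M.Normal] (hM : IsPGroup r M) (hne : M ≠ ⊥) :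
    ∃ N : Subgroup G, N.Normal ∧ N ≤ M ∧ Nat.card N = r := by
  obtain ⟨N, hN, hNne, hNM, hmin⟩ := exists_minimal_normal_le (N := M) inferInstance hne
  refine ⟨N, hN, hNM, ?_⟩
  have hp := hE N hN hNne hmin
  obtain ⟨k, hk⟩ := IsPGroup.iff_card.1 (hM.to_le hNM)
  rw [hk] at hp ⊢
  rw [(Nat.Prime.pow_eq_iff hp).1 rfl |>.2, pow_one]

/-- If minimal normal subgroups have prime order, Sylow subgroups are cyclic, or the Sylow
`2`-subgroup is a normal quaternion group of order eight. -/
theorem AbConj.sylow_structure (hB : AbConj G) [Group.IsSolvable G]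
    (hE : ∀ N : Subgroup G, N.Normal → N ≠ ⊥ →
      (∀ K : Subgroup G, K.Normal → K ≤ N → K = ⊥ ∨ K = N) → (Nat.card N).Prime) :
    (∀ q : ℕ, q.Prime → q ≠ 2 → ∀ R : Sylow q G, IsCyclic (R : Subgroup G)) ∧
    ((∀ R : Sylow 2 G, IsCyclic (R : Subgroup G)) ∨
      ∃ X : Subgroup G, X.Normal ∧ Nat.card X = 8 ∧ Odd X.index ∧
        (∀ x y : G, orderOf x = 2 → orderOf y = 2 → x = y) ∧ (∀ x : G, orderOf x = 4 → x ∈ X) ∧
        ∃ x ∈ X, ∃ y ∈ X, x * y ≠ y * x) := by
  haveI : Fact (Nat.Prime 2) := ⟨Nat.prime_two⟩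
  -- cores have a unique subgroup of prime order
  have hcore : ∀ r : ℕ, r.Prime → IsCyclic (Cfsg.pCore r G : Subgroup G) ∨
      (r = 2 ∧ ∃ n : ℕ, Nonempty ((Cfsg.pCore r G : Subgroup G) ≃* QuaternionGroup (2 ^ n))) := by
    intro r hr
    haveI : Fact r.Prime := ⟨hr⟩
    haveI := pCore_normal r G
    refine isCyclic_or_quaternion_of_unique (pCore_isPGroup r) fun H K hH hK => ?_
    have hne : Cfsg.pCore r G ≠ ⊥ := fun h => by
      haveI : Subsingleton (Cfsg.pCore r G : Subgroup G) := by rw [h]; infer_instance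
      rw [show H = ⊥ from Subsingleton.elim _ _, Subgroup.card_bot] at hH
      exact hr.ne_one hH.symm
    obtain ⟨N, hN, -, hNc⟩ := exists_minimal_prime hE (pCore_isPGroup r) hne
    obtain ⟨m, hm⟩ := exists_prime_orderOf_dvd_card' r (dvd_of_eq hNc.symm)
    rw [← Subgroup.orderOf_coe] at hm
    have key : ∀ H : Subgroup (Cfsg.pCore r G : Subgroup G), Nat.card H = r →
        H.map (Cfsg.pCore r G).subtype = N := fun H hH => by
      refine eq_of_le_of_card_ge ?_ (by rw [card_map_of_injective (Subgroup.subtype_injective _), hH, hNc])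
      rintro _ ⟨x, hx, rfl⟩
      by_cases hx1 : x = 1
      · subst hx1; exact one_mem N
      refine hB.mem_of_orderOf_eq m.2 ?_
      rw [hm, Subgroup.subtype_apply, Subgroup.orderOf_coe]
      exact ((Nat.dvd_prime hr).1 ((Subgroup.orderOf_dvd_natCard _ hx).trans (dvd_of_eq hH))).resolve_left
        (fun h => hx1 (orderOf_eq_one_iff.1 h))
    exact map_injective (Subgroup.subtype_injective _) ((key H hH).trans (key K hK).symm)
  have hnoexp : ∀ q : ℕ, q.Prime → ∀ R : Subgroup G, IsPGroup q R → (∀ x ∈ R, x ^ q = 1) → IsCyclic R := by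
    intro q hq R hR hexp
    by_contra hnc
    haveI : Fact q.Prime := ⟨hq⟩
    obtain ⟨E, hER, hEc, hEab, hEn⟩ := exists_sq_subgroup hR hnc hexp
    have hord : ∀ a ∈ E, a ≠ 1 → orderOf a = q := fun a ha h1 =>
      orderOf_eq_prime (hexp a (hER ha)) h1
    have hq1 : Cfsg.pCore q G = ⊥ := by
      by_contra h
      haveI := pCore_normal q G
      obtain ⟨N, hN, -, hNc⟩ := exists_minimal_prime hE (pCore_isPGroup q) h
      obtain ⟨m, hm⟩ := exists_prime_orderOf_dvd_card' q (dvd_of_eq hNc.symm)
      rw [← Subgroup.orderOf_coe] at hm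
      have : E ≤ N := fun a ha => by
        by_cases h1 : a = 1
        · subst h1; exact one_mem N
        · exact hB.mem_of_orderOf_eq m.2 ((hord a ha h1).trans hm.symm)
      have := Nat.le_of_dvd Nat.card_pos (card_dvd_of_le this)
      rw [hEc, hNc] at this
      nlinarith [hq.two_le]
    obtain ⟨a₀, ha₀, ha₁⟩ := (bot_or_exists_ne_one E).resolve_left
      (fun h => hEn (by rw [h]; infer_instance))
    -- `E` centralises every core
    have hEc' : ∀ r : ℕ, r.Prime → E ≤ centralizer (Cfsg.pCore r G : Set G) := by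
      intro r hr
      haveI : Fact r.Prime := ⟨hr⟩
      haveI := pCore_normal r G
      set X := Cfsg.pCore r G with hX
      suffices h : ∃ a ∈ E, a ≠ 1 ∧ a ∈ centralizer (X : Set G) by
        obtain ⟨a, ha, h1, hc⟩ := h
        intro b hb
        by_cases hb1 : b = 1
        · subst hb1; exact one_mem _
        · exact hB.mem_of_orderOf_eq hc ((hord b hb hb1).trans (hord a ha h1).symm)
      by_cases hbot : X = ⊥
      · exact ⟨a₀, ha₀, ha₁, mem_centralizer_iff.2 fun x hx => by
          rw [hbot, SetLike.mem_coe, mem_bot] at hx; rw [hx, one_mul, mul_one]⟩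
      have hrq : r ≠ q := fun h => hbot (by rw [hX, h, hq1])
      have hcop : (Nat.card E).Coprime (Nat.card X) := by
        obtain ⟨j, hj⟩ := IsPGroup.iff_card.1 (pCore_isPGroup (G := G) r)
        rw [hEc, hj]
        exact ((Nat.coprime_primes hq hr).2 hrq.symm).pow _ _
      have hnorm : E ≤ normalizer (X : Set G) := (normalizer_eq_top X).symm ▸ le_top
      rcases hcore r hr with hc | ⟨rfl, n, ⟨f⟩⟩
      · haveI := hc
        obtain ⟨g, hg⟩ := (Subgroup.isCyclic_iff_exists_zpowers_eq_top X).1 hc
        obtain ⟨j, hj⟩ := IsPGroup.iff_card.1 (pCore_isPGroup (G := G) r)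
        have hj0 : 1 ≤ j := by
          by_contra h
          exact hbot (Subgroup.card_eq_one.1 (by rw [hX, hj, show j = 0 by omega, pow_zero]))
        -- the maximal subgroup
        have hgp : orderOf g = r ^ j := by rw [← Nat.card_zpowers, hg, hj]
        obtain ⟨a, ha, ha1, x, hx, hxD, hax⟩ := exists_fixed_not_le (D := zpowers (g ^ r)) hEab hEn hnorm hcop
          (fun h => by
            have := Nat.le_of_dvd Nat.card_pos (card_dvd_of_le h)
            rw [← hg, Nat.card_zpowers, Nat.card_zpowers, hgp, orderOf_pow, hgp,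
              Nat.gcd_eq_right (dvd_pow_self r (by omega))] at this
            exact (Nat.div_lt_self (pow_pos hr.pos j) hr.one_lt).not_ge this)
        refine ⟨a, ha, ha1, ?_⟩
        have e : zpowers x = X := by
          rw [← hg] at hx ⊢
          obtain ⟨i, rfl⟩ := mem_zpowers_iff.1 hx
          refine eq_of_le_of_card_ge (zpowers_le.2 (zpow_mem (mem_zpowers g) i)) ?_
          have hni : ¬ (r : ℤ) ∣ i := fun ⟨c, hc⟩ => hxD (by
            rw [hc, zpow_mul, zpow_natCast]; exact zpow_mem (mem_zpowers _) c)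
          have hgcd : i.natAbs.Coprime (orderOf g) := by
            rw [hgp]
            exact Nat.Coprime.pow_right j ((hr.coprime_iff_not_dvd.2
              (fun h => hni (Int.natCast_dvd.2 h))).symm)
          rw [Nat.card_zpowers, Nat.card_zpowers]
          refine le_of_eq ?_
          rcases Int.natAbs_eq i with e | e <;> rw [e]
          · rw [zpow_natCast]; exact (hgcd.symm.orderOf_pow).symm
          · rw [zpow_neg, orderOf_inv, zpow_natCast]; exact (hgcd.symm.orderOf_pow).symm
        refine mem_centralizer_iff.2 fun y hy => ?_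
        rw [SetLike.mem_coe, ← e] at hy
        obtain ⟨i, rfl⟩ := mem_zpowers_iff.1 hy
        exact ((show Commute a x from hax).zpow_right i).eq.symm
      · by_cases hXc : IsCyclic X
        · -- only order four
          obtain ⟨g, hg⟩ := (Subgroup.isCyclic_iff_exists_zpowers_eq_top X).1 hXc
          have hgc : orderOf g = 4 * 2 ^ n := by
            rw [← Nat.card_zpowers, hg, Nat.card_congr f.toEquiv, Nat.card_eq_fintype_card, QuaternionGroup.card]
          obtain ⟨a, ha, ha1, x, hx, hxD, hax⟩ := exists_fixed_not_le (D := zpowers (g ^ 2)) hEab hEn hnorm hcop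
            (fun h => by
              have := Nat.le_of_dvd Nat.card_pos (card_dvd_of_le h)
              rw [← hg, Nat.card_zpowers, Nat.card_zpowers, orderOf_pow, hgc,
                Nat.gcd_eq_right (dvd_mul_of_dvd_left (by norm_num) _)] at this
              have := Nat.two_pow_pos n
              omega)
          refine ⟨a, ha, ha1, ?_⟩
          rw [← hg] at hx
          obtain ⟨i, rfl⟩ := mem_zpowers_iff.1 hx
          rcases Int.even_or_odd i with ⟨c, rfl⟩ | ⟨c, hi⟩
          · exact absurd (by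
              rw [← two_mul, zpow_mul, show g ^ (2 : ℤ) = g ^ (2 : ℕ) from zpow_natCast g 2]; exact zpow_mem (mem_zpowers _) c) hxD
          · have hag : Commute a g := by
              have h2 : zpowers (g ^ i) = zpowers g := by
                refine eq_of_le_of_card_ge (zpowers_le.2 (zpow_mem (mem_zpowers g) i)) ?_
                have hg4 : orderOf g = 2 ^ (n + 2) := by rw [hgc, pow_add]; ring
                have hni : ¬ (2 : ℕ) ∣ i.natAbs := fun h => by
                  have := (Int.natAbs_dvd_natAbs (a := 2) (b := i)).1 h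
                  omega
                have hgcd : i.natAbs.Coprime (orderOf g) := by
                  rw [hg4]; exact Nat.Coprime.pow_right _ ((Nat.prime_two.coprime_iff_not_dvd.2 hni).symm)
                rw [Nat.card_zpowers, Nat.card_zpowers]
                refine le_of_eq ?_
                rcases Int.natAbs_eq i with e | e <;> rw [e]
                · rw [zpow_natCast]; exact (hgcd.symm.orderOf_pow).symm
                · rw [zpow_neg, orderOf_inv, zpow_natCast]; exact (hgcd.symm.orderOf_pow).symm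
              obtain ⟨j, hj⟩ := mem_zpowers_iff.1 (h2.ge (mem_zpowers g))
              exact hj ▸ (show Commute a (g ^ i) from hax).zpow_right j
            refine mem_centralizer_iff.2 fun y hy => ?_
            rw [SetLike.mem_coe, ← hg] at hy
            obtain ⟨j, rfl⟩ := mem_zpowers_iff.1 hy
            exact (hag.zpow_right j).eq.symm
        obtain ⟨hu, hgen, ⟨x₀, hx₀, -, -, hx₄, -⟩, -⟩ := quaternion_facts f hXc
        -- `X` is a normal Sylow subgroup, so of order eight
        obtain ⟨P, hP⟩ := (pCore_isPGroup (G := G) 2).exists_le_sylow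
        have h4 : ∀ y : G, orderOf y = 4 → y ∈ X := fun y hy => hB.mem_of_orderOf_eq hx₀ (hy.trans hx₄.symm)
        have hPX : (P : Subgroup G) = X := by
          refine le_antisymm ?_ hP
          rcases hB.pgroup_structure P.2 with h | ⟨-, m, ⟨e⟩⟩ | h
          · haveI := h
            exact absurd (Subgroup.isCyclic_of_le hP) hXc
          · have hPc : ¬ IsCyclic (P : Subgroup G) := fun h => by
              haveI := h; exact hXc (Subgroup.isCyclic_of_le hP)
            exact (quaternion_facts e hPc).2.1 X h4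
          · have := orderOf_dvd_of_pow_eq_one (h x₀ (hP hx₀))
            rw [hx₄] at this
            norm_num at this
        haveI : (P : Subgroup G).Normal := hPX ▸ inferInstance
        have hc8 : Nat.card X = 8 := by
          rw [← hPX]
          exact hB.quaternion_card P ((MulEquiv.subgroupCongr hPX).trans f)
            (fun h => hXc (hPX ▸ h))
        have hu4 : ∀ y : X, orderOf (y : G) ≤ 2 ∨ orderOf (y : G) = 4 := fun y => by
          have hd : orderOf (y : G) ∣ 2 ^ 3 := by
            rw [show (2 : ℕ) ^ 3 = Nat.card X from hc8.symm]; exact Subgroup.orderOf_dvd_natCard _ y.2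
          obtain ⟨i, hi, hi'⟩ := (Nat.dvd_prime_pow Nat.prime_two).1 hd
          interval_cases i
          · left; omega
          · left; omega
          · right; omega
          · exfalso
            exact hXc ((Subgroup.isCyclic_iff_exists_zpowers_eq_top X).2 ⟨y, eq_of_le_of_card_ge (zpowers_le.2 y.2)
              (by rw [Nat.card_zpowers, hi', hc8]; norm_num)⟩)
        obtain ⟨z, hz⟩ := exists_prime_orderOf_dvd_card' 2 (hc8 ▸ (by norm_num) : 2 ∣ Nat.card X)
        rw [← Subgroup.orderOf_coe] at hz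
        obtain ⟨a, ha, ha1, c, hc, hcD, hac⟩ := exists_fixed_not_le (D := zpowers (z : G)) hEab hEn hnorm hcop
          (fun h => by
            have := Nat.le_of_dvd Nat.card_pos (card_dvd_of_le h)
            rw [hc8, Nat.card_zpowers, hz] at this
            norm_num at this)
        refine ⟨a, ha, ha1, ?_⟩
        have hc4 : orderOf c = 4 := (hu4 ⟨c, hc⟩).resolve_left fun h => by
          rcases (show orderOf c = 1 ∨ orderOf c = 2 by have := orderOf_pos c; simp only at h; omega) with h | h
          · exact hcD (by rw [orderOf_eq_one_iff.1 h]; exact one_mem _)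
          · exact hcD (by rw [hu c hc z z.2 h hz]; exact mem_zpowers _)
        have hidx : (zpowers (⟨c, hc⟩ : X)).index = 2 := by
          have h1 := Subgroup.card_mul_index (zpowers (⟨c, hc⟩ : X))
          rw [Nat.card_zpowers, Subgroup.orderOf_mk, hc4, hc8] at h1
          omega
        have hodd : Odd q := hq.odd_of_ne_two hrq.symm
        refine mem_centralizer_iff.2 fun d hd => ?_
        by_cases hdc : (⟨d, hd⟩ : X) ∈ zpowers (⟨c, hc⟩ : X)
        · obtain ⟨i, hi⟩ := mem_zpowers_iff.1 hdc
          have : c ^ i = d := congrArg Subtype.val hi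
          exact this ▸ ((show Commute a c from hac).zpow_right i).eq.symm
        · have hd' : a * d * a⁻¹ ∈ X := Normal.conj_mem inferInstance d hd a
          have hdc' : (⟨a * d * a⁻¹, hd'⟩ : X) ∉ zpowers (⟨c, hc⟩ : X) := fun h => by
            obtain ⟨i, hi⟩ := mem_zpowers_iff.1 h
            have h1 : c ^ i = a * d * a⁻¹ := congrArg Subtype.val hi
            refine hdc (mem_zpowers_iff.2 ⟨i, Subtype.ext (show c ^ i = d from ?_)⟩)
            have h2 : a * c ^ i * a⁻¹ = a * d * a⁻¹ := by
              rw [((show Commute a c from hac).zpow_right i).eq, mul_inv_cancel_right, h1]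
            exact mul_left_cancel (mul_right_cancel h2)
          have hprod : (⟨d, hd⟩ : X)⁻¹ * ⟨a * d * a⁻¹, hd'⟩ ∈ zpowers (⟨c, hc⟩ : X) :=
            (Subgroup.mul_mem_iff_of_index_two hidx).2 (iff_of_false (fun h => hdc (by simpa using h)) hdc')
          obtain ⟨i, hi⟩ := mem_zpowers_iff.1 hprod
          have hi' : c ^ i = d⁻¹ * (a * d * a⁻¹) := congrArg Subtype.val hi
          have hit : ∀ j : ℕ, a ^ j * d * (a ^ j)⁻¹ = d * c ^ (i * j) := by
            intro j
            induction j with
            | zero => simp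
            | succ j ih =>
              rw [pow_succ', show a * a ^ j * d * (a * a ^ j)⁻¹ = a * (a ^ j * d * (a ^ j)⁻¹) * a⁻¹ by group,
                ih, show a * (d * c ^ (i * j)) * a⁻¹ = (a * d * a⁻¹) * (a * c ^ (i * j) * a⁻¹) by group,
                ((show Commute a c from hac).zpow_right _).eq, mul_inv_cancel_right,
                show a * d * a⁻¹ = d * c ^ i by rw [hi']; group, mul_assoc, ← zpow_add]
              congr 2
              push_cast
              ring
          have hq' := hit q
          rw [show a ^ q = 1 from hexp a (hER ha), one_mul, inv_one, mul_one, left_eq_mul] at hq'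
          have h4i : ((4 : ℕ) : ℤ) ∣ i * q := by
            rw [← hc4]; exact orderOf_dvd_iff_zpow_eq_one.2 hq'
          have hcop4 : IsCoprime ((4 : ℕ) : ℤ) (q : ℤ) := by
            rw [Int.isCoprime_iff_nat_coprime]
            exact Nat.Coprime.pow_left 2 (Nat.coprime_two_left.2 hodd)
          have hci : c ^ i = 1 := by
            rw [← orderOf_dvd_iff_zpow_eq_one, hc4]
            exact hcop4.dvd_of_dvd_mul_right h4i
          have h5 : a * d * a⁻¹ = d := by
            rw [hci] at hi'
            exact (inv_mul_eq_one.1 hi'.symm).symm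
          exact (mul_inv_eq_iff_eq_mul.1 h5).symm
    have hle : E ≤ Cfsg.fittingSubgroup G := fun x hx => centralizer_fittingSubgroup_le (G := G)
      (mem_centralizer_iff.2 fun y hy => (mem_centralizer_iff.1
        ((fitting_le_of_pCore fun r hr => le_centralizer_iff.1 (hEc' r hr)) hy) x hx).symm)
    exact pCore_ne_bot_of_dvd (p := q)
      ((dvd_pow_self q two_ne_zero).trans (hEc ▸ card_dvd_of_le hle)) hq1
  refine ⟨fun q hq hq2 R => ?_, ?_⟩
  · haveI : Fact q.Prime := ⟨hq⟩
    rcases hB.pgroup_structure R.2 with h | ⟨h, -⟩ | h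
    exacts [h, absurd h hq2, hnoexp q hq _ R.2 h]
  by_cases hall : ∀ R : Sylow 2 G, IsCyclic (R : Subgroup G)
  · exact Or.inl hall
  right
  push Not at hall
  obtain ⟨R, hRnc⟩ := hall
  rcases hB.pgroup_structure R.2 with h | ⟨-, k, ⟨e⟩⟩ | h
  · exact absurd h hRnc
  rotate_left
  · exact absurd (hnoexp 2 Nat.prime_two _ R.2 h) hRnc
  obtain ⟨hu, hgen, ⟨x₀, hx₀, y₀, hy₀, hx4, hxy⟩, hcard, hk⟩ := quaternion_facts e hRnc
  -- an element of order four in the 2-core
  have hcent : ∀ r : ℕ, r.Prime → r ≠ 2 → (R : Subgroup G) ≤ centralizer (Cfsg.pCore r G : Set G) := by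
    intro r hr hr2
    haveI : Fact r.Prime := ⟨hr⟩
    haveI := pCore_normal r G
    set X := Cfsg.pCore r G
    haveI hXc : IsCyclic X := (hcore r hr).resolve_right fun h => hr2 h.1
    obtain ⟨j, hj⟩ := IsPGroup.iff_card.1 (pCore_isPGroup (G := G) r)
    haveI : IsCyclic (MulAut X) := by
      haveI : IsCyclic (ZMod (Nat.card X))ˣ := by rw [hj]; exact ZMod.isCyclic_units_of_prime_pow r hr hr2 j
      exact isCyclic_of_surjective (IsCyclic.mulAutMulEquiv X).symm.toMonoidHom
        (IsCyclic.mulAutMulEquiv X).symm.surjective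
    have hnorm : (R : Subgroup G) ≤ normalizer (X : Set G) := (normalizer_eq_top X).symm ▸ le_top
    let θ := conjHom hnorm
    by_cases hex : ∃ w : (R : Subgroup G), orderOf (w : G) = 4 ∧ θ w = 1
    · obtain ⟨w, hw4, hw⟩ := hex
      have hwc : (w : G) ∈ centralizer (X : Set G) := mem_centralizer_iff.2 fun v hv => by
        have h := congrArg Subtype.val (DFunLike.congr_fun hw ⟨v, hv⟩)
        rw [conjHom_apply] at h
        exact (mul_inv_eq_iff_eq_mul.1 h).symm
      exact hgen _ fun v hv => hB.mem_of_orderOf_eq hwc (hv.trans hw4.symm)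
    · exfalso
      push Not at hex
      haveI : IsCyclic θ.range := inferInstance
      have hker : θ.rangeRestrict.ker ≤ center (R : Subgroup G) := fun w hw => by
        rw [MonoidHom.ker_rangeRestrict] at hw
        obtain ⟨i, hi⟩ := IsPGroup.iff_orderOf.1 R.2 w
        have hi2 : i ≤ 1 := by
          by_contra h
          have h4 : orderOf (w ^ 2 ^ (i - 2)) = 4 := by
            rw [orderOf_pow' _ (pow_ne_zero _ two_ne_zero), hi,
              Nat.gcd_eq_right (pow_dvd_pow 2 (by omega)), Nat.pow_div (by omega) two_pos,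
              show i - (i - 2) = 2 by omega]
            norm_num
          exact hex _ (by rw [Subgroup.orderOf_coe]; exact h4) (by rw [map_pow, hw, one_pow])
        refine mem_center_iff.2 fun v => ?_
        rcases (show i = 0 ∨ i = 1 by omega) with rfl | rfl
        · have hw1 : w = 1 := orderOf_eq_one_iff.1 (by simpa using hi)
          rw [hw1, mul_one, one_mul]
        · have hw2 : orderOf (w : G) = 2 := by rw [Subgroup.orderOf_coe, hi]; norm_num
          refine Subtype.ext ?_
          have h := hu _ (mul_mem (mul_mem v.2 w.2) (inv_mem v.2)) w w.2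
            ((orderOf_injective (MulAut.conj (v : G)).toMonoidHom (MulAut.conj (v : G)).injective w).trans hw2) hw2
          exact mul_inv_eq_iff_eq_mul.1 h
      exact hxy (congrArg Subtype.val
        (commutative_of_cyclic_center_quotient θ.rangeRestrict hker ⟨x₀, hx₀⟩ ⟨y₀, hy₀⟩))
  haveI := pCore_normal 2 G
  obtain ⟨w, hw, hw4⟩ : ∃ w ∈ Cfsg.pCore 2 G, orderOf w = 4 := by
    by_contra hno
    push Not at hno
    -- then the 2-core is central
    have h2 : Cfsg.pCore 2 G ≤ center G := fun v hv => by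
      obtain ⟨i, hi⟩ := IsPGroup.iff_orderOf.1 (pCore_isPGroup (G := G) 2) ⟨v, hv⟩
      rw [Subgroup.orderOf_mk] at hi
      have hi2 : i ≤ 1 := by
        by_contra h
        refine hno _ (pow_mem hv (2 ^ (i - 2))) ?_
        rw [orderOf_pow' _ (pow_ne_zero _ two_ne_zero), hi,
          Nat.gcd_eq_right (pow_dvd_pow 2 (by omega)), Nat.pow_div (by omega) two_pos,
          show i - (i - 2) = 2 by omega]
        norm_num
      rcases (show i = 0 ∨ i = 1 by omega) with rfl | rfl
      · have hv1 : v = 1 := orderOf_eq_one_iff.1 (by simpa using hi)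
        rw [hv1]; exact one_mem _
      · obtain ⟨Q, hQ⟩ := (pCore_isPGroup (G := G) 2).exists_le_sylow
        refine conj_involution_unique (X := Cfsg.pCore 2 G) (fun x hx y hy hx2 hy2 => ?_) hv (by simpa using hi)
        obtain ⟨g, hg⟩ := MulAction.exists_smul_eq G R Q
        have hmem : ∀ v ∈ Cfsg.pCore 2 G, g⁻¹ * v * g ∈ (R : Subgroup G) := fun v hv => by
          have := hQ hv
          rw [← hg, Sylow.coe_subgroup_smul, mem_conj_smul] at this
          exact this
        have hord : ∀ v : G, orderOf (g⁻¹ * v * g) = orderOf v := fun v => by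
          have h := orderOf_injective (MulAut.conj g⁻¹).toMonoidHom (MulAut.conj g⁻¹).injective v
          simpa using h
        have := hu _ (hmem x hx) _ (hmem y hy)
          ((hord x).trans hx2) ((hord y).trans hy2)
        exact mul_left_cancel (mul_right_cancel this)
    have hle : (R : Subgroup G) ≤ Cfsg.fittingSubgroup G := fun x hx => centralizer_fittingSubgroup_le (G := G)
      (mem_centralizer_iff.2 fun y hy => (mem_centralizer_iff.1 ((fitting_le_of_pCore fun r hr => by
        by_cases h : r = 2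
        · subst h; exact h2.trans (center_le_centralizer _)
        · exact le_centralizer_iff.1 (hcent r hr h)) hy) x hx).symm)
    set F := Cfsg.fittingSubgroup G
    haveI := fittingSubgroup_normal G
    let S : Sylow 2 F := R.subtype hle
    haveI : (S : Subgroup F).Normal := ((Group.isNilpotent_of_finite_tfae (G := F)).out 0 3 rfl rfl).1
      fittingSubgroup_isNilpotent 2 inferInstance S
    haveI : (S : Subgroup F).Characteristic := S.characteristic_of_normal inferInstance
    have hSn : (R : Subgroup G).Normal := by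
      have h : ((S : Subgroup F).map F.subtype).Normal := inferInstance
      rwa [show (S : Subgroup F).map F.subtype = R by
        show ((R : Subgroup G).subgroupOf F).map F.subtype = R
        rw [subgroupOf_map_subtype, inf_eq_left.2 hle]] at h
    exact hno x₀ (le_pCore hSn R.2 hx₀) hx4
  have h4 : ∀ v : G, orderOf v = 4 → v ∈ Cfsg.pCore 2 G := fun v hv => hB.mem_of_orderOf_eq hw (hv.trans hw4.symm)
  have hRX : (R : Subgroup G) = Cfsg.pCore 2 G := (R.3 (pCore_isPGroup 2) (hgen _ h4)).symm
  haveI hRn : (R : Subgroup G).Normal := hRX ▸ inferInstance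
  refine ⟨R, hRn, hB.quaternion_card R e hRnc, ?_, ?_, fun v hv => hRX ▸ h4 v hv, x₀, hx₀, y₀, hy₀, hxy⟩
  · exact Nat.not_even_iff_odd.1 fun h => R.not_dvd_index (even_iff_two_dvd.1 h)
  · intro x y hx hy
    have hmem : ∀ v : G, orderOf v = 2 → v ∈ (R : Subgroup G) := fun v hv => by
      obtain ⟨Q, hQ⟩ := (IsPGroup.of_card (n := 1) (by rw [Nat.card_zpowers, hv, pow_one]) :
        IsPGroup 2 (zpowers v)).exists_le_sylow
      obtain ⟨g, hg⟩ := MulAction.exists_smul_eq G R Q
      have := hQ (mem_zpowers v)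
      rw [← hg, Sylow.smul_eq_of_normal] at this
      exact this
    exact hu x (hmem x hx) y (hmem y hy) hx hy

end CfsgLib.Coprime
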