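import Cfsg.Agent.Lib.Coprime.Basic
import Mathlib.GroupTheory.SpecificGroups.Cyclic
import Mathlib.Algebra.BigOperators.Group.Finset.Piecewise
set_option autoImplicit false

/-!
Coprime action on abelian groups: averaging, the partition lemma, fixed-point-free abelian
groups of automorphisms are cyclic.
-/

namespace CfsgLib.Coprime

section Abstract

variable {H V : Type*} [Group H] [CommGroup V] (φ : H →* MulAut V)

open Classical in
/-- Product of the images of `v` under the elements of the subgroup `B`. -/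
noncomputable def orbitProd [Fintype H] (B : Subgroup H) : V →* V where
  toFun v := ∏ b ∈ Finset.univ.filter (· ∈ B), φ b v
  map_one' := by simp
  map_mul' v w := by simp [Finset.prod_mul_distrib]

theorem apply_orbitProd [Fintype H] (B : Subgroup H) {b : H} (hb : b ∈ B) (v : V) :
    φ b (orbitProd φ B v) = orbitProd φ B v := by
  classical
  show φ b (∏ c ∈ Finset.univ.filter (· ∈ B), φ c v) = ∏ c ∈ Finset.univ.filter (· ∈ B), φ c v
  rw [map_prod]
  refine Finset.prod_bij' (fun c _ => b * c) (fun c _ => b⁻¹ * c) ?_ ?_ ?_ ?_ ?_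
  · intro c hc; simp only [Finset.mem_filter, Finset.mem_univ, true_and] at hc ⊢
    exact mul_mem hb hc
  · intro c hc; simp only [Finset.mem_filter, Finset.mem_univ, true_and] at hc ⊢
    exact mul_mem (inv_mem hb) hc
  · intro c _; simp
  · intro c _; simp
  · intro c _; simp [map_mul]

theorem orbitProd_apply [Fintype H] (B : Subgroup H) {b : H} (hb : b ∈ B) (v : V) :
    orbitProd φ B (φ b v) = orbitProd φ B v := by
  classical
  show ∏ c ∈ Finset.univ.filter (· ∈ B), φ c (φ b v) = ∏ c ∈ Finset.univ.filter (· ∈ B), φ c v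
  refine Finset.prod_bij' (fun c _ => c * b) (fun c _ => c * b⁻¹) ?_ ?_ ?_ ?_ ?_
  · intro c hc; simp only [Finset.mem_filter, Finset.mem_univ, true_and] at hc ⊢
    exact mul_mem hc hb
  · intro c hc; simp only [Finset.mem_filter, Finset.mem_univ, true_and] at hc ⊢
    exact mul_mem hc (inv_mem hb)
  · intro c _; simp
  · intro c _; simp
  · intro c _; simp [map_mul]

theorem orbitProd_eq_pow [Fintype H] (B : Subgroup H) (v : V) (h : ∀ b ∈ B, φ b v = v) :
    orbitProd φ B v = v ^ Nat.card B := by
  classical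
  show ∏ c ∈ Finset.univ.filter (· ∈ B), φ c v = _
  rw [Finset.prod_congr rfl (fun c hc => h c (Finset.mem_filter.mp hc).2), Finset.prod_const]
  congr 1
  rw [Nat.card_eq_fintype_card, Fintype.card_subtype]

open Classical in
/-- Partition lemma: if proper subgroups partition `⊤` and their number minus one is prime to
`#V ≠ 1`, one of them has a nontrivial fixed point. -/
theorem exists_fixed_of_partition [Finite H] [Finite V] [Nontrivial V]
    (S : Finset (Subgroup H)) (hne : S.Nonempty)
    (hpart : ∀ a : H, a ≠ 1 → ∃! B, B ∈ S ∧ a ∈ B)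
    (hk : (S.card - 1).Coprime (Nat.card V)) :
    ∃ B ∈ S, ∃ v : V, v ≠ 1 ∧ ∀ b ∈ B, φ b v = v := by
  have := Fintype.ofFinite H
  by_contra hcon
  push Not at hcon
  have hB : ∀ B ∈ S, ∀ v, orbitProd φ B v = 1 := fun B hB v => by
    by_contra hv
    obtain ⟨b, hb, hbv⟩ := hcon B hB _ hv
    exact hbv (apply_orbitProd φ B hb v)
  have htop : ∀ v, orbitProd φ ⊤ v = 1 := fun v => by
    obtain ⟨B, hB⟩ := hne
    by_contra hv
    obtain ⟨b, hb, hbv⟩ := hcon B hB _ hv
    exact hbv (apply_orbitProd φ ⊤ (Subgroup.mem_top b) v)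
  let f : V → H → V := fun v b => if b = 1 then 1 else φ b v
  have hone : ∀ (B : Subgroup H) (v : V),
      orbitProd φ B v = v * ∏ b ∈ Finset.univ.filter (· ∈ B), f v b := fun B v => by
    have h1 : (1 : H) ∈ Finset.univ.filter (· ∈ B) := by simp [one_mem]
    show ∏ b ∈ Finset.univ.filter (· ∈ B), φ b v = _
    rw [← Finset.mul_prod_erase _ _ h1, ← Finset.mul_prod_erase _ (f v) h1]
    simp only [f, if_pos, map_one, MulAut.one_apply, one_mul]
    congr 1
    exact Finset.prod_congr rfl fun b hb => (if_neg (Finset.mem_erase.mp hb).1).symm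
  have key : ∀ v : V, ∏ B ∈ S, ∏ b ∈ Finset.univ.filter (· ∈ B), f v b
      = ∏ b ∈ Finset.univ.filter (· ∈ (⊤ : Subgroup H)), f v b := fun v => by
    simp only [Finset.prod_filter]
    rw [Finset.prod_comm]
    refine Finset.prod_congr rfl fun b _ => ?_
    rw [if_pos (Subgroup.mem_top b)]
    by_cases hb : b = 1
    · simp [f, hb]
    · obtain ⟨B, ⟨hBS, hbB⟩, huniq⟩ := hpart b hb
      rw [Finset.prod_eq_single_of_mem B hBS
        (fun C hC hne => if_neg fun hbC => hne (huniq C ⟨hC, hbC⟩)), if_pos hbB]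
  obtain ⟨v, hv⟩ := exists_ne (1 : V)
  apply hv
  have e1 : v ^ S.card * ∏ b ∈ Finset.univ.filter (· ∈ (⊤ : Subgroup H)), f v b = 1 := by
    rw [← key, ← Finset.prod_const, ← Finset.prod_mul_distrib]
    exact Finset.prod_eq_one fun B hBS => by rw [← hone, hB B hBS v]
  have e2 := htop v
  rw [hone] at e2
  rw [eq_inv_of_mul_eq_one_right e2] at e1
  have h1 : 1 ≤ S.card := Finset.card_pos.mpr hne
  rw [← Nat.sub_add_cancel h1, pow_succ, mul_assoc, mul_inv_cancel, mul_one] at e1
  exact orderOf_eq_one_iff.mp (Nat.eq_one_of_dvd_coprimes hk (orderOf_dvd_of_pow_eq_one e1)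
    (orderOf_dvd_natCard v))

/-- A finite abelian group with at most `p` elements of order dividing `p`, for every prime
`p`, is cyclic. -/
theorem isCyclic_of_card_prime_roots {A : Type*} [CommGroup A] [Finite A]
    (h : ∀ p : ℕ, p.Prime → Nat.card (powMonoidHom p : A →* A).ker ≤ p) : IsCyclic A := by
  have key : ∀ n, 0 < n → Nat.card (powMonoidHom n : A →* A).ker ≤ n := by
    intro n
    induction n using Nat.strong_induction_on with
    | _ n ih =>
      intro hn
      by_cases h1 : n = 1
      · subst h1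
        have : (powMonoidHom 1 : A →* A).ker = ⊥ := by ext x; simp
        rw [this, Subgroup.card_bot]
      obtain ⟨p, hp, m, rfl⟩ := Nat.exists_prime_and_dvd h1
      have hm : 0 < m := Nat.pos_of_mul_pos_left hn
      have hm2 := ih m (lt_mul_of_one_lt_left hm hp.one_lt) hm
      let g : (powMonoidHom (p * m) : A →* A).ker →* A :=
        (powMonoidHom p).comp (Subgroup.subtype _)
      have h2 := g.ker.card_mul_index
      rw [Subgroup.index_ker] at h2
      rw [← h2]
      refine Nat.mul_le_mul ((?_ : Nat.card g.ker ≤ _).trans (h p hp)) ((?_ : _ ≤ _).trans hm2)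
      · exact Nat.card_le_card_of_injective (fun x => ⟨(x.1 : A), x.2⟩)
          (fun a b hab => Subtype.ext (Subtype.ext (congrArg Subtype.val hab :)))
      · refine Subgroup.card_le_of_le ?_
        rintro _ ⟨⟨x, hx⟩, rfl⟩
        simpa [g, ← pow_mul] using hx
  classical
  have := Fintype.ofFinite A
  exact isCyclic_of_card_pow_eq_one_le fun n hn => le_trans (le_of_eq (by
    rw [← Fintype.card_subtype, ← Nat.card_eq_fintype_card]; rfl)) (key n hn)

/-- A noncyclic abelian group of automorphisms of coprime order does not act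
fixed-point-freely on an abelian group. -/
theorem exists_ne_one_fixed_of_not_isCyclic [IsMulCommutative H] [Finite H] [Finite V]
    [Nontrivial V] (hcop : (Nat.card H).Coprime (Nat.card V)) (hnc : ¬ IsCyclic H) :
    ∃ a : H, a ≠ 1 ∧ ∃ v : V, v ≠ 1 ∧ φ a v = v := by
  classical
  have := Fintype.ofFinite H
  open scoped IsMulCommutative in
  obtain ⟨p, hp, hcard⟩ : ∃ p : ℕ, p.Prime ∧ p < Nat.card (powMonoidHom p : H →* H).ker := by
    by_contra hcon
    push Not at hcon
    exact hnc (isCyclic_of_card_prime_roots hcon)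
  open scoped IsMulCommutative in
  have hE : ∃ a b : H, a ^ p = 1 ∧ b ^ p = 1 ∧ a ≠ 1 ∧ b ∉ Subgroup.zpowers a := by
    have h1 : (powMonoidHom p : H →* H).ker ≠ ⊥ := fun he => by
      rw [he, Subgroup.card_bot] at hcard; exact absurd hcard (Nat.not_lt.mpr hp.one_le)
    obtain ⟨⟨a, ha⟩, ha1'⟩ := Subgroup.ne_bot_iff_exists_ne_one.mp h1
    have ha1 : a ≠ 1 := fun h => ha1' (Subtype.ext h)
    have hoa : orderOf a = p := orderOf_eq_prime (hp := ⟨hp⟩) ha ha1
    by_contra hcon
    push Not at hcon
    have h2 : (powMonoidHom p : H →* H).ker ≤ Subgroup.zpowers a :=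
      fun b hb => hcon a b ha hb ha1
    have h3 := Subgroup.card_le_of_le h2
    rw [Nat.card_zpowers, hoa] at h3
    omega
  obtain ⟨a, b, ha, hb, ha1, hba⟩ := hE
  haveI : Fact p.Prime := ⟨hp⟩
  have hoa : orderOf a = p := orderOf_eq_prime ha ha1
  have hob : orderOf b = p := orderOf_eq_prime hb fun h => hba (h ▸ one_mem _)
  let E : Subgroup H := Subgroup.zpowers a ⊔ Subgroup.zpowers b
  have hnorm : Subgroup.zpowers b ≤ Subgroup.normalizer (Subgroup.zpowers a : Set H) := by
    intro x _
    rw [Subgroup.mem_normalizer_iff]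
    intro y
    rw [mul_comm' x y, mul_inv_cancel_right]
  have hcapb : Subgroup.zpowers b ⊓ Subgroup.zpowers a = ⊥ := by
    have h1 : Nat.card (Subgroup.zpowers b) = p := by rw [Nat.card_zpowers, hob]
    rcases (Nat.dvd_prime hp).mp
      (h1 ▸ Subgroup.card_dvd_of_le (inf_le_left (b := Subgroup.zpowers a))) with h | h
    · exact Subgroup.card_eq_one.mp h
    · exact absurd ((inf_eq_left.mp (Subgroup.eq_of_le_of_card_ge inf_le_left (by omega)))
        (Subgroup.mem_zpowers b)) hba
  have hEcard : Nat.card E = p * p := by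
    rw [card_sup_of_inf_eq_bot hnorm hcapb, Nat.card_zpowers, Nat.card_zpowers, hoa, hob]
  have hexp : ∀ x ∈ E, x ^ p = 1 := by
    intro x hx
    obtain ⟨y, hy, z, hz, rfl⟩ := (mem_sup_of_le_normalizer hnorm).mp hx
    obtain ⟨i, rfl⟩ := Subgroup.mem_zpowers_iff.mp hy
    obtain ⟨j, rfl⟩ := Subgroup.mem_zpowers_iff.mp hz
    rw [(show Commute (a ^ i) (b ^ j) from mul_comm' _ _).mul_pow, ← zpow_natCast, ← zpow_mul,
      mul_comm i, zpow_mul, zpow_natCast, ha, one_zpow, ← zpow_natCast (b ^ j), ← zpow_mul,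
      mul_comm j, zpow_mul, zpow_natCast, hb, one_zpow, one_mul]
  let S : Finset (Subgroup E) := Finset.univ.filter (fun B => Nat.card B = p)
  have hz : ∀ x : E, x ≠ 1 → Nat.card (Subgroup.zpowers x) = p := fun x hx => by
    rw [Nat.card_zpowers]
    exact orderOf_eq_prime (Subtype.ext (hexp x x.2)) hx
  have hpart : ∀ x : E, x ≠ 1 → ∃! B, B ∈ S ∧ x ∈ B := by
    intro x hx
    refine ⟨Subgroup.zpowers x, ⟨Finset.mem_filter.mpr ⟨Finset.mem_univ _, hz x hx⟩, Subgroup.mem_zpowers x⟩, ?_⟩
    rintro B ⟨hB, hxB⟩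
    refine (Subgroup.eq_of_le_of_card_ge (Subgroup.zpowers_le.mpr hxB) ?_).symm
    rw [(Finset.mem_filter.mp hB).2, hz x hx]
  have hScard : S.card * (p - 1) = p * p - 1 := by
    let F : Subgroup E → Finset E := fun B => Finset.univ.filter (fun x => x ∈ B ∧ x ≠ 1)
    have h1 : ∀ B ∈ S, (F B).card = p - 1 := fun B hB => by
      have : F B = (Finset.univ.filter (fun x => x ∈ B)).erase 1 := by
        ext x; simp [F, and_comm]
      rw [this, Finset.card_erase_of_mem (by simp [one_mem]), ← Fintype.card_subtype,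
        ← Nat.card_eq_fintype_card, (Finset.mem_filter.mp hB).2]
    have h2 : Finset.univ.erase (1 : E) = S.biUnion F := by
      ext x
      simp only [Finset.mem_erase, Finset.mem_univ, and_true, Finset.mem_biUnion, F,
        Finset.mem_filter, true_and]
      exact ⟨fun hx => (hpart x hx).exists.imp fun B hB => ⟨hB.1, hB.2, hx⟩,
        fun ⟨_, _, _, hx⟩ => hx⟩
    have h3 := congrArg Finset.card h2
    rw [Finset.card_erase_of_mem (Finset.mem_univ _), Finset.card_univ,
      ← Nat.card_eq_fintype_card, hEcard, Finset.card_biUnion, Finset.sum_const_nat h1] at h3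
    · exact h3.symm
    · intro B hB C hC hBC
      rw [Function.onFun, Finset.disjoint_left]
      intro x hxB hxC
      simp only [F, Finset.mem_filter] at hxB hxC
      exact hBC ((hpart x hxB.2.2).unique ⟨hB, hxB.2.1⟩ ⟨hC, hxC.2.1⟩)
  have hS : S.card = p + 1 := by
    have h1 := hp.one_lt
    have h2 : (p + 1) * (p - 1) = p * p - 1 := by
      obtain ⟨q, rfl⟩ : ∃ q, p = q + 1 := ⟨p - 1, by omega⟩
      simp only [Nat.add_sub_cancel]
      ring_nf; omega
    rw [← h2] at hScard
    exact Nat.eq_of_mul_eq_mul_right (by omega) hScard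
  obtain ⟨B, hB, v, hv, hfix⟩ := exists_fixed_of_partition (φ.comp E.subtype) S
    (Finset.card_pos.mp (by omega)) hpart (by
      rw [hS, Nat.add_sub_cancel]
      refine hcop.coprime_dvd_left ?_
      rw [← hoa]; exact orderOf_dvd_natCard a)
  have hBne : B ≠ ⊥ := fun h => by
    have h4 := (Finset.mem_filter.mp hB).2
    rw [h, Subgroup.card_bot] at h4
    exact hp.ne_one h4.symm
  obtain ⟨x, hx, hx1⟩ := SetLike.exists_of_lt (bot_lt_iff_ne_bot.mpr hBne)
  exact ⟨x, fun h => hx1 (Subgroup.mem_bot.mpr (Subtype.ext h)), v, hv, hfix x hx⟩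

end Abstract

end CfsgLib.Coprime
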