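import Cfsg.Agent.Lib.StructC.PSolvableQuot
import Cfsg.Agent.Lib.PLength.Primitive
import Cfsg.Agent.Lib.Coprime.Complements
import Cfsg.Agent.Lib.Solvable.PCore
import Mathlib.GroupTheory.SchurZassenhaus

/-!
`p`-complements in `p`-solvable groups.
-/

set_option autoImplicit false

open Subgroup

namespace CfsgLib.Coprime

universe u

/-- A `p`-complement: order prime to `p` and index a power of `p`. -/
def IsPCompl {G : Type u} [Group G] (p : ℕ) (H : Subgroup G) : Prop :=
  (Nat.card H).Coprime p ∧ ∃ n : ℕ, H.index = p ^ n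

theorem exists_pCompl_ge_aux (m : ℕ) : ∀ (G : Type u) [Group G] [Finite G] (p : ℕ) [Fact p.Prime],
    Nat.card G = m → Cfsg.IsPSolvable p G →
      (∀ U : Subgroup G, (Nat.card U).Coprime p →
        ∃ H : Subgroup G, IsPCompl p H ∧ U ≤ H) ∧
      ∀ H₁ H₂ : Subgroup G, IsPCompl p H₁ → IsPCompl p H₂ →
        ∃ g : G, H₂ = H₁.map (MulAut.conj g).toMonoidHom := by
  induction m using Nat.strong_induction_on with
  | _ m ih =>
    intro G _ _ p _ hm hs
    have hp := (Fact.out : p.Prime)
    rcases subsingleton_or_nontrivial G with hsub | hnt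
    · refine ⟨fun U hU => ⟨U, ⟨hU, 0, ?_⟩, le_rfl⟩, fun H₁ H₂ _ _ => ⟨1, Subsingleton.elim _ _⟩⟩
      rw [pow_zero, Subgroup.index_eq_one]; exact Subsingleton.elim _ _
    by_cases hO : Cfsg.pPrimeCore p G = ⊥
    · -- a normal `p`-subgroup
      set N := Cfsg.pCore p G
      have hNn : N.Normal := CfsgLib.Solvable.pCore_normal p G
      have hNp : IsPGroup p N := CfsgLib.Solvable.pCore_isPGroup p
      have hNne : N ≠ ⊥ := CfsgLib.PLength.pCore_ne_bot_of_isPSolvable hs hO
      obtain ⟨a, ha⟩ := IsPGroup.iff_card.mp hNp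
      set π := QuotientGroup.mk' N
      have hsurj := QuotientGroup.mk'_surjective N
      have hlt : Nat.card (G ⧸ N) < m := by
        rw [← hm, ← Subgroup.index_eq_card, ← N.card_mul_index]
        exact lt_mul_of_one_lt_left (Nat.pos_of_ne_zero Subgroup.index_ne_zero_of_finite)
          (N.one_lt_card_iff_ne_bot.mpr hNne)
      obtain ⟨hex, hconj⟩ := ih _ hlt (G ⧸ N) p rfl (CfsgLib.StructC.isPSolvable_quotient N hs)
      have hNsol : Group.IsSolvable N := by
        have := hNp.isNilpotent; infer_instance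
      have himg : ∀ U : Subgroup G, (Nat.card U).Coprime p → (Nat.card (U.map π)).Coprime p := fun U hU =>
        hU.coprime_dvd_left (Subgroup.card_map_dvd U π)
      have hcopN : ∀ U : Subgroup G, (Nat.card U).Coprime p → (Nat.card U).Coprime (Nat.card N) :=
        fun U hU => by rw [ha]; exact hU.pow_right a
      refine ⟨fun U hU => ?_, fun H₁ H₂ h₁ h₂ => ?_⟩
      · obtain ⟨Hb, ⟨hHbc, b, hHbi⟩, hUHb⟩ := hex (U.map π) (himg U hU)
        set K := Hb.comap π
        have hNK : N ≤ K := fun x hx => by
          show π x ∈ Hb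
          rw [show π x = 1 from (QuotientGroup.eq_one_iff x).mpr hx]; exact one_mem _
        have hKi : K.index = p ^ b := by rw [Subgroup.index_comap_of_surjective _ hsurj, hHbi]
        have hidx : (N.subgroupOf K).index = Nat.card Hb := by
          show N.relIndex K = _
          have hk : π.ker = N := QuotientGroup.ker_mk' N
          rw [show N.relIndex K = π.ker.relIndex K by rw [hk], Subgroup.relIndex_ker,
            Subgroup.map_comap_eq_self_of_surjective hsurj]
        obtain ⟨C, hC⟩ := Subgroup.exists_right_complement'_of_coprime (N := N.subgroupOf K) (by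
          rw [hidx, Nat.card_congr (subgroupOfEquivOfLe hNK).toEquiv, ha]
          exact (hHbc.pow_right a).symm)
        set C' := C.map K.subtype
        have hCc : Nat.card C' = Nat.card Hb := by
          rw [Subgroup.card_map_of_injective K.subtype_injective, ← hC.symm.index_eq_card, hidx]
        have hC'compl : IsPCompl p C' := by
          refine ⟨hCc ▸ hHbc, a + b, ?_⟩
          refine Nat.eq_of_mul_eq_mul_left (Nat.card_pos (α := C')) ?_
          rw [card_mul_index, ← K.card_mul_index, hKi, hCc, pow_add, ← mul_assoc, ← hidx,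
            ← (N.subgroupOf K).card_mul_index, Nat.card_congr (subgroupOfEquivOfLe hNK).toEquiv, ha,
            mul_comm (p ^ a)]
        have hsup : N ⊔ C' = K := by
          have h1 := congrArg (Subgroup.map K.subtype) hC.sup_eq_top
          rwa [Subgroup.map_sup, Subgroup.map_subgroupOf_eq_of_le hNK, ← MonoidHom.range_eq_map,
            Subgroup.range_subtype] at h1
        -- conjugate `U` into `C'`
        have hUK : U ≤ K := fun x hx => hUHb ⟨x, hx, rfl⟩
        set B := C' ⊓ (N ⊔ U)
        have hNB : N ⊔ U = N ⊔ B := by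
          refine le_antisymm ?_ (sup_le le_sup_left inf_le_right)
          intro x hx
          have hxK : x ∈ N ⊔ C' := hsup.ge ((sup_le hNK hUK) hx)
          obtain ⟨y, hy, z, hz, rfl⟩ := Subgroup.mem_sup_of_normal_left.mp hxK
          refine mul_mem (Subgroup.mem_sup_left hy) (Subgroup.mem_sup_right ⟨hz, ?_⟩)
          have := mul_mem (inv_mem (Subgroup.mem_sup_left (T := U) hy)) hx
          rwa [inv_mul_cancel_left] at this
        have hBc : (Nat.card B).Coprime p :=
          (hCc ▸ hHbc).coprime_dvd_left (Subgroup.card_dvd_of_le inf_le_left)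
        obtain ⟨g, -, hg⟩ := exists_conj_eq_of_coprime (N := N) (A := U) (B := B)
          (by rw [normalizer_eq_top]; exact le_top) (by rw [normalizer_eq_top]; exact le_top) hNB
          (hcopN U hU) (hcopN B hBc) (Or.inr hNsol)
        refine ⟨C'.map (MulAut.conj g⁻¹).toMonoidHom, ⟨?_, ?_⟩, fun x hx => ?_⟩
        · rw [Subgroup.card_map_of_injective (MulAut.conj g⁻¹).injective]; exact hC'compl.1
        · obtain ⟨n, hn⟩ := hC'compl.2
          refine ⟨n, ?_⟩
          rw [Subgroup.index_map_of_bijective (f := (MulAut.conj g⁻¹).toMonoidHom) (MulAut.conj g⁻¹).bijective C', hn]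
        · refine ⟨g * x * g⁻¹, ?_, by simp [mul_assoc]⟩
          have hxB : g * x * g⁻¹ ∈ B := hg.ge ⟨x, hx, rfl⟩
          exact hxB.1
      · obtain ⟨gq, hgq⟩ := hconj (H₁.map π) (H₂.map π)
          ⟨himg H₁ h₁.1, by
            obtain ⟨n, hn⟩ := h₁.2
            obtain ⟨j, -, hj⟩ := (Nat.dvd_prime_pow hp).mp (hn ▸ Subgroup.index_map_dvd H₁ hsurj)
            exact ⟨j, hj⟩⟩
          ⟨himg H₂ h₂.1, by
            obtain ⟨n, hn⟩ := h₂.2
            obtain ⟨j, -, hj⟩ := (Nat.dvd_prime_pow hp).mp (hn ▸ Subgroup.index_map_dvd H₂ hsurj)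
            exact ⟨j, hj⟩⟩
        obtain ⟨g, rfl⟩ := hsurj gq
        set H₃ := H₁.map (MulAut.conj g).toMonoidHom
        have he : N ⊔ H₃ = N ⊔ H₂ := by
          have h1 : H₃.map π = H₂.map π := by
            rw [hgq, Subgroup.map_map, Subgroup.map_map]
            congr 1
          rw [Subgroup.map_eq_map_iff, QuotientGroup.ker_mk'] at h1
          rw [sup_comm, h1, sup_comm]
        have h₃ : (Nat.card H₃).Coprime p := by
          rw [Subgroup.card_map_of_injective (MulAut.conj g).injective]; exact h₁.1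
        obtain ⟨n, -, hn⟩ := exists_conj_eq_of_coprime (N := N) (A := H₃) (B := H₂)
          (by rw [normalizer_eq_top]; exact le_top) (by rw [normalizer_eq_top]; exact le_top) he
          (hcopN H₃ h₃) (hcopN H₂ h₂.1) (Or.inr hNsol)
        refine ⟨n * g, ?_⟩
        rw [hn, Subgroup.map_map]
        congr 1
        ext x
        simp [mul_assoc]
    · -- a normal `p'`-subgroup
      set N := Cfsg.pPrimeCore p G
      have hNn : N.Normal := CfsgLib.Solvable.pPrimeCore_normal p G
      have hNc : (Nat.card N).Coprime p := CfsgLib.Solvable.pPrimeCore_coprime p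
      set π := QuotientGroup.mk' N
      have hsurj := QuotientGroup.mk'_surjective N
      have hlt : Nat.card (G ⧸ N) < m := by
        rw [← hm, ← Subgroup.index_eq_card, ← N.card_mul_index]
        exact lt_mul_of_one_lt_left (Nat.pos_of_ne_zero Subgroup.index_ne_zero_of_finite)
          (N.one_lt_card_iff_ne_bot.mpr hO)
      obtain ⟨hex, hconj⟩ := ih _ hlt (G ⧸ N) p rfl (CfsgLib.StructC.isPSolvable_quotient N hs)
      have himg : ∀ H : Subgroup G, IsPCompl p H → IsPCompl p (H.map π) ∧ N ≤ H := fun H hH => by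
        obtain ⟨n, hn⟩ := hH.2
        refine ⟨⟨hH.1.coprime_dvd_left (Subgroup.card_map_dvd H π), ?_⟩, ?_⟩
        · obtain ⟨j, -, hj⟩ := (Nat.dvd_prime_pow hp).mp (hn ▸ Subgroup.index_map_dvd H hsurj)
          exact ⟨j, hj⟩
        · rw [← Subgroup.relIndex_eq_one]
          have hdvd : H.relIndex N ∣ Nat.card N := Subgroup.relIndex_dvd_card H N
          have h2 : H.relIndex N ∣ H.index := by
            have hH' := Subgroup.relIndex_mul_index (le_sup_left : H ≤ H ⊔ N)
            have e : H.relIndex (H ⊔ N) = H.relIndex N := by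
              refine Nat.eq_of_mul_eq_mul_left (Nat.mul_pos (Nat.card_pos (α := (H ⊓ N : Subgroup G)))
                (Nat.pos_of_ne_zero (Subgroup.index_ne_zero_of_finite (H := N.subgroupOf H)))) ?_
              have ha := Subgroup.relIndex_mul_relIndex ⊥ (H ⊓ N) H bot_le inf_le_left
              have hb := Subgroup.relIndex_mul_relIndex ⊥ (H ⊓ N) N bot_le inf_le_right
              have hc := Subgroup.relIndex_mul_relIndex ⊥ H (H ⊔ N) bot_le le_sup_left
              have hd := Subgroup.relIndex_mul_relIndex ⊥ N (H ⊔ N) bot_le le_sup_right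
              rw [Subgroup.relIndex_bot_left, Subgroup.relIndex_bot_left, Subgroup.inf_relIndex_left] at ha
              rw [Subgroup.relIndex_bot_left, Subgroup.relIndex_bot_left, Subgroup.inf_relIndex_right] at hb
              rw [Subgroup.relIndex_bot_left, Subgroup.relIndex_bot_left, ← ha] at hc
              rw [Subgroup.relIndex_bot_left, Subgroup.relIndex_bot_left, ← hb] at hd
              have he : N.relIndex (H ⊔ N) = N.relIndex H := by
                first
                | exact Subgroup.relIndex_sup_right (H := N) (K := H)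
                | exact Subgroup.relIndex_sup_right (H := H) (K := N)
              rw [he] at hd
              show Nat.card (H ⊓ N : Subgroup G) * N.relIndex H * H.relIndex (H ⊔ N) = _ * N.relIndex H * _
              rw [hc, ← hd]; ring
            rw [← e]
            exact Dvd.intro _ hH'
          exact Nat.eq_one_of_dvd_coprimes (hNc.pow_right n) hdvd (hn ▸ h2)
      refine ⟨fun U hU => ?_, fun H₁ H₂ h₁ h₂ => ?_⟩
      · obtain ⟨Hb, ⟨hHbc, b, hHbi⟩, hUHb⟩ := hex (U.map π) (hU.coprime_dvd_left (Subgroup.card_map_dvd U π))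
        refine ⟨Hb.comap π, ⟨?_, b, ?_⟩, fun x hx => hUHb ⟨x, hx, rfl⟩⟩
        · rw [CfsgLib.Solvable.card_comap_mk']
          first | exact Nat.Coprime.mul_left hHbc hNc | exact Nat.Coprime.mul_left hNc hHbc
        · rw [Subgroup.index_comap_of_surjective _ hsurj, hHbi]
      · obtain ⟨gq, hgq⟩ := hconj _ _ (himg H₁ h₁).1 (himg H₂ h₂).1
        obtain ⟨g, rfl⟩ := hsurj gq
        refine ⟨g, ?_⟩
        have h3 : (H₁.map (MulAut.conj g).toMonoidHom).map π = H₂.map π := by
          rw [hgq, Subgroup.map_map, Subgroup.map_map]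
          congr 1
        rw [Subgroup.map_eq_map_iff, QuotientGroup.ker_mk', sup_eq_left.mpr (himg H₂ h₂).2,
          sup_eq_left.mpr (fun x hx => ⟨g⁻¹ * x * g, (himg H₁ h₁).2 (by simpa using hNn.conj_mem x hx g⁻¹),
            by simp [mul_assoc]⟩)] at h3
        exact h3.symm

/-- Every `p'`-subgroup of a `p`-solvable group lies in a `p`-complement. -/
theorem exists_pCompl_ge {G : Type u} [Group G] [Finite G] {p : ℕ} [Fact p.Prime]
    (hs : Cfsg.IsPSolvable p G) (U : Subgroup G) (hU : (Nat.card U).Coprime p) :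
    ∃ H : Subgroup G, IsPCompl p H ∧ U ≤ H :=
  (exists_pCompl_ge_aux _ G p rfl hs).1 U hU

/-- The `p`-complements of a `p`-solvable group are conjugate. -/
theorem exists_conj_pCompl {G : Type u} [Group G] [Finite G] {p : ℕ} [Fact p.Prime]
    (hs : Cfsg.IsPSolvable p G) {H₁ H₂ : Subgroup G} (h₁ : IsPCompl p H₁) (h₂ : IsPCompl p H₂) :
    ∃ g : G, H₂ = H₁.map (MulAut.conj g).toMonoidHom :=
  (exists_pCompl_ge_aux _ G p rfl hs).2 H₁ H₂ h₁ h₂

end CfsgLib.Coprime
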