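import Cfsg.Agent.Lib.Transfer.Extraspecial
import Cfsg.Agent.Lib.Transfer.PPrimeAut
import Cfsg.Agent.Lib.Coprime.Sylow
import Cfsg.Agent.Lib.Solvable.Nilpotent
import Cfsg.Agent.Lib.OddLocal.TypeP
import Cfsg.Prelude.Def_PLocal
set_option autoImplicit false

/-!
The core of P. Hall's theorem on `p`-groups of symplectic type.
-/

namespace CfsgLib.Coprime

open Subgroup CfsgLib.Transfer
open scoped commutatorElement

universe u

variable {G : Type u} [Group G]

theorem apply_mem_of_characteristic {H : Subgroup G} (hH : H.Characteristic) (φ : MulAut G) {x : G}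
    (hx : x ∈ H) : φ x ∈ H := by
  rw [← characteristic_iff_map_eq.1 hH φ]
  exact ⟨x, hx, rfl⟩

theorem characteristic_of_forall_mem {H : Subgroup G} (h : ∀ φ : MulAut G, ∀ x ∈ H, φ x ∈ H) :
    H.Characteristic := by
  rw [characteristic_iff_map_le]
  rintro φ _ ⟨x, hx, rfl⟩
  exact h φ x hx

theorem characteristic_inf_centralizer {H K : Subgroup G} (hH : H.Characteristic) (hK : K.Characteristic) :
    (H ⊓ centralizer (K : Set G)).Characteristic := by
  refine characteristic_of_forall_mem fun φ x hx => ⟨apply_mem_of_characteristic hH φ hx.1, ?_⟩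
  refine mem_centralizer_iff.2 fun y hy => ?_
  have := congrArg φ (mem_centralizer_iff.1 hx.2 _ (apply_mem_of_characteristic hK φ.symm hy))
  simpa using this

/-- A criterion for being extraspecial. -/
theorem isExtraspecial_of_central {X : Type u} [Group X] [Finite X] {p : ℕ} [Fact p.Prime]
    (hX : IsPGroup p X) (Z : Subgroup X) (hZ : Nat.card Z = p) (hcen : center X = Z)
    (hc : ∀ x y : X, ⁅x, y⁆ ∈ Z) (hpow : ∀ x : X, x ^ p ∈ Z) (hne : Z ≠ ⊤) :
    Cfsg.IsExtraspecial p X := by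
  have hp : p.Prime := Fact.out
  have : Z.Normal := hcen ▸ inferInstance
  have h1 : _root_.commutator X ≤ Z := by
    rw [_root_.commutator_def, commutator_le]; exact fun x _ y _ => hc x y
  have h2 : _root_.commutator X ≠ ⊥ := fun h => hne (by
    rw [← hcen, eq_top_iff]
    intro x _
    refine mem_center_iff.2 fun y => commutatorElement_eq_one_iff_mul_comm.1 ?_
    rw [← mem_bot, ← h]
    exact commutator_mem_commutator (mem_top _) (mem_top _))
  have h3 : _root_.commutator X = Z := by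
    refine eq_of_le_of_card_ge h1 ?_
    rcases (Nat.dvd_prime hp).1 (hZ ▸ card_dvd_of_le h1) with h | h
    · exact absurd (Subgroup.card_eq_one.1 h) h2
    · rw [h, hZ]
  refine ⟨⟨hX, le_antisymm ?_ ?_, h3.trans hcen.symm⟩, hcen ▸ hZ⟩
  · rw [hcen]; exact frattini_le_of_elementary_quotient Z hc hpow
  · rw [hcen, ← h3]; exact commutator_le_frattini_pgroup hX

variable [Finite G] {p : ℕ} [Fact p.Prime]

/-- The data attached to a maximal characteristic abelian subgroup `U`. -/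
structure SympData (p : ℕ) (U M : Subgroup G) : Prop where
  charU : U.Characteristic
  charM : M.Characteristic
  cyclic : IsCyclic U
  centralizer_eq : centralizer (U : Set G) = M
  le : U ≤ M
  center_le : ∀ B : Subgroup G, B.Characteristic → U ≤ B → B ≤ M → B ⊓ centralizer (B : Set G) = U
  comm : ∀ x ∈ M, ∀ y ∈ M, ⁅x, y⁆ ∈ U
  comm_pow : ∀ x ∈ M, ∀ y ∈ M, ⁅x, y⁆ ^ p = 1
  pow : ∀ x ∈ M, x ^ p ∈ U
  action : ∀ g : G, ∀ x ∈ M, ⁅g, x⁆ ∈ U

theorem exists_sympData (hG : IsPGroup p G)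
    (hsymp : ∀ A : Subgroup G, A.Characteristic → IsMulCommutative A → IsCyclic A) :
    ∃ U M : Subgroup G, SympData p U M := by
  classical
  have hp : p.Prime := Fact.out
  obtain ⟨U, hU⟩ := (Set.toFinite {U : Subgroup G | U.Characteristic ∧ IsMulCommutative U}).exists_maximal
    ⟨⊥, inferInstance, ⟨⟨fun a b => Subsingleton.elim _ _⟩⟩⟩
  obtain ⟨hUc, hUab⟩ := hU.prop
  have hUcyc := hsymp U hUc hUab
  have hUcomm : ∀ a ∈ U, ∀ b ∈ U, a * b = b * a := fun a ha b hb =>
    congrArg Subtype.val (hUab.is_comm.comm ⟨a, ha⟩ ⟨b, hb⟩)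
  set M := centralizer (U : Set G) with hM
  have hUM : U ≤ M := fun a ha => mem_centralizer_iff.2 fun b hb => hUcomm b hb a ha
  have hMc : M.Characteristic := by
    have := characteristic_inf_centralizer (H := (⊤ : Subgroup G)) inferInstance hUc
    rwa [top_inf_eq] at this
  have hcen : ∀ B : Subgroup G, B.Characteristic → U ≤ B → B ≤ M → B ⊓ centralizer (B : Set G) = U := by
    intro B hB hUB hBM
    have hle : U ≤ B ⊓ centralizer (B : Set G) := fun a ha => ⟨hUB ha,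
      mem_centralizer_iff.2 fun b hb => (mem_centralizer_iff.1 (hBM hb) a ha).symm⟩
    exact le_antisymm (hU.le_of_ge ⟨characteristic_inf_centralizer hB hB,
      ⟨⟨fun a b => Subtype.ext (mem_centralizer_iff.1 b.2.2 a a.2.1)⟩⟩⟩ hle) hle
  have hUn : U.Normal := inferInstance
  have hMn : M.Normal := inferInstance
  have hMU : ∀ a ∈ M, ∀ c ∈ U, a * c = c * a := fun a ha c hc => (mem_centralizer_iff.1 ha c hc).symm
  -- `A`, the preimage of the centre of `M / U`
  let A : Subgroup G :=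
    { carrier := {x | x ∈ M ∧ ∀ m ∈ M, ⁅x, m⁆ ∈ U}
      one_mem' := ⟨one_mem M, fun m _ => by simp⟩
      mul_mem' := fun {x y} hx hy => ⟨mul_mem hx.1 hy.1, fun m hm => by
        have e : ⁅x * y, m⁆ = x * ⁅y, m⁆ * x⁻¹ * ⁅x, m⁆ := by simp only [commutatorElement_def]; group
        rw [e]; exact mul_mem (hUn.conj_mem _ (hy.2 m hm) x) (hx.2 m hm)⟩
      inv_mem' := fun {x} hx => ⟨inv_mem hx.1, fun m hm => by
        have e : ⁅x⁻¹, m⁆ = x⁻¹ * ⁅x, m⁆⁻¹ * x⁻¹⁻¹ := by simp only [commutatorElement_def]; group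
        rw [e]; exact hUn.conj_mem _ (inv_mem (hx.2 m hm)) _⟩ }
  have hAc : A.Characteristic := by
    refine characteristic_of_forall_mem fun φ x hx => ⟨apply_mem_of_characteristic hMc φ hx.1, fun m hm => ?_⟩
    have h := apply_mem_of_characteristic hUc φ (hx.2 _ (apply_mem_of_characteristic hMc φ.symm hm))
    rwa [map_commutatorElement, MulEquiv.apply_symm_apply] at h
  have hUA : U ≤ A := fun a ha => ⟨hUM ha, fun m hm => by
    rw [commutatorElement_eq_one_iff_mul_comm.2 (hMU m hm a ha).symm]; exact one_mem U⟩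
  have hAM : A ≤ M := fun a ha => ha.1
  -- bilinearity on `A × M`
  have hpl : ∀ a ∈ A, ∀ m ∈ M, ∀ k : ℕ, ⁅a ^ k, m⁆ = ⁅a, m⁆ ^ k := by
    intro a ha m hm k
    induction k with
    | zero => simp
    | succ k ih =>
      have e : ⁅a ^ k * a, m⁆ = a ^ k * ⁅a, m⁆ * (a ^ k)⁻¹ * ⁅a ^ k, m⁆ := by
        simp only [commutatorElement_def]; group
      rw [pow_succ, e, hMU (a ^ k) (pow_mem ha.1 k) _ (ha.2 m hm), mul_inv_cancel_right, ih, pow_succ']
  have hpr : ∀ a ∈ A, ∀ m ∈ M, ∀ k : ℕ, ⁅a, m ^ k⁆ = ⁅a, m⁆ ^ k := by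
    intro a ha m hm k
    induction k with
    | zero => simp
    | succ k ih =>
      have e : ⁅a, m ^ k * m⁆ = ⁅a, m ^ k⁆ * (m ^ k * ⁅a, m⁆ * (m ^ k)⁻¹) := by
        simp only [commutatorElement_def]; group
      rw [pow_succ, e, hMU (m ^ k) (pow_mem hm k) _ (ha.2 m hm), mul_inv_cancel_right, ih, pow_succ]
  have hex : ∃ e, ∀ a ∈ A, a ^ p ^ e ∈ U := by
    obtain ⟨e, he⟩ := IsPGroup.iff_card.1 hG
    exact ⟨e, fun a _ => by rw [← he, pow_card_eq_one']; exact one_mem U⟩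
  have hA1 : ∀ a ∈ A, a ^ p ∈ U := by
    have hE : ∀ a ∈ A, a ^ p ^ Nat.find hex ∈ U := Nat.find_spec hex
    rcases lt_or_ge (Nat.find hex) 2 with h | h
    · intro a ha
      have := hE a ha
      interval_cases (Nat.find hex)
      · rw [pow_zero, pow_one] at this; exact pow_mem this p
      · rwa [pow_one] at this
    exfalso
    obtain ⟨f, hf⟩ : ∃ f, Nat.find hex = f + 1 := ⟨_, (Nat.succ_pred_eq_of_pos (by omega)).symm⟩
    let S : Set G := {x | ∃ a ∈ A, x = a ^ p ^ f}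
    have hS : ∀ x ∈ S, ∀ y ∈ S, x * y = y * x := by
      rintro _ ⟨a, ha, rfl⟩ _ ⟨b, hb, rfl⟩
      rw [← commutatorElement_eq_one_iff_mul_comm, hpl a ha _ (pow_mem hb.1 _), hpr a ha b hb.1,
        ← pow_mul, show p ^ f * p ^ f = p ^ (f + 1) * p ^ (f - 1) by
          rw [← pow_add, ← pow_add]; congr 1; omega,
        pow_mul, ← hpl a ha b hb.1, ← hf,
        commutatorElement_eq_one_iff_mul_comm.2 (hMU b hb.1 _ (hE a ha)).symm, one_pow]
    have hSM : ∀ x ∈ S, x ∈ M := by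
      rintro _ ⟨a, ha, rfl⟩
      exact pow_mem ha.1 _
    have hcomm : IsMulCommutative (closure ((U : Set G) ∪ S)) := by
      refine isMulCommutative_closure ?_
      rintro x (hx | hx) y (hy | hy)
      · exact hUcomm x hx y hy
      · exact (hMU y (hSM y hy) x hx).symm
      · exact hMU x (hSM x hx) y hy
      · exact hS x hx y hy
    have hchar : (closure ((U : Set G) ∪ S)).Characteristic := by
      rw [characteristic_iff_map_le]
      intro φ
      rw [MonoidHom.map_closure, closure_le]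
      rintro _ ⟨x, hx | ⟨a, ha, rfl⟩, rfl⟩
      · exact subset_closure (Or.inl (apply_mem_of_characteristic hUc φ hx))
      · exact subset_closure (Or.inr ⟨φ a, apply_mem_of_characteristic hAc φ ha, map_pow φ a _⟩)
    have hle := hU.le_of_ge ⟨hchar, hcomm⟩ (fun x hx => subset_closure (Or.inl hx))
    exact Nat.find_min hex (m := f) (by omega) fun a ha => hle (subset_closure (Or.inr ⟨a, ha, rfl⟩))
  have hC : M ⊓ centralizer (A : Set G) ≤ U := by
    set C := M ⊓ centralizer (A : Set G) with hCdef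
    have hCA : C ⊓ A ≤ U := fun x hx => hcen A hAc hUA hAM ▸ ⟨hx.2, hx.1.2⟩
    have hCn : C.Normal := by
      have := characteristic_inf_centralizer hMc hAc
      rw [hCdef]; infer_instance
    by_contra hne
    have hQ : Group.IsNilpotent (G ⧸ U) := (hG.to_quotient U).isNilpotent
    have hC' : (C.map (QuotientGroup.mk' U)) ≠ ⊥ := fun h => hne (by
      rwa [Subgroup.map_eq_bot_iff, QuotientGroup.ker_mk'] at h)
    have : (C.map (QuotientGroup.mk' U)).Normal := hCn.map _ (QuotientGroup.mk'_surjective U)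
    obtain ⟨⟨q, hq⟩, hq1⟩ := (ne_bot_iff_exists_ne_one (H := C.map (QuotientGroup.mk' U) ⊓ center (G ⧸ U))).1
      (CfsgLib.Solvable.normal_inf_center_ne_bot _ hC')
    obtain ⟨c, hc, rfl⟩ := hq.1
    refine hq1 (Subtype.ext ((QuotientGroup.eq_one_iff c).2 (hCA ⟨hc, hc.1, fun m _ => ?_⟩)))
    rw [← QuotientGroup.eq_one_iff, ← QuotientGroup.mk'_apply, map_commutatorElement,
      commutatorElement_eq_one_iff_mul_comm]
    exact (mem_center_iff.1 hq.2 _).symm
  have hcomm : ∀ x ∈ M, ∀ y ∈ M, ⁅x, y⁆ ∈ U := by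
    intro x hx y hy
    refine hC ⟨M.mul_mem (M.mul_mem (M.mul_mem hx hy) (M.inv_mem hx)) (M.inv_mem hy), ?_⟩
    have hAM1 : ⁅⁅A, M⁆, M⁆ = ⊥ := by
      rw [commutator_eq_bot_iff_le_centralizer]
      refine ((commutator_le (H₃ := U)).2 fun a (ha : a ∈ A) m hm => ha.2 m hm).trans fun c hc => ?_
      exact mem_centralizer_iff.2 fun m hm => hMU m hm c hc
    have h3 : ⁅⁅M, M⁆, A⁆ = ⊥ := commutator_commutator_eq_bot_of_rotate
      (by rw [commutator_comm M A]; exact hAM1) hAM1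
    rw [commutator_eq_bot_iff_le_centralizer] at h3
    exact h3 (commutator_mem_commutator hx hy)
  have hMA : M ≤ A := fun x hx => ⟨hx, fun m hm => hcomm x hx m hm⟩
  have hpow : ∀ x ∈ M, x ^ p ∈ U := fun x hx => hA1 x (hMA hx)
  have hcp : ∀ x ∈ M, ∀ y ∈ M, ⁅x, y⁆ ^ p = 1 := fun x hx y hy => by
    rw [← hpl x (hMA hx) y hy, commutatorElement_eq_one_iff_mul_comm]
    exact (hMU y hy _ (hpow x hx)).symm
  refine ⟨U, M, hUc, hMc, hUcyc, rfl, hUM, hcen, hcomm, hcp, hpow, fun g x hx => ?_⟩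
  -- the fixed points of `G` on `M / U`
  let B : Subgroup G :=
    { carrier := {x | x ∈ M ∧ ∀ g : G, ⁅g, x⁆ ∈ U}
      one_mem' := ⟨one_mem M, fun g => by simp⟩
      mul_mem' := fun {x y} hx hy => ⟨mul_mem hx.1 hy.1, fun g => by
        have e : ⁅g, x * y⁆ = ⁅g, x⁆ * (x * ⁅g, y⁆ * x⁻¹) := by simp only [commutatorElement_def]; group
        rw [e]; exact mul_mem (hx.2 g) (hUn.conj_mem _ (hy.2 g) x)⟩
      inv_mem' := fun {x} hx => ⟨inv_mem hx.1, fun g => by
        have e : ⁅g, x⁻¹⁆ = x⁻¹ * ⁅g, x⁆⁻¹ * x⁻¹⁻¹ := by simp only [commutatorElement_def]; group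
        rw [e]; exact hUn.conj_mem _ (inv_mem (hx.2 g)) _⟩ }
  have hBc : B.Characteristic := by
    refine characteristic_of_forall_mem fun φ x hx => ⟨apply_mem_of_characteristic hMc φ hx.1, fun g => ?_⟩
    have h := apply_mem_of_characteristic hUc φ (hx.2 (φ.symm g))
    rwa [map_commutatorElement, MulEquiv.apply_symm_apply] at h
  have hUB : U ≤ B := fun a ha => ⟨hUM ha, fun g => by
    rw [commutatorElement_def]; exact mul_mem (hUn.conj_mem a ha g) (inv_mem ha)⟩
  have hBM : B ≤ M := fun a ha => ha.1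
  have hD : M ⊓ centralizer (B : Set G) ≤ U := by
    set D := M ⊓ centralizer (B : Set G) with hDdef
    have hDn : D.Normal := by
      have := characteristic_inf_centralizer hMc hBc
      rw [hDdef]; infer_instance
    by_contra hne
    have hQ : Group.IsNilpotent (G ⧸ U) := (hG.to_quotient U).isNilpotent
    have hD' : (D.map (QuotientGroup.mk' U)) ≠ ⊥ := fun h => hne (by
      rwa [Subgroup.map_eq_bot_iff, QuotientGroup.ker_mk'] at h)
    have : (D.map (QuotientGroup.mk' U)).Normal := hDn.map _ (QuotientGroup.mk'_surjective U)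
    obtain ⟨⟨q, hq⟩, hq1⟩ := (ne_bot_iff_exists_ne_one (H := D.map (QuotientGroup.mk' U) ⊓ center (G ⧸ U))).1
      (CfsgLib.Solvable.normal_inf_center_ne_bot _ hD')
    obtain ⟨c, hc, rfl⟩ := hq.1
    have hcB : c ∈ B := ⟨hc.1, fun g => by
      rw [← QuotientGroup.eq_one_iff, ← QuotientGroup.mk'_apply, map_commutatorElement,
        commutatorElement_eq_one_iff_mul_comm]
      exact mem_center_iff.1 hq.2 _⟩
    exact hq1 (Subtype.ext ((QuotientGroup.eq_one_iff c).2 (hcen B hBc hUB hBM ▸ ⟨hcB, hc.2⟩)))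
  -- commutators of `M` are central in `G`
  have hz : ∀ c ∈ U, c ^ p = 1 → c ∈ center G := by
    intro c hc hc1
    by_cases hc0 : c = 1
    · rw [hc0]; exact one_mem _
    have : U ≠ ⊥ := fun h => hc0 (by rwa [h, mem_bot] at hc)
    have hnil := hG.isNilpotent
    obtain ⟨⟨d, hd⟩, hd1⟩ := (ne_bot_iff_exists_ne_one (H := U ⊓ center G)).1
      (CfsgLib.Solvable.normal_inf_center_ne_bot U this)
    obtain ⟨i, hi⟩ := IsPGroup.iff_orderOf.1 hG d
    have hi0 : i ≠ 0 := fun h => hd1 (Subtype.ext (orderOf_eq_one_iff.1 (by rw [hi, h, pow_zero])))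
    set e := d ^ p ^ (i - 1)
    have heo : orderOf e = p := by
      rw [orderOf_pow' _ (pow_ne_zero _ hp.ne_zero), hi, Nat.gcd_eq_right (pow_dvd_pow p (Nat.sub_le i 1)),
        Nat.pow_div (Nat.sub_le i 1) hp.pos, show i - (i - 1) = 1 by omega, pow_one]
    have heU : e ∈ U ⊓ center G := pow_mem hd _
    have hco : orderOf c = p := orderOf_eq_prime hc1 hc0
    have h2 : (zpowers c).subgroupOf U = (zpowers e).subgroupOf U := by
      refine CfsgLib.OddLocal.eq_of_card_eq_of_isCyclic ?_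
      rw [Nat.card_congr (subgroupOfEquivOfLe (zpowers_le.2 hc)).toEquiv,
        Nat.card_congr (subgroupOfEquivOfLe (zpowers_le.2 heU.1)).toEquiv, Nat.card_zpowers, Nat.card_zpowers,
        hco, heo]
    have h3 : (⟨c, hc⟩ : U) ∈ (zpowers e).subgroupOf U := h2 ▸ mem_zpowers c
    exact zpowers_le.2 heU.2 h3
  have h1 : ⁅⁅B, (⊤ : Subgroup G)⁆, M⁆ = ⊥ := by
    rw [commutator_eq_bot_iff_le_centralizer]
    refine (commutator_le.2 fun b hb g _ => ?_).trans fun c hc => mem_centralizer_iff.2 fun m hm => hMU m hm c hc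
    rw [← commutatorElement_inv]; exact inv_mem (hb.2 g)
  have h2 : ⁅⁅M, B⁆, (⊤ : Subgroup G)⁆ = ⊥ := by
    rw [commutator_eq_bot_iff_le_centralizer]
    refine (commutator_le.2 fun m hm b hb => ?_).trans fun c hc => mem_centralizer_iff.2 fun g _ => mem_center_iff.1 hc g
    exact hz _ (hcomm m hm b hb.1) (hcp m hm b hb.1)
  have h3 : ⁅⁅(⊤ : Subgroup G), M⁆, B⁆ = ⊥ := commutator_commutator_eq_bot_of_rotate h2 h1
  rw [commutator_eq_bot_iff_le_centralizer] at h3
  exact hD ⟨M.mul_mem (hMn.conj_mem x hx g) (M.inv_mem hx), h3 (commutator_mem_commutator (mem_top g) hx)⟩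

/-- The socle of `U` is central. -/
theorem SympData.exists_socle (hG : IsPGroup p G) {U M : Subgroup G} (D : SympData p U M) {u : G}
    (hu : U = zpowers u) {n : ℕ} (hn : 1 ≤ n) (hun : orderOf u = p ^ n) :
    orderOf (u ^ p ^ (n - 1)) = p ∧ u ^ p ^ (n - 1) ∈ center G ∧
      ∀ x ∈ U, x ^ p = 1 → x ∈ zpowers (u ^ p ^ (n - 1)) := by
  have hp : p.Prime := Fact.out
  have := D.charU
  set z := u ^ p ^ (n - 1)
  have hzo : orderOf z = p := by
    rw [orderOf_pow' _ (pow_ne_zero _ hp.ne_zero), hun, Nat.gcd_eq_right (pow_dvd_pow p (Nat.sub_le n 1)),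
      Nat.pow_div (Nat.sub_le n 1) hp.pos, show n - (n - 1) = 1 by omega, pow_one]
  have hsoc : ∀ x ∈ U, x ^ p = 1 → x ∈ zpowers z := by
    intro x hx hxp
    rw [hu] at hx
    obtain ⟨i, rfl⟩ := mem_zpowers_iff.1 hx
    rw [← zpow_natCast, ← zpow_mul, ← orderOf_dvd_iff_zpow_eq_one, hun,
      show p ^ n = p ^ (n - 1) * p by rw [← pow_succ]; congr 1; omega, Nat.cast_mul,
      mul_dvd_mul_iff_right (by exact_mod_cast hp.ne_zero)] at hxp
    obtain ⟨c, rfl⟩ := hxp
    exact mem_zpowers_iff.2 ⟨c, by rw [zpow_mul, zpow_natCast]⟩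
  have hU : U ≠ ⊥ := fun h => by
    rw [hu, zpowers_eq_bot] at h
    rw [h, orderOf_one] at hun
    exact (Nat.one_lt_pow (by omega) hp.one_lt).ne hun
  have hnil := hG.isNilpotent
  obtain ⟨⟨d, hd⟩, hd1⟩ := (ne_bot_iff_exists_ne_one (H := U ⊓ center G)).1
    (CfsgLib.Solvable.normal_inf_center_ne_bot U hU)
  obtain ⟨i, hi⟩ := IsPGroup.iff_orderOf.1 hG d
  have hi0 : i ≠ 0 := fun h => hd1 (Subtype.ext (orderOf_eq_one_iff.1 (by rw [hi, h, pow_zero])))
  set e := d ^ p ^ (i - 1)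
  have heU : e ∈ U ⊓ center G := pow_mem hd _
  have he1 : e ^ p = 1 := by
    rw [← pow_mul, ← pow_succ, show i - 1 + 1 = i by omega, ← hi, pow_orderOf_eq_one]
  have he0 : e ≠ 1 := fun h => by
    have := orderOf_dvd_of_pow_eq_one h
    rw [hi] at this
    have := (Nat.pow_dvd_pow_iff_le_right hp.one_lt).1 this
    omega
  have hle : zpowers e = zpowers z := by
    refine eq_of_le_of_card_ge (zpowers_le.2 (hsoc e heU.1 he1)) ?_
    rw [Nat.card_zpowers, Nat.card_zpowers, hzo, orderOf_eq_prime he1 he0]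
  exact ⟨hzo, zpowers_le.2 heU.2 (hle ▸ mem_zpowers z), hsoc⟩

omit [Fact p.Prime] [Finite G] in
theorem SympData.mul_pow {U M : Subgroup G} (D : SympData p U M) {x y : G} (hx : x ∈ M) (hy : y ∈ M) :
    (x * y) ^ p = x ^ p * y ^ p * ⁅y, x⁆ ^ p.choose 2 := by
  have hc : ∀ a b : M, ⁅a, b⁆ ∈ center M := fun a b => mem_center_iff.2 fun c => Subtype.ext (by
    have h := D.comm a a.2 b b.2
    have h2 : (c : G) ∈ centralizer (U : Set G) := D.centralizer_eq.symm ▸ c.2
    exact (mem_centralizer_iff.1 h2 _ h).symm)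
  exact congrArg Subtype.val (mul_pow_class_two hc (⟨x, hx⟩ : M) ⟨y, hy⟩ p)

theorem SympData.exists_factor (hG : IsPGroup p G) {U M : Subgroup G} (D : SympData p U M) {u : G}
    (hu : U = zpowers u) {n : ℕ} (hn : 1 ≤ n) (hun : orderOf u = p ^ n) :
    ∃ E : Subgroup G, E ≤ M ∧ u ^ p ^ (n - 1) ∈ E ∧
      (∀ e ∈ E, e ∈ U → e ∈ zpowers (u ^ p ^ (n - 1))) ∧
      (∀ e ∈ E, e ^ p ∈ zpowers (u ^ p ^ (n - 1))) ∧
      (∀ (g : G), ∀ e ∈ E, ⁅g, e⁆ ∈ zpowers (u ^ p ^ (n - 1))) ∧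
      (∀ m ∈ M, ∃ e ∈ E, ∃ w ∈ U, m = e * w) ∧
      (2 ≤ n → p ≠ 2 → ∀ e ∈ E, e ^ p = 1) ∧
      (E ≤ center G ∨ Cfsg.IsExtraspecial p E) := by
  have hp : p.Prime := Fact.out
  obtain ⟨hzo, hzc, hsoc⟩ := D.exists_socle hG hu hn hun
  set z := u ^ p ^ (n - 1)
  set Z := zpowers z
  have hZc : Z ≤ center G := zpowers_le.2 hzc
  have hzU : z ∈ U := hu ▸ pow_mem (mem_zpowers u) _
  have hzM : z ∈ M := D.le hzU
  have hzp : z ^ p = 1 := hzo ▸ pow_orderOf_eq_one z
  have hMU : ∀ m ∈ M, ∀ w ∈ U, Commute m w := fun m hm w hw =>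
    (mem_centralizer_iff.1 (D.centralizer_eq.symm ▸ hm : m ∈ centralizer (U : Set G)) w hw).symm
  have hcommZ : ∀ x ∈ M, ∀ y ∈ M, ⁅x, y⁆ ∈ Z := fun x hx y hy => hsoc _ (D.comm x hx y hy) (D.comm_pow x hx y hy)
  -- the extraspecial criterion for a subgroup covering `M` modulo `U`
  have hext : ∀ E : Subgroup G, E ≤ M → z ∈ E → (∀ e ∈ E, e ∈ U → e ∈ Z) → (∀ e ∈ E, e ^ p ∈ Z) →
      (∀ e ∈ E, (∀ f ∈ E, Commute e f) → e ∈ U) → E ≤ center G ∨ Cfsg.IsExtraspecial p E := by
    intro E hEM hzE hint hpow hcen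
    by_cases hle : E ≤ center G
    · exact Or.inl hle
    refine Or.inr (isExtraspecial_of_central (hG.to_subgroup E) (Z.subgroupOf E) ?_ (le_antisymm ?_ ?_)
      (fun x y => ?_) (fun x => hpow x x.2) ?_)
    · rw [Nat.card_congr (subgroupOfEquivOfLe (zpowers_le.2 hzE)).toEquiv, Nat.card_zpowers, hzo]
    · intro c hc
      exact hint c c.2 (hcen c c.2 fun f hf => congrArg Subtype.val (mem_center_iff.1 hc ⟨f, hf⟩).symm)
    · intro c hc
      exact mem_center_iff.2 fun f => Subtype.ext (mem_center_iff.1 (hZc hc) f)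
    · rw [mem_subgroupOf, ← coe_subtype, map_commutatorElement]
      exact hcommZ _ (hEM x.2) _ (hEM y.2)
    · intro h
      rw [subgroupOf_eq_top] at h
      exact hle (h.trans hZc)
  rcases eq_or_lt_of_le hn with hn1 | hn2
  · -- `U` has order `p`
    subst hn1
    have hUZ : U = Z := by rw [hu]; simp [Z, z]
    refine ⟨M, le_rfl, hzM, fun e _ he => hUZ ▸ he, fun e he => hUZ ▸ D.pow e he,
      fun g e he => hUZ ▸ D.action g e he, fun m hm => ⟨m, hm, 1, one_mem U, (mul_one m).symm⟩,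
      fun h => absurd h (by omega),
      hext M le_rfl hzM (fun e _ he => hUZ ▸ he) (fun e he => hUZ ▸ D.pow e he) fun e he hc => ?_⟩
    rw [← D.center_le M D.charM D.le le_rfl]
    exact ⟨he, mem_centralizer_iff.2 fun f hf => (hc f hf).eq.symm⟩
  have hu' : u ∈ U := hu ▸ mem_zpowers u
  have hZpow : ∀ c ∈ Z, ∃ w ∈ U, c = w ^ p := by
    intro c hc
    obtain ⟨i, rfl⟩ := mem_zpowers_iff.1 hc
    refine ⟨(u ^ p ^ (n - 2)) ^ i, zpow_mem (pow_mem hu' _) i, ?_⟩
    rw [← zpow_natCast (_ ^ i) p, ← zpow_mul, mul_comm i, zpow_mul, zpow_natCast, ← pow_mul, ← pow_succ,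
      show n - 2 + 1 = n - 1 by omega]
  let B : Subgroup G :=
    { carrier := {x | x ∈ M ∧ ∃ w ∈ U, x ^ p = w ^ p}
      one_mem' := ⟨one_mem M, 1, one_mem U, rfl⟩
      mul_mem' := by
        rintro x y ⟨hx, a, ha, hxa⟩ ⟨hy, b, hb, hyb⟩
        obtain ⟨c, hc, hce⟩ := hZpow _ (pow_mem (hcommZ y hy x hx) (p.choose 2))
        refine ⟨mul_mem hx hy, a * b * c, mul_mem (mul_mem ha hb) hc, ?_⟩
        rw [D.mul_pow hx hy, hxa, hyb, hce, (hMU _ (D.le (mul_mem ha hb)) _ hc).mul_pow,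
          (hMU _ (D.le ha) _ hb).mul_pow]
      inv_mem' := by
        rintro x ⟨hx, a, ha, hxa⟩
        exact ⟨inv_mem hx, a⁻¹, inv_mem ha, by rw [inv_pow, inv_pow, hxa]⟩ }
  have hBc : B.Characteristic := by
    refine characteristic_of_forall_mem ?_
    rintro φ x ⟨hx, a, ha, hxa⟩
    exact ⟨apply_mem_of_characteristic D.charM φ hx, φ a, apply_mem_of_characteristic D.charU φ ha,
      by rw [← map_pow, hxa, map_pow]⟩
  have hUB : U ≤ B := fun w hw => ⟨D.le hw, w, hw, rfl⟩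
  have hBM : B ≤ M := fun x hx => hx.1
  obtain ⟨E, hE⟩ := (Set.toFinite {E : Subgroup G | z ∈ E ∧ (∀ e ∈ E, e ∈ U → e ∈ Z) ∧
    ∃ S : Set G, (∀ x ∈ S, x ∈ B ∧ x ^ p = 1) ∧ E = closure S}).exists_maximal
    ⟨Z, mem_zpowers z, fun e he _ => he, {z}, by
      rintro x rfl; exact ⟨hUB hzU, hzp⟩, zpowers_eq_closure z⟩
  obtain ⟨hzE, hint, S, hS, hES⟩ := hE.prop
  have hEB : E ≤ B := hES ▸ (closure_le _).2 fun x hx => (hS x hx).1
  have hEM : E ≤ M := hEB.trans hBM
  have hpowE : ∀ e ∈ E, e ^ p ∈ Z ∧ (p ≠ 2 → e ^ p = 1) := by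
    intro e he
    rw [hES] at he
    induction he using closure_induction with
    | mem x hx => exact ⟨by rw [(hS x hx).2]; exact one_mem Z, fun _ => (hS x hx).2⟩
    | one => exact ⟨by rw [one_pow]; exact one_mem Z, fun _ => one_pow _⟩
    | mul x y hx hy ix iy =>
      have hxM := hEM (hES ▸ hx : x ∈ E)
      have hyM := hEM (hES ▸ hy : y ∈ E)
      rw [D.mul_pow hxM hyM]
      refine ⟨mul_mem (mul_mem ix.1 iy.1) (pow_mem (hcommZ y hyM x hxM) _), fun h2 => ?_⟩
      obtain ⟨k, hk⟩ := Nat.Prime.dvd_choose_self hp (k := 2) (by norm_num) (lt_of_le_of_ne hp.two_le (Ne.symm h2))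
      rw [ix.2 h2, iy.2 h2, hk, pow_mul, D.comm_pow y hyM x hxM, one_pow, one_mul, one_mul]
    | inv x _ ix => exact ⟨by rw [inv_pow]; exact inv_mem ix.1, fun h2 => by rw [inv_pow, ix.2 h2, inv_one]⟩
  have hactE : ∀ (g : G), ∀ e ∈ E, ⁅g, e⁆ ∈ Z := by
    intro g e he
    rw [hES] at he
    induction he using closure_induction with
    | mem x hx =>
      have hxM := hBM (hS x hx).1
      have hc := D.action g x hxM
      refine hsoc _ hc ?_
      have e1 : g * x * g⁻¹ = ⁅g, x⁆ * x := by simp only [commutatorElement_def]; group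
      have e2 := congrArg (fun t => t ^ p) e1
      simp only [conj_pow, (hS x hx).2, mul_one, mul_inv_cancel, (hMU x hxM _ hc).symm.mul_pow] at e2
      exact e2.symm
    | one => rw [commutatorElement_one_right]; exact one_mem Z
    | mul x y _ _ ix iy =>
      have e1 : ⁅g, x * y⁆ = ⁅g, x⁆ * (x * ⁅g, y⁆ * x⁻¹) := by simp only [commutatorElement_def]; group
      rw [e1, mem_center_iff.1 (hZc iy) x, mul_inv_cancel_right]
      exact mul_mem ix iy
    | inv x _ ix =>
      have e1 : ⁅g, x⁻¹⁆ = x⁻¹ * ⁅g, x⁆⁻¹ * x := by simp only [commutatorElement_def]; group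
      rw [e1, mem_center_iff.1 (hZc (inv_mem ix)) x⁻¹, inv_mul_cancel_right]
      exact inv_mem ix
  have hBEU : B ≤ E ⊔ U := by
    intro b hb
    by_contra hbn
    obtain ⟨hbM, a, ha, hba⟩ := hb
    set x := b * a⁻¹
    have hxB : x ∈ B := mul_mem ⟨hbM, a, ha, hba⟩ (hUB (inv_mem ha))
    have hxp : x ^ p = 1 := by rw [(hMU b hbM _ (inv_mem ha)).mul_pow, inv_pow, hba, mul_inv_cancel]
    have hxn : x ∉ E ⊔ U := fun h => hbn (by
      have := mul_mem h (mem_sup_right (S := E) ha)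
      rwa [inv_mul_cancel_right] at this)
    have hnorm : zpowers x ≤ normalizer (E : Set G) := by
      refine zpowers_le.2 (mem_normalizer_iff_map_conj.2 (eq_of_le_of_card_ge ?_ (card_map_of_injective (MulEquiv.injective _)).ge))
      rintro _ ⟨e, he, rfl⟩
      have e1 : (MulAut.conj x).toMonoidHom e = ⁅x, e⁆ * e := by
        simp only [MulEquiv.coe_toMonoidHom, MulAut.conj_apply, commutatorElement_def]; group
      rw [e1]
      exact mul_mem (zpowers_le.2 hzE (hcommZ x (hBM hxB) e (hEM he))) he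
    have hmem : E ⊔ zpowers x ∈ {E : Subgroup G | z ∈ E ∧ (∀ e ∈ E, e ∈ U → e ∈ Z) ∧
        ∃ S : Set G, (∀ x ∈ S, x ∈ B ∧ x ^ p = 1) ∧ E = closure S} := by
      refine ⟨mem_sup_left hzE, fun e he heU => ?_, S ∪ {x}, ?_, ?_⟩
      · rw [← SetLike.mem_coe, Subgroup.coe_mul_of_right_le_normalizer_left _ _ hnorm] at he
        obtain ⟨f, hf, _, hx', rfl⟩ := he
        obtain ⟨i, rfl⟩ := mem_zpowers_iff.1 hx'
        have hxi : x ^ i ∈ E ⊔ U := by
          have := mul_mem (mem_sup_left (T := U) (inv_mem hf)) (mem_sup_right (S := E) heU)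
          simpa using this
        obtain ⟨c, rfl⟩ : (p : ℤ) ∣ i := by
          by_contra hd
          obtain ⟨a, b, hab⟩ := (Nat.prime_iff_prime_int.1 hp).coprime_iff_not_dvd.2 hd
          apply hxn
          have e1 : x = (x ^ i) ^ b := by
            conv_lhs => rw [← zpow_one x, ← hab, zpow_add, mul_comm a, zpow_mul, zpow_natCast, hxp, one_zpow,
              one_mul, mul_comm b, zpow_mul]
          rw [e1]; exact zpow_mem hxi b
        simp only [zpow_mul, zpow_natCast, hxp, one_zpow, mul_one] at heU ⊢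
        exact hint f hf heU
      · rintro w (hw | rfl)
        exacts [hS w hw, ⟨hxB, hxp⟩]
      · rw [Subgroup.closure_union, ← hES, zpowers_eq_closure]
    exact hxn (mem_sup_left (hE.le_of_ge hmem le_sup_left (mem_sup_right (mem_zpowers x))))
  have hcenE : ∀ e ∈ E, (∀ f ∈ E, Commute e f) → e ∈ U := by
    intro e he hc
    rw [← D.center_le B hBc hUB hBM]
    refine ⟨hEB he, ?_⟩
    have : E ⊔ U ≤ centralizer ({e} : Set G) := sup_le
      (fun f hf => mem_centralizer_singleton_iff.2 (hc f hf).eq.symm)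
      (fun w hw => mem_centralizer_singleton_iff.2 (hMU e (hEM he) w hw).eq.symm)
    exact mem_centralizer_iff.2 fun b hb => mem_centralizer_singleton_iff.1 (this (hBEU hb))
  have hE3 := hext E hEM hzE hint (fun e he => (hpowE e he).1) hcenE
  refine ⟨E, hEM, hzE, hint, fun e he => (hpowE e he).1, hactE, fun m hm => ?_,
    fun _ h2 e he => (hpowE e he).2 h2, hE3⟩
  have hMB : M ≤ B := by
    intro x hx
    by_contra hxB
    obtain ⟨e₀, he₀, hc₀⟩ : ∃ e₀ ∈ E, ∀ e ∈ E, Commute (e₀⁻¹ * x) e := by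
      rcases hE3 with hc | hes
      · exact ⟨1, one_mem E, fun e he => mem_center_iff.1 (hc he) _⟩
      have hzc' : ∀ e : E, (⟨⁅x, (e : G)⁆, zpowers_le.2 hzE (hcommZ x hx e (hEM e.2))⟩ : E) ∈ center E :=
        fun e => mem_center_iff.2 fun f => Subtype.ext (mem_center_iff.1 (hZc (hcommZ x hx e (hEM e.2))) f)
      let c : E →* center E := MonoidHom.mk'
        (fun e => ⟨⟨⁅x, (e : G)⁆, zpowers_le.2 hzE (hcommZ x hx e (hEM e.2))⟩, hzc' e⟩) fun a b =>
        Subtype.ext (Subtype.ext (by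
          show ⁅x, (a : G) * b⁆ = ⁅x, (a : G)⁆ * ⁅x, (b : G)⁆
          rw [show ⁅x, (a : G) * b⁆ = ⁅x, (a : G)⁆ * ((a : G) * ⁅x, (b : G)⁆ * (a : G)⁻¹) by
            simp only [commutatorElement_def]; group,
            mem_center_iff.1 (hZc (hcommZ x hx b (hEM b.2))) a, mul_inv_cancel_right]))
      obtain ⟨e₀, he₀⟩ := extraspecial_exists_commutator_eq hes c (fun e he => by
        refine MonoidHom.mem_ker.2 (Subtype.ext (Subtype.ext ?_))
        exact commutatorElement_eq_one_iff_mul_comm.2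
          (hMU x hx _ (hcenE e e.2 fun f hf => congrArg Subtype.val (mem_center_iff.1 he ⟨f, hf⟩).symm)).eq)
      refine ⟨e₀, e₀.2, fun e he => ?_⟩
      have h := congrArg Subtype.val (he₀ ⟨e, he⟩)
      change ⁅x, e⁆ = ((⁅e₀, (⟨e, he⟩ : E)⁆ : E) : G) at h
      rw [← coe_subtype, map_commutatorElement] at h
      simp only [coe_subtype, commutatorElement_def, mul_left_inj] at h
      show (e₀ : G)⁻¹ * x * e = e * ((e₀ : G)⁻¹ * x)
      calc (e₀ : G)⁻¹ * x * e = (e₀ : G)⁻¹ * (x * e * x⁻¹) * x := by group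
        _ = _ := by rw [h]; group
    set x' := (e₀ : G)⁻¹ * x
    have hx' : x' ∈ M := mul_mem (inv_mem (hEM he₀)) hx
    have hx'B : x' ∉ B := fun h => hxB (by
      have := mul_mem (hEB he₀) h
      rwa [mul_inv_cancel_left] at this)
    have hBc' : ∀ b ∈ B, Commute x' b := by
      have : E ⊔ U ≤ centralizer ({x'} : Set G) := sup_le
        (fun f hf => mem_centralizer_singleton_iff.2 (hc₀ f hf).eq.symm)
        (fun w hw => mem_centralizer_singleton_iff.2 (hMU x' hx' w hw).eq.symm)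
      exact fun b hb => (mem_centralizer_singleton_iff.1 (this (hBEU hb))).symm
    obtain ⟨a, ha⟩ := mem_zpowers_iff.1 (hu ▸ D.pow x' hx' : x' ^ p ∈ zpowers u)
    have hpa : ¬ (p : ℤ) ∣ a := by
      rintro ⟨c, rfl⟩
      exact hx'B ⟨hx', u ^ c, zpow_mem hu' c, by rw [← ha, ← zpow_natCast, ← zpow_mul, mul_comm]⟩
    obtain ⟨s, t, hst⟩ := (Nat.prime_iff_prime_int.1 hp).coprime_iff_not_dvd.2 hpa
    refine hxB ?_
    suffices x' ∈ M ⊓ centralizer (M : Set G) by
      rw [D.center_le M D.charM D.le le_rfl] at this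
      exact absurd (hUB this) hx'B
    refine ⟨hx', mem_centralizer_iff.2 fun y hy => ?_⟩
    obtain ⟨b, hb⟩ := mem_zpowers_iff.1 (hu ▸ D.pow y hy : y ^ p ∈ zpowers u)
    set y' := y * x' ^ (-(b * t)) with hy'
    have hy'B : y' ∈ B := by
      have hxt : x' ^ (-(b * t)) ∈ M := zpow_mem hx' _
      obtain ⟨c, hc, hce⟩ := hZpow _ (pow_mem (hcommZ _ hxt y hy) (p.choose 2))
      refine ⟨mul_mem hy hxt, u ^ (b * s) * c, mul_mem (zpow_mem hu' _) hc, ?_⟩
      rw [hy', D.mul_pow hy hxt, hce, (hMU _ (D.le (zpow_mem hu' _)) _ hc).mul_pow]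
      congr 1
      rw [← zpow_natCast (x' ^ _) p, ← zpow_mul, mul_comm _ (p : ℤ), zpow_mul, zpow_natCast, ← hb, ← ha,
        ← zpow_mul, ← zpow_add, ← zpow_natCast (u ^ (b * s)) p, ← zpow_mul]
      congr 1
      linear_combination -b * hst
    have : y = y' * x' ^ (b * t) := by rw [hy', zpow_neg, inv_mul_cancel_right]
    rw [this]
    exact ((hBc' y' hy'B).symm.mul_left ((Commute.refl x').zpow_left _)).eq
  have hm' := hBEU (hMB hm)
  have : U.Normal := by have := D.charU; infer_instance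
  obtain ⟨e, he, w, hw, rfl⟩ := mem_sup_of_normal_right.1 hm'
  exact ⟨e, he, w, hw, rfl⟩

/-- `G = E C(E)`. -/
theorem exists_mul_centralizer_of_extraspecial {E : Subgroup G} (hE : Cfsg.IsExtraspecial p E)
    {Z : Subgroup G} (hZE : Z ≤ E) (hZc : Z ≤ center G) (hcE : ∀ e : E, e ∈ center E → (e : G) ∈ center G)
    (hact : ∀ (g : G), ∀ e ∈ E, ⁅g, e⁆ ∈ Z) (g : G) :
    ∃ e ∈ E, ∃ r ∈ centralizer (E : Set G), g = e * r := by
  have hzc' : ∀ e : E, (⟨⁅g, (e : G)⁆, hZE (hact g e e.2)⟩ : E) ∈ center E :=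
    fun e => mem_center_iff.2 fun f => Subtype.ext (mem_center_iff.1 (hZc (hact g e e.2)) f)
  let c : E →* center E := MonoidHom.mk'
    (fun e => ⟨⟨⁅g, (e : G)⁆, hZE (hact g e e.2)⟩, hzc' e⟩) fun a b =>
    Subtype.ext (Subtype.ext (by
      show ⁅g, (a : G) * b⁆ = ⁅g, (a : G)⁆ * ⁅g, (b : G)⁆
      rw [show ⁅g, (a : G) * b⁆ = ⁅g, (a : G)⁆ * ((a : G) * ⁅g, (b : G)⁆ * (a : G)⁻¹) by
        simp only [commutatorElement_def]; group,
        mem_center_iff.1 (hZc (hact g b b.2)) a, mul_inv_cancel_right]))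
  obtain ⟨e₀, he₀⟩ := extraspecial_exists_commutator_eq hE c (fun e he => by
    refine MonoidHom.mem_ker.2 (Subtype.ext (Subtype.ext ?_))
    exact commutatorElement_eq_one_iff_mul_comm.2 (mem_center_iff.1 (hcE e he) g))
  refine ⟨e₀, e₀.2, (e₀ : G)⁻¹ * g, mem_centralizer_iff.2 fun e he => ?_, (mul_inv_cancel_left _ _).symm⟩
  have h := congrArg Subtype.val (he₀ ⟨e, he⟩)
  change ⁅g, e⁆ = ((⁅e₀, (⟨e, he⟩ : E)⁆ : E) : G) at h
  rw [← coe_subtype, map_commutatorElement] at h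
  simp only [coe_subtype, commutatorElement_def, mul_left_inj] at h
  symm
  calc (e₀ : G)⁻¹ * g * e = (e₀ : G)⁻¹ * (g * e * g⁻¹) * g := by group
    _ = _ := by rw [h]; group

end CfsgLib.Coprime
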