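import Cfsg.Agent.Lib.ClassK.CyclicNormal
import Cfsg.Agent.Lib.Invol.Dihedral
import Cfsg.Agent.Lib.Invol.TwoGroups
import Cfsg.Prelude.Def_CaseTheorems
import Cfsg.Prelude.Def_PLocal
import Cfsg.Prelude.Def_Transfer
import Mathlib.Tactic.LinearCombination
set_option autoImplicit false

/-!
Self-centralizing cyclic normal subgroups of `p`-groups.
-/

namespace CfsgLib.Coprime

open Subgroup CfsgLib.ClassK

variable {G : Type*} [Group G]

/-- Two powers of `u` agree iff the exponents agree modulo its order. -/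
theorem zpow_eq_iff_dvd {u : G} {N : ℕ} (hu : orderOf u = N) {a b : ℤ} :
    u ^ a = u ^ b ↔ (N : ℤ) ∣ a - b := by
  rw [← hu, orderOf_dvd_iff_zpow_eq_one, zpow_sub, mul_inv_eq_one]

theorem exists_conj_exp {u : G} [hn : (zpowers u).Normal] (g : G) : ∃ k : ℤ, g * u * g⁻¹ = u ^ k := by
  obtain ⟨k, hk⟩ := mem_zpowers_iff.1 (hn.conj_mem u (mem_zpowers u) g)
  exact ⟨k, hk.symm⟩

theorem dvd_pow_sub_one_of_mem {u g : G} {k : ℤ} {N j : ℕ} (hu : orderOf u = N)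
    (hk : g * u * g⁻¹ = u ^ k) (hg : g ^ j ∈ zpowers u) : (N : ℤ) ∣ k ^ j - 1 := by
  obtain ⟨i, hi⟩ := mem_zpowers_iff.1 hg
  have h := conj_pow_of_conj hk j
  rw [← hi] at h
  rw [← zpow_eq_iff_dvd hu, ← h, zpow_one]
  group

theorem mem_of_dvd_sub_one {u g : G} {k : ℤ} {N : ℕ} (hu : orderOf u = N)
    (hC : centralizer (zpowers u : Set G) = zpowers u) (hk : g * u * g⁻¹ = u ^ k)
    (hd : (N : ℤ) ∣ k - 1) : g ∈ zpowers u := by
  have h : u ^ k = u := by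
    conv_rhs => rw [← zpow_one u]
    exact (zpow_eq_iff_dvd hu).2 hd
  rw [h, mul_inv_eq_iff_eq_mul] at hk
  rw [← hC]
  refine mem_centralizer_iff.2 fun x hx => ?_
  obtain ⟨i, rfl⟩ := mem_zpowers_iff.1 hx
  exact (show Commute u g from hk.symm).zpow_left i

theorem exists_pow_not_mem {p : ℕ} (hG : IsPGroup p G) (U : Subgroup G) {g : G} (hg : g ∉ U) :
    ∃ i : ℕ, g ^ p ^ i ∉ U ∧ (g ^ p ^ i) ^ p ∈ U := by
  classical
  have hex : ∃ i, g ^ p ^ i ∈ U := by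
    obtain ⟨i, hi⟩ := hG g
    exact ⟨i, hi ▸ one_mem U⟩
  have hpos : Nat.find hex ≠ 0 := fun h => hg (by simpa [h] using Nat.find_spec hex)
  obtain ⟨i, hi⟩ := Nat.exists_eq_succ_of_ne_zero hpos
  refine ⟨i, Nat.find_min hex (by omega), ?_⟩
  rw [← pow_mul, ← pow_succ, ← Nat.succ_eq_add_one, ← hi]
  exact Nat.find_spec hex

variable {p : ℕ} [Fact p.Prime]

theorem dvd_pred_of_pow (hp : p ≠ 2) {n : ℕ} (hn : 1 ≤ n) {k : ℤ} (h : ((p ^ n : ℕ) : ℤ) ∣ k ^ p - 1) :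
    ((p ^ (n - 1) : ℕ) : ℤ) ∣ k - 1 := by
  have hpp : p.Prime := Fact.out
  have h1 : (p : ℤ) ∣ k ^ p - 1 := by
    refine dvd_trans ?_ h
    exact_mod_cast dvd_pow_self p (by omega : n ≠ 0)
  have h2 : (p : ℤ) ∣ k - 1 := by
    rw [← ZMod.intCast_zmod_eq_zero_iff_dvd] at h1 ⊢
    push_cast at h1 ⊢
    rwa [ZMod.pow_card] at h1
  obtain ⟨w, hw, hco⟩ := not_sq_dvd_geom_sum hpp h2 fun e => absurd e hp
  have e : k ^ p - 1 = (p : ℤ) * ((k - 1) * w) := by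
    rw [← mul_geom_sum, hw]; ring
  rw [e, show p ^ n = p * p ^ (n - 1) by rw [← pow_succ']; congr 1; omega, Nat.cast_mul,
    mul_dvd_mul_iff_left (by exact_mod_cast hpp.ne_zero)] at h
  refine IsCoprime.dvd_of_dvd_mul_right ?_ h
  push_cast
  exact hco.pow_left

/-- Structure in the exceptional case: the group has a cyclic subgroup of index two. -/
theorem dihedral_quaternion_semidihedral [Finite G] {u g : G} {n : ℕ} (hn : 2 ≤ n)
    (hu : orderOf u = 2 ^ n) [(zpowers u).Normal] (hgen : closure ({u, g} : Set G) = ⊤)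
    (hcard : Nat.card G = 2 ^ (n + 1)) (hg : g ∉ zpowers u) (hg2 : g ^ 2 ∈ zpowers u)
    {k : ℤ} (hk : g * u * g⁻¹ = u ^ k) (hk1 : ((2 ^ (n - 1) : ℕ) : ℤ) ∣ k + 1)
    (hk4 : n = 2 → (4 : ℤ) ∣ k + 1) :
    (∃ m : ℕ, Nonempty (G ≃* DihedralGroup m)) ∨ (∃ m : ℕ, Nonempty (G ≃* QuaternionGroup m)) ∨
      Cfsg.IsQuasiDihedral G := by
  have e2 : (2 : ℤ) ^ n = 2 * 2 ^ (n - 1) := by rw [← pow_succ']; congr 1; omega
  obtain ⟨c, hc⟩ := hk1
  obtain ⟨i, hi⟩ := mem_zpowers_iff.1 hg2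
  have hfix : ((2 ^ n : ℕ) : ℤ) ∣ k * i - i := by
    rw [← zpow_eq_iff_dvd hu, ← conj_zpow_of_conj hk i, hi]
    group
  push_cast at hc hfix
  have iso : ∀ {H : Type} [Group H], Nonempty (↥(closure ({u, g} : Set G)) ≃* H) → Nonempty (G ≃* H) :=
    fun ⟨e⟩ => ⟨(topEquiv.symm.trans (MulEquiv.subgroupCongr hgen.symm)).trans e⟩
  rcases Int.even_or_odd c with ⟨d, rfl⟩ | ⟨d, rfl⟩
  · -- `k ≡ -1`
    have hkinv : g * u * g⁻¹ = u⁻¹ := by
      rw [hk, ← zpow_neg_one, zpow_eq_iff_dvd hu]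
      exact ⟨d, by push_cast; rw [e2]; linear_combination hc⟩
    have h2i : (2 : ℤ) ^ (n - 1) ∣ i := by
      obtain ⟨f, hf⟩ := hfix
      have : (2 : ℤ) * i = 2 * (2 ^ (n - 1) * (d * i * 2 ^ 0 - f)) := by
        rw [e2] at hf; linear_combination -hf + i * hc
      exact ⟨_, mul_left_cancel₀ two_ne_zero this⟩
    obtain ⟨e, he⟩ := h2i
    rcases Int.even_or_odd e with ⟨f, rfl⟩ | ⟨f, rfl⟩
    · refine Or.inl ⟨2 ^ n, ?_⟩
      have : NeZero (2 ^ n) := ⟨by positivity⟩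
      refine iso (CfsgLib.Invol.exists_mulEquiv_dihedral hu (orderOf_eq_prime ?_ fun h => hg (h ▸ one_mem _))
        hkinv hg)
      rw [← hi, ← orderOf_dvd_iff_zpow_eq_one, hu]
      exact ⟨f, by push_cast; rw [e2, he]; ring⟩
    · refine Or.inr (Or.inl ⟨2 ^ (n - 1), ?_⟩)
      have : NeZero (2 ^ (n - 1)) := ⟨by positivity⟩
      refine iso (CfsgLib.Invol.exists_mulEquiv_quaternion (r := u) (q := g) ?_ ?_ hkinv hg)
      · rw [hu, ← pow_succ']; congr 1; omega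
      · rw [← pow_two, ← hi, ← zpow_natCast, zpow_eq_iff_dvd hu]
        exact ⟨f, by push_cast; rw [e2, he]; ring⟩
  · -- `k ≡ -1 + 2 ^ (n - 1)`
    have hn3 : 3 ≤ n := by
      by_contra hlt
      obtain rfl : n = 2 := by omega
      obtain ⟨t, ht⟩ := hk4 rfl
      norm_num at hc
      omega
    have hkq : g * u * g⁻¹ = u ^ ((2 : ℤ) ^ (n - 1) - 1) := by
      rw [hk, zpow_eq_iff_dvd hu]
      exact ⟨d, by push_cast; rw [e2]; linear_combination hc⟩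
    have h2i : (2 : ℤ) ^ (n - 1) ∣ i := by
      obtain ⟨f, hf⟩ := hfix
      have e3 : (2 : ℤ) ^ (n - 1) = 2 * 2 ^ (n - 2) := by rw [← pow_succ']; congr 1; omega
      have h4 : (2 : ℤ) ^ (n - 1) ∣ i * (2 ^ (n - 2) * (2 * d + 1) - 1) := ⟨f, by
        refine mul_left_cancel₀ (two_ne_zero : (2 : ℤ) ≠ 0) ?_
        rw [e2, e3] at hf
        rw [e3] at hc ⊢
        linear_combination hf - i * hc⟩
      refine IsCoprime.dvd_of_dvd_mul_right ?_ h4
      refine (Int.prime_two.coprime_iff_not_dvd.2 ?_).pow_left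
      rintro ⟨t, ht⟩
      obtain ⟨l, hl⟩ : ∃ l, n - 2 = l + 1 := ⟨n - 3, by omega⟩
      rw [hl, pow_succ] at ht
      have : (2 : ℤ) * (2 ^ l * (2 * d + 1) - t) = 1 := by linear_combination ht
      omega
    obtain ⟨e, he⟩ := h2i
    refine Or.inr (Or.inr ⟨n, hn3, hcard, u, ?_⟩)
    have hcast : ((2 ^ (n - 1) - 1 : ℕ) : ℤ) = (2 : ℤ) ^ (n - 1) - 1 := by
      rw [Nat.cast_sub Nat.one_le_two_pow]; push_cast; rfl
    rcases Int.even_or_odd e with ⟨f, rfl⟩ | ⟨f, rfl⟩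
    · refine ⟨g, hu, orderOf_eq_prime ?_ fun h => hg (h ▸ one_mem _), ?_⟩
      · rw [← hi, ← orderOf_dvd_iff_zpow_eq_one, hu]
        exact ⟨f, by push_cast; rw [e2, he]; ring⟩
      · rw [hkq, ← zpow_natCast u (2 ^ (n - 1) - 1), hcast]
    · refine ⟨g * u, hu, orderOf_eq_prime ?_ fun h => hg ?_, ?_⟩
      · have : (g * u) ^ 2 = (g * u * g⁻¹) * g ^ 2 * u := by rw [pow_two, pow_two]; group
        rw [this, hkq, ← hi, ← zpow_add, ← zpow_add_one, ← orderOf_dvd_iff_zpow_eq_one, hu]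
        exact ⟨f + 1, by push_cast; rw [e2, he]; ring⟩
      · rw [eq_inv_of_mul_eq_one_left h]; exact inv_mem (mem_zpowers u)
      · rw [show g * u * u * (g * u)⁻¹ = g * u * g⁻¹ by group, hkq, ← zpow_natCast u (2 ^ (n - 1) - 1),
          hcast]

end CfsgLib.Coprime
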