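import Cfsg.Agent.Lib.Solvable.UniqueSubgroup
import Cfsg.Agent.Lib.Solvable.Nilpotent
import Cfsg.Agent.Lib.OddLocal.TypeP
import Cfsg.Prelude.Def_Transfer
set_option autoImplicit false

/-!
Groups in which abelian subgroups of the same order are conjugate.
-/

namespace CfsgLib.Coprime

open Subgroup

universe u

variable {G : Type u} [Group G]

/-- Any two abelian subgroups of the same order are conjugate. -/
def AbConj (G : Type u) [Group G] : Prop :=
  ∀ A B : Subgroup G, IsMulCommutative ↥A → IsMulCommutative ↥B → Nat.card ↥A = Nat.card ↥B →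
    ∃ g : G, B = A.map (MulAut.conj g).toMonoidHom

variable [Finite G] {p : ℕ} [Fact p.Prime]

theorem AbConj.pgroup_structure (hB : AbConj G) {P : Subgroup G} (hP : IsPGroup p P) :
    IsCyclic P ∨ (p = 2 ∧ ∃ n : ℕ, Nonempty (P ≃* QuaternionGroup (2 ^ n))) ∨ ∀ x ∈ P, x ^ p = 1 := by
  have hp : p.Prime := Fact.out
  by_cases huniq : ∀ H K : Subgroup P, Nat.card H = p → Nat.card K = p → H = K
  · rcases CfsgLib.Solvable.isCyclic_or_quaternion_of_unique hP huniq with h | h
    exacts [Or.inl h, Or.inr (Or.inl h)]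
  push Not at huniq
  obtain ⟨H, K, hH, hK, hHK⟩ := huniq
  refine Or.inr (Or.inr fun x hx => ?_)
  by_contra hxp
  -- a central subgroup of order `p`
  have hnil := hP.isNilpotent
  have hne : Nontrivial P := ⟨⟨⟨x, hx⟩, 1, fun h => hxp (by
    have := congrArg Subtype.val h
    simp only [coe_one] at this
    rw [this, one_pow])⟩⟩
  obtain ⟨⟨c, hc⟩, hc1⟩ := (ne_bot_iff_exists_ne_one (H := (⊤ : Subgroup P) ⊓ center P)).1
    (CfsgLib.Solvable.normal_inf_center_ne_bot ⊤ top_ne_bot)
  obtain ⟨i, hi⟩ := IsPGroup.iff_orderOf.1 hP c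
  have hi0 : i ≠ 0 := fun h => hc1 (Subtype.ext (orderOf_eq_one_iff.1 (by rw [hi, h, pow_zero])))
  set z := c ^ p ^ (i - 1)
  have hzo : orderOf z = p := by
    rw [orderOf_pow' _ (pow_ne_zero _ hp.ne_zero), hi, Nat.gcd_eq_right (pow_dvd_pow p (Nat.sub_le i 1)),
      Nat.pow_div (Nat.sub_le i 1) hp.pos, show i - (i - 1) = 1 by omega, pow_one]
  have hzc : z ∈ center P := pow_mem hc.2 _
  obtain ⟨W, hW, hWz⟩ : ∃ W : Subgroup P, Nat.card W = p ∧ W ≠ zpowers z := by
    by_cases h : H = zpowers z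
    · exact ⟨K, hK, fun h' => hHK (h.trans h'.symm)⟩
    · exact ⟨H, hH, h⟩
  obtain ⟨w, hw⟩ := (Subgroup.isCyclic_iff_exists_zpowers_eq_top W).1 (isCyclic_of_prime_card hW)
  have hwo : orderOf w = p := by rw [← Nat.card_zpowers, hw, hW]
  have hcomm : Commute z w := (mem_center_iff.1 hzc w).symm
  set A := zpowers z ⊔ zpowers w with hA
  have hAab : IsMulCommutative A := by
    rw [hA, zpowers_eq_closure, zpowers_eq_closure, ← Subgroup.closure_union, Set.singleton_union]
    refine isMulCommutative_closure ?_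
    rintro a (rfl | rfl) b (rfl | rfl)
    exacts [rfl, hcomm.eq, hcomm.symm.eq, rfl]
  have hAexp : ∀ a ∈ A, a ^ p = 1 := by
    intro a ha
    have hn : (zpowers z).Normal := ⟨fun n hn g => by
      rw [mem_center_iff.1 (zpowers_le.2 hzc hn) g, mul_inv_cancel_right]; exact hn⟩
    obtain ⟨b, hb, d, hd, rfl⟩ := mem_sup_of_normal_left.1 ha
    obtain ⟨j, rfl⟩ := mem_zpowers_iff.1 hb
    obtain ⟨k, rfl⟩ := mem_zpowers_iff.1 hd
    rw [((hcomm.zpow_zpow j k)).mul_pow, ← zpow_natCast, ← zpow_mul, mul_comm, zpow_mul, zpow_natCast,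
      ← zpow_natCast (w ^ k), ← zpow_mul, mul_comm, zpow_mul, zpow_natCast]
    conv_lhs => rw [show z ^ p = 1 from hzo ▸ pow_orderOf_eq_one z, show w ^ p = 1 from hwo ▸ pow_orderOf_eq_one w]
    rw [one_zpow, one_zpow, one_mul]
  obtain ⟨B, hBA, hBcard⟩ : ∃ B : Subgroup P, B ≤ A ∧ Nat.card B = p ^ 2 := by
    obtain ⟨k, hk⟩ := IsPGroup.iff_card.1 (hP.to_subgroup A)
    have hk2 : 2 ≤ k := by
      by_contra h
      have hle : Nat.card A ≤ p := by
        rw [hk]
        conv_rhs => rw [← pow_one p]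
        exact Nat.pow_le_pow_right hp.pos (by omega)
      have h1 : zpowers z = A := eq_of_le_of_card_ge le_sup_left (by rwa [Nat.card_zpowers, hzo])
      have h2 : zpowers w = A := eq_of_le_of_card_ge le_sup_right (by rwa [Nat.card_zpowers, hwo])
      exact hWz (by rw [← hw, h2, ← h1])
    obtain ⟨B, hB'⟩ := Sylow.exists_subgroup_card_pow_prime p (show p ^ 2 ∣ Nat.card A from hk ▸ pow_dvd_pow p hk2)
    exact ⟨B.map A.subtype, map_subtype_le B, by rw [card_map_of_injective A.subtype_injective, hB']⟩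
  have hBab : IsMulCommutative B := ⟨⟨fun a b =>
    Subtype.ext (show (a : P) * b = b * a from congrArg Subtype.val (hAab.is_comm.comm ⟨(a : P), hBA a.2⟩ ⟨(b : P), hBA b.2⟩))⟩⟩
  obtain ⟨j, hj⟩ := IsPGroup.iff_orderOf.1 hP ⟨x, hx⟩
  rw [orderOf_mk] at hj
  have hj2 : 2 ≤ j := by
    by_contra h
    refine hxp (orderOf_dvd_iff_pow_eq_one.1 ?_)
    rw [hj]
    conv_rhs => rw [← pow_one p]
    exact pow_dvd_pow p (by omega)
  set y := x ^ p ^ (j - 2)
  have hyo : orderOf y = p ^ 2 := by
    rw [orderOf_pow' _ (pow_ne_zero _ hp.ne_zero), hj, Nat.gcd_eq_right (pow_dvd_pow p (Nat.sub_le j 2)),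
      Nat.pow_div (Nat.sub_le j 2) hp.pos, show j - (j - 2) = 2 by omega]
  obtain ⟨g, hg⟩ := hB (zpowers y) (B.map P.subtype) inferInstance inferInstance
    (by rw [Nat.card_zpowers, hyo, card_map_of_injective P.subtype_injective, hBcard])
  obtain ⟨a, ha, hae⟩ : (MulAut.conj g) y ∈ B.map P.subtype := hg ▸ ⟨y, mem_zpowers y, rfl⟩
  have h1 := orderOf_dvd_of_pow_eq_one (show (P.subtype a) ^ p = 1 by rw [← map_pow, hAexp a (hBA ha), map_one])
  rw [hae, MulEquiv.orderOf_eq, hyo] at h1
  have := Nat.le_of_dvd hp.pos h1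
  nlinarith [hp.two_le]

end CfsgLib.Coprime

namespace CfsgLib.Coprime

open Subgroup

variable {G : Type*} [Group G] [Finite G]

theorem le_of_card_dvd_of_isCyclic {P A B : Subgroup G} {p : ℕ} [Fact p.Prime] (hP : IsPGroup p P) [IsCyclic P]
    (hA : A ≤ P) (hB : B ≤ P) (h : Nat.card A ∣ Nat.card B) : A ≤ B := by
  have : IsCyclic B := Subgroup.isCyclic_of_le hB
  obtain ⟨a, ha⟩ := IsPGroup.iff_card.1 (hP.to_le hA)
  obtain ⟨C, hC⟩ := Sylow.exists_subgroup_card_pow_prime p (ha ▸ h)
  have h1 : A.subgroupOf P = (C.map B.subtype).subgroupOf P := by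
    refine CfsgLib.OddLocal.eq_of_card_eq_of_isCyclic ?_
    rw [Nat.card_congr (subgroupOfEquivOfLe hA).toEquiv,
      Nat.card_congr (subgroupOfEquivOfLe ((map_subtype_le C).trans hB)).toEquiv,
      card_map_of_injective B.subtype_injective, hC, ha]
  intro x hx
  have h2 : (⟨x, hA hx⟩ : P) ∈ (C.map B.subtype).subgroupOf P := h1 ▸ hx
  exact map_subtype_le C h2

theorem quaternion_sq_eq_one {n : ℕ} [NeZero n] (q : QuaternionGroup n) (h : q ^ 2 = 1) :
    q = 1 ∨ q = QuaternionGroup.a (n : ZMod (2 * n)) := by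
  rcases q with i | i
  · rw [pow_two, QuaternionGroup.a_mul_a, QuaternionGroup.one_def, QuaternionGroup.a.injEq] at h
    obtain ⟨c, hc⟩ : 2 * n ∣ i.val + i.val := by
      rw [← ZMod.natCast_eq_zero_iff]
      push_cast
      rw [ZMod.natCast_zmod_val]; exact h
    have hlt := ZMod.val_lt i
    rcases Nat.lt_or_ge c 1 with h0 | h1
    · refine Or.inl ?_
      rw [← ZMod.natCast_zmod_val i, show i.val = 0 by nlinarith, Nat.cast_zero, QuaternionGroup.a_zero]
    · refine Or.inr ?_
      obtain rfl : c = 1 := by nlinarith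
      rw [← ZMod.natCast_zmod_val i, show i.val = n by omega]
  · have h4 := QuaternionGroup.orderOf_xa i
    have := orderOf_dvd_of_pow_eq_one h
    rw [h4] at this
    norm_num at this

/-- The structure of a normal subgroup of even order and even index when a Sylow `2`-subgroup is
quaternion. -/
theorem AbConj.quaternion_normal (hB : AbConj G) (M : Subgroup G) [hMn : M.Normal] (P : Sylow 2 G) {n : ℕ} [NeZero n]
    (e : (P : Subgroup G) ≃* QuaternionGroup n) (hM : 2 ∣ Nat.card M) (hI : 2 ∣ M.index) :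
    (∀ x : G, orderOf x = 2 → x ∈ M) ∧ (∀ x : G, orderOf x = 4 → x ∉ M) ∧
      (Nat.card M).factorization 2 = 1 := by
  have hmv : ∀ x y : G, orderOf x = orderOf y → y ∈ M → x ∈ M := by
    intro x y h hy
    obtain ⟨g, hg⟩ := hB (zpowers y) (zpowers x) inferInstance inferInstance
      (by rw [Nat.card_zpowers, Nat.card_zpowers, h])
    obtain ⟨z, hz, hzx⟩ : x ∈ (zpowers y).map (MulAut.conj g).toMonoidHom := hg ▸ mem_zpowers x
    rw [← hzx]
    exact hMn.conj_mem _ (zpowers_le.2 hy hz) g
  obtain ⟨m, hm⟩ := exists_prime_orderOf_dvd_card' 2 hM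
  rw [← Subgroup.orderOf_coe] at hm
  have h2 : ∀ x : G, orderOf x = 2 → x ∈ M := fun x hx => hmv x m (hx.trans hm.symm) m.2
  have h4 : ∀ x : G, orderOf x = 4 → x ∉ M := by
    intro x hx hxM
    have hall : ∀ q : QuaternionGroup n, ((e.symm q : (P : Subgroup G)) : G) ∈ M := by
      have hxa : ∀ i : ZMod (2 * n), ((e.symm (.xa i) : (P : Subgroup G)) : G) ∈ M := fun i =>
        hmv _ x (by rw [Subgroup.orderOf_coe, MulEquiv.orderOf_eq, QuaternionGroup.orderOf_xa, hx]) hxM
      rintro (i | i)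
      · have : (QuaternionGroup.a i) = .xa 0 * .xa (i - n) := by
          rw [QuaternionGroup.xa_mul_xa]; congr 1; ring
        rw [this, map_mul]
        exact mul_mem (hxa _) (hxa _)
      · exact hxa i
    have hle : (P : Subgroup G) ≤ M := fun y hy => by simpa using hall (e ⟨y, hy⟩)
    have h1 := P.not_dvd_index
    rw [← relIndex_mul_index hle] at h1
    exact h1 (dvd_mul_of_dvd_right hI _)
  refine ⟨h2, h4, le_antisymm ?_ ((Nat.prime_two.dvd_iff_one_le_factorization Nat.card_pos.ne').1 hM)⟩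
  by_contra hlt
  have h4d : 2 ^ 2 ∣ Nat.card M :=
    (Nat.prime_two.pow_dvd_iff_le_factorization Nat.card_pos.ne').2 (by omega)
  obtain ⟨R, hR⟩ := Sylow.exists_subgroup_card_pow_prime 2 h4d
  have hR' : Nat.card (R.map M.subtype) = 2 ^ 2 := by rw [card_map_of_injective M.subtype_injective, hR]
  obtain ⟨Q, hQ⟩ := (IsPGroup.of_card hR').exists_le_sylow
  obtain ⟨f⟩ : Nonempty ((Q : Subgroup G) ≃* QuaternionGroup n) := ⟨(Sylow.equiv Q P).trans e⟩
  have hinv : ∀ r ∈ R.map M.subtype, r ^ 2 = 1 := by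
    intro r hr
    have h1 : orderOf r ∣ 2 ^ 2 := by rw [← hR']; exact Subgroup.orderOf_dvd_natCard _ hr
    obtain ⟨k, hk, hk'⟩ := (Nat.dvd_prime_pow Nat.prime_two).1 h1
    rcases Nat.lt_or_ge k 2 with h | h
    · exact orderOf_dvd_iff_pow_eq_one.1 (hk' ▸ (by interval_cases k <;> norm_num))
    · exact absurd ((map_subtype_le R) hr) (h4 r (by rw [hk', show k = 2 by omega]; norm_num))
  let s : Finset (QuaternionGroup n) := {1, QuaternionGroup.a (n : ZMod (2 * n))}
  have hmem : ∀ r : ↥(R.map M.subtype), f ⟨r, hQ r.2⟩ ∈ s := fun r => by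
    have := quaternion_sq_eq_one (f ⟨r, hQ r.2⟩) (by
      rw [← map_pow, show (⟨(r : G), hQ r.2⟩ : (Q : Subgroup G)) ^ 2 = 1 from Subtype.ext (hinv r r.2), map_one])
    rcases this with h | h <;> simp [s, h]
  have := Nat.card_le_card_of_injective (fun r : ↥(R.map M.subtype) => (⟨_, hmem r⟩ : s)) fun a b hab => by
    have h := f.injective (congrArg Subtype.val hab)
    exact Subtype.ext (congrArg (fun t : (Q : Subgroup G) => (t : G)) h)
  rw [hR', Nat.card_eq_fintype_card, Fintype.card_coe] at this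
  have := (Finset.card_insert_le (1 : QuaternionGroup n) {QuaternionGroup.a (n : ZMod (2 * n))}).trans_eq
    (by rw [Finset.card_singleton])
  simp only [s] at *
  omega

/-- An abelian lift of an abelian subgroup of `G ⧸ M` of prescribed order. -/
theorem AbConj.exists_lift (hB : AbConj G) (M : Subgroup G) [M.Normal] (A : Subgroup (G ⧸ M))
    (hA : IsMulCommutative A) (h2 : 2 ∣ Nat.card M → 2 ∣ Nat.card A →
      (∃ (P : Sylow 2 G) (k : ℕ), Nonempty ((P : Subgroup G) ≃* QuaternionGroup (2 ^ k))) → ¬ 4 ∣ Nat.card A) :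
    ∃ H : Subgroup G, IsMulCommutative H ∧ H.map (QuotientGroup.mk' M) = A ∧
      ∀ p : ℕ, p.Prime → (Nat.card (H ⊓ M : Subgroup G)).factorization p =
        if p ∣ Nat.card A then (Nat.card M).factorization p else 0 := by
  classical
  set π := QuotientGroup.mk' M
  obtain ⟨H, hH⟩ := (Set.toFinite {H : Subgroup G | H.map π = A}).exists_minimal
    ⟨A.comap π, map_comap_eq_self_of_surjective (QuotientGroup.mk'_surjective M) A⟩
  have hHA : H.map π = A := hH.prop
  have hmin : ∀ K : Subgroup H, K.map (π.comp H.subtype) = A → K = ⊤ := by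
    intro K hK
    rw [← map_map] at hK
    have := hH.le_of_le (y := K.map H.subtype) hK (map_subtype_le K)
    rw [eq_top_iff]
    intro x _
    obtain ⟨y, hy, hyx⟩ := this x.2
    rwa [show y = x from Subtype.ext hyx] at hy
  -- `H` is nilpotent
  set ρ : H →* G ⧸ M := π.comp H.subtype
  have hρ : ρ.range = A := by rw [MonoidHom.range_comp, range_subtype, hHA]
  have hkerK : ∀ K : Subgroup H, K ⊔ ρ.ker = ⊤ → K = ⊤ := by
    intro K hK
    apply hmin K
    have := congrArg (Subgroup.map ρ) hK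
    rw [Subgroup.map_sup, (map_eq_bot_iff ρ.ker).2 le_rfl, sup_bot_eq, ← MonoidHom.range_eq_map, hρ] at this
    exact this
  have hnil : Group.IsNilpotent H := by
    refine ((Group.isNilpotent_of_finite_tfae (G := H)).out 2 0 rfl rfl).1 fun K hK => ?_
    have hker : ρ.ker ≤ K := by
      by_contra h
      exact hK.1 (hkerK K (hK.2 _ (left_lt_sup.2 h)))
    refine ⟨fun n hn g => ?_⟩
    have hc : g * n * g⁻¹ * n⁻¹ ∈ ρ.ker := by
      have h1 : ρ g * ρ n = ρ n * ρ g := congrArg Subtype.val
        (hA.is_comm.comm ⟨ρ g, hρ ▸ ⟨g, rfl⟩⟩ ⟨ρ n, hρ ▸ ⟨n, rfl⟩⟩)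
      rw [MonoidHom.mem_ker, map_mul, map_mul, map_mul, map_inv, map_inv, h1, mul_inv_cancel_right, mul_inv_cancel]
    have := mul_mem (hker hc) hn
    rwa [inv_mul_cancel_right] at this
  have hAH : Nat.card A ∣ Nat.card H := by
    rw [← hHA]; exact card_map_dvd H π
  have hHM : Nat.card (H ⊓ M : Subgroup G) ∣ Nat.card M := card_dvd_of_le inf_le_right
  -- the Sylow subgroups
  have key : ∀ p : ℕ, p.Prime → ∀ S : Sylow p H, IsMulCommutative S ∧
      (Nat.card (H ⊓ M : Subgroup G)).factorization p =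
        if p ∣ Nat.card A then (Nat.card M).factorization p else 0 := by
    intro p hp S
    have : Fact p.Prime := ⟨hp⟩
    have hSn : (S : Subgroup H).Normal := ((Group.isNilpotent_of_finite_tfae (G := H)).out 0 3 rfl rfl).1 hnil p this S
    have hSM : (S : Subgroup H) ≤ ρ.ker → (S : Subgroup H) = ⊥ := by
      intro hle
      obtain ⟨K, hK⟩ := exists_right_complement'_of_coprime S.card_coprime_index
      have hKtop : K = ⊤ := hkerK K (eq_top_iff.2 (by
        rw [← hK.sup_eq_top, sup_comm]; exact sup_le_sup le_rfl hle))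
      have := hK.disjoint
      rwa [hKtop, disjoint_top] at this
    have hdvd : p ∣ Nat.card H → (S : Subgroup H) ≠ ⊥ := fun h hb => by
      have := S.not_dvd_index
      rw [hb, index_bot] at this
      exact this h
    by_cases hpA : p ∣ Nat.card A
    · rw [if_pos hpA]
      by_cases hpM : p ∣ Nat.card M
      · obtain ⟨P, hP⟩ := (S.2.map H.subtype).exists_le_sylow
        have hPM : ¬ (P : Subgroup G) ≤ M := fun hle => by
          have h1 := P.not_dvd_index
          rw [← relIndex_mul_index hle] at h1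
          refine h1 (dvd_mul_of_dvd_right ?_ _)
          rw [index_eq_card]
          exact hpA.trans (card_subgroup_dvd_card A)
        rcases hB.pgroup_structure P.2 with hc | ⟨rfl, k, ⟨e⟩⟩ | hexp
        rotate_left
        · obtain ⟨hinM, -, hv⟩ := hB.quaternion_normal M P e hpM (by
            rw [index_eq_card]; exact hpA.trans (card_subgroup_dvd_card A))
          obtain ⟨a, ha⟩ := IsPGroup.iff_card.1 S.2
          have hne := hdvd (hpA.trans hAH)
          obtain ⟨s, hs⟩ := exists_prime_orderOf_dvd_card' (G := S) 2 (by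
            rcases Nat.eq_zero_or_pos a with rfl | h
            · rw [pow_zero] at ha; exact absurd (Subgroup.card_eq_one.1 ha) hne
            · rw [ha]; exact dvd_pow_self 2 h.ne')
          have hsM : ((s : H) : G) ∈ M := hinM _ (by rw [Subgroup.orderOf_coe, Subgroup.orderOf_coe, hs])
          refine ⟨?_, le_antisymm ((Nat.factorization_le_iff_dvd Nat.card_pos.ne' Nat.card_pos.ne').2 hHM 2) ?_⟩
          · -- order at most four
            let σ : S →* G ⧸ M := ρ.comp (S : Subgroup H).subtype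
            have hker : Nat.card σ.ker ∣ 2 := by
              have h1 : Nat.card σ.ker ∣ Nat.card M := by
                refine Subgroup.card_dvd_of_injective
                  ((((H.subtype).comp (S : Subgroup H).subtype).comp σ.ker.subtype).codRestrict M fun x =>
                    (QuotientGroup.eq_one_iff _).1 x.2) fun x y hxy => ?_
                exact Subtype.ext (Subtype.ext (Subtype.ext (Subtype.ext_iff.1 hxy :)))
              obtain ⟨b, hb⟩ := IsPGroup.iff_card.1 (S.2.to_subgroup σ.ker)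
              rw [hb] at h1 ⊢
              have := (Nat.prime_two.pow_dvd_iff_le_factorization Nat.card_pos.ne').1 h1
              rw [hv] at this
              exact (pow_dvd_pow 2 this).trans (by norm_num)
            have hrange : Nat.card σ.range ∣ 2 := by
              have h1 : Nat.card σ.range ∣ Nat.card A := card_dvd_of_le (by
                rw [← hρ]; rintro _ ⟨x, rfl⟩; exact ⟨(x : H), rfl⟩)
              obtain ⟨b, hb⟩ := IsPGroup.iff_card.1 (S.2.map ρ)
              have hb' : Nat.card σ.range = 2 ^ b := by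
                rw [MonoidHom.range_comp, range_subtype]; exact hb
              rw [hb'] at h1 ⊢
              rcases Nat.lt_or_ge b 2 with h | h
              · exact (pow_dvd_pow 2 (by omega : b ≤ 1)).trans (by norm_num)
              · exact absurd ((pow_dvd_pow 2 h).trans h1) (h2 hpM hpA ⟨P, k, ⟨e⟩⟩)
            have h4 : Nat.card S ∣ 2 ^ 2 := by
              rw [← card_mul_index σ.ker, index_ker, pow_two]; exact mul_dvd_mul hker hrange
            obtain ⟨b, hb, hb'⟩ := (Nat.dvd_prime_pow Nat.prime_two).1 h4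
            rcases Nat.lt_or_ge b 2 with h | h
            · have : IsCyclic S := by
                interval_cases b
                · have : Subsingleton S := (Nat.card_eq_one_iff_unique.1 (by rw [hb', pow_zero])).1
                  infer_instance
                · exact isCyclic_of_prime_card (p := 2) (by rw [hb', pow_one])
              infer_instance
            · exact IsPGroup.isMulCommutative_of_card_eq_prime_sq (p := 2) (by rw [hb', show b = 2 by omega])
          · rw [hv]
            refine (Nat.prime_two.dvd_iff_one_le_factorization Nat.card_pos.ne').1 ?_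
            rw [← hs, ← Subgroup.orderOf_coe, ← Subgroup.orderOf_coe]
            exact Subgroup.orderOf_dvd_natCard _ ⟨(s : H).2, hsM⟩
        · refine absurd ?_ hPM
          obtain ⟨m, hm⟩ := exists_prime_orderOf_dvd_card' p hpM
          rw [← orderOf_coe] at hm
          intro x hx
          by_cases hx1 : x = 1
          · rw [hx1]; exact one_mem M
          obtain ⟨g, hg⟩ := hB (zpowers (m : G)) (zpowers x) inferInstance inferInstance
            (by rw [Nat.card_zpowers, Nat.card_zpowers, hm, orderOf_eq_prime (hexp x hx) hx1])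
          obtain ⟨y, hy, hyx⟩ : x ∈ (zpowers (m : G)).map (MulAut.conj g).toMonoidHom := hg ▸ mem_zpowers x
          rw [← hyx]
          exact (inferInstance : M.Normal).conj_mem _ ((zpowers_le.2 m.2) hy) g
        refine ⟨⟨⟨fun a b => Subtype.ext (Subtype.ext (show ((a : H) : G) * ((b : H) : G) = ((b : H) : G) * ((a : H) : G) from congrArg Subtype.val
          ((inferInstance : IsMulCommutative (P : Subgroup G)).is_comm.comm
            ⟨((a : H) : G), hP ⟨_, a.2, rfl⟩⟩ ⟨((b : H) : G), hP ⟨_, b.2, rfl⟩⟩)))⟩⟩, ?_⟩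
        -- a Sylow subgroup of `M` inside `P`
        obtain ⟨R, hR⟩ := Sylow.exists_subgroup_card_pow_prime p (Nat.ordProj_dvd (Nat.card M) p)
        have hRp : IsPGroup p (R.map M.subtype) := IsPGroup.of_card (by
          rw [card_map_of_injective M.subtype_injective, hR])
        obtain ⟨Q, hQ⟩ := hRp.exists_le_sylow
        obtain ⟨g, hg⟩ := MulAction.exists_smul_eq G Q P
        set R' := (R.map M.subtype).map (MulAut.conj g).toMonoidHom
        have hR'P : R' ≤ P := by
          rw [← hg]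
          exact map_mono hQ
        have hR'M : R' ≤ M := by
          rintro _ ⟨x, hx, rfl⟩
          exact (inferInstance : M.Normal).conj_mem _ (map_subtype_le R hx) g
        have hR'card : Nat.card R' = p ^ (Nat.card M).factorization p := by
          rw [card_map_of_injective (MulAut.conj g).injective, card_map_of_injective M.subtype_injective, hR]
        have hR'S : R' ≤ (S : Subgroup H).map H.subtype := by
          obtain ⟨a, ha⟩ := IsPGroup.iff_card.1 (S.2.map H.subtype)
          rcases le_total ((Nat.card M).factorization p) a with h | h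
          · exact le_of_card_dvd_of_isCyclic P.2 hR'P hP (by rw [hR'card, ha]; exact pow_dvd_pow p h)
          · exfalso
            have hle := le_of_card_dvd_of_isCyclic P.2 hP hR'P (by rw [hR'card, ha]; exact pow_dvd_pow p h)
            refine hdvd (hpA.trans hAH) (hSM fun x hx => ?_)
            exact (QuotientGroup.eq_one_iff _).2 (hR'M (hle ⟨x, hx, rfl⟩))
        refine le_antisymm ((Nat.factorization_le_iff_dvd Nat.card_pos.ne' Nat.card_pos.ne').2 hHM p) ?_
        refine (hp.pow_dvd_iff_le_factorization Nat.card_pos.ne').1 ?_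
        rw [← hR'card]
        exact card_dvd_of_le (le_inf (hR'S.trans (map_subtype_le _)) hR'M)
      · refine ⟨⟨⟨fun a b => ?_⟩⟩, ?_⟩
        · have hinj : ∀ x : S, ρ x = 1 → x = 1 := by
            intro x hx
            obtain ⟨k, hk⟩ := IsPGroup.iff_orderOf.1 S.2 x
            rcases Nat.eq_zero_or_pos k with rfl | hk0
            · rwa [pow_zero, orderOf_eq_one_iff] at hk
            refine absurd ?_ hpM
            have hxM : ((x : H) : G) ∈ M := (QuotientGroup.eq_one_iff _).1 hx
            have : orderOf (⟨_, hxM⟩ : M) = p ^ k := by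
              rw [orderOf_mk, orderOf_coe, orderOf_coe, hk]
            exact ((dvd_pow_self p hk0.ne').trans (dvd_of_eq this.symm)).trans (orderOf_dvd_natCard _)
          refine mul_inv_eq_one.1 (hinj _ ?_)
          have h1 : ρ a * ρ b = ρ b * ρ a := congrArg Subtype.val
            (hA.is_comm.comm ⟨ρ a, hρ ▸ ⟨a, rfl⟩⟩ ⟨ρ b, hρ ▸ ⟨b, rfl⟩⟩)
          simp only [Subgroup.coe_mul, Subgroup.coe_inv, map_mul, map_inv, h1, mul_inv_cancel]
        · rw [Nat.factorization_eq_zero_of_not_dvd hpM,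
            Nat.factorization_eq_zero_of_not_dvd (fun h => hpM (h.trans hHM))]
    · rw [if_neg hpA]
      have hS : (S : Subgroup H) = ⊥ := by
        refine hSM fun x hx => ?_
        obtain ⟨k, hk⟩ := IsPGroup.iff_orderOf.1 (S.2.map ρ) ⟨ρ x, mem_map_of_mem ρ hx⟩
        rw [Subgroup.orderOf_mk] at hk
        rcases Nat.eq_zero_or_pos k with rfl | hk0
        · rwa [pow_zero, orderOf_eq_one_iff] at hk
        refine absurd ?_ hpA
        refine ((dvd_pow_self p hk0.ne').trans (dvd_of_eq hk.symm)).trans ?_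
        exact Subgroup.orderOf_dvd_natCard _ (hρ ▸ ⟨x, rfl⟩)
      refine ⟨by rw [hS]; exact ⟨⟨fun a b => Subsingleton.elim _ _⟩⟩, Nat.factorization_eq_zero_of_not_dvd fun h => ?_⟩
      exact hdvd (h.trans (card_dvd_of_le inf_le_left)) hS
  refine ⟨H, ?_, hHA, fun p hp => ?_⟩
  · obtain ⟨e⟩ := ((Group.isNilpotent_of_finite_tfae (G := H)).out 0 4 rfl rfl).1 hnil
    refine ⟨⟨fun a b => e.symm.injective ?_⟩⟩
    rw [map_mul, map_mul]
    funext p P
    have := (key p.1 (Nat.prime_of_mem_primeFactors p.2) P).1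
    exact this.is_comm.comm _ _
  · have : Fact p.Prime := ⟨hp⟩
    exact (key p hp (default : Sylow p H)).2

theorem AbConj.quotient (hB : AbConj G) (M : Subgroup G) [M.Normal] (A B : Subgroup (G ⧸ M))
    (hA : IsMulCommutative A) (hB' : IsMulCommutative B) (hcard : Nat.card A = Nat.card B)
    (h2 : 2 ∣ Nat.card M → 2 ∣ Nat.card A →
      (∃ (P : Sylow 2 G) (k : ℕ), Nonempty ((P : Subgroup G) ≃* QuaternionGroup (2 ^ k))) → ¬ 4 ∣ Nat.card A) :
    ∃ g : G ⧸ M, B = A.map (MulAut.conj g).toMonoidHom := by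
  obtain ⟨H, hH, hHA, hHf⟩ := hB.exists_lift M A hA h2
  obtain ⟨K, hK, hKB, hKf⟩ := hB.exists_lift M B hB' (hcard ▸ h2)
  have hc : ∀ (X : Subgroup G) (Y : Subgroup (G ⧸ M)), X.map (QuotientGroup.mk' M) = Y →
      Nat.card X = Nat.card Y * Nat.card (X ⊓ M : Subgroup G) := by
    intro X Y hXY
    set σ := (QuotientGroup.mk' M).comp X.subtype
    rw [← card_mul_index σ.ker, index_ker, mul_comm]
    congr 1
    · rw [MonoidHom.range_comp, range_subtype, hXY]
    · have e : σ.ker = (X ⊓ M).subgroupOf X := by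
        ext x; simp [σ, mem_subgroupOf, QuotientGroup.eq_one_iff]
      rw [e]
      exact Nat.card_congr (subgroupOfEquivOfLe (inf_le_left : X ⊓ M ≤ X)).toEquiv
  obtain ⟨g, hg⟩ := hB H K hH hK (by
    rw [hc H A hHA, hc K B hKB, hcard]
    congr 1
    refine Nat.eq_of_factorization_eq Nat.card_pos.ne' Nat.card_pos.ne' fun p => ?_
    by_cases hp : p.Prime
    · rw [hHf p hp, hKf p hp, hcard]
    · rw [Nat.factorization_eq_zero_of_not_prime _ hp, Nat.factorization_eq_zero_of_not_prime _ hp])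
  refine ⟨QuotientGroup.mk' M g, ?_⟩
  rw [← hKB, hg, ← hHA, map_map, map_map]
  congr 1

end CfsgLib.Coprime

namespace CfsgLib.Coprime

open Subgroup

variable {G : Type*} [Group G] [Finite G]

open scoped commutatorElement in
theorem AbConj.quaternion_index (hB : AbConj G) [Group.IsSolvable G] (M : Subgroup G) [hMn : M.Normal]
    (P : Sylow 2 G) {k : ℕ} (e : (P : Subgroup G) ≃* QuaternionGroup (2 ^ k)) (hM : 2 ∣ Nat.card M)
    (hI : 2 ∣ M.index) : (Nat.card (G ⧸ M)).factorization 2 ≤ 2 := by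
  classical
  obtain ⟨hinM, h4, hv⟩ := hB.quaternion_normal M P e hM hI
  set π := QuotientGroup.mk' M
  have hnn : NeZero (2 ^ k) := ⟨by positivity⟩
  -- two-elements of `M` have order at most two
  have hord : ∀ x ∈ M, ∀ j : ℕ, orderOf x = 2 ^ j → j ≤ 1 := by
    intro x hx j hj
    rw [← hv]
    refine (Nat.prime_two.pow_dvd_iff_le_factorization Nat.card_pos.ne').1 ?_
    rw [← hj]; exact Subgroup.orderOf_dvd_natCard _ hx
  have himg : ∀ y : G, orderOf y = 4 → orderOf (π y) = 2 := by
    intro y hy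
    refine orderOf_eq_prime ?_ fun h => h4 y hy ((QuotientGroup.eq_one_iff y).1 h)
    rw [← map_pow]
    refine (QuotientGroup.eq_one_iff _).2 (hinM _ ?_)
    rw [orderOf_pow, hy]; norm_num
  have hlift : ∀ t : G ⧸ M, orderOf t = 2 → ∃ y : G, orderOf y = 4 ∧ π y = t := by
    intro t ht
    obtain ⟨y, rfl⟩ := QuotientGroup.mk'_surjective M t
    set m := orderOf y / 2 ^ (orderOf y).factorization 2
    have hm : Odd m := by
      rw [← Nat.not_even_iff_odd, even_iff_two_dvd]
      exact Nat.not_dvd_ordCompl Nat.prime_two (orderOf_pos y).ne'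
    refine ⟨y ^ m, ?_, ?_⟩
    · have hy : orderOf (y ^ m) = 2 ^ (orderOf y).factorization 2 := by
        rw [orderOf_pow' _ hm.pos.ne', Nat.gcd_eq_right (Nat.div_dvd_of_dvd (Nat.ordProj_dvd _ _))]
        exact Nat.div_div_self (Nat.ordProj_dvd _ _) (orderOf_pos y).ne'
      set j := (orderOf y).factorization 2
      have hnot : y ^ m ∉ M := fun h => by
        have h1 : π y ^ m = 1 := by rw [← map_pow]; exact (QuotientGroup.eq_one_iff _).2 h
        obtain ⟨c, hc⟩ := hm
        have h2 := orderOf_dvd_of_pow_eq_one h1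
        rw [ht] at h2
        omega
      have hj1 : 1 ≤ j := by
        rcases Nat.eq_zero_or_pos j with h | h
        · rw [h, pow_zero, orderOf_eq_one_iff] at hy; exact absurd (hy ▸ one_mem M) hnot
        · exact h
      have hsq : (y ^ m) ^ 2 ∈ M := (QuotientGroup.eq_one_iff _).1 (by
        show π ((y ^ m) ^ 2) = 1
        rw [map_pow, map_pow, pow_right_comm, show π y ^ 2 = 1 from ht ▸ pow_orderOf_eq_one _, one_pow])
      have := hord _ hsq (j - 1) (by
        rw [orderOf_pow, hy, Nat.gcd_eq_right (dvd_pow_self 2 (by omega))]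
        exact Nat.div_eq_of_eq_mul_left two_pos (by rw [← pow_succ]; congr 1; omega))
      rcases Nat.lt_or_ge j 2 with h | h
      · exact absurd (hinM _ (by rw [hy, show j = 1 by omega, pow_one])) hnot
      · rw [hy, show j = 2 by omega]; norm_num
    · obtain ⟨c, hc⟩ := hm
      rw [map_pow, hc, pow_succ, pow_mul, show π y ^ 2 = 1 from ht ▸ pow_orderOf_eq_one _, one_pow, one_mul]
  have hone : ∀ t t' : G ⧸ M, orderOf t = 2 → orderOf t' = 2 → ∃ x : G ⧸ M, x * t * x⁻¹ = t' := by
    intro t t' ht ht'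
    obtain ⟨y, hy, rfl⟩ := hlift t ht
    obtain ⟨y', hy', rfl⟩ := hlift t' ht'
    obtain ⟨g, hg⟩ := hB (zpowers y) (zpowers y') inferInstance inferInstance
      (by rw [Nat.card_zpowers, Nat.card_zpowers, hy, hy'])
    obtain ⟨z, hz, hzy⟩ : y' ∈ (zpowers y).map (MulAut.conj g).toMonoidHom := hg ▸ mem_zpowers y'
    obtain ⟨i, rfl⟩ := mem_zpowers_iff.1 hz
    refine ⟨π g, ?_⟩
    have hy2 : π y ^ (2 : ℤ) = 1 := by
      rw [show π y ^ (2 : ℤ) = π y ^ 2 from zpow_natCast _ 2, ← himg y hy]; exact pow_orderOf_eq_one _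
    have hπ : π y' = π g * π y ^ i * (π g)⁻¹ := by
      rw [← hzy, ← map_zpow π, ← map_inv π, ← map_mul, ← map_mul]; rfl
    rcases Int.even_or_odd i with ⟨c, rfl⟩ | ⟨c, rfl⟩
    · rw [← two_mul, zpow_mul, hy2, one_zpow, mul_one, mul_inv_cancel] at hπ
      have h := himg y' hy'
      rw [hπ, orderOf_one] at h
      norm_num at h
    · rw [hπ, zpow_add, zpow_mul, hy2, one_zpow, one_mul, zpow_one]
  -- a minimal normal subgroup of even order of the quotient
  have hX2 : 2 ∣ Nat.card (⊤ : Subgroup (G ⧸ M)) := by rw [card_top, ← index_eq_card]; exact hI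
  obtain ⟨N, hN⟩ := (Set.toFinite {N : Subgroup (G ⧸ M) | N.Normal ∧ 2 ∣ Nat.card N}).exists_minimal
    ⟨⊤, inferInstance, hX2⟩
  obtain ⟨hNn, hN2⟩ := hN.prop
  have : Group.IsSolvable (G ⧸ M) := inferInstance
  obtain ⟨t, ht⟩ := exists_prime_orderOf_dvd_card' 2 hN2
  rw [← Subgroup.orderOf_coe] at ht
  have hNall : ∀ s : G ⧸ M, orderOf s = 2 → s ∈ N := fun s hs => by
    obtain ⟨x, hx⟩ := hone _ s ht hs
    exact hx ▸ hNn.conj_mem _ t.2 x
  let θ : QuaternionGroup (2 ^ k) →* G ⧸ M := π.comp ((P : Subgroup G).subtype.comp e.symm.toMonoidHom)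
  have hxa : ∀ i, orderOf (θ (.xa i)) = 2 := fun i => himg _ (by
    show orderOf ((e.symm (.xa i) : (P : Subgroup G)) : G) = 4
    rw [Subgroup.orderOf_coe, MulEquiv.orderOf_eq, QuaternionGroup.orderOf_xa])
  have hL : ⁅N, N⁆ < N := Group.IsSolvable.commutator_lt_of_ne_bot (fun h => by
    rw [h, Subgroup.card_bot] at hN2; norm_num at hN2)
  have hLodd : ¬ 2 ∣ Nat.card (⁅N, N⁆ : Subgroup (G ⧸ M)) := fun h =>
    hL.not_ge (hN.le_of_le (y := ⁅N, N⁆) ⟨inferInstance, h⟩ hL.le)
  have hP2 : ∀ q, ∃ j, orderOf (θ q) = 2 ^ j := fun q => by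
    have h1 : orderOf (θ q) ∣ orderOf q := orderOf_map_dvd θ q
    obtain ⟨j, hj⟩ := IsPGroup.iff_orderOf.1 P.2 (e.symm q)
    rw [MulEquiv.orderOf_eq] at hj
    rw [hj] at h1
    obtain ⟨i, -, hi⟩ := (Nat.dvd_prime_pow Nat.prime_two).1 h1
    exact ⟨i, hi⟩
  have hcomm : ∀ i i', θ (.xa i) * θ (.xa i') = θ (.xa i') * θ (.xa i) := by
    intro i i'
    rw [← commutatorElement_eq_one_iff_mul_comm]
    obtain ⟨j, hj⟩ := hP2 ⁅QuaternionGroup.xa i, QuaternionGroup.xa i'⁆
    rw [map_commutatorElement] at hj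
    have hmem : ⁅θ (.xa i), θ (.xa i')⁆ ∈ ⁅N, N⁆ :=
      commutator_mem_commutator (hNall _ (hxa i)) (hNall _ (hxa i'))
    rcases Nat.eq_zero_or_pos j with rfl | hj0
    · rwa [pow_zero, orderOf_eq_one_iff] at hj
    · exact absurd ((dvd_pow_self 2 hj0.ne').trans (dvd_of_eq hj.symm) |>.trans
        (Subgroup.orderOf_dvd_natCard _ hmem)) hLodd
  have ha2 : θ (.a 1) ^ 2 = 1 := by
    have e1 : (QuaternionGroup.a 1 : QuaternionGroup (2 ^ k)) = .xa 0 * .xa (1 - (2 ^ k : ℕ)) := by
      rw [QuaternionGroup.xa_mul_xa]; congr 1; ring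
    rw [e1, map_mul, (show Commute _ _ from hcomm _ _).mul_pow]
    have h := fun i => (hxa i) ▸ pow_orderOf_eq_one (θ (.xa i))
    rw [h, h, one_mul]
  have hk : k ≤ 1 := by
    set A1 : (P : Subgroup G) := e.symm (.a 1)
    have hmem : (A1 : G) ^ 2 ∈ M := (QuotientGroup.eq_one_iff _).1 (by
      show π ((A1 : G) ^ 2) = 1
      rw [map_pow]; exact ha2)
    have := hord _ hmem k (by
      rw [orderOf_pow, Subgroup.orderOf_coe, MulEquiv.orderOf_eq, QuaternionGroup.orderOf_a_one,
        Nat.gcd_eq_right (dvd_mul_right 2 _), Nat.mul_div_cancel_left _ two_pos])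
    exact this
  have hcardP : (Nat.card G).factorization 2 ≤ 3 := by
    have h1 := P.card_eq_multiplicity
    rw [Nat.card_congr e.toEquiv, Nat.card_eq_fintype_card, QuaternionGroup.card,
      show 4 * 2 ^ k = 2 ^ (k + 2) by ring] at h1
    have := Nat.pow_right_injective le_rfl h1
    omega
  rw [← card_mul_index M, index_eq_card, Nat.factorization_mul Nat.card_pos.ne' Nat.card_pos.ne',
    Finsupp.add_apply, hv] at hcardP
  omega

/-- Quotients of soluble groups with the property have the property. -/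
theorem AbConj.quotient_of_isSolvable (hB : AbConj G) [Group.IsSolvable G] (M : Subgroup G) [M.Normal] :
    AbConj (G ⧸ M) := by
  intro A B hA hB' hcard
  by_cases hgood : 2 ∣ Nat.card M → 2 ∣ Nat.card A →
      (∃ (P : Sylow 2 G) (k : ℕ), Nonempty ((P : Subgroup G) ≃* QuaternionGroup (2 ^ k))) → ¬ 4 ∣ Nat.card A
  · exact hB.quotient M A B hA hB' hcard hgood
  push Not at hgood
  obtain ⟨hM, hA2, ⟨P, k, ⟨e⟩⟩, hA4⟩ := hgood
  have hI : 2 ∣ M.index := by rw [index_eq_card]; exact hA2.trans (card_subgroup_dvd_card A)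
  have hv := hB.quaternion_index M P e hM hI
  have hv2 : (Nat.card (G ⧸ M)).factorization 2 = 2 := le_antisymm hv
    ((Nat.prime_two.pow_dvd_iff_le_factorization Nat.card_pos.ne').1 (hA4.trans (card_subgroup_dvd_card A)))
  have : Fact (Nat.Prime 2) := ⟨Nat.prime_two⟩
  -- split off the Sylow `2`-subgroup
  have split : ∀ C : Subgroup (G ⧸ M), IsMulCommutative C → 4 ∣ Nat.card C → ∃ C2 C1 : Subgroup (G ⧸ M),
      C2 ⊔ C1 = C ∧ IsMulCommutative C1 ∧ Nat.card C2 = 4 ∧ Nat.card C2 * Nat.card C1 = Nat.card C ∧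
        ¬ 2 ∣ Nat.card C1 ∧ C2 ≤ centralizer (C1 : Set (G ⧸ M)) := by
    intro C hC hC4
    obtain ⟨S⟩ := (inferInstance : Nonempty (Sylow 2 C))
    have hSn : (S : Subgroup C).Normal := ⟨fun n hn g => by rwa [hC.is_comm.comm g n, mul_inv_cancel_right]⟩
    obtain ⟨K, hK⟩ := exists_right_complement'_of_coprime S.card_coprime_index
    have hcardK : Nat.card K = (S : Subgroup C).index := (hK.symm.index_eq_card).symm
    refine ⟨(S : Subgroup C).map C.subtype, K.map C.subtype, ?_, ?_, ?_, ?_, ?_, ?_⟩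
    · rw [← Subgroup.map_sup, hK.sup_eq_top, ← MonoidHom.range_eq_map, range_subtype]
    · infer_instance
    · rw [card_map_of_injective C.subtype_injective, S.card_eq_multiplicity]
      have h1 := (Nat.factorization_le_iff_dvd Nat.card_pos.ne' Nat.card_pos.ne').2 (card_subgroup_dvd_card C) 2
      rw [hv2] at h1
      have h2 := (Nat.prime_two.pow_dvd_iff_le_factorization (k := 2) Nat.card_pos.ne').1 hC4
      rw [show (Nat.card C).factorization 2 = 2 by omega]; norm_num
    · rw [card_map_of_injective C.subtype_injective, card_map_of_injective C.subtype_injective]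
      exact hK.card_mul_card
    · rw [card_map_of_injective C.subtype_injective, hcardK]
      exact S.not_dvd_index
    · rintro _ ⟨a, -, rfl⟩
      refine mem_centralizer_iff.2 fun b hb => ?_
      obtain ⟨b, -, rfl⟩ := hb
      exact congrArg Subtype.val (hC.is_comm.comm b a)
  obtain ⟨A2, A1, hAe, hA1c, hA2c, hAc, hA1o, hA21⟩ := split A hA hA4
  obtain ⟨B2, B1, hBe, hB1c, hB2c, hBc, hB1o, hB21⟩ := split B hB' (hcard ▸ hA4)
  obtain ⟨g, hg⟩ := hB.quotient M A1 B1 hA1c hB1c
    (by rw [hA2c] at hAc; rw [hB2c] at hBc; omega) (fun _ h => absurd h hA1o)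
  set C := centralizer (B1 : Set (G ⧸ M)) with hC
  set A2' := A2.map (MulAut.conj g).toMonoidHom
  have hA2'C : A2' ≤ C := by
    rintro _ ⟨a, ha, rfl⟩
    refine mem_centralizer_iff.2 fun b hb => ?_
    rw [hg] at hb
    obtain ⟨b, hb, rfl⟩ := hb
    rw [← map_mul, ← map_mul, mem_centralizer_iff.1 (hA21 ha) b hb]
  let Q1 : Sylow 2 (G ⧸ M) := Sylow.ofCard A2' (by
    rw [card_map_of_injective (MulAut.conj g).injective, hA2c, hv2]; norm_num)
  let Q2 : Sylow 2 (G ⧸ M) := Sylow.ofCard B2 (by rw [hB2c, hv2]; norm_num)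
  obtain ⟨c, hc⟩ := MulAction.exists_smul_eq C (Q1.subtype (N := C) hA2'C) (Q2.subtype (N := C) hB21)
  have hc' : A2'.map (MulAut.conj (c : G ⧸ M)).toMonoidHom = B2 := by
    have := Sylow.subtype_injective ((Sylow.smul_subtype (P := Q1) (H := C) hA2'C c).symm.trans hc)
    exact congrArg (fun Q : Sylow 2 (G ⧸ M) => (Q : Subgroup (G ⧸ M))) this
  refine ⟨(c : G ⧸ M) * g, ?_⟩
  have hmap : ∀ X : Subgroup (G ⧸ M), X.map (MulAut.conj ((c : G ⧸ M) * g)).toMonoidHom =
      (X.map (MulAut.conj g).toMonoidHom).map (MulAut.conj (c : G ⧸ M)).toMonoidHom := fun X => by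
    rw [map_map]; congr 1; ext x; simp [mul_assoc]
  rw [hmap, ← hAe, Subgroup.map_sup, Subgroup.map_sup, hc', ← hg, ← hBe]
  congr 1
  refine (eq_of_le_of_card_ge ?_ (card_map_of_injective (MulAut.conj (c : G ⧸ M)).injective).ge).symm
  rintro _ ⟨b, hb, rfl⟩
  show (c : G ⧸ M) * b * (c : G ⧸ M)⁻¹ ∈ B1
  rwa [← mem_centralizer_iff.1 c.2 b hb, mul_inv_cancel_right]

end CfsgLib.Coprime
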