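import Cfsg.Agent.Lib.Coprime.BGroupStructure
import Cfsg.Agent.S3909

/-!
In a finite soluble group, if abelian subgroups of equal order are conjugate, so are all subgroups
of equal order.
-/

set_option autoImplicit false
set_option linter.style.haveILetI false

namespace CfsgLib.Coprime

open Subgroup CfsgLib.Solvable
open scoped Pointwise

universe u

variable {G : Type u} [Group G] [Finite G]

/-- A complement inside a subgroup of a coprime-index normal subgroup. -/
theorem exists_part (F : Subgroup G) [F.Normal] (hF : (Nat.card F).Coprime F.index) (A : Subgroup G) :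
    ∃ K ≤ A, (Nat.card K).Coprime (Nat.card F) ∧ (A ⊓ F) ⊔ K = A ∧
      Nat.card (A ⊓ F : Subgroup G) * Nat.card K = Nat.card A := by
  have hcard : Nat.card (F.subgroupOf A) = Nat.card (A ⊓ F : Subgroup G) := by
    rw [← card_map_of_injective A.subtype_injective, subgroupOf_map_subtype, inf_comm]
  have h1 : F.relIndex A ∣ F.index := relIndex_dvd_index_of_normal F A
  have h2 : (Nat.card F).Coprime (F.subgroupOf A).index := hF.coprime_dvd_right h1
  obtain ⟨K, hK⟩ := exists_right_complement'_of_coprime (N := F.subgroupOf A)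
    (hcard ▸ h2.coprime_dvd_left (card_dvd_of_le inf_le_right))
  have hKc : Nat.card K = (F.subgroupOf A).index := hK.symm.index_eq_card.symm
  refine ⟨K.map A.subtype, map_subtype_le K, ?_, ?_, ?_⟩
  · rw [card_map_of_injective A.subtype_injective, hKc]; exact h2.symm
  · have h := congrArg (Subgroup.map A.subtype) hK.sup_eq_top
    rwa [Subgroup.map_sup, subgroupOf_map_subtype, ← MonoidHom.range_eq_map, range_subtype, inf_comm] at h
  · rw [card_map_of_injective A.subtype_injective, ← hcard]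
    exact hK.card_mul_card

/-- A lift of a subgroup of the quotient by a normal Hall subgroup. -/
theorem exists_isomorphic_lift (F : Subgroup G) [F.Normal] (hF : (Nat.card F).Coprime F.index)
    (K : Subgroup (G ⧸ F)) : ∃ Q : Subgroup G, Q.map (QuotientGroup.mk' F) = K ∧
      Nat.card Q = Nat.card K ∧ ∀ x ∈ Q, QuotientGroup.mk' F x = 1 → x = 1 := by
  obtain ⟨Q, hQ, hcop, hsup, -⟩ := exists_part F hF (K.comap (QuotientGroup.mk' F))
  have hmap : Q.map (QuotientGroup.mk' F) = K := by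
    have h := congrArg (Subgroup.map (QuotientGroup.mk' F)) hsup
    rwa [Subgroup.map_sup, (Subgroup.map_eq_bot_iff _).2 (inf_le_right.trans (QuotientGroup.ker_mk' F).ge), bot_sup_eq,
      map_comap_eq_self_of_surjective (QuotientGroup.mk'_surjective F)] at h
  refine ⟨Q, hmap, hmap ▸ (card_map_mk'_of_coprime F hcop).symm, fun x hx h1 => ?_⟩
  have h2 : x ∈ Q ⊓ F := ⟨hx, (QuotientGroup.eq_one_iff x).1 h1⟩
  rwa [inf_eq_bot_of_coprime hcop, mem_bot] at h2

/-- An element normalising every cyclic subgroup of an elementary abelian group and fixing one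
nontrivial element fixes all. -/
theorem fixes_all {N : Subgroup G} {p : ℕ} [Fact p.Prime] (hel : Cfsg.IsElementaryAbelian p N) {r e : G}
    (hr : ∀ w ∈ N, r * w * r⁻¹ ∈ zpowers w) (he : e ∈ N) (he1 : e ≠ 1) (hre : r * e * r⁻¹ = e) :
    ∀ w ∈ N, r * w * r⁻¹ = w := by
  intro w hw
  by_cases hwe : w ∈ zpowers e
  · obtain ⟨i, rfl⟩ := mem_zpowers_iff.1 hwe
    rw [← conj_zpow, hre]
  haveI := hel.1
  have hp := (Fact.out : p.Prime)
  have hcomm : Commute e w := congrArg Subtype.val (mul_comm' (⟨e, he⟩ : N) ⟨w, hw⟩)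
  have heo : orderOf e = p := orderOf_eq_prime (hel.2 e he) he1
  have hwo : orderOf w = p := orderOf_eq_prime (hel.2 w hw) (fun h => hwe (h ▸ one_mem _))
  obtain ⟨j, hj⟩ := mem_zpowers_iff.1 (hr w hw)
  obtain ⟨i, hi⟩ := mem_zpowers_iff.1 (hr (e * w) (mul_mem he hw))
  rw [show r * (e * w) * r⁻¹ = (r * e * r⁻¹) * (r * w * r⁻¹) by group, hre, ← hj, hcomm.mul_zpow] at hi
  have h1 : e ^ (i - 1) = w ^ (j - i) := by
    rw [zpow_sub, zpow_sub, zpow_one]
    have h2 : e ^ i = e * w ^ j * (w ^ i)⁻¹ := eq_mul_inv_of_mul_eq hi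
    rw [h2, mul_assoc, mul_assoc]
    have h3 : Commute (w ^ j * (w ^ i)⁻¹) e⁻¹ :=
      ((hcomm.symm.zpow_left j).mul_left (hcomm.symm.zpow_left i).inv_left).inv_right
    rw [← mul_assoc (w ^ j), h3.eq, ← mul_assoc, mul_inv_cancel, one_mul]
  have h4 : e ^ (i - 1) = 1 := by
    by_contra hne
    have h5 : orderOf (e ^ (i - 1)) = p := orderOf_eq_prime (hel.2 _ (zpow_mem he _)) hne
    have e1 : zpowers (e ^ (i - 1)) = zpowers e := eq_of_le_of_card_ge (zpowers_le.2 (zpow_mem (mem_zpowers e) _))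
      (by rw [Nat.card_zpowers, Nat.card_zpowers, h5, heo])
    have e2 : zpowers (e ^ (i - 1)) = zpowers w := eq_of_le_of_card_ge (zpowers_le.2 (h1 ▸ zpow_mem (mem_zpowers w) _))
      (by rw [Nat.card_zpowers, Nat.card_zpowers, h5, hwo])
    exact hwe (e1 ▸ e2 ▸ mem_zpowers w)
  have h6 : w ^ (j - i) = 1 := h1 ▸ h4
  have h7 : w ^ (i - 1) = 1 := by
    rw [← orderOf_dvd_iff_zpow_eq_one] at h4 ⊢
    rwa [hwo, ← heo]
  rw [← hj, show j = (j - i) + (i - 1) + 1 by ring, zpow_add, zpow_add, h6, h7, one_mul, one_mul, zpow_one]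

/-- In an elementary abelian group, a subgroup of given order containing `e` and avoiding `f`. -/
theorem exists_avoid_subgroup {N V : Subgroup G} {p : ℕ} [Fact p.Prime] (hel : Cfsg.IsElementaryAbelian p N)
    (hV : V ≤ N) (hV1 : V ≠ ⊥) (hVN : V ≠ N) {e f : G} (he : e ∈ N) (hf : f ∈ N) (hfe : f ∉ zpowers e) :
    ∃ M ≤ N, e ∈ M ∧ f ∉ M ∧ Nat.card M = Nat.card V := by
  have hp := (Fact.out : p.Prime)
  haveI := hel.1
  have hNp : IsPGroup p N := fun x => ⟨1, Subtype.ext (by rw [pow_one]; simpa using hel.2 x x.2)⟩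
  obtain ⟨M, hMN⟩ := (Set.toFinite {M : Subgroup G | M ≤ N ∧ e ∈ M ∧ f ∉ M}).exists_maximal
    ⟨zpowers e, zpowers_le.2 he, mem_zpowers e, hfe⟩
  obtain ⟨hM, heM, hfM⟩ := hMN.prop
  have hMn : ∀ x ∈ N, zpowers x ≤ normalizer (M : Set G) := fun x hx => zpowers_le.2 (by
    rw [mem_normalizer_iff]
    intro y
    constructor
    · intro hy
      have := congrArg Subtype.val (mul_comm' (⟨x, hx⟩ : N) ⟨y, hM hy⟩)
      rwa [show x * y = y * x from this, mul_inv_cancel_right]
    · intro hy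
      have hy' : y ∈ N := by
        have := mul_mem (mul_mem (inv_mem hx) (hM hy)) hx
        simpa [mul_assoc] using this
      have := congrArg Subtype.val (mul_comm' (⟨x, hx⟩ : N) ⟨y, hy'⟩)
      rwa [show x * y = y * x from this, mul_inv_cancel_right] at hy)
  have hsup : M ⊔ zpowers f = N := by
    refine le_antisymm (sup_le hM (zpowers_le.2 hf)) fun x hx => ?_
    by_contra hxM
    have hx' : x ∉ M := fun h => hxM (mem_sup_left h)
    have hfx : f ∈ M ⊔ zpowers x := by
      by_contra h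
      exact hx' (hMN.le_of_ge (y := M ⊔ zpowers x) ⟨sup_le hM (zpowers_le.2 hx), mem_sup_left heM, h⟩
        le_sup_left (mem_sup_right (mem_zpowers x)))
    have hset := coe_mul_of_right_le_normalizer_left M (zpowers x) (hMn x hx)
    obtain ⟨m, hm, _, ⟨i, rfl⟩, hmi⟩ := (show f ∈ ((M : Set G) * (zpowers x : Set G)) from hset ▸ hfx)
    replace hmi : m * x ^ i = f := hmi
    have hi : ¬ (p : ℤ) ∣ i := fun ⟨c, hc⟩ => hfM (by
      rw [← hmi, hc]
      simp only [zpow_mul, zpow_natCast, hel.2 x hx, one_zpow, mul_one]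
      exact hm)
    obtain ⟨a, b, hab⟩ := ((Nat.prime_iff_prime_int.1 hp).irreducible.coprime_iff_not_dvd.2 hi).symm
    refine hxM ?_
    have h2 : x ^ i ∈ M ⊔ zpowers f := by
      rw [eq_inv_mul_of_mul_eq hmi]
      exact mul_mem (inv_mem (mem_sup_left hm)) (mem_sup_right (mem_zpowers f))
    have h3 := zpow_mem h2 a
    rwa [← zpow_mul, mul_comm i a, show a * i = 1 - b * p by linarith, zpow_sub, zpow_one, zpow_mul',
      zpow_natCast, hel.2 x hx, one_zpow, inv_one, mul_one] at h3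
  obtain ⟨a, ha⟩ := IsPGroup.iff_card.1 (hNp.to_le hV)
  obtain ⟨t, ht⟩ := IsPGroup.iff_card.1 hNp
  obtain ⟨b, hb⟩ := IsPGroup.iff_card.1 (hNp.to_le hM)
  have hle : Nat.card N ≤ Nat.card M * p := by
    calc Nat.card N ≤ Nat.card (M ⊔ zpowers f : Subgroup G) := le_of_eq (by rw [hsup])
      _ ≤ Nat.card M * Nat.card (zpowers f) := by
          rw [← SetLike.coe_sort_coe, coe_mul_of_right_le_normalizer_left M (zpowers f) (hMn f hf)]
          exact Set.natCard_mul_le
      _ ≤ Nat.card M * p := by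
          refine Nat.mul_le_mul_left _ ?_
          rw [Nat.card_zpowers]
          exact Nat.le_of_dvd hp.pos (orderOf_dvd_of_pow_eq_one (hel.2 f hf))
  rw [ht, hb, ← pow_succ] at hle
  have htb := (Nat.pow_le_pow_iff_right hp.one_lt).1 hle
  have hat : a < t := by
    by_contra h
    exact hVN (eq_of_le_of_card_ge hV (by rw [ht, ha]; exact Nat.pow_le_pow_right hp.pos (by omega)))
  have ha1 : 1 ≤ a := by
    by_contra h
    exact hV1 (Subgroup.card_eq_one.1 (by rw [ha, show a = 0 by omega, pow_zero]))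
  have he' : Nat.card (zpowers (⟨e, heM⟩ : M)) ≤ p := by
    rw [Nat.card_zpowers, Subgroup.orderOf_mk]
    exact Nat.le_of_dvd hp.pos (orderOf_dvd_of_pow_eq_one (hel.2 e he))
  obtain ⟨c, hc⟩ := IsPGroup.iff_card.1 ((hNp.to_le hM).to_subgroup (zpowers (⟨e, heM⟩ : M)))
  have hca : c ≤ a := by
    rw [hc] at he'
    have := (Nat.pow_le_pow_iff_right hp.one_lt).1 (he'.trans_eq (pow_one p).symm)
    omega
  obtain ⟨K, hK, hKe⟩ := Sylow.exists_subgroup_card_pow_prime_le p (m := a) (n := c)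
    (hb ▸ pow_dvd_pow p (by omega)) (zpowers (⟨e, heM⟩ : M)) hc hca
  refine ⟨K.map M.subtype, (map_subtype_le K).trans hM, ⟨⟨e, heM⟩, hKe (mem_zpowers _), rfl⟩,
    fun h => hfM (map_subtype_le K h), ?_⟩
  rw [card_map_of_injective M.subtype_injective, hK, ha]

/-- Subgroups of equal order of a subgroup of a group with the Sylow structure. -/
theorem allConj_subgroup [Group.IsSolvable G] (L : Subgroup G)
    (hodd : ∀ q : ℕ, q.Prime → q ≠ 2 → ∀ R : Sylow q G, IsCyclic (R : Subgroup G))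
    (h2 : (∀ R : Sylow 2 G, IsCyclic (R : Subgroup G)) ∨
      ∃ X : Subgroup G, X.Normal ∧ Nat.card X = 8 ∧ Odd X.index ∧
        (∀ x y : G, orderOf x = 2 → orderOf y = 2 → x = y) ∧ (∀ x : G, orderOf x = 4 → x ∈ X) ∧
        (X ≤ L → ∀ c c' : G, orderOf c = 4 → orderOf c' = 4 → ∃ l ∈ L, l * c * l⁻¹ ∈ zpowers c')) :
    AllConj L := by
  haveI : Fact (Nat.Prime 2) := ⟨Nat.prime_two⟩
  have hcyc : ∀ (q : ℕ) [Fact q.Prime], (∀ R : Sylow q G, IsCyclic (R : Subgroup G)) →
      ∀ S : Sylow q L, IsCyclic (S : Subgroup L) := by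
    intro q _ h S
    obtain ⟨R, hR⟩ := (S.2.map L.subtype).exists_le_sylow
    haveI := h R
    haveI := Subgroup.isCyclic_of_le hR
    exact isCyclic_of_surjective ((S : Subgroup L).equivMapOfInjective L.subtype L.subtype_injective).symm.toMonoidHom
      ((S : Subgroup L).equivMapOfInjective L.subtype L.subtype_injective).symm.surjective
  rcases h2 with h2 | ⟨X, hXn, hX8, hXi, huniq, hX4, htrans⟩
  · haveI : IsZGroup L := ⟨fun q hq S => by
      haveI : Fact q.Prime := ⟨hq⟩
      by_cases h : q = 2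
      · subst h; exact hcyc 2 h2 S
      · exact hcyc q (hodd q hq h) S⟩
    exact allConj_of_isZGroup L
  have hXp : IsPGroup 2 X := IsPGroup.of_card (n := 3) hX8
  have hX2 : ¬ 2 ∣ X.index := fun h => Nat.not_even_iff_odd.2 hXi (even_iff_two_dvd.2 h)
  have hsyl : ∀ R : Sylow 2 G, (R : Subgroup G) = X := fun R => by
    haveI : ((hXp.toSylow hX2 : Sylow 2 G) : Subgroup G).Normal := hXn
    obtain ⟨g, hg⟩ := MulAction.exists_smul_eq G (hXp.toSylow hX2) R
    rw [← hg, Sylow.smul_eq_of_normal]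
    rfl
  by_cases hXL : X ≤ L
  · haveI := hXn
    have hodd' : Odd (X.subgroupOf L).index := hXi.of_dvd_nat (relIndex_dvd_index_of_normal X L)
    haveI : IsZGroup (L ⧸ X.subgroupOf L) := ⟨fun q hq S => by
      haveI : Fact q.Prime := ⟨hq⟩
      obtain ⟨T, hT⟩ := Sylow.mapSurjective_surjective (QuotientGroup.mk'_surjective (X.subgroupOf L)) q S
      by_cases h : q = 2
      · subst h
        have h1 : (S : Subgroup (L ⧸ X.subgroupOf L)) = ⊥ := by
          obtain ⟨n, hn⟩ := IsPGroup.iff_card.1 S.2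
          refine Subgroup.card_eq_one.1 (Nat.eq_one_of_dvd_coprimes (k := Nat.card S)
            (Nat.Coprime.pow_left n (Nat.coprime_two_left.2 hodd')) hn.dvd ?_)
          rw [index_eq_card]; exact card_subgroup_dvd_card _
        rw [h1]; infer_instance
      · haveI := hcyc q (hodd q hq h) T
        rw [← hT]
        exact isCyclic_of_surjective ((QuotientGroup.mk' (X.subgroupOf L)).subgroupMap (T : Subgroup L))
          (MonoidHom.subgroupMap_surjective _ _)⟩
    refine allConj_of_eight (X.subgroupOf L) (by rw [card_subgroupOf hXL, hX8]) hodd' (fun x y hx hy =>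
      Subtype.ext (huniq x y ((Subgroup.orderOf_coe x).trans hx) ((Subgroup.orderOf_coe y).trans hy)))
      fun c c' hc hc' => ?_
    obtain ⟨l, hl, hlc⟩ := htrans hXL c c' ((Subgroup.orderOf_coe c).trans hc) ((Subgroup.orderOf_coe c').trans hc')
    obtain ⟨i, hi⟩ := mem_zpowers_iff.1 hlc
    exact ⟨⟨l, hl⟩, mem_zpowers_iff.2 ⟨i, Subtype.ext hi⟩⟩
  · haveI : IsZGroup L := ⟨fun q hq S => by
      haveI : Fact q.Prime := ⟨hq⟩
      by_cases h : q = 2
      · subst h
        set S' := (S : Subgroup L).map L.subtype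
        have hS' : S' ≤ X := by
          obtain ⟨R, hR⟩ := (S.2.map L.subtype).exists_le_sylow
          exact hR.trans (hsyl R).le
        have hne : S' ≠ X := fun h => hXL (h ▸ map_subtype_le _)
        have hd : Nat.card S' ∣ 2 ^ 3 := by rw [show (2 : ℕ) ^ 3 = 8 from rfl, ← hX8]; exact card_dvd_of_le hS'
        obtain ⟨j, hj, hj'⟩ := (Nat.dvd_prime_pow Nat.prime_two).1 hd
        have : IsCyclic S' := by
          interval_cases j
          · haveI := (Nat.card_eq_one_iff_unique.1 (hj'.trans (pow_zero 2))).1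
            infer_instance
          · exact isCyclic_of_prime_card (hj'.trans (pow_one 2))
          · obtain ⟨c, -, -, hc⟩ := exists_orderOf_four (hj'.trans (by norm_num)) fun x _ y _ => huniq x y
            rw [hc]; infer_instance
          · exact absurd (eq_of_le_of_card_ge hS' (by rw [hj', hX8]; norm_num)) hne
        exact isCyclic_of_surjective ((S : Subgroup L).equivMapOfInjective L.subtype L.subtype_injective).symm.toMonoidHom
          ((S : Subgroup L).equivMapOfInjective L.subtype L.subtype_injective).symm.surjective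
      · exact hcyc q (hodd q hq h) S⟩
    exact allConj_of_isZGroup L

section Main

variable (hB : AbConj G) [hsol : Group.IsSolvable G]
  (hbig : ∀ N : Subgroup G, N.Normal → ¬ (Nat.card N).Prime)

include hB hsol hbig

theorem pCore_spec (p : ℕ) [Fact p.Prime] (hne : Cfsg.pCore p G ≠ ⊥) :
    Cfsg.IsElementaryAbelian p (Cfsg.pCore p G) ∧ ∀ P : Sylow p G, (P : Subgroup G) = Cfsg.pCore p G := by
  haveI := pCore_normal p G
  obtain ⟨N, hN, hNne, hNle, hmin⟩ := exists_minimal_normal_le (N := Cfsg.pCore p G) inferInstance hne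
  obtain ⟨r, hr, hNr, hexp, hcomm⟩ := exists_isPGroup_of_minimal_normal hNne hmin
  have hNp : IsPGroup p N := (pCore_isPGroup p).to_le hNle
  obtain ⟨t, ht⟩ := IsPGroup.iff_card.1 hNp
  have ht2 : 2 ≤ t := by
    by_contra h
    rcases (show t = 0 ∨ t = 1 by omega) with rfl | rfl
    · exact hNne (Subgroup.card_eq_one.1 (ht.trans (pow_zero p)))
    · exact hbig N hN (ht.trans (pow_one p) ▸ Fact.out)
  have hrp : r = p := by
    obtain ⟨x, hx⟩ := exists_prime_orderOf_dvd_card' (G := N) p (ht ▸ dvd_pow_self p (by omega))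
    have h1 : orderOf x ∣ r := orderOf_dvd_of_pow_eq_one (Subtype.ext (hexp x x.2))
    rw [hx] at h1
    exact ((Nat.prime_dvd_prime_iff_eq Fact.out hr).1 h1).symm
  subst hrp
  have hsyl := (Cfsg.Agent.S3909.result hB N).2 r t ht2 ht ⟨hcomm, hexp⟩
  obtain ⟨P, hP⟩ := (pCore_isPGroup (G := G) r).exists_le_sylow
  have e : Cfsg.pCore r G = N := le_antisymm (hP.trans (hsyl P).le) hNle
  rw [e]
  exact ⟨⟨hcomm, hexp⟩, hsyl⟩

theorem fitting_comm : IsMulCommutative (Cfsg.fittingSubgroup G) := by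
  have h : Cfsg.fittingSubgroup G ≤ centralizer (Cfsg.fittingSubgroup G : Set G) := by
    refine fitting_le_of_pCore fun r hr => le_centralizer_iff.2 (fitting_le_of_pCore fun s hs => ?_)
    haveI : Fact r.Prime := ⟨hr⟩
    haveI : Fact s.Prime := ⟨hs⟩
    by_cases hrs : s = r
    · subst hrs
      by_cases hb : Cfsg.pCore s G = ⊥
      · rw [hb]; exact bot_le
      haveI := (pCore_spec hB hbig s hb).1.1
      exact le_centralizer _
    · haveI := pCore_normal r G
      haveI := pCore_normal s G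
      refine le_centralizer_iff.1 fun x hx => mem_centralizer_iff.2 fun y hy => ?_
      obtain ⟨a, ha⟩ := IsPGroup.iff_card.1 (pCore_isPGroup (G := G) r)
      obtain ⟨b, hb⟩ := IsPGroup.iff_card.1 (pCore_isPGroup (G := G) s)
      exact commute_of_normal_of_disjoint _ _ inferInstance inferInstance
        (disjoint_iff.2 (inf_eq_bot_of_coprime (by rw [ha, hb]; exact ((Nat.coprime_primes hs hr).2 hrs).pow _ _))) y x hy hx
  exact ⟨⟨fun a b => Subtype.ext (mem_centralizer_iff.1 (h b.2) a a.2)⟩⟩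

theorem fitting_coprime :
    (Nat.card (Cfsg.fittingSubgroup G)).Coprime (Cfsg.fittingSubgroup G).index := by
  refine Nat.coprime_of_dvd fun p hp h1 h2 => ?_
  haveI : Fact p.Prime := ⟨hp⟩
  have hne := pCore_ne_bot_of_dvd h1
  obtain ⟨P⟩ : Nonempty (Sylow p G) := inferInstance
  have hle : (P : Subgroup G) ≤ Cfsg.fittingSubgroup G :=
    ((pCore_spec hB hbig p hne).2 P).le.trans (pCore_le_fittingSubgroup p)
  exact P.not_dvd_index (h2.trans (index_dvd_of_le hle))

theorem quotient_minimal_prime [(Cfsg.fittingSubgroup G).Normal]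
    (R : Subgroup (G ⧸ Cfsg.fittingSubgroup G)) (hR : R.Normal) (hne : R ≠ ⊥)
    (hmin : ∀ K : Subgroup (G ⧸ Cfsg.fittingSubgroup G), K.Normal → K ≤ R → K = ⊥ ∨ K = R) :
    (Nat.card R).Prime := by
  set F := Cfsg.fittingSubgroup G
  set π := QuotientGroup.mk' F
  haveI := hR
  obtain ⟨q, hq, hRq, hexp, hcomm⟩ := exists_isPGroup_of_minimal_normal hne hmin
  haveI : Fact q.Prime := ⟨hq⟩
  by_contra hnp
  obtain ⟨n, hn⟩ := IsPGroup.iff_card.1 hRq
  have hn2 : 2 ≤ n := by
    by_contra h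
    rcases (show n = 0 ∨ n = 1 by omega) with rfl | rfl
    · exact hne (Subgroup.card_eq_one.1 (hn.trans (pow_zero q)))
    · exact hnp (hn.trans (pow_one q) ▸ hq)
  have hF := fitting_coprime hB hbig
  obtain ⟨Q, hQmap, hQcard, hQinj⟩ := exists_isomorphic_lift F hF R
  have hQcomm : IsMulCommutative Q := ⟨⟨fun a b => by
    have h : π ((a : G) * b * (a : G)⁻¹ * (b : G)⁻¹) = 1 := by
      have h1 := congrArg Subtype.val (hcomm.is_comm.comm (⟨π a, hQmap ▸ mem_map_of_mem π a.2⟩ : R)
        ⟨π b, hQmap ▸ mem_map_of_mem π b.2⟩)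
      simp only [map_mul, map_inv]
      rw [show π (a : G) * π b = π b * π a from h1]; group
    have h2 := hQinj _ (Q.mul_mem (Q.mul_mem (Q.mul_mem a.2 b.2) (Q.inv_mem a.2)) (Q.inv_mem b.2)) h
    exact Subtype.ext (mul_inv_eq_iff_eq_mul.1 (mul_inv_eq_one.1 h2))⟩⟩
  have hQexp : ∀ x ∈ Q, x ^ q = 1 := fun x hx => hQinj _ (pow_mem hx q) (by
    show π (x ^ q) = 1
    rw [map_pow]; exact hexp _ (hQmap ▸ mem_map_of_mem π hx))
  have hQn : ¬ IsCyclic Q := fun h => by
    obtain ⟨g, hg⟩ := (Subgroup.isCyclic_iff_exists_zpowers_eq_top Q).1 h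
    have h1 : orderOf g ∣ q := orderOf_dvd_of_pow_eq_one (hQexp g (hg ▸ mem_zpowers g))
    rw [← hg, Nat.card_zpowers, hn] at hQcard
    rw [hQcard] at h1
    have := Nat.le_of_dvd hq.pos h1
    have := Nat.pow_le_pow_right hq.pos hn2
    nlinarith [hq.two_le]
  have hqF : ¬ q ∣ Nat.card F := fun h => by
    have h2 : q ∣ F.index := by
      rw [index_eq_card]; exact (hn ▸ dvd_pow_self q (by omega)).trans (card_subgroup_dvd_card R)
    exact hq.ne_one (Nat.eq_one_of_dvd_coprimes hF h h2)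
  set Rh := R.comap π with hRh
  haveI : Rh.Normal := hR.comap π
  have hFR : F ≤ Rh := fun x hx => by
    rw [hRh, mem_comap, show π x = 1 from (QuotientGroup.eq_one_iff x).2 hx]; exact one_mem _
  haveI := fitting_comm hB hbig
  have hall : ∀ r : ℕ, r.Prime → Rh ≤ centralizer (Cfsg.pCore r G : Set G) := by
    intro r hr
    haveI : Fact r.Prime := ⟨hr⟩
    by_cases hb : Cfsg.pCore r G = ⊥
    · exact fun x _ => mem_centralizer_iff.2 fun y hy => by
        rw [hb, SetLike.mem_coe, mem_bot] at hy; rw [hy, one_mul, mul_one]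
    set N := Cfsg.pCore r G
    haveI := pCore_normal r G
    obtain ⟨hel, -⟩ := pCore_spec hB hbig r hb
    have hNF : N ≤ F := pCore_le_fittingSubgroup r
    let S : G → Subgroup G := fun x => Rh ⊓ centralizer ({x} : Set G)
    have hS : ∀ x s, s ∈ S x ↔ s ∈ Rh ∧ s * x = x * s := fun x s => by
      simp only [S, mem_inf, mem_centralizer_singleton_iff]
    have hcard : ∀ x ∈ N, ∀ y ∈ N, x ≠ 1 → y ≠ 1 → Nat.card (S x) = Nat.card (S y) := by
      intro x hx y hy hx1 hy1
      obtain ⟨g, hg⟩ := hB (zpowers x) (zpowers y) inferInstance inferInstance (by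
        rw [Nat.card_zpowers, Nat.card_zpowers, orderOf_eq_prime (hel.2 x hx) hx1, orderOf_eq_prime (hel.2 y hy) hy1])
      rw [MonoidHom.map_zpowers] at hg
      obtain ⟨i, hi⟩ := mem_zpowers_iff.1 (hg.ge (mem_zpowers (g * x * g⁻¹)) : g * x * g⁻¹ ∈ zpowers y)
      obtain ⟨j, hj⟩ := mem_zpowers_iff.1 (hg.le (mem_zpowers y) : y ∈ zpowers (g * x * g⁻¹))
      have e : (S x).map (MulAut.conj g).toMonoidHom = S y := by
        ext s
        rw [hS]
        constructor
        · rintro ⟨t, ht, rfl⟩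
          obtain ⟨htR, htx⟩ := (hS x t).1 ht
          refine ⟨Normal.conj_mem inferInstance t htR g, ?_⟩
          show Commute (g * t * g⁻¹) y
          have h1 : Commute (g * t * g⁻¹) (g * x * g⁻¹) := by
            show g * t * g⁻¹ * (g * x * g⁻¹) = g * x * g⁻¹ * (g * t * g⁻¹)
            calc g * t * g⁻¹ * (g * x * g⁻¹) = g * (t * x) * g⁻¹ := by group
              _ = g * (x * t) * g⁻¹ := by rw [htx]
              _ = _ := by group
          exact hj ▸ h1.zpow_right j
        · rintro ⟨hsR, hsy⟩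
          refine ⟨g⁻¹ * s * g, (hS x _).2 ⟨by simpa using Normal.conj_mem (H := Rh) inferInstance s hsR g⁻¹, ?_⟩,
            by show g * (g⁻¹ * s * g) * g⁻¹ = s; group⟩
          have h1 : s * (g * x * g⁻¹) = g * x * g⁻¹ * s := hi ▸ (show Commute s y from hsy).zpow_right i
          calc g⁻¹ * s * g * x = g⁻¹ * (s * (g * x * g⁻¹)) * g := by group
            _ = g⁻¹ * (g * x * g⁻¹ * s) * g := by rw [h1]
            _ = x * (g⁻¹ * s * g) := by group
      rw [← e, card_map_of_injective (MulAut.conj g).injective]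
    have hinv : ∀ x ∈ N, ∀ u ∈ N, (∀ s ∈ S x, s * u = u * s) → ∀ t ∈ Rh, ∀ s ∈ S x,
        s * (t * u * t⁻¹) = t * u * t⁻¹ * s := by
      intro x hx u hu hsu t ht s hs
      have hFS : F ≤ S x := fun v hv => (hS x v).2 ⟨hFR hv, congrArg Subtype.val
        (mul_comm' (⟨v, hv⟩ : F) ⟨x, hNF hx⟩)⟩
      have h1 : t⁻¹ * s * t * s⁻¹ ∈ F := by
        refine (QuotientGroup.eq_one_iff _).1 ?_
        show π (t⁻¹ * s * t * s⁻¹) = 1
        have h2 : π s * π t = π t * π s := congrArg Subtype.val (hcomm.is_comm.comm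
          (⟨π s, ((hS x s).1 hs).1⟩ : R) ⟨π t, ht⟩)
        simp only [map_mul, map_inv]
        rw [mul_assoc (π t)⁻¹ (π s), h2]; group
      have h3 : t⁻¹ * s * t ∈ S x := by
        have := mul_mem (hFS h1) hs
        rwa [show t⁻¹ * s * t * s⁻¹ * s = t⁻¹ * s * t by group] at this
      calc s * (t * u * t⁻¹) = t * ((t⁻¹ * s * t) * u) * t⁻¹ := by group
        _ = t * (u * (t⁻¹ * s * t)) * t⁻¹ := by rw [hsu _ h3]
        _ = t * u * t⁻¹ * s := by group
    have hsame : ∀ u ∈ N, ∀ v ∈ N, u ≠ 1 → v ≠ 1 → S u = S v := by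
      intro u hu v hv hu1 hv1
      by_contra hne'
      have key : ∀ z ∈ N, (∀ s ∈ S u, s * z = z * s) → (∀ s ∈ S v, s * z = z * s) → z = 1 := by
        intro z hz h1 h2
        by_contra hz1
        refine hne' ((eq_of_le_of_card_ge (fun s hs => (hS z s).2 ⟨((hS u s).1 hs).1, h1 s hs⟩)
          (hcard z hz u hu hz1 hu1).le).trans (eq_of_le_of_card_ge
          (fun s hs => (hS z s).2 ⟨((hS v s).1 hs).1, h2 s hs⟩) (hcard z hz v hv hz1 hv1).le).symm)
      haveI := hel.1
      have huv1 : u * v ≠ 1 := fun h => hne' (by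
        have e : v = u⁻¹ := eq_inv_of_mul_eq_one_right h
        ext s; rw [hS, hS, e]; exact and_congr_right fun _ => (Commute.inv_right_iff (a := s) (b := u)).symm)
      have huv : u * v ∈ N := mul_mem hu hv
      have hle : S (u * v) ≤ S u ⊓ S v := by
        intro t ht
        obtain ⟨htR, htc⟩ := (hS _ t).1 ht
        have hzN : u⁻¹ * (t * u * t⁻¹) ∈ N := mul_mem (inv_mem hu) (Normal.conj_mem inferInstance u hu t)
        have e : u⁻¹ * (t * u * t⁻¹) = v * (t * v * t⁻¹)⁻¹ := by
          have h1 : t * u * t⁻¹ * (t * v * t⁻¹) = u * v := by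
            calc t * u * t⁻¹ * (t * v * t⁻¹) = t * (u * v) * t⁻¹ := by group
              _ = u * v := by rw [htc, mul_inv_cancel_right]
          calc u⁻¹ * (t * u * t⁻¹) = u⁻¹ * (t * u * t⁻¹ * (t * v * t⁻¹)) * (t * v * t⁻¹)⁻¹ := by group
            _ = v * (t * v * t⁻¹)⁻¹ := by rw [h1]; group
        have hz := key _ hzN (fun s hs => (Commute.mul_right ((show Commute s u from ((hS u s).1 hs).2).inv_right)
            (hinv u hu u hu (fun s hs => ((hS u s).1 hs).2) t htR s hs)).eq)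
          (fun s hs => e ▸ (Commute.mul_right (show Commute s v from ((hS v s).1 hs).2)
            (Commute.inv_right (hinv v hv v hv (fun s hs => ((hS v s).1 hs).2) t htR s hs))).eq)
        refine ⟨(hS u t).2 ⟨htR, mul_inv_eq_iff_eq_mul.1 (inv_mul_eq_one.1 hz).symm⟩,
          (hS v t).2 ⟨htR, mul_inv_eq_iff_eq_mul.1 ?_⟩⟩
        rw [e] at hz
        exact (mul_inv_eq_one.1 hz).symm
      exact hne' ((eq_of_le_of_card_ge (hle.trans inf_le_left) (hcard u hu _ huv hu1 huv1).le).symm.trans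
        (eq_of_le_of_card_ge (hle.trans inf_le_right) (hcard v hv _ huv hv1 huv1).le))
    haveI := hel.1
    have hcop : (Nat.card Q).Coprime (Nat.card N) := by
      rw [hQcard, hn]
      exact (Nat.Coprime.pow_left n (hq.coprime_iff_not_dvd.2 fun h => hqF (h.trans (card_dvd_of_le hNF))))
    obtain ⟨a, ha, ha1, x, hx, hx1, hax⟩ := exists_fixed_not_le (D := (⊥ : Subgroup G)) hQcomm hQn
      (show Q ≤ normalizer (N : Set G) from (normalizer_eq_top N).symm ▸ le_top) hcop
      (fun h => hb (eq_bot_iff.2 h))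
    have hx1' : x ≠ 1 := fun h => hx1 (mem_bot.2 h)
    have hSN : S x = Rh ⊓ centralizer (N : Set G) := by
      refine le_antisymm (fun s hs => ⟨((hS x s).1 hs).1, mem_centralizer_iff.2 fun y hy => ?_⟩)
        fun s hs => (hS x s).2 ⟨hs.1, (mem_centralizer_iff.1 hs.2 x hx).symm⟩
      by_cases hy1 : y = 1
      · rw [hy1, one_mul, mul_one]
      · rw [hsame x hx y hy hx1' hy1] at hs
        exact ((hS y s).1 hs).2.symm
    set C := Rh ⊓ centralizer (N : Set G) with hC
    haveI : C.Normal := inferInstance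
    have haC : a ∈ C := hSN ▸ (hS x a).2 ⟨by rw [hRh, mem_comap, ← hQmap]; exact mem_map_of_mem π ha, hax⟩
    rcases hmin (C.map π) (Subgroup.Normal.map inferInstance π (QuotientGroup.mk'_surjective F))
      ((map_mono inf_le_left).trans (map_comap_eq_self_of_surjective (QuotientGroup.mk'_surjective F) R).le) with h | h
    · exact absurd (hQinj a ha (mem_bot.1 (h ▸ mem_map_of_mem π haC))) ha1
    · intro t ht
      have hFC : F ≤ C := le_inf hFR fun v hv => mem_centralizer_iff.2 fun y hy =>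
        congrArg Subtype.val (mul_comm' (⟨y, hNF hy⟩ : F) ⟨v, hv⟩)
      obtain ⟨c, hc, hct⟩ : π t ∈ C.map π := h ▸ ht
      have h2 : c⁻¹ * t ∈ F := QuotientGroup.eq.1 hct
      have := mul_mem hc (hFC h2)
      rw [mul_inv_cancel_left] at this
      exact this.2
  have hle : Rh ≤ F := fun t ht => centralizer_fittingSubgroup_le (G := G)
    (mem_centralizer_iff.2 fun y hy => (mem_centralizer_iff.1
      ((fitting_le_of_pCore fun r hr => le_centralizer_iff.1 (hall r hr)) hy) t ht).symm)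
  exact hne (eq_bot_iff.2 fun z hz => by
    obtain ⟨t, rfl⟩ := QuotientGroup.mk'_surjective F z
    exact mem_bot.2 ((QuotientGroup.eq_one_iff t).2 (hle hz)))

end Main

theorem isMulCommutative_of_le' {A B : Subgroup G} [IsMulCommutative B] (h : A ≤ B) : IsMulCommutative A :=
  ⟨⟨fun a b => Subtype.ext (congrArg Subtype.val (mul_comm' (⟨a, h a.2⟩ : B) ⟨b, h b.2⟩) :)⟩⟩

/-- A prime-power element of a partially covered Sylow subgroup is centralised by the quaternion layer. -/
theorem centralizes_of_partial (hB : AbConj G) {p : ℕ} [Fact p.Prime] {N V Γ Xh : Subgroup G}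
    [N.Normal] [Xh.Normal] (hel : Cfsg.IsElementaryAbelian p N) (hV : V ≤ N) (hV1 : V ≠ ⊥) (hVN : V ≠ N)
    (hXV : Xh ≤ normalizer (V : Set G)) (hΓ : Γ ≤ Xh) (hΓ8 : Nat.card Γ = 8)
    (hu : ∀ x ∈ Γ, ∀ y ∈ Γ, orderOf x = 2 → orderOf y = 2 → x = y)
    (hnc : ∃ x ∈ Γ, ∃ y ∈ Γ, x * y ≠ y * x) :
    ∃ γ ∈ Γ, orderOf γ = 4 ∧ γ ∈ centralizer (N : Set G) := by
  haveI := hel.1
  have hall : ∀ W ≤ N, Nat.card W = Nat.card V → Xh ≤ normalizer (W : Set G) := by
    intro W hW hc
    obtain ⟨g, hg⟩ := hB V W (isMulCommutative_of_le' hV) (isMulCommutative_of_le' hW) hc.symm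
    intro r hr
    have h1 : g⁻¹ * r * g ∈ normalizer (V : Set G) := hXV (by
      simpa using Normal.conj_mem (H := Xh) inferInstance r hr g⁻¹)
    rw [mem_normalizer_iff] at h1 ⊢
    have hmem : ∀ v, v ∈ W ↔ g⁻¹ * v * g ∈ V := fun v => by
      rw [hg, mem_map_equiv]; simp
    intro v
    rw [hmem, hmem, h1 (g⁻¹ * v * g)]
    congr! 1
    group
  have hpow : ∀ r ∈ Xh, ∀ w ∈ N, r * w * r⁻¹ ∈ zpowers w := by
    intro r hr w hw
    by_contra hno
    obtain ⟨M, hM, hwM, hfM, hMc⟩ := exists_avoid_subgroup hel hV hV1 hVN hw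
      (Normal.conj_mem inferInstance w hw r) hno
    exact hfM ((mem_normalizer_iff.1 (hall M hM hMc hr) w).1 hwM)
  obtain ⟨e, he, he1⟩ := (bot_or_exists_ne_one V).resolve_left hV1
  have hnorm : Γ ≤ normalizer (zpowers e : Set G) := fun r hr => mem_normalizer_iff.2 fun v => by
    constructor
    · intro hv
      obtain ⟨i, rfl⟩ := mem_zpowers_iff.1 hv
      rw [← conj_zpow]; exact zpow_mem (hpow r (hΓ hr) e (hV he)) i
    · intro hv
      obtain ⟨i, hi⟩ := mem_zpowers_iff.1 hv
      have e2 : v = (r⁻¹ * e * r) ^ i := by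
        have h := conj_zpow (i := i) (a := r⁻¹) (b := e)
        rw [inv_inv] at h
        rw [h, hi]; group
      rw [e2]
      have := hpow r⁻¹ (inv_mem (hΓ hr)) e (hV he)
      rw [inv_inv] at this
      exact zpow_mem this i
  have hcyc : IsCyclic (MulAut (zpowers e)) := by
    haveI : IsCyclic (ZMod (Nat.card (zpowers e)))ˣ := by
      rw [Nat.card_zpowers, orderOf_eq_prime (hel.2 e (hV he)) he1]
      exact ZMod.isCyclic_units_prime Fact.out
    exact isCyclic_of_surjective (IsCyclic.mulAutMulEquiv (zpowers e)).symm.toMonoidHom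
      (IsCyclic.mulAutMulEquiv (zpowers e)).symm.surjective
  let θ := conjHom hnorm
  by_contra hno
  push Not at hno
  obtain ⟨x₀, hx₀, y₀, hy₀, hxy⟩ := hnc
  have hker : θ.rangeRestrict.ker ≤ center Γ := fun w hw => by
    rw [MonoidHom.ker_rangeRestrict] at hw
    have hwe : (w : G) * e * (w : G)⁻¹ = e := by
      have h := congrArg Subtype.val (DFunLike.congr_fun hw ⟨e, mem_zpowers e⟩)
      rwa [conjHom_apply] at h
    have hcent : (w : G) ∈ centralizer (N : Set G) := mem_centralizer_iff.2 fun v hv =>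
      (mul_inv_eq_iff_eq_mul.1 (fixes_all hel (fun v hv => hpow w (hΓ w.2) v hv) (hV he) he1 hwe v hv)).symm
    obtain ⟨i, hi, hi'⟩ := (Nat.dvd_prime_pow Nat.prime_two).1
      (show orderOf (w : G) ∣ 2 ^ 3 by
        rw [show (2 : ℕ) ^ 3 = Nat.card Γ from hΓ8.symm]; exact Subgroup.orderOf_dvd_natCard _ w.2)
    refine mem_center_iff.2 fun v => Subtype.ext ?_
    show (v : G) * w = w * v
    interval_cases i
    · rw [orderOf_eq_one_iff.1 (hi'.trans (pow_zero 2)), mul_one, one_mul]
    · exact mul_inv_eq_iff_eq_mul.1 (hu _ (mul_mem (mul_mem v.2 w.2) (inv_mem v.2)) w w.2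
        (((orderOf_injective (MulAut.conj (v : G)).toMonoidHom (MulAut.conj (v : G)).injective w)).trans
          (hi'.trans (pow_one 2))) (hi'.trans (pow_one 2)))
    · exact absurd hcent (hno _ w.2 (hi'.trans (by norm_num)))
    · have e3 : zpowers (w : G) = Γ := eq_of_le_of_card_ge (zpowers_le.2 w.2)
        (by rw [Nat.card_zpowers, hi', hΓ8]; norm_num)
      obtain ⟨a, ha⟩ := mem_zpowers_iff.1 (e3.ge v.2)
      rw [← ha]
      exact ((Commute.refl (w : G)).zpow_left a).eq
  exact hxy (congrArg Subtype.val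
    (commutative_of_cyclic_center_quotient θ.rangeRestrict hker ⟨x₀, hx₀⟩ ⟨y₀, hy₀⟩))

omit [Finite G] in
theorem le_normalizer_of_comm {F W : Subgroup G} [IsMulCommutative F] (hW : W ≤ F) :
    F ≤ normalizer (W : Set G) := fun x hx => centralizer_le_normalizer (W : Set G)
      (mem_centralizer_iff.2 fun w hw => congrArg Subtype.val (mul_comm' (⟨w, hW hw⟩ : F) ⟨x, hx⟩))

/-- The order of a subgroup through a normal Hall subgroup. -/
theorem card_eq_inf_mul_map (F : Subgroup G) [F.Normal] (hF : (Nat.card F).Coprime F.index) (A : Subgroup G) :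
    Nat.card A = Nat.card (A ⊓ F : Subgroup G) * Nat.card (A.map (QuotientGroup.mk' F)) := by
  obtain ⟨K, -, hcop, hsup, hcard⟩ := exists_part F hF A
  have h : A.map (QuotientGroup.mk' F) = K.map (QuotientGroup.mk' F) := by
    conv_lhs => rw [← hsup]
    rw [Subgroup.map_sup, (Subgroup.map_eq_bot_iff _).2 (inf_le_right.trans (QuotientGroup.ker_mk' F).ge), bot_sup_eq]
  rw [h, card_map_mk'_of_coprime F hcop, hcard]

/-- The trace on a normal Hall subgroup has its order determined by the order of the subgroup. -/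
theorem card_inf_eq (F : Subgroup G) [F.Normal] (hF : (Nat.card F).Coprime F.index) {A B : Subgroup G}
    (hc : Nat.card A = Nat.card B) : Nat.card (A ⊓ F : Subgroup G) = Nat.card (B ⊓ F : Subgroup G) := by
  have key : ∀ A B : Subgroup G, Nat.card A = Nat.card B →
      Nat.card (A ⊓ F : Subgroup G) ∣ Nat.card (B ⊓ F : Subgroup G) := fun A B hc => by
    obtain ⟨K, -, -, -, hA⟩ := exists_part F hF A
    obtain ⟨K', -, hcop, -, hB⟩ := exists_part F hF B
    exact (hcop.symm.coprime_dvd_left (card_dvd_of_le inf_le_right)).dvd_of_dvd_mul_right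
      ⟨Nat.card K, by rw [hA, hB, hc]⟩
  exact Nat.dvd_antisymm (key A B hc) (key B A hc.symm)

/-- Inside the normaliser of a subgroup of the Fitting subgroup, the cyclic subgroups of order four
of a quaternion Sylow subgroup of the quotient are conjugate. -/
theorem quotient_transitive (hB : AbConj G) [hsol : Group.IsSolvable G]
    (hbig : ∀ N : Subgroup G, N.Normal → ¬ (Nat.card N).Prime) [(Cfsg.fittingSubgroup G).Normal]
    {W : Subgroup G} (hW : W ≤ Cfsg.fittingSubgroup G) {X : Subgroup (G ⧸ Cfsg.fittingSubgroup G)} [X.Normal]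
    (hX8 : Nat.card X = 8)
    (huniq : ∀ x y : G ⧸ Cfsg.fittingSubgroup G, orderOf x = 2 → orderOf y = 2 → x = y)
    (hX4 : ∀ x : G ⧸ Cfsg.fittingSubgroup G, orderOf x = 4 → x ∈ X)
    (hnc : ∃ x ∈ X, ∃ y ∈ X, x * y ≠ y * x)
    (hXL : X ≤ (normalizer (W : Set G)).map (QuotientGroup.mk' (Cfsg.fittingSubgroup G)))
    : ∀ c c' : G ⧸ Cfsg.fittingSubgroup G, orderOf c = 4 → orderOf c' = 4 →
    ∃ l ∈ (normalizer (W : Set G)).map (QuotientGroup.mk' (Cfsg.fittingSubgroup G)),
      l * c * l⁻¹ ∈ zpowers c' := by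
  haveI := fitting_comm hB hbig
  have hF := fitting_coprime hB hbig
  set F := Cfsg.fittingSubgroup G
  set π := QuotientGroup.mk' F
  set L := normalizer (W : Set G)
  intro c c' hc hc'
  set Xh := X.comap π with hXh
  haveI : Xh.Normal := (inferInstance : X.Normal).comap π
  have hFL : F ≤ L := le_normalizer_of_comm hW
  have hXhL : Xh ≤ L := fun t ht => by
    obtain ⟨l, hl, hlt⟩ : π t ∈ L.map π := hXL ht
    have := mul_mem hl (hFL (QuotientGroup.eq.1 hlt))
    rwa [mul_inv_cancel_left] at this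
  obtain ⟨Γ, hΓmap, hΓcard, hΓinj⟩ := exists_isomorphic_lift F hF X
  have hΓX : ∀ x ∈ Γ, π x ∈ X := fun x hx => hΓmap ▸ mem_map_of_mem π hx
  have hinj : ∀ x ∈ Γ, ∀ y ∈ Γ, π x = π y → x = y := fun x hx y hy h =>
    inv_mul_eq_one.1 (hΓinj _ (mul_mem (inv_mem hx) hy) (by rw [map_mul, map_inv, h, inv_mul_cancel]))
  have hord : ∀ x ∈ Γ, orderOf (π x) = orderOf x := fun x hx => orderOf_eq_orderOf_iff.2 fun n => by
    rw [← map_pow]
    exact ⟨hΓinj _ (pow_mem hx n), fun h => h ▸ map_one π⟩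
  have hu : ∀ x ∈ Γ, ∀ y ∈ Γ, orderOf x = 2 → orderOf y = 2 → x = y := fun x hx y hy h1 h2 =>
    hinj x hx y hy (huniq _ _ ((hord x hx).trans h1) ((hord y hy).trans h2))
  have hncΓ : ∃ x ∈ Γ, ∃ y ∈ Γ, x * y ≠ y * x := by
    obtain ⟨a, ha, b, hb, hab⟩ := hnc
    rw [← hΓmap] at ha hb
    obtain ⟨x, hx, rfl⟩ := ha
    obtain ⟨y, hy, rfl⟩ := hb
    exact ⟨x, hx, y, hy, fun h => hab (by rw [← map_mul, h, map_mul])⟩
  set W' := W ⊓ centralizer (Xh : Set G) with hW'
  haveI : IsMulCommutative W' := isMulCommutative_of_le' (inf_le_left.trans hW)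
  have hlift : ∀ d, orderOf d = 4 → ∃ A : Subgroup G, IsMulCommutative A ∧
      Nat.card A = Nat.card W' * 4 ∧ A ⊓ F = W' ∧ A.map π = zpowers d := by
    intro d hd
    obtain ⟨γ, hγ, hγd⟩ : d ∈ Γ.map π := hΓmap.symm ▸ hX4 d hd
    have hcomm : zpowers γ ≤ centralizer (W' : Set G) := zpowers_le.2 (mem_centralizer_iff.2 fun w hw =>
      (mem_centralizer_iff.1 (inf_le_right (a := W) hw) γ (hΓX γ hγ)).symm)
    have hW'W' : W' ≤ centralizer (W' : Set G) := le_centralizer W'
    have hγγ : zpowers γ ≤ centralizer (zpowers γ : Set G) := le_centralizer _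
    have hab : W' ⊔ zpowers γ ≤ centralizer ((W' ⊔ zpowers γ : Subgroup G) : Set G) :=
      sup_le (le_centralizer_iff.1 (sup_le hW'W' hcomm))
        (le_centralizer_iff.1 (sup_le (le_centralizer_iff.1 hcomm) hγγ))
    have hmap : (W' ⊔ zpowers γ).map π = zpowers d := by
      rw [Subgroup.map_sup, (Subgroup.map_eq_bot_iff _).2 ((inf_le_left.trans hW).trans (QuotientGroup.ker_mk' F).ge),
        bot_sup_eq, MonoidHom.map_zpowers, hγd]
    have hinf : (W' ⊔ zpowers γ) ⊓ F = W' := by
      refine le_antisymm (fun x hx => ?_) (le_inf le_sup_left (inf_le_left.trans hW))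
      have hset := coe_mul_of_right_le_normalizer_left W' (zpowers γ) (hcomm.trans (centralizer_le_normalizer _))
      obtain ⟨w, hw, z, hz, rfl⟩ := (show x ∈ ((W' : Set G) * (zpowers γ : Set G)) from hset ▸ hx.1)
      have h1 : π z = 1 := by
        have h2 : π (w * z) = 1 := (QuotientGroup.eq_one_iff _).2 hx.2
        rwa [map_mul, show π w = 1 from (QuotientGroup.eq_one_iff w).2 (hW hw.1), one_mul] at h2
      show w * z ∈ W'
      rw [hΓinj z (zpowers_le.2 hγ hz) h1, mul_one]
      exact hw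
    refine ⟨W' ⊔ zpowers γ, le_centralizer_iff_isMulCommutative.1 hab, ?_, hinf, hmap⟩
    rw [card_eq_inf_mul_map F hF, hinf, hmap, Nat.card_zpowers, hd]
  obtain ⟨A, hA, hAc, hAF, hAm⟩ := hlift c hc
  obtain ⟨A', hA', hA'c, hA'F, hA'm⟩ := hlift c' hc'
  obtain ⟨g, hg⟩ := hB A A' hA hA' (hAc.trans hA'c.symm)
  have hW'g : W'.map (MulAut.conj g).toMonoidHom = W' := by
    conv_lhs => rw [← hAF]
    rw [Subgroup.map_inf _ _ _ (MulAut.conj g).injective, ← hg, map_conj_normal, hA'F]
  refine ⟨π g, mem_map_of_mem π ?_, ?_⟩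
  swap
  · obtain ⟨y, hy, hyc⟩ : c ∈ A.map π := hAm.symm ▸ mem_zpowers c
    rw [← hA'm, ← hyc, ← map_inv, ← map_mul, ← map_mul, hg]
    exact mem_map_of_mem π ⟨y, hy, rfl⟩
  set K := W ⊓ W.comap (MulAut.conj g).toMonoidHom with hK
  have hS : ∀ (p : ℕ), p.Prime → ∀ S : Subgroup G, IsPGroup p S → S ≤ W → S ≤ K := by
    intro p hp S hSp hSW
    haveI : Fact p.Prime := ⟨hp⟩
    refine le_inf hSW ?_
    intro x hx
    by_cases hS1 : S = ⊥
    · rw [hS1, mem_bot] at hx; subst hx; exact one_mem _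
    obtain ⟨t, ht⟩ := IsPGroup.iff_card.1 hSp
    have hpF : p ∣ Nat.card F := by
      have ht0 : t ≠ 0 := fun h => hS1 (Subgroup.card_eq_one.1 (by rw [ht, h, pow_zero]))
      refine (dvd_pow_self p ht0).trans ?_
      exact ht ▸ card_dvd_of_le (hSW.trans hW)
    obtain ⟨hel, hsyl⟩ := pCore_spec hB hbig p (pCore_ne_bot_of_dvd hpF)
    set N := Cfsg.pCore p G with hN
    haveI : N.Normal := pCore_normal p G
    obtain ⟨P, hP⟩ := hSp.exists_le_sylow
    have hSN : S ≤ N := hP.trans (hsyl P).le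
    by_cases hNW : N ≤ W
    · exact hNW ((inferInstance : N.Normal).conj_mem x (hSN hx) g)
    have hVn : Xh ≤ normalizer ((W ⊓ N : Subgroup G) : Set G) := fun r hr => by
      refine mem_normalizer_iff.2 fun v => ?_
      rw [mem_inf, mem_inf, mem_normalizer_iff.1 (hXhL hr) v,
        mem_normalizer_iff.1 ((normalizer_eq_top N).symm ▸ mem_top r : r ∈ normalizer (N : Set G)) v]
    obtain ⟨γ, hγ, hγ4, hγN⟩ := centralizes_of_partial hB hel (inf_le_right : W ⊓ N ≤ N)
      (fun h => hS1 (eq_bot_iff.2 (h ▸ le_inf hSW hSN))) (fun h => hNW (h ▸ inf_le_left)) hVn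
      (fun x hx => hΓX x hx) (hΓcard.trans hX8) hu hncΓ
    haveI : ((centralizer (N : Set G)).map π).Normal :=
      Subgroup.Normal.map inferInstance π (QuotientGroup.mk'_surjective F)
    have h4 : ∀ d, orderOf d = 4 → d ∈ (centralizer (N : Set G)).map π := fun d hd =>
      (hB.quotient_of_isSolvable F).mem_of_orderOf_eq (mem_map_of_mem π hγN) (by rw [hd, hord γ hγ, hγ4])
    have hXC : X ≤ (centralizer (N : Set G)).map π := by
      intro z hz
      obtain ⟨i, hi, hi'⟩ := (Nat.dvd_prime_pow Nat.prime_two).1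
        (show orderOf z ∣ 2 ^ 3 by
          rw [show (2 : ℕ) ^ 3 = Nat.card X from hX8.symm]; exact Subgroup.orderOf_dvd_natCard _ hz)
      interval_cases i
      · rw [orderOf_eq_one_iff.1 (hi'.trans (pow_zero 2))]; exact one_mem _
      · rw [huniq z (π γ ^ 2) (hi'.trans (pow_one 2))
          (by rw [orderOf_pow, hord γ hγ, hγ4]; norm_num)]
        exact pow_mem (mem_map_of_mem π hγN) 2
      · exact h4 z (hi'.trans (by norm_num))
      · exfalso
        have e3 : zpowers z = X := eq_of_le_of_card_ge (zpowers_le.2 hz)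
          (by rw [Nat.card_zpowers, hi', hX8]; norm_num)
        obtain ⟨a, ha, b, hb, hab⟩ := hnc
        obtain ⟨i, rfl⟩ := mem_zpowers_iff.1 (e3.ge ha)
        obtain ⟨j, rfl⟩ := mem_zpowers_iff.1 (e3.ge hb)
        exact hab ((Commute.refl z).zpow_zpow i j).eq
    have hFC : F ≤ centralizer (N : Set G) := fun v hv => mem_centralizer_iff.2 fun y hy =>
      congrArg Subtype.val (mul_comm' (⟨y, pCore_le_fittingSubgroup p hy⟩ : F) ⟨v, hv⟩)
    have hXhC : Xh ≤ centralizer (N : Set G) := fun v hv => by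
      obtain ⟨z, hz, hzv⟩ : π v ∈ (centralizer (N : Set G)).map π := hXC hv
      have := mul_mem hz (hFC (QuotientGroup.eq.1 hzv))
      rwa [mul_inv_cancel_left] at this
    have hxW' : x ∈ W' := ⟨hSW hx, le_centralizer_iff.1 hXhC (hSN hx)⟩
    exact (inf_le_left : W' ≤ W) (hW'g.le (mem_map_of_mem _ hxW'))
  have hdvd : Nat.card W ∣ Nat.card K := by
    refine (Nat.dvd_iff_prime_pow_dvd_dvd _ _).2 fun p k hp hpk => ?_
    haveI : Fact p.Prime := ⟨hp⟩
    obtain ⟨Q, hQ⟩ := Sylow.exists_subgroup_card_pow_prime p hpk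
    have hc : Nat.card (Q.map W.subtype) = p ^ k := by rw [card_map_of_injective W.subtype_injective, hQ]
    exact hc ▸ card_dvd_of_le (hS p hp _ (IsPGroup.of_card hc) (map_subtype_le Q))
  have hKW : K = W := eq_of_le_of_card_ge inf_le_left (Nat.le_of_dvd Nat.card_pos hdvd)
  have hle : W.map (MulAut.conj g).toMonoidHom ≤ W := map_le_iff_le_comap.2 ((le_of_eq hKW.symm).trans inf_le_right)
  have heq : W.map (MulAut.conj g).toMonoidHom = W :=
    eq_of_le_of_card_ge hle (card_map_conj_eq W g).ge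
  refine mem_normalizer_iff.2 fun v => ⟨fun hv => heq.le ⟨v, hv, rfl⟩, fun hv => ?_⟩
  obtain ⟨y, hy, hyv⟩ := heq.ge hv
  rwa [← show y = v from (MulAut.conj g).injective hyv]

/-- In a finite soluble group with conjugate abelian subgroups of equal order, all subgroups of
equal order are conjugate. -/
theorem AbConj.allConj {G : Type u} [Group G] [Finite G] [Group.IsSolvable G] (hB : AbConj G) : AllConj G := by
  induction hn : Nat.card G using Nat.strong_induction_on generalizing G with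
  | _ n ih =>
  subst hn
  rcases subsingleton_or_nontrivial G with h | h
  · exact fun A B _ => ⟨1, Subsingleton.elim _ _⟩
  have hlt : ∀ (N : Subgroup G) [N.Normal], N ≠ ⊥ → Nat.card (G ⧸ N) < Nat.card G := fun N _ hN => by
    rw [card_eq_card_quotient_mul_card_subgroup N]
    exact lt_mul_of_one_lt_right Nat.card_pos ((one_lt_card_iff_ne_bot N).2 hN)
  by_cases hpr : ∃ N : Subgroup G, N.Normal ∧ (Nat.card N).Prime
  · obtain ⟨N, hN, hp⟩ := hpr
    haveI := hN
    haveI : Fact (Nat.card N).Prime := ⟨hp⟩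
    obtain ⟨y, hy⟩ := exists_prime_orderOf_dvd_card' (G := N) (Nat.card N) dvd_rfl
    refine allConj_of_prime_order N hp rfl (fun x hx => hB.mem_of_orderOf_eq y.2
      (by rw [hx, Subgroup.orderOf_coe, hy])) ?_
    exact ih _ (hlt N (fun h => hp.ne_one (by rw [h, card_bot]))) (hB.quotient_of_isSolvable N) rfl
  have hbig : ∀ N : Subgroup G, N.Normal → ¬ (Nat.card N).Prime := fun N h1 h2 => hpr ⟨N, h1, h2⟩
  haveI := CfsgLib.Solvable.fittingSubgroup_normal G
  haveI := fitting_comm hB hbig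
  have hF := fitting_coprime hB hbig
  have hne : Cfsg.fittingSubgroup G ≠ ⊥ := fun hb => by
    obtain ⟨x, hx⟩ := exists_ne (1 : G)
    have h1 := centralizer_fittingSubgroup_le (G := G) (show x ∈ _ from mem_centralizer_iff.2 fun y hy => by
      rw [hb, SetLike.mem_coe, mem_bot] at hy; rw [hy, one_mul, mul_one])
    exact hx (mem_bot.1 (hb ▸ h1))
  have hQ : AbConj (G ⧸ Cfsg.fittingSubgroup G) := hB.quotient_of_isSolvable _
  have hAll : AllConj (G ⧸ Cfsg.fittingSubgroup G) := ih _ (hlt _ hne) hQ rfl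
  obtain ⟨hodd, h2⟩ := hQ.sylow_structure (quotient_minimal_prime hB hbig)
  intro A B hc
  set F := Cfsg.fittingSubgroup G with hFdef
  set π := QuotientGroup.mk' F with hπdef
  have htop : ∀ K : Subgroup G, K ≤ normalizer (F : Set G) := fun K => (normalizer_eq_top F).symm ▸ le_top
  obtain ⟨KA, hKA, hKAc, hAsup, hAcard⟩ := exists_part F hF A
  obtain ⟨K, hK, hKc, hBsup, hBcard⟩ := exists_part F hF B
  have hUW := card_inf_eq F hF hc
  have hKK : Nat.card KA = Nat.card K := by
    have := hAcard.trans (hc.trans hBcard.symm)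
    rw [hUW] at this
    exact Nat.eq_of_mul_eq_mul_left Nat.card_pos this
  obtain ⟨g₁, hg₁⟩ := hAll.exists_sup_eq F (A := KA) (B := K)
    (by rw [card_map_mk'_of_coprime F hKAc, card_map_mk'_of_coprime F hKc, hKK])
  obtain ⟨n₁, -, hn₁⟩ := exists_conj_eq_of_coprime (N := F) (A := KA.map (MulAut.conj g₁).toMonoidHom) (B := K)
    (htop _) (htop _) hg₁.symm (by rwa [card_map_conj_eq]) hKc (Or.inr inferInstance)
  rw [map_conj_comp] at hn₁
  set a := n₁ * g₁
  set U := (A ⊓ F).map (MulAut.conj a).toMonoidHom with hU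
  set W := B ⊓ F with hW
  have hUF : U ≤ F := (map_mono inf_le_right).trans (map_conj_normal F a).le
  obtain ⟨g₀, hg₀⟩ := hB U W (isMulCommutative_of_le' hUF) (isMulCommutative_of_le' inf_le_right)
    (by rw [hU, card_map_conj_eq, hUW])
  set L := normalizer (W : Set G) with hL
  have hnorm : ∀ C : Subgroup G, C ≤ normalizer ((C ⊓ F : Subgroup G) : Set G) := fun C r hr => by
    refine mem_normalizer_iff.2 fun v => ?_
    rw [mem_inf, mem_inf, mem_normalizer_iff.1 (le_normalizer hr) v,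
      mem_normalizer_iff.1 ((normalizer_eq_top F).symm ▸ mem_top r : r ∈ normalizer (F : Set G)) v]
  have hKL : K ≤ L := hK.trans (hnorm B)
  have hK'L : K.map (MulAut.conj g₀).toMonoidHom ≤ L := by
    rw [hL, hg₀, hU, hn₁, map_conj_comp, map_conj_comp]
    exact (map_mono (hKA.trans (hnorm A))).trans (le_normalizer_map _)
  set K' := K.map (MulAut.conj g₀).toMonoidHom with hK'
  have hK'c : (Nat.card K').Coprime (Nat.card F) := by rwa [hK', card_map_conj_eq]
  haveI : Group.IsSolvable (G ⧸ F) := inferInstance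
  have hconj : AllConj (L.map π) := allConj_subgroup (L.map π) hodd (h2.imp_right
    fun ⟨X, hXn, hX8, hXi, huniq, hX4, hnc⟩ => ⟨X, hXn, hX8, hXi, huniq, hX4, fun hXL =>
      haveI := hXn
      quotient_transitive hB hbig inf_le_right hX8 huniq hX4 hnc hXL⟩)
  obtain ⟨⟨-, ⟨l, hl, rfl⟩⟩, hγ⟩ := hconj ((K'.map π).subgroupOf (L.map π)) ((K.map π).subgroupOf (L.map π))
    (by rw [card_subgroupOf (map_mono hK'L), card_subgroupOf (map_mono hKL), card_map_mk'_of_coprime F hK'c,
      card_map_mk'_of_coprime F hKc, hK', card_map_conj_eq])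
  have hγ' : K.map π = (K'.map π).map (MulAut.conj (π l)).toMonoidHom := by
    have h := congrArg (Subgroup.map (L.map π).subtype) hγ
    rw [subgroupOf_map_subtype, inf_eq_left.2 (map_mono hKL), Subgroup.map_map] at h
    rw [h, show (L.map π).subtype.comp (MulAut.conj (⟨π l, mem_map_of_mem π hl⟩ : L.map π)).toMonoidHom =
      (MulAut.conj (π l)).toMonoidHom.comp (L.map π).subtype from rfl, ← Subgroup.map_map,
      subgroupOf_map_subtype, inf_eq_left.2 (map_mono hK'L : K'.map π ≤ L.map π)]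
  obtain ⟨l', hl', hsup'⟩ := exists_conj_sup_of_quotient (N := L) ⟨_, mem_map_of_mem π hl, hγ'⟩
  obtain ⟨m, hm, hm'⟩ := exists_conj_eq_of_coprime (N := F) (A := K'.map (MulAut.conj l').toMonoidHom) (B := K)
    (htop _) (htop _) hsup'.symm (by rwa [card_map_conj_eq]) hKc (Or.inr inferInstance)
  rw [map_conj_comp] at hm'
  have hmL : m * l' ∈ L := mul_mem (le_normalizer_of_comm inf_le_right hm) hl'
  refine ⟨m * l' * (g₀ * a), ?_⟩
  rw [← map_conj_comp A, ← map_conj_comp A g₀ a]
  conv_rhs => rw [← hAsup]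
  rw [Subgroup.map_sup, ← hU, ← hn₁, Subgroup.map_sup, ← hg₀, ← hK', Subgroup.map_sup,
    map_conj_of_mem_normalizer hmL, ← hm', hW, hBsup]

end CfsgLib.Coprime
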