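import Cfsg.Agent.Lib.Coprime.BGroup
import Cfsg.Agent.Lib.Coprime.Complements
import Cfsg.Agent.Lib.Solvable.MinNormal
import Mathlib.GroupTheory.SpecificGroups.ZGroup

/-!
Finite groups all of whose subgroups of equal order are conjugate: Z-groups, and extensions of a
quaternion group of order eight by Z-groups of odd order.
-/

set_option autoImplicit false
set_option linter.style.haveILetI false

namespace CfsgLib.Coprime

open Subgroup

universe u

variable {G : Type u} [Group G]

/-- Any two subgroups of the same order are conjugate. -/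
def AllConj (G : Type u) [Group G] : Prop :=
  ∀ A B : Subgroup G, Nat.card A = Nat.card B → ∃ g : G, B = A.map (MulAut.conj g).toMonoidHom

theorem map_conj_comp (A : Subgroup G) (a b : G) :
    (A.map (MulAut.conj b).toMonoidHom).map (MulAut.conj a).toMonoidHom =
      A.map (MulAut.conj (a * b)).toMonoidHom := by
  rw [map_map]; congr 1; ext x; simp [mul_assoc]

theorem map_conj_normal (N : Subgroup G) [hN : N.Normal] (g : G) :
    N.map (MulAut.conj g).toMonoidHom = N := by
  ext x
  constructor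
  · rintro ⟨y, hy, rfl⟩
    exact hN.conj_mem y hy g
  · intro hx
    refine ⟨g⁻¹ * x * g, by simpa using hN.conj_mem x hx g⁻¹, ?_⟩
    show g * (g⁻¹ * x * g) * g⁻¹ = x
    group

theorem card_map_conj_eq (A : Subgroup G) (g : G) :
    Nat.card (A.map (MulAut.conj g).toMonoidHom) = Nat.card A :=
  card_map_of_injective (MulAut.conj g).injective

variable [Finite G]

/-- Conjugacy modulo a normal subgroup, lifted. -/
theorem AllConj.exists_sup_eq (N : Subgroup G) [N.Normal] (h : AllConj (G ⧸ N)) {A B : Subgroup G}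
    (hc : Nat.card (A.map (QuotientGroup.mk' N)) = Nat.card (B.map (QuotientGroup.mk' N))) :
    ∃ g : G, N ⊔ B = N ⊔ A.map (MulAut.conj g).toMonoidHom := by
  obtain ⟨γ, hγ⟩ := h _ _ hc
  obtain ⟨g, rfl⟩ := QuotientGroup.mk'_surjective N γ
  refine (exists_conj_sup_of_quotient (N := ⊤) ⟨_, mem_map_of_mem _ (mem_top g), hγ⟩).imp
    fun g hg => hg.2

theorem card_map_mk'_of_coprime (N : Subgroup G) [N.Normal] {A : Subgroup G}
    (hA : (Nat.card A).Coprime (Nat.card N)) :
    Nat.card (A.map (QuotientGroup.mk' N)) = Nat.card A := by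
  have hinj : Function.Injective ((QuotientGroup.mk' N).comp A.subtype) := by
    rw [injective_iff_map_eq_one]
    intro x hx
    have h1 : (x : G) ∈ A ⊓ N := ⟨x.2, (QuotientGroup.eq_one_iff (x : G)).1 hx⟩
    rw [inf_eq_bot_of_coprime hA, mem_bot] at h1
    exact Subtype.ext h1
  have h := Nat.card_congr (MonoidHom.ofInjective hinj).toEquiv
  rwa [MonoidHom.range_comp, range_subtype, eq_comm] at h

/-- Subgroups of equal order, coprime to a normal subgroup with good quotient, are conjugate. -/
theorem exists_conj_of_coprime [hs : Group.IsSolvable G] (N : Subgroup G) [N.Normal]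
    (h : AllConj (G ⧸ N)) {A B : Subgroup G} (hc : Nat.card A = Nat.card B)
    (hA : (Nat.card A).Coprime (Nat.card N)) :
    ∃ g : G, B = A.map (MulAut.conj g).toMonoidHom := by
  obtain ⟨g, hg⟩ := h.exists_sup_eq N (A := A) (B := B) (by
    rw [card_map_mk'_of_coprime N hA, card_map_mk'_of_coprime N (hc ▸ hA), hc])
  obtain ⟨n, -, hn⟩ := exists_conj_eq_of_coprime (N := N) (A := A.map (MulAut.conj g).toMonoidHom)
    (B := B) ((normalizer_eq_top N).symm ▸ le_top) ((normalizer_eq_top N).symm ▸ le_top) hg.symm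
    (by rwa [card_map_conj_eq]) (hc ▸ hA) (Or.inr inferInstance)
  exact ⟨n * g, by rw [hn, map_conj_comp]⟩

/-- A normal subgroup of prime order containing all elements of that order. -/
theorem allConj_of_prime_order [Group.IsSolvable G] (N : Subgroup G) [N.Normal] {p : ℕ} (hp : p.Prime)
    (hN : Nat.card N = p) (hall : ∀ x : G, orderOf x = p → x ∈ N) (h : AllConj (G ⧸ N)) :
    AllConj G := by
  haveI : Fact p.Prime := ⟨hp⟩
  intro A B hc
  by_cases hd : p ∣ Nat.card A
  · have hle : ∀ C : Subgroup G, p ∣ Nat.card C → N ≤ C := fun C hC => by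
      obtain ⟨x, hx⟩ := exists_prime_orderOf_dvd_card' p hC
      rw [← Subgroup.orderOf_coe] at hx
      have e : zpowers (x : G) = N := eq_of_le_of_card_ge (zpowers_le.2 (hall _ hx))
        (by rw [Nat.card_zpowers, hx, hN])
      exact e ▸ zpowers_le.2 x.2
    have hNA := hle A hd
    have hNB := hle B (hc ▸ hd)
    obtain ⟨g, hg⟩ := h.exists_sup_eq N (A := A) (B := B) (by
      have h1 := CfsgLib.Solvable.card_map_mk'_eq N hNA
      have h2 := CfsgLib.Solvable.card_map_mk'_eq N hNB
      have := Nat.card_pos (α := N)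
      nlinarith)
    refine ⟨g, ?_⟩
    rwa [sup_eq_right.2 hNB, sup_eq_right.2 (map_conj_normal N g ▸ map_mono hNA)] at hg
  · exact exists_conj_of_coprime N h hc
      (hN ▸ Nat.coprime_comm.1 (hp.coprime_iff_not_dvd.2 hd))

/-- In a Z-group subgroups of equal order are conjugate. -/
theorem allConj_of_isZGroup (G : Type u) [Group G] [Finite G] [IsZGroup G] : AllConj G := by
  induction hn : Nat.card G using Nat.strong_induction_on generalizing G with
  | _ n ih =>
    subst hn
    rcases subsingleton_or_nontrivial G with h | h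
    · exact fun A B _ => ⟨1, Subsingleton.elim _ _⟩
    obtain ⟨N, hNn, hne, hmin⟩ := CfsgLib.Solvable.exists_minimal_normal (G := G)
    haveI := hNn
    obtain ⟨p, hp, hNp, hexp, hcomm⟩ := CfsgLib.Solvable.exists_isPGroup_of_minimal_normal hne hmin
    haveI : Fact p.Prime := ⟨hp⟩
    haveI := hNp.isCyclic_of_isZGroup
    have hcard : Nat.card N = p := by
      obtain ⟨g, hg⟩ := (Subgroup.isCyclic_iff_exists_zpowers_eq_top N).1 inferInstance
      rw [← hg, Nat.card_zpowers]
      rcases (Nat.dvd_prime hp).1 (orderOf_dvd_of_pow_eq_one (hexp g (hg ▸ mem_zpowers g))) with h | h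
      · exact absurd (by rw [← hg, orderOf_eq_one_iff.1 h, zpowers_one_eq_bot]) hne
      · exact h
    refine allConj_of_prime_order N hp hcard (fun x hx => ?_) (ih _
      (CfsgLib.Solvable.card_quotient_lt hne) (G ⧸ N) rfl)
    obtain ⟨P, hP⟩ := ((IsPGroup.of_card (n := 1) (by rw [Nat.card_zpowers, hx, pow_one]) :
      IsPGroup p (zpowers x)).to_sup_of_normal_right hNp).exists_le_sylow
    refine le_of_card_dvd_of_isCyclic P.2 (le_sup_left.trans hP) (le_sup_right.trans hP) ?_
      (mem_zpowers x)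
    rw [Nat.card_zpowers, hx, hcard]

theorem mem_zpowers_sq {s : G} (hs : Odd (orderOf s)) : s ∈ zpowers (s ^ 2) := by
  obtain ⟨m, hm⟩ := hs
  refine mem_zpowers_iff.2 ⟨m + 1, ?_⟩
  rw [show ((m : ℤ) + 1) = ((m + 1 : ℕ) : ℤ) by norm_num, zpow_natCast, ← pow_mul,
    show 2 * (m + 1) = 2 * m + 1 + 1 by ring, pow_succ, ← hm, pow_orderOf_eq_one, one_mul]

/-- An element of odd order normalising a cyclic group of order four centralises it. -/
theorem commute_of_normalize_four {s c : G} (hs : Odd (orderOf s)) (hc : orderOf c = 4)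
    (h : s * c * s⁻¹ ∈ zpowers c) : Commute s c := by
  obtain ⟨i, hi⟩ := mem_zpowers_iff.1 h
  have h2 : s ^ 2 * c * (s ^ 2)⁻¹ = c ^ (i * i) := by
    rw [zpow_mul, hi, conj_zpow, hi, pow_two]; group
  have hi2 : c ^ (i * i) = c := by
    rcases Int.even_or_odd i with ⟨k, rfl⟩ | ⟨k, rfl⟩
    · exfalso
      have h3 : orderOf (c ^ (k + k)) = 4 := by rw [hi, ← hc]; exact orderOf_injective (MulAut.conj s).toMonoidHom (MulAut.conj s).injective c
      have h4 : (c ^ (k + k)) ^ 2 = 1 := by
        rw [← zpow_natCast, ← zpow_mul, show (k + k) * ((2 : ℕ) : ℤ) = ((4 : ℕ) : ℤ) * k by push_cast; ring,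
          zpow_mul, zpow_natCast, ← hc, pow_orderOf_eq_one, one_zpow]
      have := orderOf_dvd_of_pow_eq_one h4
      rw [h3] at this
      norm_num at this
    · rw [show (2 * k + 1) * (2 * k + 1) = ((4 : ℕ) : ℤ) * (k * k + k) + 1 by push_cast; ring, zpow_add,
        zpow_mul, zpow_natCast, ← hc, pow_orderOf_eq_one, one_zpow, one_mul, zpow_one]
  rw [hi2] at h2
  have h5 : Commute (s ^ 2) c := mul_inv_eq_iff_eq_mul.1 h2
  obtain ⟨j, hj⟩ := mem_zpowers_iff.1 (mem_zpowers_sq hs)
  exact hj ▸ h5.zpow_left j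

/-- A subgroup of order four with at most one involution is cyclic. -/
theorem exists_orderOf_four {T : Subgroup G} (hT : Nat.card T = 4)
    (huniq : ∀ x ∈ T, ∀ y ∈ T, orderOf x = 2 → orderOf y = 2 → x = y) :
    ∃ c ∈ T, orderOf c = 4 ∧ T = zpowers c := by
  classical
  by_contra hno
  push Not at hno
  have h2 : ∀ x : T, (x : G) = 1 ∨ orderOf (x : G) = 2 := fun x => by
    have hd : orderOf (x : G) ∣ 2 ^ 2 := by
      rw [show (2 : ℕ) ^ 2 = Nat.card T by rw [hT]; norm_num]; exact Subgroup.orderOf_dvd_natCard _ x.2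
    obtain ⟨k, hk, hk'⟩ := (Nat.dvd_prime_pow Nat.prime_two).1 hd
    interval_cases k
    · exact Or.inl (orderOf_eq_one_iff.1 (by simpa using hk'))
    · exact Or.inr (by simpa using hk')
    · exact absurd (eq_of_le_of_card_ge (zpowers_le.2 x.2) (by rw [Nat.card_zpowers, hk', hT]; norm_num)).symm
        (hno x x.2 (by simpa using hk'))
  have hinj : Function.Injective fun x : T => decide ((x : G) = 1) := fun x y h => by
    simp only [decide_eq_decide] at h
    rcases h2 x with hx | hx
    · exact Subtype.ext (hx.trans (h.1 hx).symm)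
    · rcases h2 y with hy | hy
      · rw [h.2 hy, orderOf_one] at hx; norm_num at hx
      · exact Subtype.ext (huniq _ x.2 _ y.2 hx hy)
  have := Nat.card_le_card_of_injective _ hinj
  rw [hT, Nat.card_eq_fintype_card, Fintype.card_bool] at this
  omega

/-- The `2`-part and an odd complement of a subgroup, relative to a normal subgroup of index odd. -/
theorem exists_odd_part {X : Subgroup G} [X.Normal] (hX : Nat.card X = 8) (hidx : Odd X.index)
    (A : Subgroup G) : ∃ S : Subgroup G, S ≤ A ∧ (Nat.card S).Coprime 8 ∧ (A ⊓ X) ⊔ S = A ∧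
      Nat.card (A ⊓ X : Subgroup G) * Nat.card S = Nat.card A := by
  have hd : Nat.card (A ⊓ X : Subgroup G) ∣ 8 := hX ▸ card_dvd_of_le inf_le_right
  have hcard : Nat.card (X.subgroupOf A) = Nat.card (A ⊓ X : Subgroup G) := by
    rw [← card_map_of_injective A.subtype_injective, subgroupOf_map_subtype, inf_comm]
  have hodd : (X.subgroupOf A).index.Coprime 8 := by
    have h1 : X.relIndex A ∣ X.index := relIndex_dvd_index_of_normal X A
    have h2 : Nat.Coprime (X.relIndex A) 2 := Nat.coprime_two_right.2 (hidx.of_dvd_nat h1)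
    exact h2.pow_right 3
  obtain ⟨K, hK⟩ := exists_right_complement'_of_coprime (N := X.subgroupOf A)
    (hcard ▸ (hodd.coprime_dvd_right hd).symm)
  have hKc : Nat.card K = (X.subgroupOf A).index := hK.symm.index_eq_card.symm
  refine ⟨K.map A.subtype, map_subtype_le K, ?_, ?_, ?_⟩
  · rw [card_map_of_injective A.subtype_injective, hKc]; exact hodd
  · have h := congrArg (Subgroup.map A.subtype) hK.sup_eq_top
    rwa [Subgroup.map_sup, subgroupOf_map_subtype, ← MonoidHom.range_eq_map, range_subtype, inf_comm] at h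
  · rw [card_map_of_injective A.subtype_injective, ← hcard]
    exact hK.card_mul_card

/-- A quaternion group of order eight extended by a Z-group of odd order, transitively on the
cyclic subgroups of order four. -/
theorem allConj_of_eight [Group.IsSolvable G] (X : Subgroup G) [X.Normal] (hX : Nat.card X = 8)
    (hidx : Odd X.index) (huniq : ∀ x y : G, orderOf x = 2 → orderOf y = 2 → x = y)
    [IsZGroup (G ⧸ X)]
    (htrans : ∀ c c' : G, orderOf c = 4 → orderOf c' = 4 → ∃ l : G, l * c * l⁻¹ ∈ zpowers c') :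
    AllConj G := by
  intro A B hc
  obtain ⟨S, hSA, hS8, hAe, hAc⟩ := exists_odd_part hX hidx A
  obtain ⟨S', hSB, hS8', hBe, hBc⟩ := exists_odd_part hX hidx B
  have hTA : Nat.card (A ⊓ X : Subgroup G) ∣ 8 := hX ▸ card_dvd_of_le inf_le_right
  have hTB : Nat.card (B ⊓ X : Subgroup G) ∣ 8 := hX ▸ card_dvd_of_le inf_le_right
  have hT : Nat.card (A ⊓ X : Subgroup G) = Nat.card (B ⊓ X : Subgroup G) := by
    apply Nat.dvd_antisymm
    · exact ((hS8'.coprime_dvd_right hTA).symm).dvd_of_dvd_mul_right ⟨_, (hAc.trans (hc.trans hBc.symm)).symm⟩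
    · exact ((hS8.coprime_dvd_right hTB).symm).dvd_of_dvd_mul_right ⟨_, (hBc.trans (hc.symm.trans hAc.symm)).symm⟩
  have hSS : Nat.card S = Nat.card S' := by
    have := hAc.trans (hc.trans hBc.symm)
    rw [hT] at this
    exact Nat.eq_of_mul_eq_mul_left Nat.card_pos this
  obtain ⟨g, hg⟩ := exists_conj_of_coprime X (allConj_of_isZGroup (G ⧸ X)) hSS (hX.symm ▸ hS8)
  -- reduce to equal odd parts
  suffices key : ∀ A : Subgroup G, (A ⊓ X) ⊔ S' = A →
      Nat.card (A ⊓ X : Subgroup G) = Nat.card (B ⊓ X : Subgroup G) →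
      ∃ g : G, B = A.map (MulAut.conj g).toMonoidHom by
    have e : A.map (MulAut.conj g).toMonoidHom ⊓ X = (A ⊓ X).map (MulAut.conj g).toMonoidHom := by
      rw [map_inf A X _ (MulAut.conj g).injective, map_conj_normal X g]
    obtain ⟨k, hk⟩ := key (A.map (MulAut.conj g).toMonoidHom)
      (by rw [e, hg, ← Subgroup.map_sup, hAe]) (by rw [e, card_map_conj_eq, hT])
    exact ⟨k * g, by rw [hk, map_conj_comp]⟩
  clear! A S
  intro A hAe hT
  by_cases heq : A ⊓ X = B ⊓ X
  · exact ⟨1, by rw [← hBe, ← heq, hAe]; ext; simp⟩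
  have huA := fun x (_ : x ∈ A ⊓ X) y (_ : y ∈ A ⊓ X) => huniq x y
  have huB := fun x (_ : x ∈ B ⊓ X) y (_ : y ∈ B ⊓ X) => huniq x y
  have hTA : Nat.card (A ⊓ X : Subgroup G) ∣ 2 ^ 3 := by
    rw [show (2 : ℕ) ^ 3 = 8 from rfl, ← hX]; exact card_dvd_of_le inf_le_right
  obtain ⟨d, hd, hd'⟩ := (Nat.dvd_prime_pow Nat.prime_two).1 hTA
  haveI : Fact (Nat.Prime 2) := ⟨Nat.prime_two⟩
  interval_cases d
  · exact absurd ((Subgroup.card_eq_one.1 (show Nat.card (A ⊓ X : Subgroup G) = 1 from hd'.trans (pow_zero 2))).trans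
      (Subgroup.card_eq_one.1 (show Nat.card (B ⊓ X : Subgroup G) = 1 from hT ▸ hd'.trans (pow_zero 2))).symm) heq
  · obtain ⟨x, hx⟩ := exists_prime_orderOf_dvd_card' 2 (dvd_of_eq (by simpa using hd'.symm) : 2 ∣ Nat.card (A ⊓ X : Subgroup G))
    obtain ⟨y, hy⟩ := exists_prime_orderOf_dvd_card' 2 (dvd_of_eq (by rw [← hT]; simpa using hd'.symm) : 2 ∣ Nat.card (B ⊓ X : Subgroup G))
    rw [← Subgroup.orderOf_coe] at hx hy
    have e1 : zpowers (x : G) = A ⊓ X := eq_of_le_of_card_ge (zpowers_le.2 x.2) (by rw [Nat.card_zpowers, hx, hd']; norm_num)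
    have e2 : zpowers (y : G) = B ⊓ X := eq_of_le_of_card_ge (zpowers_le.2 y.2) (by rw [Nat.card_zpowers, hy, ← hT, hd']; norm_num)
    exact absurd (by rw [← e1, ← e2, huniq x y hx hy]) heq
  · obtain ⟨c, hcA, hc4, hcT⟩ := exists_orderOf_four (by simpa using hd') huA
    obtain ⟨c', hcB, hc4', hcT'⟩ := exists_orderOf_four (by rw [← hT]; simpa using hd') huB
    have hcomm : ∀ C : Subgroup G, S' ≤ C → ∀ c ∈ C ⊓ X, orderOf c = 4 → C ⊓ X = zpowers c →
        ∀ s ∈ S', Commute s c := fun C hC c hc hc4 e s hs => by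
      refine commute_of_normalize_four ?_ hc4 ?_
      · exact Nat.coprime_two_right.1 ((Nat.Coprime.coprime_dvd_left (Subgroup.orderOf_dvd_natCard _ hs)
          hS8').coprime_dvd_right (by norm_num))
      · rw [← e]
        exact ⟨C.mul_mem (C.mul_mem (hC hs) hc.1) (C.inv_mem (hC hs)),
          Normal.conj_mem inferInstance c hc.2 s⟩
    have hXgen : zpowers c ⊔ zpowers c' = X := by
      have hle : zpowers c ⊔ zpowers c' ≤ X := sup_le (zpowers_le.2 hcA.2) (zpowers_le.2 hcB.2)
      refine eq_of_le_of_card_ge hle ?_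
      have h1 : Nat.card (zpowers c ⊔ zpowers c' : Subgroup G) ∣ 2 ^ 3 := by
        rw [show (2 : ℕ) ^ 3 = 8 from rfl, ← hX]; exact card_dvd_of_le hle
      have h2 : Nat.card (zpowers c) < Nat.card (zpowers c ⊔ zpowers c' : Subgroup G) := by
        refine lt_of_le_of_ne (Nat.le_of_dvd Nat.card_pos (card_dvd_of_le le_sup_left)) fun e => ?_
        have e1 : zpowers c = zpowers c ⊔ zpowers c' := eq_of_le_of_card_ge le_sup_left e.ge
        refine heq (by
          rw [hcT, hcT']
          refine (eq_of_le_of_card_ge (e1 ▸ le_sup_right) ?_).symm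
          rw [Nat.card_zpowers, Nat.card_zpowers, hc4, hc4'])
      rw [Nat.card_zpowers, hc4] at h2
      obtain ⟨j, hj, hj'⟩ := (Nat.dvd_prime_pow Nat.prime_two).1 h1
      rw [hj'] at h2 ⊢
      rw [hX]
      interval_cases j <;> omega
    set C := centralizer (X : Set G) with hC
    have hS'C : S' ≤ C := fun s hs => by
      refine mem_centralizer_iff.2 fun x hx => ?_
      have : X ≤ centralizer ({s} : Set G) := hXgen ▸ sup_le
        (zpowers_le.2 (mem_centralizer_singleton_iff.2 (hcomm A (le_sup_right.trans hAe.le) c hcA hc4 hcT s hs).eq.symm))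
        (zpowers_le.2 (mem_centralizer_singleton_iff.2 (hcomm B hSB c' hcB hc4' hcT' s hs).eq.symm))
      exact mem_centralizer_singleton_iff.1 (this hx)
    obtain ⟨l, hl⟩ := htrans c c' hc4 hc4'
    have hTl : (A ⊓ X).map (MulAut.conj l).toMonoidHom = B ⊓ X := by
      refine eq_of_le_of_card_ge ?_ (by rw [card_map_conj_eq, hT])
      rw [hcT, hcT', MonoidHom.map_zpowers]
      exact zpowers_le.2 hl
    set S₁ := S'.map (MulAut.conj l).toMonoidHom
    have hS₁C : S₁ ≤ C := (map_mono hS'C).trans (map_conj_normal C l).le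
    haveI : (X.subgroupOf C).Normal := Subgroup.normal_subgroupOf
    haveI : IsZGroup (C ⧸ X.subgroupOf C) := by
      let φ : C ⧸ X.subgroupOf C →* G ⧸ X := QuotientGroup.map _ _ C.subtype fun x hx => hx
      refine IsZGroup.of_injective (f := φ) ?_
      rw [injective_iff_map_eq_one]
      intro x hx
      obtain ⟨y, rfl⟩ := QuotientGroup.mk_surjective x
      exact (QuotientGroup.eq_one_iff y).2 ((QuotientGroup.eq_one_iff (y : G)).1 hx)
    have hXC : Nat.card (X.subgroupOf C) ∣ 8 := by
      rw [← hX, ← card_map_of_injective C.subtype_injective, subgroupOf_map_subtype]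
      exact card_dvd_of_le inf_le_left
    obtain ⟨k, hk⟩ := exists_conj_of_coprime (X.subgroupOf C) (allConj_of_isZGroup _)
      (A := S₁.subgroupOf C) (B := S'.subgroupOf C)
      (by rw [card_subgroupOf hS₁C, card_subgroupOf hS'C, card_map_conj_eq])
      (by rw [card_subgroupOf hS₁C, card_map_conj_eq]; exact hS8'.coprime_dvd_right hXC)
    have hk' : S' = S₁.map (MulAut.conj (k : G)).toMonoidHom := by
      have h2 := congrArg (Subgroup.map C.subtype) hk
      rwa [map_conj_map, subgroupOf_map_subtype, subgroupOf_map_subtype, inf_eq_left.mpr hS'C,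
        inf_eq_left.mpr hS₁C] at h2
    have hfix : (B ⊓ X).map (MulAut.conj (k : G)).toMonoidHom = B ⊓ X := by
      refine eq_of_le_of_card_ge ?_ (card_map_conj_eq _ _).ge
      rintro _ ⟨b, hb, rfl⟩
      show (k : G) * b * (k : G)⁻¹ ∈ B ⊓ X
      rwa [← mem_centralizer_iff.1 k.2 b hb.2, mul_inv_cancel_right]
    refine ⟨(k : G) * l, ?_⟩
    conv_rhs => rw [← hAe]
    rw [Subgroup.map_sup, ← map_conj_comp, ← map_conj_comp, hTl, hfix, ← hk', hBe]
  · exact absurd ((eq_of_le_of_card_ge inf_le_right (by rw [hX, hd']; norm_num)).trans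
      (eq_of_le_of_card_ge inf_le_right (by rw [hX, ← hT, hd']; norm_num)).symm) heq

end CfsgLib.Coprime
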