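import Cfsg.Agent.Lib.PGroup.SmallOmegaMetacyclic
import Cfsg.Agent.Lib.Solvable.BurnsideBasis

/-!
A `p`-group, `p` odd, whose `p`-th powers generate a subgroup of index at most `p ^ 2` is metacyclic
(Blackburn). The proof follows `Lib/PGroup/SmallOmegaMetacyclic`.
-/

set_option autoImplicit false
set_option linter.style.haveILetI false

universe u

namespace CfsgLib.AgemoMetacyclic

open Subgroup CfsgLib.PGroup
open scoped commutatorElement

variable {p : ℕ} [Fact p.Prime]

/-- The bound on the index of the `p`-th powers passes to quotients. -/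
theorem index_agemo_quotient {R : Type u} [Group R] [Finite R] (T : Subgroup R) [T.Normal]
    (hO : (Cfsg.powerClosure p 1 (⊤ : Subgroup R)).index ≤ p ^ 2) :
    (Cfsg.powerClosure p 1 (⊤ : Subgroup (R ⧸ T))).index ≤ p ^ 2 := by
  refine le_trans ?_ hO
  have hle : (Cfsg.powerClosure p 1 (⊤ : Subgroup R)).map (QuotientGroup.mk' T) ≤
      Cfsg.powerClosure p 1 (⊤ : Subgroup (R ⧸ T)) := by
    rw [Cfsg.powerClosure, MonoidHom.map_closure, closure_le]
    rintro _ ⟨_, ⟨x, -, rfl⟩, rfl⟩
    rw [map_pow]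
    exact pow_mem_powerClosure 1 (mem_top _)
  refine le_trans (Nat.le_of_dvd (Nat.pos_of_ne_zero index_ne_zero_of_finite)
    (index_dvd_of_le hle)) ?_
  exact Nat.le_of_dvd (Nat.pos_of_ne_zero index_ne_zero_of_finite)
    (index_map_dvd _ (QuotientGroup.mk'_surjective T))

/-- The quotient by the `p`-th powers has order at most `p ^ 2` and contains the derived group. -/
theorem agemo_index_facts {R : Type u} [Group R] [Finite R] (hp3 : p ≠ 2) (hR : IsPGroup p R)
    (hO : (Cfsg.powerClosure p 1 (⊤ : Subgroup R)).index ≤ p ^ 2) :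
    (Cfsg.powerClosure p 1 (⊤ : Subgroup R)).Normal ∧
      (Cfsg.powerClosure p 1 (⊤ : Subgroup R)).index ≤ p ^ 2 ∧
      _root_.commutator R ≤ Cfsg.powerClosure p 1 (⊤ : Subgroup R) ∧
      Cfsg.powerClosure p 1 (⊤ : Subgroup R) ≤ frattini R := by
  have hp := (Fact.out : p.Prime)
  set U := Cfsg.powerClosure p 1 (⊤ : Subgroup R) with hU
  haveI hUn : U.Normal :=
    ⟨fun c hc g => conj_mem_powerClosure (fun h _ => mem_top _) hc⟩
  have hidx : U.index ≤ p ^ 2 := hO
  refine ⟨hUn, hidx, ?_, ?_⟩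
  · haveI : IsMulCommutative (R ⧸ U) := by
      obtain ⟨j, hj⟩ := (hR.to_quotient U).exists_card_eq
      have hj2 : j ≤ 2 := by
        rw [index_eq_card, hj] at hidx
        exact (Nat.pow_le_pow_iff_right hp.one_lt).1 hidx
      interval_cases j
      · haveI : Subsingleton (R ⧸ U) := (Nat.card_eq_one_iff_unique.1 (by simpa using hj)).1
        exact ⟨⟨fun a b => Subsingleton.elim _ _⟩⟩
      · haveI : IsCyclic (R ⧸ U) := isCyclic_of_prime_card (p := p) (by simpa using hj)
        letI := IsCyclic.commGroup (α := R ⧸ U)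
        exact ⟨⟨mul_comm⟩⟩
      · exact IsPGroup.isMulCommutative_of_card_eq_prime_sq hj
    exact Normal.quotient_commutative_iff_commutator_le.1 inferInstance
  · rw [hU, Cfsg.powerClosure, closure_le]
    rintro _ ⟨x, -, rfl⟩
    simpa using CfsgLib.StructC.pow_mem_frattini hR x

/-- Two generators, one of them prescribed outside the `p`-th powers. -/
theorem exists_gen_agemo {R : Type u} [Group R] [Finite R] (hp3 : p ≠ 2) (hR : IsPGroup p R)
    (hO : (Cfsg.powerClosure p 1 (⊤ : Subgroup R)).index ≤ p ^ 2) {v : R}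
    (hv : v ∉ Cfsg.powerClosure p 1 (⊤ : Subgroup R)) :
    ∃ b : R, closure ({v, b} : Set R) = ⊤ := by
  have hp := (Fact.out : p.Prime)
  obtain ⟨hUn, hidx, -, hUF⟩ := agemo_index_facts hp3 hR hO
  set U := Cfsg.powerClosure p 1 (⊤ : Subgroup R)
  haveI := hUn
  set S := zpowers v ⊔ U with hS
  have hlt : U < S := lt_of_le_of_ne le_sup_right fun h => hv (h ▸ mem_sup_left (mem_zpowers v))
  by_cases hall : S = ⊤
  · refine ⟨1, frattini_nongenerating (top_le_iff.1 (hall ▸ sup_le ?_ (hUF.trans le_sup_right)))⟩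
    exact le_sup_of_le_left (zpowers_le.2 (subset_closure (Set.mem_insert v {1})))
  obtain ⟨b, hb⟩ : ∃ b, b ∉ S := by
    by_contra! h
    exact hall (eq_top_iff.2 fun x _ => h x)
  refine ⟨b, frattini_nongenerating (top_le_iff.1 ?_)⟩
  set S' := S ⊔ zpowers b
  have hle : S' ≤ closure ({v, b} : Set R) ⊔ frattini R :=
    sup_le (sup_le (le_sup_of_le_left (zpowers_le.2 (subset_closure (Set.mem_insert v {b}))))
      (hUF.trans le_sup_right))
      (le_sup_of_le_left (zpowers_le.2 (subset_closure (Set.mem_insert_of_mem v rfl))))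
  refine le_trans ?_ hle
  rw [top_le_iff, ← index_eq_one]
  have h1 : U.relIndex S * S.relIndex S' * S'.index = U.index := by
    rw [relIndex_mul_relIndex U S S' hlt.le le_sup_left,
      relIndex_mul_index (hlt.le.trans le_sup_left)]
  have key : ∀ {A B : Subgroup R}, U ≤ A → A ≤ B → (∃ z ∈ B, z ∉ A) → p ≤ A.relIndex B := by
    intro A B _ hAB ⟨z, hzB, hzA⟩
    have hd : A.relIndex B ∣ A.index := relIndex_dvd_index_of_le hAB
    obtain ⟨j, hj⟩ := hR.index A
    rw [hj] at hd
    obtain ⟨i, -, hi⟩ := (Nat.dvd_prime_pow hp).1 hd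
    rw [hi]
    refine Nat.le_self_pow (fun h0 => hzA ?_) p
    rw [h0, pow_zero] at hi
    exact relIndex_eq_one.1 hi hzB
  have h2 := key le_rfl hlt.le ⟨v, mem_sup_left (mem_zpowers v), hv⟩
  have h3 := key (A := S) hlt.le le_sup_left ⟨b, mem_sup_right (mem_zpowers b), hb⟩
  have h4 : p * p * S'.index ≤ p ^ 2 := by
    rw [← h1] at hidx
    exact (Nat.mul_le_mul_right _ (Nat.mul_le_mul h2 h3)).trans hidx
  have h5 := S'.index_ne_zero_of_finite
  by_contra hne
  have h6 : 2 ≤ S'.index := by omega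
  have := Nat.mul_le_mul_left (p * p) h6
  nlinarith [hp.two_le]

theorem isMetacyclic_agemo : ∀ (n : ℕ) {R : Type u} [Group R] [Finite R], Nat.card R = n →
    p ≠ 2 → IsPGroup p R → (Cfsg.powerClosure p 1 (⊤ : Subgroup R)).index ≤ p ^ 2 →
    Cfsg.IsMetacyclic R := by
  intro n
  induction n using Nat.strong_induction_on with
  | _ n ih => ?_
  intro R _ _ hn hp3 hR hO
  have hp := (Fact.out : p.Prime)
  obtain ⟨hUn, hidx, hUD, hUF⟩ := agemo_index_facts hp3 hR hO
  set U := Cfsg.powerClosure p 1 (⊤ : Subgroup R)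
  by_cases hcyc : IsCyclic R
  · obtain ⟨g, hg⟩ := IsCyclic.exists_generator (α := R)
    refine isMetacyclic_of_gen 1 g ?_ (eq_top_iff.2 fun x _ => ?_)
    · rw [zpowers_one_eq_bot]; infer_instance
    · have hgm : g ∈ closure ({1, g} : Set R) :=
        Subgroup.subset_closure (Set.mem_insert_of_mem 1 (Set.mem_singleton g))
      exact (zpowers_le.2 hgm) (hg x)
  by_cases hab : _root_.commutator R = ⊥
  · haveI : IsMulCommutative R := (commutator_eq_bot_iff R).1 hab
    have hUtop : U ≠ ⊤ := fun h => by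
      haveI : Nontrivial R := by
        by_contra hnt
        rw [not_nontrivial_iff_subsingleton] at hnt
        exact hcyc isCyclic_of_subsingleton
      exact bot_ne_top (frattini_nongenerating
        (top_le_iff.1 (h.ge.trans (hUF.trans le_sup_right))) : (⊥ : Subgroup R) = ⊤)
    obtain ⟨v, hv⟩ : ∃ v, v ∉ U := by
      by_contra! h
      exact hUtop (eq_top_iff.2 fun x _ => h x)
    obtain ⟨b, hb⟩ := exists_gen_agemo hp3 hR hO hv
    exact isMetacyclic_of_gen v b (normal_of_isMulCommutative _) hb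
  -- `T` of order `p` inside the derived group
  obtain ⟨j, hj⟩ := (hR.to_subgroup (_root_.commutator R)).exists_card_eq
  have hj0 : j ≠ 0 := by
    rintro rfl
    exact hab (Subgroup.card_eq_one.1 hj)
  obtain ⟨T, hTn, hTD, hT⟩ := CfsgLib.Transfer.exists_normal_le_card hR (_root_.commutator R)
    (k := 1) (hj ▸ pow_dvd_pow p (Nat.one_le_iff_ne_zero.2 hj0))
  rw [pow_one] at hT
  haveI := hTn
  have hlt : Nat.card (R ⧸ T) < n := by
    rw [← hn, ← index_eq_card, ← T.card_mul_index, hT]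
    exact lt_mul_left (Nat.pos_of_ne_zero index_ne_zero_of_finite) hp.one_lt
  obtain ⟨N', hN'n, hN'c, hQc⟩ := ih _ hlt rfl hp3 (hR.to_quotient T)
    (index_agemo_quotient T hO)
  set N := N'.comap (QuotientGroup.mk' T) with hN
  haveI : N.Normal := hN'n.comap _
  have hQN : IsCyclic (R ⧸ N) := by
    let f : R →* (R ⧸ T) ⧸ N' := (QuotientGroup.mk' N').comp (QuotientGroup.mk' T)
    have hf : Function.Surjective f :=
      (QuotientGroup.mk'_surjective N').comp (QuotientGroup.mk'_surjective T)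
    have hker : N = f.ker := by
      show _ = ((QuotientGroup.mk' N').comp (QuotientGroup.mk' T)).ker
      rw [← MonoidHom.comap_ker, QuotientGroup.ker_mk']
    exact ((QuotientGroup.quotientMulEquivOfEq hker).trans
      (QuotientGroup.quotientKerEquivOfSurjective f hf)).isCyclic.2 hQc
  by_cases hNcyc : IsCyclic N
  · exact ⟨N, inferInstance, hNcyc, hQN⟩
  -- generators
  obtain ⟨x₀, hx₀⟩ := IsCyclic.exists_generator (α := N')
  obtain ⟨x, hxeq⟩ := QuotientGroup.mk'_surjective T (x₀ : R ⧸ T)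
  have hxN : x ∈ N := by show QuotientGroup.mk' T x ∈ N'; rw [hxeq]; exact x₀.2
  have hTc : ∀ t ∈ T, ∀ g : R, g * t = t * g := by
    obtain ⟨M₀, -, -, hM₀c, hM₀, -⟩ := CfsgLib.Transfer.exists_chief_below hR T
      (fun h => by rw [h, card_bot] at hT; exact hp.ne_one hT.symm)
    have hbot : M₀ = ⊥ := Subgroup.card_eq_one.1 (by
      rw [hT] at hM₀c
      exact Nat.eq_of_mul_eq_mul_left hp.pos (by rw [← hM₀c, mul_one]))
    intro t ht g
    have := hM₀ t ht g
    rw [hbot, mem_bot, mul_inv_eq_one, mul_inv_eq_iff_eq_mul] at this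
    exact this
  have hNmem : ∀ g ∈ N, ∃ i : ℤ, (x ^ i)⁻¹ * g ∈ T := by
    intro g hg
    obtain ⟨i, hi⟩ := mem_zpowers_iff.1 (hx₀ ⟨QuotientGroup.mk' T g, hg⟩)
    refine ⟨i, QuotientGroup.eq.1 ?_⟩
    have hi' := congrArg Subtype.val hi
    rw [SubgroupClass.coe_zpow, ← hxeq, ← map_zpow] at hi'
    exact hi'
  have hTx : Disjoint T (zpowers x) := by
    rw [disjoint_iff]
    by_contra hne
    apply hNcyc
    have hle : T ≤ zpowers x := by
      obtain ⟨t, ht, ht1⟩ := exists_mem_ne_one hne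
      have heq : zpowers t = T := eq_of_le_of_card_ge (zpowers_le.2 ht.1) (by
        have ho : orderOf t ∣ p := by
          rw [← hT]
          simpa [Subgroup.orderOf_mk] using orderOf_dvd_natCard (⟨t, ht.1⟩ : T)
        rcases (Nat.dvd_prime hp).1 ho with h | h
        · exact absurd (orderOf_eq_one_iff.1 h) ht1
        · rw [hT, Nat.card_zpowers, h])
      rw [← heq]
      exact zpowers_le.2 ht.2
    have hNx : N = zpowers x := le_antisymm (fun g hg => by
      obtain ⟨i, hi⟩ := hNmem g hg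
      rw [← mul_inv_cancel_left (x ^ i) g]
      exact mul_mem (zpow_mem (mem_zpowers x) i) (hle hi)) (zpowers_le.2 hxN)
    rw [hNx]; infer_instance
  obtain ⟨y₀, hy₀⟩ := IsCyclic.exists_generator (α := R ⧸ N)
  obtain ⟨y, rfl⟩ := QuotientGroup.mk'_surjective N y₀
  have hgen : closure ({x, y} : Set R) = ⊤ := by
    refine frattini_nongenerating (top_le_iff.1 fun g _ => ?_)
    obtain ⟨k, hk⟩ := mem_zpowers_iff.1 (hy₀ (QuotientGroup.mk' N g))
    rw [← map_zpow] at hk
    obtain ⟨i, hi⟩ := hNmem _ (QuotientGroup.eq.1 hk)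
    rw [show g = y ^ k * x ^ i * ((x ^ i)⁻¹ * ((y ^ k)⁻¹ * g)) by group]
    have hym : y ∈ closure ({x, y} : Set R) :=
      Subgroup.subset_closure (Set.mem_insert_of_mem x (Set.mem_singleton y))
    have hxm : x ∈ closure ({x, y} : Set R) := Subgroup.subset_closure (Set.mem_insert x {y})
    exact mul_mem (mem_sup_left (mul_mem (zpow_mem hym k) (zpow_mem hxm i)))
      (mem_sup_right (hUF (hUD (hTD hi))))
  -- `n ↦ ⁅y, n⁆` on the abelian group `N`
  have hNcomm : ∀ a ∈ N, ∀ b ∈ N, a * b = b * a := by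
    intro a ha b hb
    obtain ⟨i, hi⟩ := hNmem a ha
    obtain ⟨j, hj⟩ := hNmem b hb
    have c1 : Commute (x ^ i) b := by
      rw [← mul_inv_cancel_left (x ^ j) b]
      exact ((Commute.refl x).zpow_zpow i j).mul_right (hTc _ hj _)
    have c2 : Commute ((x ^ i)⁻¹ * a) b := (hTc _ hi b).symm
    have h3 := c1.mul_left c2
    rwa [mul_inv_cancel_left] at h3
  set c := ⁅y, x⁆ with hc
  have hyN : ∀ a ∈ N, ⁅y, a⁆ ∈ N := fun a ha =>
    mul_mem ((inferInstance : N.Normal).conj_mem a ha y) (inv_mem ha)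
  have hθ : ∀ a ∈ N, ⁅y, a⁆ ∈ zpowers c := by
    intro a ha
    have hmul : ∀ u ∈ N, ∀ w ∈ N, ⁅y, u * w⁆ = ⁅y, u⁆ * ⁅y, w⁆ := by
      intro u hu w hw
      rw [show ⁅y, u * w⁆ = ⁅y, u⁆ * (u * ⁅y, w⁆ * u⁻¹) by simp only [commutatorElement_def]; group,
        hNcomm u hu _ (hyN w hw), mul_inv_cancel_right]
    obtain ⟨i, hi⟩ := hNmem a ha
    have h1 : ⁅y, (x ^ i)⁻¹ * a⁆ = 1 :=
      commutatorElement_eq_one_iff_mul_comm.2 (hTc _ hi y)
    have hpow : ⁅y, x ^ i⁆ = c ^ i := by
      let θ : N →* N := MonoidHom.mk' (fun u => ⟨⁅y, (u : R)⁆, hyN u u.2⟩)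
        (fun u w => Subtype.ext (hmul u u.2 w w.2))
      exact congrArg Subtype.val (map_zpow θ ⟨x, hxN⟩ i)
    rw [← mul_inv_cancel_left (x ^ i) a, hmul _ (zpow_mem hxN i) _ (mul_mem (inv_mem (zpow_mem hxN i)) ha),
      h1, mul_one, hpow]
    exact zpow_mem (mem_zpowers c) i
  have hDc : _root_.commutator R ≤ zpowers c := by
    have h := derived_closure_pair_le (a := y) (b := x) (M := zpowers c) ?_ (mem_zpowers c)
    · rw [Set.pair_comm, hgen] at h
      exact h
    intro g hg m hm
    have hnorm : closure ({y, x} : Set R) ≤ Subgroup.normalizer (zpowers c : Set R) := by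
      rw [closure_le]
      have hcN : c ∈ N := hyN x hxN
      rintro z (rfl | rfl)
      · refine mem_normalizer_iff.2 fun m => ?_
        have hle : ∀ m ∈ zpowers c, z * m * z⁻¹ ∈ zpowers c := by
          intro m hm
          obtain ⟨i, rfl⟩ := mem_zpowers_iff.1 hm
          have he : z * c ^ i * z⁻¹ = (z * c * z⁻¹) ^ i := (conj_zpow).symm
          rw [he, show z * c * z⁻¹ = ⁅z, c⁆ * c by rw [commutatorElement_def]; group]
          exact zpow_mem (mul_mem (hθ c hcN) (mem_zpowers c)) i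
        have heq : (zpowers c).map (MulAut.conj z).toMonoidHom = zpowers c := by
          refine eq_of_le_of_card_ge ?_ (card_map_of_injective (MulAut.conj z).injective).ge
          rintro _ ⟨u, hu, rfl⟩
          exact hle u hu
        constructor
        · exact hle m
        · intro h
          obtain ⟨u, hu, hue⟩ := heq.ge h
          have : u = m := (MulAut.conj z).injective hue
          exact this ▸ hu
      · refine mem_normalizer_iff.2 fun m => ⟨fun hm => ?_, fun hm => ?_⟩
        · rw [hNcomm z hxN m (zpowers_le.2 hcN hm), mul_inv_cancel_right]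
          exact hm
        · have hmN : m ∈ N := by
            have := (inferInstance : N.Normal).conj_mem _ (zpowers_le.2 hcN hm) z⁻¹
            simpa [mul_assoc] using this
          rwa [hNcomm z hxN m hmN, mul_inv_cancel_right] at hm
    exact (mem_normalizer_iff.1 (hnorm hg) m).1 hm
  -- hence the derived group is `T`
  have hcp : c ^ p = 1 := by
    by_contra hne
    obtain ⟨i, hi⟩ := hNmem c (hyN x hxN)
    set t := (x ^ i)⁻¹ * c with ht
    have htp : t ^ p = 1 := by
      have h := congrArg Subtype.val (pow_card_eq_one' (x := (⟨t, hi⟩ : T)))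
      rwa [hT] at h
    have hcx : c ^ p = x ^ (i * p) := by
      rw [← mul_inv_cancel_left (x ^ i) c, ← ht,
        (show Commute (x ^ i) t from hTc t hi _).mul_pow, htp, mul_one, zpow_mul, zpow_natCast]
    obtain ⟨s, hsD, hs1⟩ : ∃ s ∈ T, s ≠ 1 := exists_mem_ne_one
      (fun h => by rw [h, card_bot] at hT; exact hp.ne_one hT.symm)
    obtain ⟨k, hk⟩ := mem_zpowers_iff.1 (hDc (hTD hsD))
    have hsp : s ^ p = 1 := by
      have h := congrArg Subtype.val (pow_card_eq_one' (x := (⟨s, hsD⟩ : T)))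
      rwa [hT] at h
    -- `s` is a power of `c ^ p`
    obtain ⟨e, he⟩ := hR.exists_card_eq (G := R) |>.elim fun m hm =>
      (⟨_, ((Nat.dvd_prime_pow hp).1 (hm ▸ orderOf_dvd_natCard c)).choose_spec.2⟩ :
        ∃ e, orderOf c = p ^ e)
    have hpk : (p : ℤ) ∣ k := by
      rw [← hk, ← zpow_natCast, ← zpow_mul, ← orderOf_dvd_iff_zpow_eq_one, he] at hsp
      rcases e with _ | _ | e
      · rw [pow_zero, orderOf_eq_one_iff] at he
        exact absurd (by rw [he, one_pow]) hne
      · exact absurd (by rw [← pow_one p, ← he, pow_orderOf_eq_one]) hne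
      · have hd : ((p : ℤ) * p) ∣ k * p := dvd_trans ⟨(p : ℤ) ^ e, by push_cast; ring⟩ hsp
        exact Int.dvd_of_mul_dvd_mul_right (by exact_mod_cast hp.ne_zero) hd
    obtain ⟨r, rfl⟩ := hpk
    apply hs1
    have hsx : s ∈ zpowers x := by
      rw [← hk, zpow_mul, zpow_natCast, hcx, ← zpow_mul]
      exact zpow_mem (mem_zpowers x) _
    exact Subgroup.disjoint_def.1 hTx hsD hsx
  have hDT : _root_.commutator R = T := by
    refine (eq_of_le_of_card_ge hTD ?_).symm
    refine (card_le_of_le hDc).trans ?_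
    rw [hT, Nat.card_zpowers]
    exact Nat.le_of_dvd hp.pos (orderOf_dvd_of_pow_eq_one hcp)
  -- class two: `T` consists of `p`-th powers
  have hcl : ∀ a b : R, ⁅a, b⁆ ∈ T := fun a b =>
    hDT ▸ commutator_mem_commutator (mem_top a) (mem_top b)
  have hcen : ∀ a b : R, ⁅a, b⁆ ∈ center R := fun a b =>
    mem_center_iff.2 fun g => hTc _ (hcl a b) g
  have hTp : ∀ t ∈ T, t ^ p = 1 := fun t ht => by
    have h := congrArg Subtype.val (pow_card_eq_one' (x := (⟨t, ht⟩ : T)))
    rwa [hT] at h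
  let π : R →* R := MonoidHom.mk' (fun z => z ^ p) fun a b =>
    CfsgLib.Transfer.mul_pow_prime_class_two hcen hp (by omega) a b (hTp _ (hcl b a))
  have hUpow : ∀ z ∈ U, ∃ w, w ^ p = z := by
    intro z hz
    have hle : U ≤ π.range := by
      show Cfsg.powerClosure p 1 ⊤ ≤ _
      rw [Cfsg.powerClosure, closure_le]
      rintro _ ⟨w, -, rfl⟩
      exact ⟨w, by simp [π]⟩
    exact hle hz
  obtain ⟨t, htT, ht1⟩ : ∃ t ∈ T, t ≠ 1 := exists_mem_ne_one
      (fun h => by rw [h, card_bot] at hT; exact hp.ne_one hT.symm)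
  classical
  let P : ℕ → Prop := fun k => ∃ v : R, v ^ p ^ k = t
  obtain ⟨m, hm⟩ := hR.exists_card_eq (G := R)
  set k := Nat.findGreatest P m
  obtain ⟨v, hv⟩ : P k := Nat.findGreatest_spec (P := P) (Nat.zero_le m) ⟨t, by simp⟩
  have hvU : v ∉ U := by
    intro hvU
    obtain ⟨w, hw⟩ := hUpow v hvU
    have hw' : w ^ p ^ (k + 1) = t := by rw [pow_succ', pow_mul, hw, hv]
    have hk1 : k + 1 ≤ m := by
      by_contra hlt
      apply ht1
      rw [← hw']
      refine orderOf_dvd_iff_pow_eq_one.1 (dvd_trans ?_ (pow_dvd_pow p (by omega : m ≤ k + 1)))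
      exact hm ▸ orderOf_dvd_natCard w
    exact absurd (Nat.le_findGreatest hk1 (P := P) ⟨w, hw'⟩) (by omega)
  obtain ⟨b, hb⟩ := exists_gen_agemo hp3 hR hO hvU
  refine isMetacyclic_of_gen v b ⟨fun z hz g => ?_⟩ hb
  have hTv : T ≤ zpowers v := by
    have heq : zpowers t = T := eq_of_le_of_card_ge (zpowers_le.2 htT) (by
      rw [hT, Nat.card_zpowers]
      exact Nat.le_of_eq (orderOf_eq_prime (hTp t htT) ht1).symm)
    rw [← heq, zpowers_le, ← hv]
    exact pow_mem (mem_zpowers v) _
  rw [show g * z * g⁻¹ = ⁅g, z⁆ * z by rw [commutatorElement_def]; group]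
  exact mul_mem (hTv (hcl g z)) hz

end CfsgLib.AgemoMetacyclic
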