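import Cfsg.Agent.Lib.Coprime.BlackburnPowers
import Cfsg.Agent.Lib.Coprime.MetacyclicAgemo
import Cfsg.Agent.Lib.Transfer.MaxClass
import Cfsg.Agent.Lib.Transfer.PGroupNormal
import Cfsg.Prelude.Def_CaseTheorems

/-!
`p`-groups of rank at most two, `p` odd: the centraliser of a normal elementary subgroup of
order `p ^ 2`, the groups of maximal class that occur for `p = 3`, and the case in which all
elements of order `p` centralise that subgroup.
-/

set_option autoImplicit false

universe u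

namespace CfsgLib.BlackburnRankTwo

open Subgroup

variable {G : Type u} [Group G] [Finite G] {p : ℕ} [Fact p.Prime]

/-- `E` is normal elementary abelian of order `p ^ 2` and contains all elements of order `p` of
its centraliser. -/
structure IsBase (p : ℕ) (E : Subgroup G) : Prop where
  normal : E.Normal
  comm : ∀ a ∈ E, ∀ b ∈ E, a * b = b * a
  exp : ∀ a ∈ E, a ^ p = 1
  card : Nat.card E = p ^ 2
  omega : ∀ c ∈ centralizer (E : Set G), c ^ p = 1 → c ∈ E

theorem exists_base (hp2 : p ≠ 2) (hG : IsPGroup p G) (hnc : ¬ IsCyclic G)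
    (hrk : Cfsg.PRankLE p 2 G) : ∃ E : Subgroup G, IsBase p E := by
  have hp := (Fact.out : p.Prime)
  obtain ⟨E, hEn, hEc, hEe, hE⟩ := CfsgLib.Transfer.exists_normal_elementary_sq hp2 hG hnc
  have hcomm : ∀ a ∈ E, ∀ b ∈ E, a * b = b * a := fun a ha b hb =>
    congrArg Subtype.val (hEc.is_comm.comm (⟨a, ha⟩ : E) ⟨b, hb⟩)
  refine ⟨E, hEn, hcomm, hEe, hE, fun c hc hcp => ?_⟩
  by_contra hcE
  set A := closure (insert c (E : Set G))
  have hset : ∀ a ∈ insert c (E : Set G), ∀ b ∈ insert c (E : Set G), a * b = b * a := by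
    intro a ha b hb
    rcases ha with rfl | ha <;> rcases hb with rfl | hb
    · rfl
    · exact (mem_centralizer_iff.1 hc b hb).symm
    · exact mem_centralizer_iff.1 hc a ha
    · exact hcomm a ha b hb
  haveI hA : IsMulCommutative A := Subgroup.isMulCommutative_closure hset
  have hAe : ∀ a ∈ A, a ^ p = 1 := by
    intro a ha
    induction ha using closure_induction with
    | mem a ha =>
      rcases ha with rfl | ha
      · exact hcp
      · exact hEe a ha
    | one => exact one_pow p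
    | mul a b ha hb iha ihb =>
      have : Commute a b :=
        (congrArg Subtype.val (hA.is_comm.comm (⟨a, ha⟩ : A) ⟨b, hb⟩) :)
      rw [this.mul_pow, iha, ihb, mul_one]
    | inv a _ iha => rw [inv_pow, iha, inv_one]
  have hEA : E ≤ A := fun e he => subset_closure (Set.mem_insert_of_mem c he)
  have hlt : Nat.card E < Nat.card A := by
    refine lt_of_le_of_ne (card_le_of_le hEA) fun h => hcE ?_
    rw [eq_of_le_of_card_ge hEA h.ge]
    exact subset_closure (Set.mem_insert c _)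
  exact absurd (hrk A hA hAe) (not_le.2 (hE ▸ hlt))

variable {E : Subgroup G} (h : IsBase p E)
include h

omit [Finite G] [Fact p.Prime] in
theorem IsBase.le_C : E ≤ centralizer (E : Set G) :=
  fun a ha => mem_centralizer_iff.2 fun b hb => h.comm b hb a ha

omit [Finite G] [Fact p.Prime] in
theorem IsBase.cent {c e : G} (hc : c ∈ centralizer (E : Set G)) (he : e ∈ E) : c * e = e * c :=
  (mem_centralizer_iff.1 hc e he).symm

omit [Finite G] [Fact p.Prime] in
theorem IsBase.normal_C : (centralizer (E : Set G)).Normal :=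
  haveI := h.normal
  inferInstance

omit [Finite G] [Fact p.Prime] in
theorem IsBase.conj_C {c : G} (hc : c ∈ centralizer (E : Set G)) (g : G) :
    g * c * g⁻¹ ∈ centralizer (E : Set G) :=
  h.normal_C.conj_mem c hc g

theorem IsBase.index_C (hG : IsPGroup p G) (hne : centralizer (E : Set G) ≠ ⊤) :
    (centralizer (E : Set G)).index = p := by
  haveI := h.normal
  have h1 := CfsgLib.Transfer.index_centralizer_le_of_normal hG 2 E h.card
  norm_num at h1
  obtain ⟨d, hd⟩ := hG.index (centralizer (E : Set G))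
  rw [hd] at h1 ⊢
  have hd1 : d ≤ 1 := (Nat.pow_le_pow_iff_right (Fact.out : p.Prime).one_lt).1 (by simpa using h1)
  interval_cases d
  · exact absurd (index_eq_one.1 (by simpa using hd)) hne
  · simp

/-- The centraliser is a maximal subgroup. -/
theorem IsBase.eq_top_of_gt (hG : IsPGroup p G) {x : G} (hx : x ∉ centralizer (E : Set G))
    {H : Subgroup G} (hle : centralizer (E : Set G) ≤ H) (hxH : x ∈ H) : H = ⊤ := by
  have hp := (Fact.out : p.Prime)
  have hi := h.index_C hG (fun e => hx (e ▸ mem_top x))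
  have h1 := relIndex_mul_index hle
  rw [hi] at h1
  rcases hp.eq_one_or_self_of_dvd _ (h1 ▸ Dvd.intro_left _ rfl : H.index ∣ p) with h2 | h2
  · exact index_eq_one.1 h2
  · rw [h2] at h1
    have h3 := Nat.eq_of_mul_eq_mul_right hp.pos (h1.trans (one_mul p).symm)
    exact absurd (relIndex_eq_one.1 h3 hxH) hx

omit [Finite G] [Fact p.Prime] in
theorem IsBase.exists_not_comm (hne : centralizer (E : Set G) ≠ ⊤) :
    ¬ E ≤ center G := fun hle => hne (top_le_iff.1 fun g _ =>
      mem_centralizer_iff.2 fun e he => (mem_center_iff.1 (hle he) g).symm)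

/-- The central elements of `E` form a group of order `p`, containing all commutators with `E`. -/
theorem IsBase.line (hG : IsPGroup p G) (hne : centralizer (E : Set G) ≠ ⊤) :
    Nat.card (E ⊓ center G : Subgroup G) = p ∧
      ∀ e ∈ E, ∀ g : G, g * e * g⁻¹ * e⁻¹ ∈ E ⊓ center G := by
  have hp := (Fact.out : p.Prime)
  haveI := h.normal
  have hEne : E ≠ ⊥ := fun e => by
    have := h.card
    rw [e, card_bot] at this
    exact absurd this.symm (by nlinarith [hp.two_le])
  obtain ⟨M, hMn, hME, hMc, hMcomm, -⟩ := CfsgLib.Transfer.exists_chief_below hG E hEne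
  haveI := hMn
  have hM : Nat.card M = p := by
    rw [h.card, pow_two] at hMc
    exact (Nat.eq_of_mul_eq_mul_left hp.pos hMc).symm
  have hMne : M ≠ ⊥ := fun e => by
    rw [e, card_bot] at hM
    exact hp.ne_one hM.symm
  obtain ⟨M₀, -, -, hM₀c, hM₀, -⟩ := CfsgLib.Transfer.exists_chief_below hG M hMne
  have hbot : M₀ = ⊥ := Subgroup.card_eq_one.1 (by
    rw [hM] at hM₀c
    exact Nat.eq_of_mul_eq_mul_left hp.pos (by rw [← hM₀c, mul_one]))
  have hMle : M ≤ E ⊓ center G := fun m hm => mem_inf.2 ⟨hME hm, mem_center_iff.2 fun g => by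
    have := hM₀ m hm g
    rwa [hbot, mem_bot, mul_inv_eq_one, mul_inv_eq_iff_eq_mul] at this⟩
  have hd : Nat.card (E ⊓ center G : Subgroup G) ∣ p ^ 2 :=
    h.card ▸ card_dvd_of_le inf_le_left
  obtain ⟨d, hd2, hd'⟩ := (Nat.dvd_prime_pow hp).1 hd
  have hne2 : Nat.card (E ⊓ center G : Subgroup G) ≠ p ^ 2 := fun e =>
    h.exists_not_comm hne (inf_eq_left.1 (eq_of_le_of_card_ge inf_le_left (by rw [h.card, e])))
  have h1 : p ≤ p ^ d := hd' ▸ hM ▸ card_le_of_le hMle
  have hd1 : d = 1 := by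
    interval_cases d
    · simp at h1; exact absurd h1 (not_le.2 hp.one_lt)
    · rfl
    · exact absurd hd' hne2
  rw [hd', hd1, pow_one]
  exact ⟨rfl, fun e he g => hMle (hMcomm e he g)⟩

/-- An element of `E` fixed by an element outside the centraliser is central. -/
theorem IsBase.mem_line (hG : IsPGroup p G) {x e : G} (hx : x ∉ centralizer (E : Set G))
    (he : e ∈ E) (hxe : x * e = e * x) : e ∈ E ⊓ center G := by
  refine mem_inf.2 ⟨he, mem_center_iff.2 fun g => ?_⟩
  have htop : centralizer ({e} : Set G) = ⊤ := h.eq_top_of_gt hG hx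
    (fun c hc => mem_centralizer_singleton_iff.2 (h.cent hc he))
    (mem_centralizer_singleton_iff.2 hxe)
  have hg : g ∈ centralizer ({e} : Set G) := htop ▸ mem_top g
  exact mem_centralizer_singleton_iff.1 hg

/-- A subgroup containing the central elements of `E` and one more contains `E`. -/
theorem IsBase.le_of_line (hG : IsPGroup p G) (hne : centralizer (E : Set G) ≠ ⊤)
    {H : Subgroup G} (hL : E ⊓ center G ≤ H) {y : G} (hy : y ∈ E) (hyL : y ∉ E ⊓ center G)
    (hyH : y ∈ H) : E ≤ H := by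
  have hp := (Fact.out : p.Prime)
  have hlt : E ⊓ center G < E ⊓ H := lt_of_le_of_ne (le_inf inf_le_left hL)
    fun e => hyL (e ▸ mem_inf.2 ⟨hy, hyH⟩)
  obtain ⟨d, hd2, hd⟩ := (Nat.dvd_prime_pow hp).1
    (h.card ▸ card_dvd_of_le inf_le_left : Nat.card (E ⊓ H : Subgroup G) ∣ p ^ 2)
  have h1 : p < p ^ d := by
    rw [← hd]
    refine lt_of_le_of_ne ?_ ?_
    · exact (h.line hG hne).1 ▸ card_le_of_le hlt.le
    · intro e
      exact hlt.ne (eq_of_le_of_card_ge hlt.le (by rw [(h.line hG hne).1, e]))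
  have hd' : d = 2 := by
    have : 1 < d := (Nat.pow_lt_pow_iff_right hp.one_lt).1 (by rwa [pow_one])
    omega
  have := eq_of_le_of_card_ge (inf_le_left : E ⊓ H ≤ E) (by rw [h.card, hd, hd'])
  exact inf_eq_left.1 this

/-- For `p = 3`: an element of order dividing `9` outside the centraliser all of whose fixed points
in the centraliser lie in `E` forces maximal class. -/
theorem IsBase.maxClass {n : ℕ} (hp3 : p = 3) (hn : Nat.card G = p ^ n) {x : G}
    (hx : x ∉ centralizer (E : Set G)) (hfix : ∀ y ∈ centralizer (E : Set G), x * y = y * x → y ∈ E) :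
    2 ≤ n ∧ (⊤ : Subgroup G).lowerCentralSeries (n - 2) ≠ ⊥ := by
  have hp := (Fact.out : p.Prime)
  have hG : IsPGroup p G := IsPGroup.of_card hn
  have hne : centralizer (E : Set G) ≠ ⊤ := fun e => hx (e ▸ mem_top x)
  obtain ⟨hL, -⟩ := h.line hG hne
  set S := centralizer ({x} : Set G) with hS
  have hsub : centralizer (E : Set G) ⊓ S ≤ E ⊓ center G := fun y hy => by
    obtain ⟨hy1, hy2⟩ := mem_inf.1 hy
    have hc := (mem_centralizer_singleton_iff.1 hy2).symm
    exact h.mem_line hG hx (hfix y hy1 hc) hc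
  have hLS : E ⊓ center G ≤ S := fun e he =>
    mem_centralizer_singleton_iff.2 (mem_center_iff.1 (mem_inf.1 he).2 x).symm
  have hxS : x ∈ S := mem_centralizer_singleton_iff.2 rfl
  have hcard : Nat.card S ≤ p * p := by
    have h2 := ((centralizer (E : Set G)).subgroupOf S).card_mul_index
    rw [← h2]
    refine Nat.mul_le_mul ?_ ?_
    · rw [← inf_subgroupOf_right, Nat.card_congr (subgroupOfEquivOfLe inf_le_right).toEquiv, ← hL]
      exact card_le_of_le hsub
    · show (centralizer (E : Set G)).relIndex S ≤ p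
      rw [← h.index_C hG hne]
      haveI := h.normal_C
      exact Nat.le_of_dvd (Nat.pos_of_ne_zero index_ne_zero_of_finite)
        (relIndex_dvd_index_of_normal _ _)
  have hLlt : E ⊓ center G < S := lt_of_le_of_ne hLS fun e =>
    hx (h.le_C (mem_inf.1 (e ▸ hxS : x ∈ E ⊓ center G)).1)
  obtain ⟨d, hd⟩ := (hG.to_subgroup S).exists_card_eq
  have hd2 : 2 ≤ d := by
    have h3 : p < p ^ d := by
      rw [← hd, ← hL]
      refine lt_of_le_of_ne (card_le_of_le hLlt.le) fun e => ?_
      exact hLlt.ne (eq_of_le_of_card_ge hLlt.le e.ge)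
    exact (Nat.pow_lt_pow_iff_right hp.one_lt).1 (by rwa [pow_one])
  have hS2 : Nat.card S = p ^ 2 := le_antisymm (by rwa [pow_two])
    (hd ▸ Nat.pow_le_pow_right hp.pos hd2)
  haveI := IsPGroup.isMulCommutative_of_card_eq_prime_sq (p := p) hS2
  have hSC : centralizer (S : Set G) = S := le_antisymm
    (fun g hg => mem_centralizer_singleton_iff.2 (mem_centralizer_iff.1 hg x hxS).symm)
    (fun g hg => mem_centralizer_iff.2 fun a ha =>
      (congrArg Subtype.val ((inferInstance : IsMulCommutative S).is_comm.comm ⟨a, ha⟩ ⟨g, hg⟩) :))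
  have hcl := CfsgLib.Transfer.maxClass_of_self_centralizing hn S hS2 hSC
  have hn2 : 2 ≤ n := (Nat.pow_le_pow_iff_right hp.one_lt).1
    (by rw [← hn, ← hS2]; exact S.card_le_card_group)
  refine ⟨hn2, fun hbot => ?_⟩
  haveI := hG.isNilpotent
  have := Subgroup.lowerCentralSeries_eq_bot_iff_nilpotencyClass_le.1 hbot
  omega

/-- If `E` is central the group is metacyclic. -/
theorem IsBase.metacyclic_of_central (hp2 : p ≠ 2) (hG : IsPGroup p G)
    (htop : centralizer (E : Set G) = ⊤) : Cfsg.IsMetacyclic G := by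
  refine CfsgLib.AgemoMetacyclic.isMetacyclic_agemo _ rfl hp2 hG (index_agemo_le E hp2 hG ?_ ?_ h.card)
  · exact fun e he r => h.cent (htop ▸ mem_top r) he
  · exact fun r => ⟨fun hr => h.omega r (htop ▸ mem_top r) hr, h.exp r⟩

/-- The case where all elements of order `p` centralise `E`. -/
theorem IsBase.of_omega_le {n : ℕ} (hp2 : p ≠ 2) (hn : Nat.card G = p ^ n)
    (hne : centralizer (E : Set G) ≠ ⊤)
    (hom : ∀ g : G, g ^ p = 1 → g ∈ centralizer (E : Set G)) :
    Cfsg.IsMetacyclic G ∨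
      (p = 3 ∧ 2 ≤ n ∧ (⊤ : Subgroup G).lowerCentralSeries (n - 2) ≠ ⊥) := by
  have hp := (Fact.out : p.Prime)
  have hG : IsPGroup p G := IsPGroup.of_card hn
  set C := centralizer (E : Set G) with hC
  have hOm : closure {x : G | x ^ p = 1} ≤ E :=
    (closure_le _).2 fun x hx => h.omega x (hom x hx) hx
  by_cases hp3 : p = 3
  swap
  · left
    have h3 : 3 < p := by have := hp.two_le; omega
    exact CfsgLib.PGroup.isMetacyclic_small_omega _ rfl h3 hG (h.card ▸ card_le_of_le hOm)
  obtain ⟨hL, hcomm⟩ := h.line hG hne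
  by_cases hex : ∃ x, x ∉ C ∧ x ^ p ∈ E ⊓ center G
  · right
    obtain ⟨x, hxC, hxp⟩ := hex
    refine ⟨hp3, h.maxClass hp3 hn hxC fun y hyC hxy => ?_⟩
    by_contra hyE
    -- replace `y` by a power of order dividing `p ^ 2`
    obtain ⟨k, hk1, hk2⟩ : ∃ k : ℕ, y ^ p ^ k ∉ E ∧ y ^ p ^ (k + 1) ∈ E := by
      classical
      obtain ⟨j, hj⟩ := IsPGroup.iff_orderOf.1 hG y
      have hex : ∃ k, y ^ p ^ k ∈ E := ⟨j, by rw [← hj, pow_orderOf_eq_one]; exact one_mem E⟩
      have h0 : Nat.find hex ≠ 0 := fun e => hyE (by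
        have := Nat.find_spec hex
        rwa [e, pow_zero, pow_one] at this)
      refine ⟨Nat.find hex - 1, Nat.find_min hex (by omega), ?_⟩
      rw [Nat.sub_add_cancel (Nat.one_le_iff_ne_zero.2 h0)]
      exact Nat.find_spec hex
    set w := y ^ p ^ k with hw
    have hwp : w ^ p ∈ E := by rw [hw, ← pow_mul, ← pow_succ]; exact hk2
    have hxw : Commute x w := (show Commute x y from hxy).pow_right _
    have hwL : w ^ p ∈ E ⊓ center G := h.mem_line hG hxC hwp (hxw.pow_right p).eq
    have hxp1 : x ^ p ≠ 1 := fun e => hxC (hom x e)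
    have hzp : zpowers (x ^ p) = E ⊓ center G := eq_of_le_of_card_ge (zpowers_le.2 hxp) (by
      rw [hL, Nat.card_zpowers]
      exact (orderOf_eq_prime (h.exp _ (mem_inf.1 hxp).1) hxp1).ge)
    rw [← hzp] at hwL
    obtain ⟨i, hi⟩ := mem_zpowers_iff.1 hwL
    have hC2 : w * (x ^ i)⁻¹ ∈ C := hom _ (by
      rw [(hxw.symm.zpow_right i).inv_right.mul_pow, inv_pow, ← hi, ← zpow_natCast (x ^ i),
        ← zpow_mul, ← zpow_natCast x, ← zpow_mul, mul_comm, mul_inv_cancel])
    have hwC : w ∈ C := pow_mem hyC _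
    have hxi : x ^ i ∈ C := by
      have h1 : (x ^ i)⁻¹ ∈ C := by simpa using mul_mem (inv_mem hwC) hC2
      simpa using inv_mem h1
    by_cases hdvd : (p : ℤ) ∣ i
    · obtain ⟨j, rfl⟩ := hdvd
      refine hk1 (h.omega w hwC ?_)
      rw [← hi, zpow_mul, zpow_natCast, h.exp _ (mem_inf.1 hxp).1, one_zpow]
    · obtain ⟨a, b, hab⟩ : IsCoprime (p : ℤ) i :=
        (Nat.prime_iff_prime_int.1 hp).coprime_iff_not_dvd.2 hdvd
      refine hxC ?_
      have hxpC : x ^ p ∈ C := h.le_C (mem_inf.1 hxp).1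
      have hre : x = (x ^ p) ^ a * (x ^ i) ^ b := by
        rw [← zpow_natCast x p, ← zpow_mul, ← zpow_mul, ← zpow_add, mul_comm (p : ℤ) a,
          mul_comm i b, hab, zpow_one]
      rw [hre]
      exact mul_mem (zpow_mem hxpC a) (zpow_mem hxi b)
  -- otherwise the cubes generate a subgroup of index at most `9`
  left
  have hne' : ∀ x, x ∉ C → x ^ p ∉ E ⊓ center G := fun x hx hxp => hex ⟨x, hx, hxp⟩
  refine CfsgLib.AgemoMetacyclic.isMetacyclic_agemo _ rfl hp2 hG ?_
  obtain ⟨x, hx⟩ : ∃ x, x ∉ C := by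
    by_contra! hall
    exact hne (eq_top_iff.2 fun g _ => hall g)
  have hiC : C.index = p := h.index_C hG hne
  let E0 : Subgroup C := E.subgroupOf C
  have hCp : IsPGroup p C := hG.to_subgroup C
  have hc0 : ∀ e ∈ E0, ∀ r : C, r * e = e * r := fun e he r =>
    Subtype.ext (h.cent r.2 (mem_subgroupOf.1 he))
  have hΩ0 : ∀ r : C, r ^ p = 1 ↔ r ∈ E0 := fun r => by
    refine ⟨fun hr => mem_subgroupOf.2 (h.omega r r.2 (congrArg Subtype.val hr :)), fun hr =>
      Subtype.ext ?_⟩
    simpa using h.exp r (mem_subgroupOf.1 hr)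
  have hE0 : Nat.card E0 = p ^ 2 :=
    (Nat.card_congr (subgroupOfEquivOfLe h.le_C).toEquiv).trans h.card
  set W := (Cfsg.powerClosure p 1 (⊤ : Subgroup C)).map C.subtype with hW
  set U := Cfsg.powerClosure p 1 (⊤ : Subgroup G) with hU
  have hWU : W ≤ U := by
    rw [hW, Cfsg.powerClosure, MonoidHom.map_closure, closure_le]
    rintro _ ⟨_, ⟨r, -, rfl⟩, rfl⟩
    rw [map_pow]
    exact CfsgLib.PGroup.pow_mem_powerClosure 1 (mem_top _)
  have hxU : x ^ p ∈ U := by
    simpa using CfsgLib.PGroup.pow_mem_powerClosure (p := p) 1 (mem_top x)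
  have hxW : x ^ p ∉ W := by
    rintro ⟨z, hz, hzx⟩
    obtain ⟨w, rfl⟩ := exists_pow_eq_of_mem_agemo E0 hp2 hCp hc0 hΩ0 hE0 hz
    have hwx : (w : G) ^ p = x ^ p := by simpa using hzx
    have hwC : (w : G) ∈ C := w.2
    have hφ : (x * w * x⁻¹) ^ p = (w : G) ^ p := by
      rw [conj_pow, hwx, ← pow_succ', pow_succ, mul_inv_cancel_right]
    have he1 := CfsgLib.PGroup.pow_eq_pow_of_central_omega hp2 (X := C) (hG.to_subgroup C)
      (fun z hz hzp y hy => h.cent hy (h.omega z hz hzp)) (h.conj_C hwC x) hwC hφ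
    have he : x * w * x⁻¹ * (w : G)⁻¹ ∈ E := h.omega _
      (mul_mem (h.conj_C hwC x) (inv_mem hwC)) he1
    set e := x * w * x⁻¹ * (w : G)⁻¹ with hedef
    set l := x * e * x⁻¹ * e⁻¹ with hldef
    have hl := hcomm e he x
    rw [← hldef] at hl
    have hlc : ∀ g : G, g * l = l * g := mem_center_iff.1 (mem_inf.1 hl).2
    have hew : Commute (w : G) e := h.cent hwC he
    have h1 : x * w = e * w * x := by rw [hedef]; group
    have h2 : x * e = l * e * x := by rw [hldef]; group
    have hv : ((w : G)⁻¹ * x) ^ p ∈ E ⊓ center G := by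
      have hwinv : x * (w : G)⁻¹ = (w : G)⁻¹ * e⁻¹ * x := by
        calc x * (w : G)⁻¹ = (e * (w : G))⁻¹ * (e * w * x) * (w : G)⁻¹ := by group
          _ = (e * (w : G))⁻¹ * (x * w) * (w : G)⁻¹ := by rw [h1]
          _ = _ := by group
      have heinv : x * e⁻¹ = e⁻¹ * l⁻¹ * x := by
        calc x * e⁻¹ = (l * e)⁻¹ * (l * e * x) * e⁻¹ := by group
          _ = (l * e)⁻¹ * (x * e) * e⁻¹ := by rw [h2]
          _ = _ := by group
      have hwi : Commute (w : G)⁻¹ e⁻¹ := hew.inv_inv
      have hei : Commute e⁻¹ l⁻¹ := (show Commute e⁻¹ l from hlc e⁻¹).inv_right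
      have key : ((w : G)⁻¹ * x) ^ 3 =
          ((w : G) ^ 3)⁻¹ * ((e ^ 3)⁻¹ * l⁻¹) * x ^ 3 := by
        calc ((w : G)⁻¹ * x) ^ 3
            = (w : G)⁻¹ * (x * (w : G)⁻¹) * (x * (w : G)⁻¹) * x := by
              simp [pow_succ, mul_assoc]
          _ = (w : G)⁻¹ * ((w : G)⁻¹ * e⁻¹ * x) * ((w : G)⁻¹ * e⁻¹ * x) * x := by rw [hwinv]
          _ = (w : G)⁻¹ * (w : G)⁻¹ * e⁻¹ * (x * (w : G)⁻¹) * (e⁻¹ * x * x) := by group
          _ = (w : G)⁻¹ * (w : G)⁻¹ * e⁻¹ * ((w : G)⁻¹ * e⁻¹ * x) * (e⁻¹ * x * x) := by rw [hwinv]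
          _ = (w : G)⁻¹ * (w : G)⁻¹ * (e⁻¹ * (w : G)⁻¹) * e⁻¹ * (x * e⁻¹) * (x * x) := by group
          _ = (w : G)⁻¹ * (w : G)⁻¹ * ((w : G)⁻¹ * e⁻¹) * e⁻¹ * (e⁻¹ * l⁻¹ * x) * (x * x) := by
              rw [← hwi.eq, heinv]
          _ = _ := by simp only [pow_succ, pow_zero, one_mul, mul_inv_rev, mul_assoc]
      subst hp3
      rw [key, h.exp e he, inv_one, one_mul, ← hwx, mul_assoc,
        (show Commute l⁻¹ ((w : G) ^ 3) from (Commute.inv_left (hlc _).symm)).eq, inv_mul_cancel_left]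
      exact inv_mem hl
    refine hne' _ (fun hC' => hx ?_) hv
    simpa using mul_mem hwC hC'
  have hcardW : Nat.card (Cfsg.powerClosure p 1 (⊤ : Subgroup C)) = Nat.card W :=
    (card_map_of_injective C.subtype_injective).symm
  have hlt : W < U := lt_of_le_of_ne hWU fun e => hxW (e ▸ hxU)
  obtain ⟨a, ha⟩ := (hG.to_subgroup W).exists_card_eq
  obtain ⟨b, hb⟩ := (hG.to_subgroup U).exists_card_eq
  have hab : p * Nat.card W ≤ Nat.card U := by
    have : Nat.card W < Nat.card U := lt_of_le_of_ne (card_le_of_le hWU) fun e =>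
      hlt.ne (eq_of_le_of_card_ge hWU e.ge)
    rw [ha, hb] at this ⊢
    rw [← pow_succ']
    exact Nat.pow_le_pow_right hp.pos ((Nat.pow_lt_pow_iff_right hp.one_lt).1 this)
  have h1 := index_agemo_le E0 hp2 hCp hc0 hΩ0 hE0
  have h2 := (Cfsg.powerClosure p 1 (⊤ : Subgroup C)).card_mul_index
  rw [hcardW] at h2
  have h3 := U.card_mul_index
  have h4 := C.card_mul_index
  rw [hiC] at h4
  have h5 : Nat.card G ≤ Nat.card U * p ^ 2 := by
    rw [← h4, ← h2]
    calc Nat.card W * (Cfsg.powerClosure p 1 (⊤ : Subgroup C)).index * p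
        ≤ Nat.card W * p ^ 2 * p := Nat.mul_le_mul_right _ (Nat.mul_le_mul_left _ h1)
      _ = p * Nat.card W * p ^ 2 := by ring
      _ ≤ Nat.card U * p ^ 2 := Nat.mul_le_mul_right _ hab
  rw [← h3] at h5
  exact Nat.le_of_mul_le_mul_left h5 Nat.card_pos

end CfsgLib.BlackburnRankTwo
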