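import Cfsg.Agent.Lib.Coprime.BlackburnSplit
import Mathlib.Algebra.Field.ZMod

/-!
`p`-groups of rank at most two, `p` odd, with an element of order `p` outside the centraliser of
the normal elementary subgroup of order `p ^ 2` and cyclic `C / E`: the two families of Blackburn.
-/

set_option autoImplicit false

universe u

namespace CfsgLib.BlackburnRankTwo

open Subgroup

variable {G : Type u} [Group G] [Finite G] {p : ℕ} [Fact p.Prime]

/-- The data of the split case when `C / E` is nontrivial. -/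
structure IsSplit (p : ℕ) (E : Subgroup G) (z : G) (m : ℕ) : Prop where
  mem : z ∈ centralizer (E : Set G)
  gen : ∀ c ∈ centralizer (E : Set G), ∃ i : ℤ, (z ^ i)⁻¹ * c ∈ E
  pos : 1 ≤ m
  index : E.relIndex (centralizer (E : Set G)) = p ^ m

variable {E : Subgroup G} (h : IsBase p E)
include h

theorem IsBase.zpow_mem_iff {z : G} {m : ℕ} (hs : IsSplit p E z m) (k : ℤ) :
    z ^ k ∈ E ↔ ((p ^ m : ℕ) : ℤ) ∣ k := by
  haveI := h.normal
  set C := centralizer (E : Set G)
  set q : C ⧸ E.subgroupOf C := ((⟨z, hs.mem⟩ : C) : C ⧸ E.subgroupOf C) with hq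
  have hgen : ∀ a : C ⧸ E.subgroupOf C, a ∈ zpowers q := by
    intro a
    induction a using QuotientGroup.induction_on with
    | _ c =>
      obtain ⟨i, hi⟩ := hs.gen c c.2
      refine mem_zpowers_iff.2 ⟨i, ?_⟩
      rw [hq, ← QuotientGroup.mk_zpow, QuotientGroup.eq]
      simpa [mem_subgroupOf] using hi
  have hord : orderOf q = p ^ m := by
    rw [orderOf_eq_card_of_forall_mem_zpowers hgen, ← index_eq_card]
    exact hs.index
  rw [← hord, orderOf_dvd_iff_zpow_eq_one, hq, ← QuotientGroup.mk_zpow,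
    QuotientGroup.eq_one_iff, mem_subgroupOf]
  simp

omit [Finite G] [Fact p.Prime] in
theorem IsBase.comm_C {z : G} {m : ℕ} (hs : IsSplit p E z m) {a b : G}
    (ha : a ∈ centralizer (E : Set G)) (hb : b ∈ centralizer (E : Set G)) : Commute a b := by
  obtain ⟨i, hi⟩ := hs.gen a ha
  obtain ⟨j, hj⟩ := hs.gen b hb
  have h1 : Commute (z ^ i) b := by
    rw [← mul_inv_cancel_left (z ^ j) b]
    exact ((Commute.refl z).zpow_zpow i j).mul_right (h.cent (zpow_mem hs.mem i) hj)
  rw [← mul_inv_cancel_left (z ^ i) a]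
  exact h1.mul_left (h.cent hb hi).symm

/-- `z ^ p ^ m` generates the central elements of `E`. -/
theorem IsBase.line_eq (hG : IsPGroup p G) (hne : centralizer (E : Set G) ≠ ⊤) {z : G} {m : ℕ}
    (hs : IsSplit p E z m) :
    z ^ p ^ m ≠ 1 ∧ zpowers (z ^ p ^ m) = E ⊓ center G := by
  have hp := (Fact.out : p.Prime)
  obtain ⟨hL, hcomm⟩ := h.line hG hne
  have hz0E : z ^ p ^ m ∈ E := by
    rw [← zpow_natCast]
    exact (h.zpow_mem_iff hs _).2 dvd_rfl
  have hz01 : z ^ p ^ m ≠ 1 := by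
    intro e
    have hm := hs.pos
    have h1 : (z ^ p ^ (m - 1)) ^ p = 1 := by
      rw [← pow_mul, ← pow_succ, Nat.sub_add_cancel hm, e]
    have h2 := h.omega _ (pow_mem hs.mem _) h1
    rw [← zpow_natCast, h.zpow_mem_iff hs, Int.natCast_dvd_natCast,
      Nat.pow_dvd_pow_iff_le_right hp.one_lt] at h2
    omega
  have hcard : Nat.card (zpowers (z ^ p ^ m)) = p := by
    rw [Nat.card_zpowers]
    exact orderOf_eq_prime (h.exp _ hz0E) hz01
  have hmem : z ^ p ^ m ∈ E ⊓ center G := by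
    refine mem_inf.2 ⟨hz0E, mem_center_iff.2 fun g => ?_⟩
    obtain ⟨i, hi⟩ := hs.gen _ (h.conj_C hs.mem g)
    have h1 : g * z ^ p ^ m * g⁻¹ = (z ^ p ^ m) ^ i := by
      rw [← conj_pow, ← mul_inv_cancel_left (z ^ i) (g * z * g⁻¹),
        (show Commute (z ^ i) _ from h.cent (zpow_mem hs.mem i) hi).mul_pow]
      have h2 : ((z ^ i)⁻¹ * (g * z * g⁻¹)) ^ p ^ m = 1 := by
        obtain ⟨k, hk⟩ : ∃ k, p ^ m = p * k := ⟨p ^ (m - 1), by
          rw [← pow_succ', Nat.sub_add_cancel hs.pos]⟩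
        rw [hk, pow_mul, h.exp _ hi, one_pow]
      rw [h2, mul_one, ← zpow_natCast (z ^ i), ← zpow_mul, mul_comm, zpow_mul, zpow_natCast]
    set w := g * z ^ p ^ m * g⁻¹ * (z ^ p ^ m)⁻¹ with hw
    have hwL : w ∈ E ⊓ center G := hcomm _ hz0E g
    have hwz : w ∈ zpowers (z ^ p ^ m) := by
      rw [hw, h1]
      exact mul_mem (zpow_mem (mem_zpowers _) i) (inv_mem (mem_zpowers _))
    by_contra hne'
    have hw1 : w ≠ 1 := fun e => hne' (mul_inv_eq_iff_eq_mul.1 (mul_inv_eq_one.1 e))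
    have he : zpowers w = zpowers (z ^ p ^ m) := eq_of_le_of_card_ge (zpowers_le.2 hwz) (by
      rw [hcard, Nat.card_zpowers]
      exact (orderOf_eq_prime (h.exp _ (mem_inf.1 hwL).1) hw1).ge)
    have h5 : z ^ p ^ m ∈ zpowers w := he ▸ mem_zpowers _
    exact hne' (mem_center_iff.1 (mem_inf.1 (zpowers_le.2 hwL h5)).2 g)
  exact ⟨hz01, eq_of_le_of_card_ge (zpowers_le.2 hmem) (by rw [hcard, hL])⟩

/-- `p`-th powers of `C` inside `E` are central. -/
theorem IsBase.pow_mem_line (hG : IsPGroup p G) (hne : centralizer (E : Set G) ≠ ⊤) {z : G}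
    {m : ℕ} (hs : IsSplit p E z m) {c : G} (hc : c ∈ centralizer (E : Set G)) (hcp : c ^ p ∈ E) :
    c ^ p ∈ E ⊓ center G := by
  obtain ⟨i, hi⟩ := hs.gen c hc
  have h1 : c ^ p = z ^ (i * p) := by
    rw [← mul_inv_cancel_left (z ^ i) c, (show Commute (z ^ i) _ from
      h.cent (zpow_mem hs.mem i) hi).mul_pow, h.exp _ hi, mul_one, zpow_mul, zpow_natCast]
  rw [h1] at hcp ⊢
  obtain ⟨k, hk⟩ := (h.zpow_mem_iff hs _).1 hcp
  rw [hk, zpow_mul, zpow_natCast, ← (h.line_eq hG hne hs).2]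
  exact zpow_mem (mem_zpowers _) k

/-- An element of order `p` outside `C` centralises `C / E`. -/
theorem IsBase.comm_mem_E (hp2 : p ≠ 2) (hG : IsPGroup p G) {z : G} {m : ℕ}
    (hs : IsSplit p E z m) {x : G} (hx : x ∉ centralizer (E : Set G)) (hxp : x ^ p = 1) :
    ∀ c ∈ centralizer (E : Set G), x * c * x⁻¹ * c⁻¹ ∈ E := by
  have hp := (Fact.out : p.Prime)
  set C := centralizer (E : Set G) with hC
  have hne : C ≠ ⊤ := fun e => hx (e ▸ mem_top x)
  haveI := h.normal
  obtain ⟨hL, hcomm⟩ := h.line hG hne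
  have hdC : ∀ c ∈ C, x * c * x⁻¹ * c⁻¹ ∈ C := fun c hc => mul_mem (h.conj_C hc x) (inv_mem hc)
  have hfixL : ∀ l ∈ E ⊓ center G, x * l * x⁻¹ * l⁻¹ = 1 := fun l hl => by
    rw [mul_inv_eq_one, mul_inv_eq_iff_eq_mul]
    exact mem_center_iff.1 (mem_inf.1 hl).2 x
  have hδpow : ∀ c ∈ C, ∀ k : ℕ, x * c ^ k * x⁻¹ * (c ^ k)⁻¹ = (x * c * x⁻¹ * c⁻¹) ^ k := by
    intro c hc k
    rw [(show Commute (x * c * x⁻¹) c⁻¹ from
      (h.comm_C hs (h.conj_C hc x) hc).inv_right).mul_pow, conj_pow, inv_pow]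
  suffices key : ∀ k : ℕ, ∀ c ∈ C, c ^ p ^ k ∈ E → (x * c * x⁻¹ * c⁻¹) ^ p = 1 by
    intro c hc
    obtain ⟨j, hj⟩ := IsPGroup.iff_orderOf.1 hG c
    exact h.omega _ (hdC c hc) (key j c hc (by rw [← hj, pow_orderOf_eq_one]; exact one_mem E))
  intro k
  induction k with
  | zero =>
    intro c _ hc
    rw [pow_zero, pow_one] at hc
    exact h.exp _ (mem_inf.1 (hcomm c hc x)).1
  | succ k ih =>
    intro c hc hck
    set d := x * c * x⁻¹ * c⁻¹ with hd
    have hd' : d ∈ C := hdC c hc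
    have h1 : (d ^ p) ^ p = 1 := by
      rw [hd, ← hδpow c hc p]
      exact ih _ (pow_mem hc p) (by rwa [← pow_mul, ← pow_succ'])
    have hdp : d ^ p ∈ E ⊓ center G :=
      h.pow_mem_line hG hne hs hd' (h.omega _ (pow_mem hd' p) h1)
    set e := x * d * x⁻¹ * d⁻¹ with he
    have heC : e ∈ C := hdC d hd'
    have heE : e ∈ E := h.omega _ heC (by rw [he, ← hδpow d hd' p, hfixL _ hdp])
    set f := x * e * x⁻¹ * e⁻¹ with hf
    have hfL : f ∈ E ⊓ center G := hcomm e heE x
    have hfc : ∀ g : G, g * f = f * g := mem_center_iff.1 (mem_inf.1 hfL).2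
    have hformula := conj_pow_unipotent (x := x) (c := c) (d := d) (e := e) (f := f)
      (by rw [hd]; group) (by rw [he]; group) (by rw [hf]; group) (hfc x) (h.comm_C hs hc hd')
      (h.comm_C hs hc heC) (hfc c) (h.comm_C hs hd' heC) (hfc d) (hfc e) p
    have h2 : e ^ p.choose 2 = 1 := by
      obtain ⟨q, hq⟩ := dvd_choose_two (p := p) hp2
      rw [hq, pow_mul, h.exp e heE, one_pow]
    have h3 : f ^ p.choose 3 = 1 := by
      by_cases hp3 : p = 3
      swap
      · obtain ⟨q, hq⟩ := dvd_choose_three (p := p) hp2 hp3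
        rw [hq, pow_mul, h.exp f (mem_inf.1 hfL).1, one_pow]
      -- `p = 3`: the second commutator is central
      suffices heL : e ∈ E ⊓ center G by rw [hf, hfixL e heL, one_pow]
      by_cases hm : m = 1
      · -- `C / E` has order `p`, so `d` lies in `E`
        have hdE : d ∈ E := by
          set π := QuotientGroup.mk' E
          set V := C.map π
          haveI : V.Normal := h.normal_C.map _ (QuotientGroup.mk'_surjective E)
          have hV : Nat.card V = p := by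
            have h5 := relIndex_comap (⊥ : Subgroup (G ⧸ E)) π C
            rw [MonoidHom.comap_bot, QuotientGroup.ker_mk', relIndex_bot_left, hs.index, hm,
              pow_one] at h5
            exact h5.symm
          refine (QuotientGroup.eq_one_iff _).1 ?_
          show π (x * c * x⁻¹ * c⁻¹) = 1
          simp only [map_mul, map_inv]
          rw [mul_inv_eq_one, mul_inv_eq_iff_eq_mul]
          exact central_of_card_prime (hG.to_quotient E) V hV (mem_map_of_mem π hc) (π x)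
        exact hcomm d hdE x
      · have hm2 : 2 ≤ m := by have := hs.pos; omega
        obtain ⟨i, hi⟩ := hs.gen d hd'
        have hdi : d ^ p = z ^ (i * p) := by
          conv_lhs => rw [← mul_inv_cancel_left (z ^ i) d]
          rw [(show Commute (z ^ i) _ from h.cent (zpow_mem hs.mem i) hi).mul_pow, h.exp _ hi,
            mul_one, zpow_mul, zpow_natCast]
        have hdvd : ((p ^ m : ℕ) : ℤ) ∣ i * p :=
          (h.zpow_mem_iff hs _).1 (hdi ▸ (mem_inf.1 hdp).1)
        obtain ⟨j, rfl⟩ : ∃ j, i = j * p := by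
          rw [← Nat.sub_add_cancel hs.pos, pow_succ, Nat.cast_mul] at hdvd
          obtain ⟨t, ht⟩ := Int.dvd_of_mul_dvd_mul_right (by exact_mod_cast hp.ne_zero) hdvd
          refine ⟨(p ^ (m - 2) : ℕ) * t, ?_⟩
          rw [ht, show m - 1 = (m - 2) + 1 by omega, pow_succ, Nat.cast_mul]
          ring
        have hwC : z ^ j ∈ C := zpow_mem hs.mem j
        have hzi : (x * z ^ j * x⁻¹ * (z ^ j)⁻¹) ^ p = x * z ^ (j * p) * x⁻¹ * (z ^ (j * p))⁻¹ := by
          rw [zpow_mul, zpow_natCast, hδpow _ hwC]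
        have hmem : x * z ^ (j * p) * x⁻¹ * (z ^ (j * p))⁻¹ ∈ E ⊓ center G := by
          rw [← hzi]
          refine h.pow_mem_line hG hne hs (hdC _ hwC) (h.omega _ (pow_mem (hdC _ hwC) p) ?_)
          rw [← hδpow _ (hwC) p, ← hδpow _ (pow_mem hwC p) p, ← zpow_natCast (z ^ j), ← zpow_mul,
            ← zpow_natCast (z ^ (j * p)), ← zpow_mul]
          have hmem2 : z ^ (j * p * p) ∈ E ⊓ center G := hdi ▸ hdp
          exact hfixL _ hmem2
        have hsplit : e = (x * z ^ (j * p) * x⁻¹ * (z ^ (j * p))⁻¹) *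
            (x * ((z ^ (j * p))⁻¹ * d) * x⁻¹ * ((z ^ (j * p))⁻¹ * d)⁻¹) := by
          set a := z ^ (j * p)
          set b := a⁻¹ * d
          have hab : d = a * b := (mul_inv_cancel_left a d).symm
          have hc1 : Commute a⁻¹ (x * b * x⁻¹ * b⁻¹) :=
            h.cent (inv_mem (zpow_mem hs.mem _)) (mem_inf.1 (hcomm b hi x)).1
          calc e = x * a * x⁻¹ * (x * b * x⁻¹ * b⁻¹) * a⁻¹ := by rw [he, hab]; group
            _ = x * a * x⁻¹ * (a⁻¹ * (x * b * x⁻¹ * b⁻¹)) := by rw [mul_assoc, ← hc1.eq]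
            _ = _ := by group
        rw [hsplit]
        exact mul_mem hmem (hcomm _ hi x)
    rw [hxp, one_mul, h2, h3, mul_one, mul_one, mul_one] at hformula
    exact mul_left_cancel (hformula.symm.trans (mul_one c).symm)

/-- The case `n = 3`. -/
theorem IsBase.family_small (hG : IsPGroup p G) {x : G}
    (hx : x ∉ centralizer (E : Set G)) (hxp : x ^ p = 1)
    (hCE : centralizer (E : Set G) ≤ E) :
    ∃ a y z : G, closure ({a, y, z} : Set G) = ⊤ ∧ a ^ p = 1 ∧ y ^ p = 1 ∧ z ^ p = 1 ∧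
      a * z = z * a ∧ y * z = z * y ∧ a⁻¹ * y * a = y * z := by
  have hne : centralizer (E : Set G) ≠ ⊤ := fun e => hx (e ▸ mem_top x)
  obtain ⟨hL, hcomm⟩ := h.line hG hne
  obtain ⟨y, hy, hyL⟩ : ∃ y ∈ E, y ∉ center G := SetLike.not_le_iff_exists.1 (h.exists_not_comm hne)
  have hyL' : y ∉ E ⊓ center G := fun e => hyL (mem_inf.1 e).2
  set l := x * y * x⁻¹ * y⁻¹ with hl
  have hlL : l ∈ E ⊓ center G := hcomm y hy x
  have hlc := mem_center_iff.1 (mem_inf.1 hlL).2
  refine ⟨x⁻¹, y, l, ?_, by rw [inv_pow, hxp, inv_one], h.exp y hy, h.exp l (mem_inf.1 hlL).1,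
    hlc x⁻¹, hlc y, ?_⟩
  · set H := closure ({x⁻¹, y, l} : Set G)
    have hxH : x ∈ H := by
      have : x⁻¹ ∈ H := subset_closure (by simp)
      simpa using inv_mem this
    have hlH : zpowers l ≤ H := zpowers_le.2 (subset_closure (by simp))
    have hzl : zpowers l = E ⊓ center G := eq_of_le_of_card_ge (zpowers_le.2 hlL) (by
      rw [hL, Nat.card_zpowers]
      refine (orderOf_eq_prime (h.exp l (mem_inf.1 hlL).1) fun e => hyL' ?_).ge
      exact h.mem_line hG hx hy (mul_inv_eq_iff_eq_mul.1 (mul_inv_eq_one.1 (hl ▸ e))))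
    have hEH : E ≤ H := h.le_of_line hG hne (hzl ▸ hlH) hy hyL' (subset_closure (by simp))
    exact h.eq_top_of_gt hG hx (hCE.trans hEH) hxH
  · rw [inv_inv, hlc y, hl]; group

/-- Blackburn's two families. -/
theorem IsBase.family_large (hp2 : p ≠ 2) (hG : IsPGroup p G) {z : G} {m : ℕ}
    (hs : IsSplit p E z m) {x : G} (hx : x ∉ centralizer (E : Set G)) (hxp : x ^ p = 1) :
    (∃ a y w : G, closure ({a, y, w} : Set G) = ⊤ ∧ a ^ p = 1 ∧ y ^ p = 1 ∧
      w ^ p ^ (m + 1) = 1 ∧ a * w = w * a ∧ y * w = w * y ∧ a⁻¹ * y * a = y * w ^ p ^ m) ∨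
    (∃ (s : ℕ) (a y w : G), (s = 1 ∨ ¬ IsSquare (s : ZMod p)) ∧
      closure ({a, y, w} : Set G) = ⊤ ∧ a ^ p = 1 ∧ y ^ p = 1 ∧ w ^ p ^ (m + 1) = 1 ∧
      y * w = w * y ∧ a⁻¹ * y * a = y * w ^ (s * p ^ m) ∧ a⁻¹ * w * a = y * w) := by
  have hp := (Fact.out : p.Prime)
  set C := centralizer (E : Set G) with hC
  have hne : C ≠ ⊤ := fun e => hx (e ▸ mem_top x)
  obtain ⟨hL, hcomm⟩ := h.line hG hne
  obtain ⟨hz01, hzL⟩ := h.line_eq hG hne hs
  set z0 := z ^ p ^ m with hz0
  have hz0L : z0 ∈ E ⊓ center G := hzL ▸ mem_zpowers z0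
  have hz0c := mem_center_iff.1 (mem_inf.1 hz0L).2
  have hz0p : z0 ^ p = 1 := h.exp _ (mem_inf.1 hz0L).1
  have hzord : z ^ p ^ (m + 1) = 1 := by rw [pow_succ, pow_mul]; exact hz0p
  set d := x * z * x⁻¹ * z⁻¹ with hd
  have hdE : d ∈ E := h.comm_mem_E hp2 hG hs hx hxp z hs.mem
  -- subgroups containing `x`, a generator of `C` modulo `E` and `E`
  have hgenC : ∀ H : Subgroup G, z ∈ H → E ≤ H → C ≤ H := fun H hz hE c hc => by
    obtain ⟨i, hi⟩ := hs.gen c hc
    simpa using mul_mem (zpow_mem hz i) (hE hi)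
  by_cases hdL : d ∈ E ⊓ center G
  · left
    obtain ⟨f, hf, hfL⟩ : ∃ f ∈ E, f ∉ center G :=
      SetLike.not_le_iff_exists.1 (h.exists_not_comm hne)
    set l := x * f * x⁻¹ * f⁻¹ with hl
    have hlL : l ∈ E ⊓ center G := hcomm f hf x
    have hl1 : l ≠ 1 := fun e => hfL (mem_inf.1 (h.mem_line hG hx hf
      (mul_inv_eq_iff_eq_mul.1 (mul_inv_eq_one.1 (hl ▸ e))))).2
    have hlz : zpowers l = E ⊓ center G := eq_of_le_of_card_ge (zpowers_le.2 hlL) (by
      rw [hL, Nat.card_zpowers]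
      exact (orderOf_eq_prime (h.exp l (mem_inf.1 hlL).1) hl1).ge)
    obtain ⟨k, hk⟩ := mem_zpowers_iff.1 (hlz.symm ▸ hz0L : z0 ∈ zpowers l)
    set y := f ^ k with hy
    have hyE : y ∈ E := zpow_mem hf k
    have hxy : x * y * x⁻¹ = z0 * y := by
      rw [hy, ← conj_zpow, show x * f * x⁻¹ = l * f by rw [hl]; group,
        (show Commute l f from (mem_center_iff.1 (mem_inf.1 hlL).2 f).symm).mul_zpow, hk]
    have hyL : y ∉ E ⊓ center G := fun e => hz01 (by
      have h1 : x * y * x⁻¹ = y := mul_inv_eq_iff_eq_mul.2 (mem_center_iff.1 (mem_inf.1 e).2 x)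
      rw [h1] at hxy
      simpa using hxy)
    obtain ⟨i, hi⟩ := mem_zpowers_iff.1 (hzL.symm ▸ hdL : d ∈ zpowers z0)
    set w := z * (y ^ i)⁻¹ with hw
    have hxw : x * w * x⁻¹ = w := by
      have h1 : x * z * x⁻¹ = d * z := by rw [hd]; group
      have h2 : x * y ^ i * x⁻¹ = z0 ^ i * y ^ i := by
        rw [← conj_zpow, hxy, (show Commute z0 y from (hz0c y).symm).mul_zpow]
      calc x * w * x⁻¹ = (x * z * x⁻¹) * (x * y ^ i * x⁻¹)⁻¹ := by rw [hw]; group
        _ = d * z * ((y ^ i)⁻¹ * (z0 ^ i)⁻¹) := by rw [h1, h2, mul_inv_rev]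
        _ = (d * (z * (y ^ i)⁻¹)) * (z0 ^ i)⁻¹ := by group
        _ = _ := by
          rw [← hi, ← hw, ((show Commute w z0 from hz0c w).zpow_right i).symm.eq,
            mul_inv_cancel_right]
    have hzy : Commute z (y ^ i)⁻¹ := h.cent hs.mem (inv_mem (zpow_mem hyE i))
    have hwpow : w ^ p ^ m = z0 := by
      rw [hw, hzy.mul_pow]
      obtain ⟨k', hk'⟩ : ∃ k', p ^ m = p * k' := ⟨p ^ (m - 1), by
        rw [← pow_succ', Nat.sub_add_cancel hs.pos]⟩
      conv_lhs => arg 2; rw [hk', pow_mul, h.exp _ (inv_mem (zpow_mem hyE i)), one_pow]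
      rw [mul_one]
    have hwC : w ∈ C := mul_mem hs.mem (inv_mem (h.le_C (zpow_mem hyE i)))
    have hxw' : Commute x w := mul_inv_eq_iff_eq_mul.1 hxw
    refine ⟨x⁻¹, y, w, ?_, by rw [inv_pow, hxp, inv_one], h.exp y hyE,
      by rw [pow_succ, pow_mul, hwpow, hz0p], hxw'.inv_left.eq, (h.cent hwC hyE).symm, ?_⟩
    · set H := closure ({x⁻¹, y, w} : Set G)
      have hxH : x ∈ H := by
        have : x⁻¹ ∈ H := subset_closure (by simp)
        simpa using inv_mem this
      have hyH : y ∈ H := subset_closure (by simp)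
      have hwH : w ∈ H := subset_closure (by simp)
      have hEH : E ≤ H := h.le_of_line hG hne
        (hzL ▸ zpowers_le.2 (hwpow ▸ pow_mem hwH _)) hyE hyL hyH
      refine h.eq_top_of_gt hG hx (hgenC H ?_ hEH) hxH
      rw [show z = w * y ^ i by rw [hw]; group]
      exact mul_mem hwH (zpow_mem hyH i)
    · rw [inv_inv, hwpow, hxy, hz0c y]
  · right
    set e := x * d * x⁻¹ * d⁻¹ with he
    have heL : e ∈ E ⊓ center G := hcomm d hdE x
    have hec := mem_center_iff.1 (mem_inf.1 heL).2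
    obtain ⟨b, hb⟩ : ∃ b : ℕ, z0 ^ b = e := by
      obtain ⟨b, hb⟩ := mem_zpowers_iff.1 (hzL.symm ▸ heL : e ∈ zpowers z0)
      have hord := orderOf_eq_prime hz0p hz01
      refine ⟨(b % (p : ℤ)).toNat, ?_⟩
      rw [← zpow_natCast, Int.toNat_of_nonneg (Int.emod_nonneg _ (by exact_mod_cast hp.ne_zero)),
        ← hord, zpow_mod_orderOf, hb]
    have hb0 : (b : ZMod p) ≠ 0 := by
      rw [Ne, ZMod.natCast_eq_zero_iff]
      rintro ⟨q, rfl⟩
      rw [pow_mul, hz0p, one_pow] at hb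
      exact hdL (h.mem_line hG hx hdE (mul_inv_eq_iff_eq_mul.1 (mul_inv_eq_one.1 hb.symm)))
    -- the exponent and the normalising power of `x`
    obtain ⟨s, a, hs1, ha, ha2⟩ : ∃ s a : ℕ, (s = 1 ∨ ¬ IsSquare (s : ZMod p)) ∧
        (a : ZMod p) ≠ 0 ∧ ((b * a * a : ℕ) : ZMod p) = (s : ZMod p) := by
      by_cases hsq : IsSquare (b : ZMod p)
      · obtain ⟨r, hr⟩ := hsq
        have hr0 : r ≠ 0 := fun e => hb0 (by rw [hr, e, mul_zero])
        refine ⟨1, (r⁻¹).val, Or.inl rfl, ?_, ?_⟩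
        · rw [ZMod.natCast_zmod_val]; exact inv_ne_zero hr0
        · push_cast [ZMod.natCast_zmod_val]
          rw [hr]
          field_simp
      · exact ⟨b, 1, Or.inr hsq, by simp, by simp⟩
    set g := x ^ a with hg
    have hgC : g ∉ C := by
      intro hgC
      obtain ⟨a', ha'⟩ : ∃ a' : ℕ, ((a * a' : ℕ) : ZMod p) = 1 := ⟨((a : ZMod p)⁻¹).val, by
        push_cast [ZMod.natCast_zmod_val]
        exact mul_inv_cancel₀ ha⟩
      rw [← Nat.cast_one, ZMod.natCast_eq_natCast_iff'] at ha'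
      apply hx
      rw [← pow_one x, pow_eq_pow_mod 1 hxp, ← ha', ← pow_eq_pow_mod _ hxp, pow_mul]
      exact pow_mem hgC a'
    have hx1 : x * z = d * z * x := by rw [hd]; group
    have hx2 : x * d = e * d * x := by rw [he]; group
    have hgz := conj_pow_unipotent (x := x) (c := z) (d := d) (e := e) (f := 1) hx1 hx2
      (by rw [one_mul]; exact hec x) (by rw [one_mul, mul_one]) (h.cent hs.mem hdE) (hec z)
      (Commute.one_right z) (hec d) (Commute.one_right d) (Commute.one_right e) a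
    have hgd := conj_pow_unipotent (x := x) (c := d) (d := e) (e := 1) (f := 1) hx2
      (by rw [one_mul]; exact hec x) (by simp) (by simp) (hec d) (Commute.one_right d)
      (Commute.one_right d) (Commute.one_right e) (Commute.one_right e) (Commute.refl 1) a
    simp only [one_pow, mul_one, ← hg] at hgz hgd
    set y := d ^ a * e ^ a.choose 2 with hy
    have hyE : y ∈ E := mul_mem (pow_mem hdE a) (pow_mem (mem_inf.1 heL).1 _)
    have h1 : g * z * g⁻¹ = y * z := by
      rw [hgz, mul_inv_cancel_right, mul_assoc z, ← hy, (show Commute z y from h.cent hs.mem hyE).eq]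
    have h2 : g * y * g⁻¹ = y * z0 ^ s := by
      have h3 : g * d ^ a * g⁻¹ = d ^ a * e ^ (a * a) := by
        rw [← conj_pow, hgd, mul_inv_cancel_right, ((show Commute d e from hec d).pow_right a).mul_pow, ← pow_mul]
      have h4 : g * e ^ a.choose 2 * g⁻¹ = e ^ a.choose 2 := by
        rw [((show Commute g e from hec g).pow_right _).eq, mul_inv_cancel_right]
      have h5 : z0 ^ s = e ^ (a * a) := by
        rw [ZMod.natCast_eq_natCast_iff', mul_assoc] at ha2
        calc z0 ^ s = z0 ^ (s % p) := pow_eq_pow_mod _ hz0p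
          _ = z0 ^ ((b * (a * a)) % p) := by rw [ha2]
          _ = z0 ^ (b * (a * a)) := (pow_eq_pow_mod _ hz0p).symm
          _ = e ^ (a * a) := by rw [pow_mul z0 b, hb]
      calc g * y * g⁻¹ = (g * d ^ a * g⁻¹) * (g * e ^ a.choose 2 * g⁻¹) := by rw [hy]; group
        _ = d ^ a * e ^ (a * a) * e ^ a.choose 2 := by rw [h3, h4]
        _ = _ := by
          rw [h5, hy, mul_assoc, mul_assoc, ((Commute.refl e).pow_pow (a * a) (a.choose 2)).eq]
    have hgp : g ^ p = 1 := by rw [hg, ← pow_mul, mul_comm, pow_mul, hxp, one_pow]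
    refine ⟨s, g⁻¹, y, z, hs1, ?_, by rw [inv_pow, hgp, inv_one], h.exp y hyE, hzord,
      (h.cent hs.mem hyE).symm, ?_, by rw [inv_inv, h1]⟩
    · set H := closure ({g⁻¹, y, z} : Set G)
      have hgH : g ∈ H := by
        have : g⁻¹ ∈ H := subset_closure (by simp)
        simpa using inv_mem this
      have hzH : z ∈ H := subset_closure (by simp)
      have hyL : y ∉ E ⊓ center G := by
        intro hyL
        apply hdL
        have hda : d ^ a ∈ E ⊓ center G := by
          simpa [hy] using mul_mem hyL (inv_mem (pow_mem heL (a.choose 2)))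
        obtain ⟨a', ha'⟩ : ∃ a' : ℕ, ((a * a' : ℕ) : ZMod p) = 1 := ⟨((a : ZMod p)⁻¹).val, by
          push_cast [ZMod.natCast_zmod_val]
          exact mul_inv_cancel₀ ha⟩
        rw [← Nat.cast_one, ZMod.natCast_eq_natCast_iff'] at ha'
        have hdp := h.exp d hdE
        rw [← pow_one d, pow_eq_pow_mod 1 hdp, ← ha', ← pow_eq_pow_mod _ hdp, pow_mul]
        exact pow_mem hda a'
      have hEH : E ≤ H := h.le_of_line hG hne (hzL ▸ zpowers_le.2 (pow_mem hzH _)) hyE hyL
        (subset_closure (by simp))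
      exact h.eq_top_of_gt hG hgC (hgenC H hzH hEH) hgH
    · rw [inv_inv, h2, mul_comm s, pow_mul]

end CfsgLib.BlackburnRankTwo
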