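import Cfsg.Agent.Lib.PGroup.CentralOmega
import Cfsg.Agent.Lib.PGroup.RegularPower
import Cfsg.Agent.Lib.Solvable.BurnsideBasis
import Mathlib.GroupTheory.Frattini
import Mathlib.GroupTheory.SpecificGroups.Cyclic

/-!
`p`-groups, `p` odd, in which the solutions of `x ^ p = 1` form a central subgroup of order
`p ^ 2`: the `p`-th powers form a subgroup of index `p ^ 2`.
-/

set_option autoImplicit false

namespace CfsgLib.BlackburnRankTwo

open Subgroup

variable {R : Type*} [Group R] [Finite R] {p : ℕ} [Fact p.Prime] (E : Subgroup R)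

/-- The `p`-th powers number `|R| / p ^ 2`. -/
theorem card_range_pow (hp2 : p ≠ 2) (hR : IsPGroup p R)
    (hc : ∀ e ∈ E, ∀ r : R, r * e = e * r) (hΩ : ∀ x : R, x ^ p = 1 ↔ x ∈ E)
    (hE : Nat.card E = p ^ 2) :
    Nat.card (Set.range fun x : R => x ^ p) * p ^ 2 = Nat.card R := by
  haveI : E.Normal := ⟨fun e he g => by rw [hc e he g, mul_inv_cancel_right]; exact he⟩
  have key : ∀ x y : R, x ^ p = y ^ p ↔ x⁻¹ * y ∈ E := by
    intro x y
    constructor
    · intro h
      have h1 := CfsgLib.PGroup.pow_eq_pow_of_central_omega hp2 (X := (⊤ : Subgroup R))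
        (hR.to_subgroup ⊤) (fun z _ hz w _ => hc z ((hΩ z).1 hz) w) (mem_top x) (mem_top y) h
      have h2 := (hΩ _).1 h1
      have h3 : x⁻¹ * (x * y⁻¹) * x⁻¹⁻¹ ∈ E := (inferInstance : E.Normal).conj_mem _ h2 _
      have := inv_mem h3
      simpa [mul_assoc] using this
    · intro h
      have h2 := (hΩ _).2 h
      rw [show y = x * (x⁻¹ * y) by group,
        (show Commute x (x⁻¹ * y) from hc _ h x).mul_pow, h2, mul_one]
  let f : R ⧸ E → Set.range (fun x : R => x ^ p) := fun q => Quotient.liftOn' q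
    (fun x => ⟨x ^ p, x, rfl⟩)
    (fun x y h => Subtype.ext ((key x y).2 (QuotientGroup.leftRel_apply.1 h)))
  have hf : Function.Bijective f := by
    constructor
    · intro a b
      induction a using QuotientGroup.induction_on with
      | _ x => induction b using QuotientGroup.induction_on with
        | _ y => exact fun h => QuotientGroup.eq.2 ((key x y).1 (congrArg Subtype.val h))
    · rintro ⟨_, x, rfl⟩
      exact ⟨(x : R ⧸ E), rfl⟩
  rw [← Nat.card_eq_of_bijective f hf, ← hE, ← card_eq_card_quotient_mul_card_subgroup]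

theorem index_agemo_le (hp2 : p ≠ 2) (hR : IsPGroup p R)
    (hc : ∀ e ∈ E, ∀ r : R, r * e = e * r) (hΩ : ∀ x : R, x ^ p = 1 ↔ x ∈ E)
    (hE : Nat.card E = p ^ 2) :
    (Cfsg.powerClosure p 1 (⊤ : Subgroup R)).index ≤ p ^ 2 := by
  have h := card_range_pow E hp2 hR hc hΩ hE
  set U := Cfsg.powerClosure p 1 (⊤ : Subgroup R)
  have hle : Nat.card (Set.range fun x : R => x ^ p) ≤ Nat.card U := by
    refine Nat.card_mono (Set.toFinite (U : Set R)) ?_
    rintro _ ⟨x, rfl⟩
    simpa using CfsgLib.PGroup.pow_mem_powerClosure (p := p) 1 (mem_top x)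
  have h2 := U.card_mul_index
  rw [← h] at h2
  have h3 : Nat.card U * U.index ≤ Nat.card U * p ^ 2 := h2 ▸ Nat.mul_le_mul_right _ hle
  exact Nat.le_of_mul_le_mul_left h3 Nat.card_pos

/-- A group with `p ^ 2` solutions of `x ^ p = 1` is not cyclic, so its Frattini subgroup has
index at least `p ^ 2`. -/
theorem sq_le_index_frattini (hR : IsPGroup p R) (hΩ : ∀ x ∈ E, x ^ p = 1)
    (hE : Nat.card E = p ^ 2) : p ^ 2 ≤ (frattini R).index := by
  have hp := (Fact.out : p.Prime)
  by_contra hlt
  have hcyc : IsCyclic R := by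
    haveI : IsCyclic (R ⧸ frattini R) := by
      obtain ⟨d, hd⟩ := (hR.to_quotient (frattini R)).exists_card_eq
      rw [index_eq_card, hd, Nat.pow_le_pow_iff_right hp.one_lt] at hlt
      have hd1 : d ≤ 1 := by omega
      interval_cases d
      · haveI : Subsingleton (R ⧸ frattini R) :=
          (Nat.card_eq_one_iff_unique.1 (by simpa using hd)).1
        exact isCyclic_of_subsingleton
      · exact isCyclic_of_prime_card (p := p) (by simpa using hd)
    obtain ⟨q, hq⟩ := IsCyclic.exists_generator (α := R ⧸ frattini R)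
    induction q using QuotientGroup.induction_on with
    | _ g =>
      refine isCyclic_iff_exists_zpowers_eq_top.2 ⟨g, frattini_nongenerating ?_⟩
      refine top_le_iff.1 fun r _ => ?_
      obtain ⟨i, hi⟩ := mem_zpowers_iff.1 (hq (r : R ⧸ frattini R))
      rw [← QuotientGroup.mk_zpow, QuotientGroup.eq] at hi
      simpa using mul_mem (mem_sup_left (T := frattini R) (zpow_mem (mem_zpowers g) i))
        (mem_sup_right (S := zpowers g) hi)
  haveI := hcyc
  classical
  letI : Fintype R := Fintype.ofFinite R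
  have h1 := IsCyclic.card_pow_eq_one_le (α := R) (n := p) hp.pos
  have h2 : Nat.card E ≤ (Finset.univ.filter fun a : R => a ^ p = 1).card := by
    rw [Nat.card_eq_fintype_card, ← Fintype.card_coe]
    exact Fintype.card_le_of_injective (fun e => ⟨e.1, by simpa using hΩ e.1 e.2⟩)
      (fun a b h => Subtype.ext (congrArg (fun t => t.1) h))
  rw [hE] at h2
  have h3 : p * p ≤ p := by rw [← pow_two]; exact h2.trans h1
  nlinarith [hp.two_le]

/-- Every element of the subgroup generated by the `p`-th powers is a `p`-th power. -/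
theorem exists_pow_eq_of_mem_agemo (hp2 : p ≠ 2) (hR : IsPGroup p R)
    (hc : ∀ e ∈ E, ∀ r : R, r * e = e * r) (hΩ : ∀ x : R, x ^ p = 1 ↔ x ∈ E)
    (hE : Nat.card E = p ^ 2) {z : R} (hz : z ∈ Cfsg.powerClosure p 1 (⊤ : Subgroup R)) :
    ∃ w : R, w ^ p = z := by
  have hp := (Fact.out : p.Prime)
  have h := card_range_pow E hp2 hR hc hΩ hE
  set U := Cfsg.powerClosure p 1 (⊤ : Subgroup R) with hU
  have hle : U ≤ frattini R := by
    rw [hU, Cfsg.powerClosure, closure_le]
    rintro _ ⟨x, -, rfl⟩
    simpa using CfsgLib.StructC.pow_mem_frattini hR x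
  have h1 : Nat.card U * p ^ 2 ≤ Nat.card R := by
    rw [← (frattini R).card_mul_index]
    exact Nat.mul_le_mul (card_le_of_le hle)
      (sq_le_index_frattini E hR (fun x hx => (hΩ x).2 hx) hE)
  rw [← h] at h1
  have h2 := Nat.le_of_mul_le_mul_right h1 (pow_pos hp.pos 2)
  have hsub : Set.range (fun x : R => x ^ p) ⊆ (U : Set R) := by
    rintro _ ⟨x, rfl⟩
    simpa using CfsgLib.PGroup.pow_mem_powerClosure (p := p) 1 (mem_top x)
  have heq : Set.range (fun x : R => x ^ p) = (U : Set R) := by
    refine Set.eq_of_subset_of_ncard_le hsub ?_ (Set.toFinite _)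
    rw [← Nat.card_coe_set_eq, ← Nat.card_coe_set_eq]
    exact h2
  have hz' : z ∈ (U : Set R) := hz
  rw [← heq] at hz'
  exact hz'

end CfsgLib.BlackburnRankTwo
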