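import Cfsg.Agent.Lib.Coprime.BlackburnBase

/-!
`p`-groups of rank at most two, `p` odd, with an element `x` of order `p` outside the centraliser
`C` of the normal elementary subgroup `E` of order `p ^ 2`: `C / E` is cyclic.
-/

set_option autoImplicit false

universe u

namespace CfsgLib.BlackburnRankTwo

open Subgroup

section Formula

variable {H : Type*} [Group H] {x c d e : H}

/-- Powers of `c * x` when conjugation by `x` acts unipotently on `c`. -/
theorem mul_pow_unipotent (h1 : x * c = d * c * x) (h2 : x * d = e * d * x) (h3 : x * e = e * x)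
    (hcd : Commute c d) (hce : Commute c e) (hde : Commute d e) :
    ∀ k : ℕ, (c * x) ^ k = c ^ k * d ^ k.choose 2 * e ^ k.choose 3 * x ^ k := by
  have conjk : ∀ k : ℕ, x ^ k * c = c * d ^ k * e ^ k.choose 2 * x ^ k := by
    intro k
    induction k with
    | zero => simp
    | succ k ih =>
      have hxd : x * d ^ k = e ^ k * d ^ k * x := by
        have : SemiconjBy x (d ^ k) ((e * d) ^ k) := (show SemiconjBy x d (e * d) from h2).pow_right k
        rw [hde.symm.mul_pow] at this
        exact this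
      calc x ^ (k + 1) * c = x * (x ^ k * c) := by rw [pow_succ']; group
        _ = x * c * d ^ k * e ^ k.choose 2 * x ^ k := by rw [ih]; group
        _ = d * c * x * d ^ k * e ^ k.choose 2 * x ^ k := by rw [h1]
        _ = d * c * (x * d ^ k) * e ^ k.choose 2 * x ^ k := by simp only [mul_assoc]
        _ = d * c * (e ^ k * d ^ k * x) * e ^ k.choose 2 * x ^ k := by rw [hxd]
        _ = (d * c) * (e ^ k * d ^ k) * (x * e ^ k.choose 2) * x ^ k := by simp only [mul_assoc]
        _ = (c * d) * (d ^ k * e ^ k) * (e ^ k.choose 2 * x) * x ^ k := by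
            rw [hcd.eq, ((hde.pow_pow k k)).eq,
              ((show Commute x e from h3).pow_right (k.choose 2)).eq]
        _ = c * (d * d ^ k) * (e ^ k * e ^ k.choose 2) * (x * x ^ k) := by simp only [mul_assoc]
        _ = _ := by
          rw [← pow_succ', ← pow_succ', ← pow_add, Nat.choose_succ_succ' k 1, Nat.choose_one_right]
  intro k
  induction k with
  | zero => simp
  | succ k ih =>
    calc (c * x) ^ (k + 1) = c ^ k * d ^ k.choose 2 * e ^ k.choose 3 * x ^ k * (c * x) := by
          rw [pow_succ, ih]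
      _ = c ^ k * d ^ k.choose 2 * e ^ k.choose 3 * (x ^ k * c) * x := by simp only [mul_assoc]
      _ = c ^ k * d ^ k.choose 2 * e ^ k.choose 3 * (c * d ^ k * e ^ k.choose 2 * x ^ k) * x := by
          rw [conjk]
      _ = c ^ k * (d ^ k.choose 2 * (e ^ k.choose 3 * c)) *
            (d ^ k * e ^ k.choose 2) * (x ^ k * x) := by simp only [mul_assoc]
      _ = c ^ k * (c * (d ^ k.choose 2 * e ^ k.choose 3)) *
            (d ^ k * e ^ k.choose 2) * (x ^ k * x) := by
          rw [← (hce.pow_right (k.choose 3)).eq, ← mul_assoc (d ^ k.choose 2) c,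
            ← (hcd.pow_right (k.choose 2)).eq, mul_assoc c]
      _ = (c ^ k * c) * (d ^ k.choose 2 * (e ^ k.choose 3 * d ^ k)) * e ^ k.choose 2 *
            (x ^ k * x) := by simp only [mul_assoc]
      _ = (c ^ k * c) * (d ^ k.choose 2 * (d ^ k * e ^ k.choose 3)) * e ^ k.choose 2 *
            (x ^ k * x) := by rw [(hde.symm.pow_pow (k.choose 3) k).eq]
      _ = (c ^ k * c) * (d ^ k.choose 2 * d ^ k) * (e ^ k.choose 3 * e ^ k.choose 2) *
            (x ^ k * x) := by simp only [mul_assoc]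
      _ = _ := by
          have e1 : (k + 1).choose 2 = k.choose 2 + k := by
            rw [Nat.choose_succ_succ' k 1, Nat.choose_one_right, add_comm]
          have e2 : (k + 1).choose 3 = k.choose 3 + k.choose 2 := by
            rw [Nat.choose_succ_succ' k 2, add_comm]
          rw [← pow_succ, ← pow_succ, ← pow_add, ← pow_add, e1, e2]

/-- Conjugation by a power of `x` on an element on which it acts unipotently. -/
theorem conj_pow_unipotent {f : H} (h1 : x * c = d * c * x) (h2 : x * d = e * d * x)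
    (h3 : x * e = f * e * x) (h4 : x * f = f * x) (hcd : Commute c d) (hce : Commute c e)
    (hcf : Commute c f) (hde : Commute d e) (hdf : Commute d f) (hef : Commute e f) :
    ∀ k : ℕ, x ^ k * c = c * d ^ k * e ^ k.choose 2 * f ^ k.choose 3 * x ^ k := by
  intro k
  induction k with
  | zero => simp
  | succ k ih =>
    have hxd : x * d ^ k = e ^ k * d ^ k * x := by
      have : SemiconjBy x (d ^ k) ((e * d) ^ k) := (show SemiconjBy x d (e * d) from h2).pow_right k
      rw [hde.symm.mul_pow] at this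
      exact this
    have hxe : x * e ^ k.choose 2 = f ^ k.choose 2 * e ^ k.choose 2 * x := by
      have : SemiconjBy x (e ^ k.choose 2) ((f * e) ^ k.choose 2) :=
        (show SemiconjBy x e (f * e) from h3).pow_right _
      rw [hef.symm.mul_pow] at this
      exact this
    calc x ^ (k + 1) * c = x * (x ^ k * c) := by rw [pow_succ']; group
      _ = x * c * d ^ k * e ^ k.choose 2 * f ^ k.choose 3 * x ^ k := by rw [ih]; group
      _ = d * c * x * d ^ k * e ^ k.choose 2 * f ^ k.choose 3 * x ^ k := by rw [h1]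
      _ = d * c * (x * d ^ k) * e ^ k.choose 2 * f ^ k.choose 3 * x ^ k := by simp only [mul_assoc]
      _ = d * c * (e ^ k * d ^ k * x) * e ^ k.choose 2 * f ^ k.choose 3 * x ^ k := by rw [hxd]
      _ = d * c * (e ^ k * d ^ k) * (x * e ^ k.choose 2) * (f ^ k.choose 3 * x ^ k) := by
          simp only [mul_assoc]
      _ = d * c * (e ^ k * d ^ k) * (f ^ k.choose 2 * e ^ k.choose 2 * x) *
            (f ^ k.choose 3 * x ^ k) := by rw [hxe]
      _ = (d * c) * (e ^ k * d ^ k) * (f ^ k.choose 2 * e ^ k.choose 2) *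
            (x * f ^ k.choose 3) * x ^ k := by simp only [mul_assoc]
      _ = (c * d) * (d ^ k * e ^ k) * (e ^ k.choose 2 * f ^ k.choose 2) *
            (f ^ k.choose 3 * x) * x ^ k := by
          rw [hcd.eq, (hde.pow_pow k k).eq, (hef.pow_pow (k.choose 2) (k.choose 2)).eq,
            ((show Commute x f from h4).pow_right (k.choose 3)).eq]
      _ = c * (d * d ^ k) * (e ^ k * e ^ k.choose 2) * (f ^ k.choose 2 * f ^ k.choose 3) *
            (x * x ^ k) := by simp only [mul_assoc]
      _ = _ := by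
          rw [← pow_succ', ← pow_succ', ← pow_add, ← pow_add, Nat.choose_succ_succ' k 1,
            Nat.choose_one_right, Nat.choose_succ_succ' k 2]

end Formula

variable {G : Type u} [Group G] [Finite G] {p : ℕ} [Fact p.Prime]

theorem dvd_choose_two (hp2 : p ≠ 2) : p ∣ p.choose 2 :=
  (Fact.out : p.Prime).dvd_choose_self (by norm_num)
    (lt_of_le_of_ne (Fact.out : p.Prime).two_le (Ne.symm hp2))

theorem dvd_choose_three (hp2 : p ≠ 2) (hp3 : p ≠ 3) : p ∣ p.choose 3 :=
  (Fact.out : p.Prime).dvd_choose_self (by norm_num) (by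
    have := (Fact.out : p.Prime).two_le
    omega)

/-- Elements of a normal subgroup of order `p` are central. -/
theorem central_of_card_prime (hG : IsPGroup p G) (M : Subgroup G) [M.Normal]
    (hM : Nat.card M = p) {m : G} (hm : m ∈ M) (g : G) : g * m = m * g := by
  have hp := (Fact.out : p.Prime)
  obtain ⟨M₀, -, -, hM₀c, hM₀, -⟩ := CfsgLib.Transfer.exists_chief_below hG M (fun e => by
    rw [e, card_bot] at hM
    exact hp.ne_one hM.symm)
  have hbot : M₀ = ⊥ := Subgroup.card_eq_one.1 (by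
    rw [hM] at hM₀c
    exact Nat.eq_of_mul_eq_mul_left hp.pos (by rw [← hM₀c, mul_one]))
  have := hM₀ m hm g
  rwa [hbot, mem_bot, mul_inv_eq_one, mul_inv_eq_iff_eq_mul] at this

variable {E : Subgroup G} (h : IsBase p E)
include h

/-- `C / E` is cyclic. -/
theorem IsBase.exists_gen_mod (hp2 : p ≠ 2) (hG : IsPGroup p G) {x : G}
    (hx : x ∉ centralizer (E : Set G)) (hxp : x ^ p = 1)
    (h3 : p = 3 → ∃ y ∈ centralizer (E : Set G), x * y = y * x ∧ y ∉ E) :
    ∃ z ∈ centralizer (E : Set G), ∀ c ∈ centralizer (E : Set G), ∃ i : ℤ, (z ^ i)⁻¹ * c ∈ E := by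
  have hp := (Fact.out : p.Prime)
  set C := centralizer (E : Set G) with hC
  have hne : C ≠ ⊤ := fun e => hx (e ▸ mem_top x)
  haveI := h.normal
  set E0 := E.subgroupOf C with hE0
  by_cases hcyc : IsCyclic (C ⧸ E0)
  · obtain ⟨q, hq⟩ := IsCyclic.exists_generator (α := C ⧸ E0)
    induction q using QuotientGroup.induction_on with
    | _ z =>
      refine ⟨z, z.2, fun c hc => ?_⟩
      obtain ⟨i, hi⟩ := mem_zpowers_iff.1 (hq ((⟨c, hc⟩ : C) : C ⧸ E0))
      rw [← QuotientGroup.mk_zpow, QuotientGroup.eq] at hi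
      exact ⟨i, by simpa [hE0, mem_subgroupOf] using hi⟩
  exfalso
  obtain ⟨A, hAn, hAc, hAe, hA⟩ := CfsgLib.Transfer.exists_normal_elementary_sq hp2
    ((hG.to_subgroup C).to_quotient E0) hcyc
  set U := (A.comap (QuotientGroup.mk' E0)).map C.subtype with hU
  have hUC : U ≤ C := map_subtype_le _
  have hmemU : ∀ {u : G} (hu : u ∈ C), (u ∈ U ↔ QuotientGroup.mk' E0 ⟨u, hu⟩ ∈ A) := by
    intro u hu
    rw [hU]
    exact ⟨fun ⟨v, hv, hvu⟩ => by
      have : v = ⟨u, hu⟩ := Subtype.ext hvu
      exact this ▸ hv, fun hh => ⟨⟨u, hu⟩, hh, rfl⟩⟩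
  have hEU : E ≤ U := fun e he => (hmemU (h.le_C he)).2 (by
    rw [QuotientGroup.mk'_apply, (QuotientGroup.eq_one_iff _).2 (mem_subgroupOf.2 he)]
    exact one_mem A)
  have hUcard : Nat.card U = p ^ 2 * p ^ 2 := by
    rw [hU, card_map_of_injective C.subtype_injective, ← hA]
    have h1 : E0 ≤ A.comap (QuotientGroup.mk' E0) := fun e he => by
      rw [mem_comap, QuotientGroup.mk'_apply, (QuotientGroup.eq_one_iff _).2 he]
      exact one_mem A
    have h2 := (E0.subgroupOf (A.comap (QuotientGroup.mk' E0))).card_mul_index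
    rw [← h2, Nat.card_congr (subgroupOfEquivOfLe h1).toEquiv, hA]
    congr 1
    · rw [hE0, Nat.card_congr (subgroupOfEquivOfLe h.le_C).toEquiv, h.card]
    · show E0.relIndex _ = _
      have h3 := relIndex_comap (⊥ : Subgroup (C ⧸ E0)) (QuotientGroup.mk' E0)
        (A.comap (QuotientGroup.mk' E0))
      rw [MonoidHom.comap_bot, QuotientGroup.ker_mk',
        map_comap_eq_self_of_surjective (QuotientGroup.mk'_surjective E0), relIndex_bot_left,
        hA] at h3
      exact h3
  have hUp : ∀ u ∈ U, u ^ p ∈ E := by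
    intro u hu
    have h1 := hAe _ ((hmemU (hUC hu)).1 hu)
    rw [← map_pow, QuotientGroup.mk'_apply, QuotientGroup.eq_one_iff] at h1
    simpa [hE0, mem_subgroupOf] using h1
  -- the `p`-th powers of `U` fill `E`
  let EU : Subgroup U := E.subgroupOf U
  have hrange : ∀ e ∈ E, ∃ u ∈ U, u ^ p = e := by
    have hU1 := card_range_pow EU hp2 (hG.to_subgroup U)
      (fun e he r => Subtype.ext (h.cent (hUC r.2) (mem_subgroupOf.1 he)))
      (fun r => ⟨fun hr => mem_subgroupOf.2 (h.omega r (hUC r.2) (congrArg Subtype.val hr :)),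
        fun hr => Subtype.ext (by simpa using h.exp r (mem_subgroupOf.1 hr))⟩)
      ((Nat.card_congr (subgroupOfEquivOfLe hEU).toEquiv).trans h.card)
    rw [hUcard] at hU1
    have hU2 := Nat.eq_of_mul_eq_mul_right (pow_pos hp.pos 2) hU1
    set S := Subtype.val '' Set.range (fun u : U => u ^ p) with hS
    have hSE : S ⊆ (E : Set G) := by
      rintro _ ⟨_, ⟨u, rfl⟩, rfl⟩
      simpa using hUp u u.2
    have hSeq : S = (E : Set G) := by
      refine Set.eq_of_subset_of_ncard_le hSE ?_ (Set.toFinite _)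
      rw [hS, Set.ncard_image_of_injective _ Subtype.val_injective, ← Nat.card_coe_set_eq,
        ← Nat.card_coe_set_eq, hU2]
      exact h.card.le
    intro e he
    obtain ⟨_, ⟨u, rfl⟩, hue⟩ : e ∈ S := hSeq ▸ he
    exact ⟨u, u.2, by simpa using hue⟩
  have hdiv : ∀ v w : G, v ∈ C → w ∈ C → v ^ p = w ^ p → v * w⁻¹ ∈ E := fun v w hv hw hvw =>
    h.omega _ (mul_mem hv (inv_mem hw)) (CfsgLib.PGroup.pow_eq_pow_of_central_omega hp2 (X := C)
      (hG.to_subgroup C) (fun z hz hzp y hy => h.cent hy (h.omega z hz hzp)) hv hw hvw)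
  have hUall : ∀ v ∈ C, v ^ p ∈ E → v ∈ U := by
    intro v hv hvp
    obtain ⟨u, hu, hue⟩ := hrange _ hvp
    simpa using mul_mem (hEU (hdiv v u hv (hUC hu) hue.symm)) hu
  haveI hUn : U.Normal := ⟨fun u hu g => hUall _ (h.conj_C (hUC hu) g) (by
    rw [conj_pow]; exact (inferInstance : E.Normal).conj_mem _ (hUp u hu) g)⟩
  -- `x` moves some element of `U` modulo `E`
  obtain ⟨u₀, hu₀, hc⟩ : ∃ u ∈ U, u * x * u⁻¹ * x⁻¹ ∉ E := by
    by_contra! hall
    refine hx (mem_centralizer_iff.2 fun e he => ?_)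
    obtain ⟨u, hu, rfl⟩ := hrange e he
    set d := u * x * u⁻¹ * x⁻¹ with hd
    have hd' : x * u * x⁻¹ = d⁻¹ * u := by rw [hd]; group
    have := congrArg (fun t => t ^ p) hd'
    simp only [conj_pow] at this
    rw [(show Commute d⁻¹ u from (h.cent (hUC hu) (inv_mem (hall u hu))).symm).mul_pow,
      h.exp _ (inv_mem (hall u hu)), one_mul, mul_inv_eq_iff_eq_mul] at this
    exact this.symm
  set c := u₀ * x * u₀⁻¹ * x⁻¹ with hcdef
  -- the fixed line modulo `E`
  set π := QuotientGroup.mk' E with hπ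
  set V := U.map π with hV
  haveI hVn : V.Normal := hUn.map _ (QuotientGroup.mk'_surjective E)
  have hVcard : Nat.card V = p ^ 2 := by
    have h3 := relIndex_comap (⊥ : Subgroup (G ⧸ E)) π U
    rw [hπ, MonoidHom.comap_bot, QuotientGroup.ker_mk', relIndex_bot_left] at h3
    rw [hV, hπ, ← h3]
    show (E.subgroupOf U).index = _
    have h4 := (E.subgroupOf U).card_mul_index
    rw [Nat.card_congr (subgroupOfEquivOfLe hEU).toEquiv, h.card, hUcard] at h4
    exact Nat.eq_of_mul_eq_mul_left (pow_pos hp.pos 2) h4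
  have hVne : V ≠ ⊥ := fun e => by
    rw [e, card_bot] at hVcard
    exact absurd hVcard.symm (by nlinarith [hp.two_le])
  obtain ⟨M, hMn, hMV, hMc, hMcomm, -⟩ :=
    CfsgLib.Transfer.exists_chief_below (hG.to_quotient E) V hVne
  haveI := hMn
  have hM : Nat.card M = p := by
    rw [hVcard, pow_two] at hMc
    exact (Nat.eq_of_mul_eq_mul_left hp.pos hMc).symm
  have hcU : c ∈ U := by
    rw [hcdef, show u₀ * x * u₀⁻¹ * x⁻¹ = u₀ * (x * u₀⁻¹ * x⁻¹) by group]
    exact mul_mem hu₀ (hUn.conj_mem _ (inv_mem hu₀) x)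
  have hcC : c ∈ C := hUC hcU
  have hcM : π c ∈ M := by
    have := inv_mem (hMcomm (π u₀) (mem_map_of_mem π hu₀) (π x))
    rw [hcdef]
    simpa [mul_assoc] using this
  have hdE : x * c * x⁻¹ * c⁻¹ ∈ E := by
    refine (QuotientGroup.eq_one_iff _).1 ?_
    have := central_of_card_prime (hG.to_quotient E) M hM hcM (π x)
    simpa [hπ] using (mul_inv_eq_one.2 (mul_inv_eq_iff_eq_mul.2 this))
  set d := x * c * x⁻¹ * c⁻¹ with hddef
  have hcd : Commute c d := h.cent hcC hdE
  obtain ⟨hL, hcomm⟩ := h.line hG hne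
  set e := x * d * x⁻¹ * d⁻¹ with hedef
  have heL : e ∈ E ⊓ center G := hcomm d hdE x
  have hec : ∀ g : G, g * e = e * g := mem_center_iff.1 (mem_inf.1 heL).2
  have hd1 : x * c = d * c * x := by rw [hddef]; group
  have hd2 : x * d = e * d * x := by rw [hedef]; group
  have hformula := mul_pow_unipotent hd1 hd2 (hec x) hcd (hec c) (hec d) p
  have hcx : (c * x) ^ p = 1 := by
    rw [hcdef, inv_mul_cancel_right, conj_pow, hxp, mul_one, mul_inv_cancel]
  have hch2 : d ^ p.choose 2 = 1 := by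
    obtain ⟨k, hk⟩ := dvd_choose_two (p := p) hp2
    rw [hk, pow_mul, h.exp d hdE, one_pow]
  have hech : e ^ p.choose 3 = 1 := by
    by_cases hp3 : p = 3
    swap
    · obtain ⟨k, hk⟩ := dvd_choose_three (p := p) hp2 hp3
      rw [hk, pow_mul, h.exp e (mem_inf.1 heL).1, one_pow]
    -- for `p = 3` the commutator `d` is central
    obtain ⟨y₀, hy₀C, hxy₀, hy₀E⟩ := h3 hp3
    obtain ⟨y, hyC, hxy, hyE, hyp⟩ : ∃ y ∈ C, x * y = y * x ∧ y ∉ E ∧ y ^ p ∈ E := by
      classical
      obtain ⟨j, hj⟩ := IsPGroup.iff_orderOf.1 hG y₀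
      have hex : ∃ k, y₀ ^ p ^ k ∈ E := ⟨j, by rw [← hj, pow_orderOf_eq_one]; exact one_mem E⟩
      have h0 : Nat.find hex ≠ 0 := fun e0 => hy₀E (by
        have := Nat.find_spec hex
        rwa [e0, pow_zero, pow_one] at this)
      refine ⟨y₀ ^ p ^ (Nat.find hex - 1), pow_mem hy₀C _,
        ((show Commute x y₀ from hxy₀).pow_right _).eq, Nat.find_min hex (by omega), ?_⟩
      rw [← pow_mul, ← pow_succ, Nat.sub_add_cancel (Nat.one_le_iff_ne_zero.2 h0)]
      exact Nat.find_spec hex
    have hyU : y ∈ U := hUall y hyC hyp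
    set F := V ⊓ centralizer ({π x} : Set (G ⧸ E)) with hF
    have hMF : M ≤ F := fun m hm => mem_inf.2 ⟨hMV hm, mem_centralizer_singleton_iff.2
      (central_of_card_prime (hG.to_quotient E) M hM hm (π x)).symm⟩
    have hFne : F ≠ V := by
      intro heq
      apply hc
      have : π u₀ ∈ F := heq.symm ▸ mem_map_of_mem π hu₀
      have h5 := mem_centralizer_singleton_iff.1 (mem_inf.1 this).2
      refine (QuotientGroup.eq_one_iff _).1 ?_
      show π (u₀ * x * u₀⁻¹ * x⁻¹) = 1
      simpa using (mul_inv_eq_one.2 (mul_inv_eq_iff_eq_mul.2 h5))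
    have hFM : F = M := by
      obtain ⟨k, hk2, hk⟩ := (Nat.dvd_prime_pow hp).1
        (hVcard ▸ card_dvd_of_le (inf_le_left : F ≤ V) : Nat.card F ∣ p ^ 2)
      have hk1 : k ≠ 2 := fun hk1 => hFne
        (eq_of_le_of_card_ge inf_le_left (by rw [hVcard, hk, hk1]))
      refine (eq_of_le_of_card_ge hMF ?_).symm
      rw [hk, hM]
      exact (Nat.pow_le_pow_right hp.pos (by omega : k ≤ 1)).trans (pow_one p).le
    have hyM : π y ∈ M := hFM ▸ mem_inf.2 ⟨mem_map_of_mem π hyU,
      mem_centralizer_singleton_iff.2 (by rw [← map_mul, ← map_mul, hxy])⟩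
    have hyne : π y ≠ 1 := fun e0 => hyE ((QuotientGroup.eq_one_iff _).1 e0)
    have hzy : zpowers (π y) = M := eq_of_le_of_card_ge (zpowers_le.2 hyM) (by
      rw [hM, Nat.card_zpowers]
      refine (orderOf_eq_prime ?_ hyne).ge
      rw [hπ, ← map_pow]
      exact (QuotientGroup.eq_one_iff _).2 hyp)
    rw [← hzy] at hcM
    obtain ⟨i, hi⟩ := mem_zpowers_iff.1 hcM
    rw [hπ, ← map_zpow, QuotientGroup.mk'_apply, QuotientGroup.mk'_apply, QuotientGroup.eq] at hi
    set f := (y ^ i)⁻¹ * c with hf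
    have hdL : d ∈ E ⊓ center G := by
      have hde : d = x * f * x⁻¹ * f⁻¹ := by
        have hcf : c = y ^ i * f := by rw [hf, mul_inv_cancel_left]
        have hxyi : x * y ^ i = y ^ i * x := ((show Commute x y from hxy).zpow_right i).eq
        have hyd : Commute (y ^ i) (x * f * x⁻¹ * f⁻¹) :=
          h.cent (zpow_mem hyC i) (mem_inf.1 (hcomm f hi x)).1
        calc d = x * y ^ i * f * x⁻¹ * f⁻¹ * (y ^ i)⁻¹ := by rw [hddef, hcf]; group
          _ = y ^ i * (x * f * x⁻¹ * f⁻¹) * (y ^ i)⁻¹ := by rw [hxyi]; group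
          _ = _ := by rw [hyd.eq, mul_inv_cancel_right]
      exact hde ▸ hcomm f hi x
    have he1 : e = 1 := by
      rw [hedef, mul_inv_eq_one, mul_inv_eq_iff_eq_mul]
      exact mem_center_iff.1 (mem_inf.1 hdL).2 x
    rw [he1, one_pow]
  rw [hformula, hch2, hech, hxp, mul_one, mul_one, mul_one] at hcx
  exact hc (h.omega c hcC hcx)

end CfsgLib.BlackburnRankTwo
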