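import Cfsg.Agent.Lib.Coprime.Generation
import Mathlib.GroupTheory.Solvable
set_option autoImplicit false

/-!
Coprime action of an abelian group `A` on `Y = [Y, A]`: for `B ≤ A` the fixed points `C_Y(B)` are
generated by the `C_Y(B) ∩ [C_Y(B₀), A]`, `B / B₀` cyclic.
-/

namespace CfsgLib.Coprime

open Subgroup
open scoped commutatorElement

variable {X : Type*} [Group X]

/-- `B₀` is a subgroup of `B` with cyclic quotient. -/
abbrev IsCocyclic (B B₀ : Subgroup X) : Prop := B₀ ≤ B ∧ ∃ b ∈ B, B₀ ⊔ zpowers b = B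

/-- The subgroup generated by the `C_Y(B) ∩ [C_Y(B₀), A]`. -/
abbrev centJoin (A B Y : Subgroup X) : Subgroup X :=
  ⨆ B₀ : {B₀ : Subgroup X // IsCocyclic B B₀},
    Y ⊓ centralizer (B : Set X) ⊓ ⁅Y ⊓ centralizer ((B₀ : Subgroup X) : Set X), A⁆

theorem mem_centJoin {A B Y B₀ : Subgroup X} (h : IsCocyclic B B₀) {x : X} (hY : x ∈ Y)
    (hx : x ∈ centralizer (B : Set X)) (hk : x ∈ ⁅Y ⊓ centralizer (B₀ : Set X), A⁆) :
    x ∈ centJoin A B Y :=
  le_iSup (fun B₀ : {B₀ : Subgroup X // IsCocyclic B B₀} =>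
    Y ⊓ centralizer (B : Set X) ⊓ ⁅Y ⊓ centralizer ((B₀ : Subgroup X) : Set X), A⁆) ⟨B₀, h⟩
    (mem_inf.mpr ⟨mem_inf.mpr ⟨hY, hx⟩, hk⟩)

theorem le_normalizer_inf_centralizer {A B U : Subgroup X} (hAab : IsMulCommutative A)
    (hBA : B ≤ A) (hU : A ≤ normalizer (U : Set X)) :
    A ≤ normalizer ((U ⊓ centralizer (B : Set X) : Subgroup X) : Set X) := fun a ha => by
  have h : a ∈ centralizer (B : Set X) := mem_centralizer_iff.mpr fun b hb =>
    congrArg Subtype.val (mul_comm' (⟨b, hBA hb⟩ : A) ⟨a, ha⟩)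
  rw [mem_normalizer_iff]
  intro x
  simp only [mem_inf]
  exact and_congr (mem_normalizer_iff.mp (hU ha) x) (mem_normalizer_iff.mp (le_normalizer h) x)

variable [Finite X]

/-- `[U, A]` is generated by the `[C_U(B₀), A]`, `B / B₀` cyclic. -/
theorem commutator_le_iSup_cocyclic {A B U : Subgroup X} (hAab : IsMulCommutative A) (hB : B ≤ A)
    (hA : A ≤ normalizer (U : Set X)) (hcop : (Nat.card A).Coprime (Nat.card U)) :
    ⁅U, A⁆ ≤ ⨆ B₀ : {B₀ : Subgroup X // IsCocyclic B B₀},
      ⁅U ⊓ centralizer ((B₀ : Subgroup X) : Set X), A⁆ := by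
  set K : Subgroup X := ⨆ B₀ : {B₀ : Subgroup X // IsCocyclic B B₀},
      ⁅U ⊓ centralizer ((B₀ : Subgroup X) : Set X), A⁆
  let C : Subgroup X := U ⊓ centralizer (A : Set X)
  have hs : Group.IsSolvable A ∨ Group.IsSolvable U :=
    Or.inl (Group.isSolvable_of_comm fun x y => mul_comm' x y)
  have hnorm : ∀ x : X, (∀ B₀ : {B₀ : Subgroup X // IsCocyclic B B₀}, x ∈ normalizer
      ((⁅U ⊓ centralizer ((B₀ : Subgroup X) : Set X), A⁆ : Subgroup X) : Set X)) →
      x ∈ normalizer (K : Set X) := fun x hx => by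
    rw [mem_normalizer_iff_map_conj]
    simp only [K, Subgroup.map_iSup]
    exact iSup_congr fun B₀ => map_conj_of_mem_normalizer (hx B₀)
  have hKA : A ≤ normalizer (K : Set X) := fun a ha =>
    hnorm a fun B₀ => normalizer_commutator_ge_right _ A ha
  have hKC : C ≤ normalizer (K : Set X) := fun c hc => hnorm c fun B₀ =>
    normalizer_commutator_ge_left _ A (mem_inf.mpr
      ⟨(mem_inf.mp hc).1, centralizer_le (B₀.2.1.trans hB) (mem_inf.mp hc).2⟩)
  have hUle : U ≤ K ⊔ C := by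
    have hBab : IsMulCommutative B := ⟨⟨fun x y => Subtype.ext
      (congrArg Subtype.val (mul_comm' (⟨x, hB x.2⟩ : A) ⟨y, hB y.2⟩) :)⟩⟩
    conv_lhs => rw [← cocyclicJoin_eq hBab (hB.trans hA) (hcop.coprime_dvd_left (card_dvd_of_le hB))]
    refine iSup₂_le ?_
    intro B₀ hB₀
    rw [← commutator_sup_centralizer (le_normalizer_inf_centralizer hAab (hB₀.1.trans hB) hA)
      (hcop.coprime_dvd_right (card_dvd_of_le inf_le_left))
      (hs.imp_right fun h => isSolvable_of_le h inf_le_left)]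
    exact sup_le_sup (le_iSup (fun B₀ : {B₀ : Subgroup X // IsCocyclic B B₀} =>
      ⁅U ⊓ centralizer ((B₀ : Subgroup X) : Set X), A⁆) ⟨B₀, hB₀⟩)
      (inf_le_inf_right _ inf_le_left)
  refine commutator_le.mpr fun d hd a ha => ?_
  obtain ⟨k, hk, c, hc, rfl⟩ := (mem_sup_of_le_normalizer hKC).mp (hUle hd)
  have hac : a * c = c * a := mem_centralizer_iff.mp (mem_inf.mp hc).2 a ha
  have h3 : ⁅k * c, a⁆ = ⁅k, a⁆ := by
    rw [commutatorElement_def, commutatorElement_def, mul_inv_rev]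
    calc k * c * a * (c⁻¹ * k⁻¹) * a⁻¹ = k * (c * a) * c⁻¹ * k⁻¹ * a⁻¹ := by group
      _ = k * a * k⁻¹ * a⁻¹ := by rw [← hac]; group
  rw [h3, commutatorElement_def, show k * a * k⁻¹ * a⁻¹ = k * (a * k⁻¹ * a⁻¹) by group]
  exact mul_mem hk ((mem_normalizer_iff.mp (hKA ha) _).mp (inv_mem hk))

section

variable {A B Y : Subgroup X} (hAab : IsMulCommutative A) (hB : B ≤ A)
  (hY : Y.Normal) (hcop : (Nat.card A).Coprime (Nat.card Y))

omit [Finite X] in
include hB in
/-- Elements of `C_Y(A)` normalise `centJoin`. -/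
theorem mem_normalizer_centJoin {c : X} (hc : c ∈ Y) (hcA : c ∈ centralizer (A : Set X)) :
    c ∈ normalizer (centJoin A B Y : Set X) := by
  rw [mem_normalizer_iff_map_conj]
  simp only [centJoin, Subgroup.map_iSup]
  refine iSup_congr fun B₀ => ?_
  rw [Subgroup.map_inf _ _ _ (MulAut.conj c).injective]
  congr 1
  · exact map_conj_of_mem_normalizer (le_normalizer (mem_inf.mpr ⟨hc, centralizer_le hB hcA⟩))
  · exact map_conj_of_mem_normalizer (normalizer_commutator_ge_left _ A
      (mem_inf.mpr ⟨hc, centralizer_le (B₀.2.1.trans hB) hcA⟩))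

include hAab hB hY hcop in
/-- If `W` is a normal abelian subgroup of `Y`, then `C_{[W,Y]}(A) ≤ centJoin`. -/
theorem commutator_inf_le_centJoin (hYA : ⁅Y, A⁆ = Y) {W : Subgroup X} [W.Normal] (hWY : W ≤ Y)
    (hW : IsMulCommutative W) :
    ⁅W, Y⁆ ⊓ centralizer (A : Set X) ≤ centJoin A B Y := by
  classical
  have := Fintype.ofFinite A
  have hAY : A ≤ normalizer (Y : Set X) := (normalizer_eq_top Y).symm ▸ le_top
  have hWA : A ≤ normalizer (W : Set X) := (normalizer_eq_top W).symm ▸ le_top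
  open scoped IsMulCommutative in
  let θ : W →* W := orbitProd (conjHom hWA) ⊤
  let S : Subgroup X := ((centJoin A B Y).comap (W.subtype.comp θ)).map W.subtype
  have hmemS : ∀ x (hx : x ∈ W), (θ ⟨x, hx⟩ : X) ∈ centJoin A B Y → x ∈ S := fun x hx h =>
    ⟨⟨x, hx⟩, h, rfl⟩
  have hSW : S ≤ W := map_subtype_le _
  have hWc : ∀ (w y : X), w ∈ W → ⁅w, y⁆ ∈ W := fun w y hw => by
    rw [commutatorElement_def, show w * y * w⁻¹ * y⁻¹ = w * (y * w⁻¹ * y⁻¹) by group]
    exact mul_mem hw (Normal.conj_mem inferInstance _ (inv_mem hw) y)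
  let T : Subgroup X :=
    { carrier := {y | ∀ w ∈ W, ⁅w, y⁆ ∈ S}
      one_mem' := fun w _ => by rw [commutatorElement_one_right]; exact one_mem S
      mul_mem' := fun {y y'} hy hy' w hw => by
        have e : ⁅w, y * y'⁆ = ⁅w, y⁆ * (⁅⁅w, y'⁆, y⁆⁻¹ * ⁅w, y'⁆) := by
          simp only [commutatorElement_def]; group
        rw [e]
        exact mul_mem (hy w hw) (mul_mem (inv_mem (hy _ (hWc w y' hw))) (hy' w hw))
      inv_mem' := fun {y} hy w hw => by
        have e : ⁅w, y⁻¹⁆ = ⁅y⁻¹ * w * y, y⁆⁻¹ := by simp only [commutatorElement_def]; group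
        rw [e]
        refine inv_mem (hy _ ?_)
        have := Normal.conj_mem (inferInstance : W.Normal) w hw y⁻¹
        rwa [inv_inv] at this }
  have hYT : Y ≤ T := by
    conv_lhs => rw [← hYA]
    refine (commutator_le_iSup_cocyclic hAab hB hAY hcop).trans (iSup_le ?_)
    rintro ⟨B₀, hB₀⟩ k hk w hw
    have hBA : B₀ ≤ A := hB₀.1.trans hB
    have hAU : A ≤ normalizer ((Y ⊓ centralizer (B₀ : Set X) : Subgroup X) : Set X) :=
      le_normalizer_inf_centralizer hAab hBA hAY
    have hKY : ⁅Y ⊓ centralizer (B₀ : Set X), A⁆ ≤ Y ⊓ centralizer (B₀ : Set X) :=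
      le_normalizer_iff_commutator_le_left.mp hAU
    have hkB : k ∈ centralizer (B₀ : Set X) := (mem_inf.mp (hKY hk)).2
    obtain ⟨c, hc, u, hu, rfl⟩ := exists_mul_eq' (hBA.trans hWA)
      ((hcop.coprime_dvd_left (card_dvd_of_le hBA)).coprime_dvd_right (card_dvd_of_le hWY))
      (Or.inr (by
        have : IsMulCommutative W := hW
        exact Group.isSolvable_of_comm fun x y => mul_comm' x y)) hw
    obtain ⟨huW, huB⟩ := mem_inf.mp hu
    have hcW : c ∈ W := le_normalizer_iff_commutator_le_left.mp (hBA.trans hWA) hc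
    have e : ⁅c * u, k⁆ = c * ⁅u, k⁆ * c⁻¹ * ⁅c, k⁆ := by
      simp only [commutatorElement_def]; group
    have e2 : c * ⁅u, k⁆ * c⁻¹ = ⁅u, k⁆ := by
      have := congrArg Subtype.val (mul_comm' (⟨c, hcW⟩ : W) ⟨⁅u, k⁆, hWc u k huW⟩)
      simp only [Subgroup.coe_mul] at this
      rw [this, mul_inv_cancel_right]
    rw [e, e2]
    refine mul_mem ?_ ?_
    · apply hmemS _ (hWc u k huW)
      have hK : ⁅u, k⁆ ∈ ⁅Y ⊓ centralizer (B₀ : Set X), A⁆ := by
        rw [commutatorElement_def]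
        exact mul_mem ((mem_normalizer_iff.mp (normalizer_commutator_ge_left _ A
          (mem_inf.mpr ⟨hWY huW, huB⟩)) k).mp hk) (inv_mem hk)
      have hθA : (θ ⟨_, hWc u k huW⟩ : X) ∈ centralizer (A : Set X) := by
        rw [mem_centralizer_iff]
        intro a ha
        open scoped IsMulCommutative in
        have h := congrArg Subtype.val
          (apply_orbitProd (conjHom hWA) ⊤ (b := ⟨a, ha⟩) (mem_top _) ⟨_, hWc u k huW⟩)
        rw [conjHom_apply] at h
        exact eq_mul_inv_iff_mul_eq.mp h.symm |>.symm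
      refine mem_centJoin hB₀ (hWY (θ _).2) (centralizer_le hB hθA) ?_
      open scoped IsMulCommutative in
      show ((∏ a ∈ Finset.univ.filter (fun a => a ∈ (⊤ : Subgroup A)),
        conjHom hWA a ⟨_, hWc u k huW⟩ : W) : X) ∈ _
      open scoped IsMulCommutative in
      refine Finset.prod_induction _ (fun x : W => (x : X) ∈ _) (fun x y hx hy => mul_mem hx hy)
        (one_mem _) fun a _ => ?_
      rw [conjHom_apply]
      exact (mem_normalizer_iff.mp (normalizer_commutator_ge_right _ A a.2) _).mp hK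
    · have h1 : ⁅c, k⁆ ∈ ⁅W, B₀⁆ := by
        have hn : k ∈ normalizer ((⁅W, B₀⁆ : Subgroup X) : Set X) := by
          rw [mem_normalizer_iff_map_conj, map_commutator,
            map_conj_of_mem_normalizer ((normalizer_eq_top W).symm ▸ mem_top k :
              k ∈ normalizer (W : Set X))]
          congr 1
          refine map_conj_of_mem_normalizer ?_
          rw [mem_normalizer_iff]
          intro x
          constructor
          · intro hx
            rw [← mem_centralizer_iff.mp hkB x hx, mul_inv_cancel_right]; exact hx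
          · intro hx
            have hx2 := mem_centralizer_iff.mp (inv_mem hkB) _ hx
            rw [show x = k⁻¹ * (k * x * k⁻¹) * k by group, ← hx2, inv_mul_cancel_right]; exact hx
        rw [commutatorElement_def, show c * k * c⁻¹ * k⁻¹ = c * (k * c⁻¹ * k⁻¹) by group]
        exact mul_mem hc ((mem_normalizer_iff.mp hn _).mp (inv_mem hc))
      refine (commutator_le (H₃ := S)).mpr ?_ h1
      intro v hv b hb
      apply hmemS _ (hWc v b hv)
      open scoped IsMulCommutative in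
      have h2 : θ ⟨_, hWc v b hv⟩ = 1 := by
        have h3 : (⟨_, hWc v b hv⟩ : W) = ⟨v, hv⟩ * conjHom hWA ⟨b, hBA hb⟩ ⟨v, hv⟩⁻¹ :=
          Subtype.ext (by simp [conjHom_apply, commutatorElement_def, mul_assoc])
        rw [h3, map_mul]
        show θ _ * orbitProd (conjHom hWA) ⊤ (conjHom hWA ⟨b, hBA hb⟩ _) = 1
        rw [orbitProd_apply _ _ (mem_top _), map_inv, mul_inv_cancel]
      rw [h2]; exact one_mem _
  intro x hx
  obtain ⟨hx1, hxA⟩ := mem_inf.mp hx
  have hxS : x ∈ S := (commutator_le.mpr fun w hw y hy => hYT hy w hw) hx1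
  obtain ⟨v, hv, rfl⟩ := hxS
  have hpow : (θ v : X) = (v : X) ^ Nat.card A := by
    open scoped IsMulCommutative in
    have h4 := orbitProd_eq_pow (conjHom hWA) ⊤ v (fun a _ => Subtype.ext (by
      rw [conjHom_apply, show (a : X) * v = v * a from mem_centralizer_iff.mp hxA a a.2,
        mul_inv_cancel_right]))
    rw [card_top] at h4
    exact (congrArg Subtype.val h4).trans (SubmonoidClass.coe_pow _ _)
  have hcv : (Nat.card A).Coprime (orderOf (v : X)) :=
    hcop.coprime_dvd_right (by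
      have h := orderOf_dvd_natCard (⟨(v : X), hWY v.2⟩ : Y)
      rwa [Subgroup.orderOf_mk] at h)
  have h5 : (v : X) ^ Nat.card A ∈ centJoin A B Y := hpow ▸ hv
  obtain ⟨m, hm⟩ := exists_pow_eq_self_of_coprime hcv
  show (v : X) ∈ _
  rw [← hm]
  exact pow_mem h5 m

end

universe u in
/-- `C_Y(B)` is generated by the `C_Y(B) ∩ [C_Y(B₀), A]`, the case `Y ⊔ A = ⊤`. -/
theorem centJoin_eq_of_top {X : Type u} [Group X] [Finite X] {A B Y : Subgroup X} [Y.Normal]
    (hAab : IsMulCommutative A) (hB : B ≤ A) (hsol : Group.IsSolvable Y)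
    (hcop : (Nat.card A).Coprime (Nat.card Y)) (htop : Y ⊔ A = ⊤) (hYA : ⁅Y, A⁆ = Y) :
    Y ⊓ centralizer (B : Set X) ≤ centJoin A B Y := by
  induction hm : Nat.card Y using Nat.strong_induction_on generalizing X A B Y with
  | _ m ih =>
  subst hm
  have hsA : Group.IsSolvable A := Group.isSolvable_of_comm fun x y => mul_comm' x y
  have hAn : ∀ N : Subgroup X, N.Normal → A ≤ normalizer (N : Set X) := fun N _ =>
    (normalizer_eq_top N).symm ▸ le_top
  have hAY := hAn Y inferInstance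
  -- the quotient step
  have hquot : ∀ V : Subgroup X, V.Normal → V ≤ Y → V ≠ ⊥ →
      Y ⊓ centralizer (B : Set X) ≤ centJoin A B Y ⊔ V := by
    intro V hV hVY hV1
    let f := QuotientGroup.mk' V
    have hsurj : Function.Surjective f := QuotientGroup.mk'_surjective V
    have : (Y.map f).Normal := Normal.map inferInstance f hsurj
    have hab' : IsMulCommutative (A.map f) := ⟨⟨by
      rintro ⟨_, x, hx, rfl⟩ ⟨_, y, hy, rfl⟩
      apply Subtype.ext
      show f x * f y = f y * f x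
      rw [← map_mul, ← map_mul]
      exact congrArg f (congrArg Subtype.val (mul_comm' (⟨x, hx⟩ : A) ⟨y, hy⟩))⟩⟩
    have hlt : Nat.card (Y.map f) < Nat.card Y := by
      have h1 := (f.subgroupMap Y).ker.card_mul_index
      rw [index_ker, MonoidHom.range_eq_top.mpr (f.subgroupMap_surjective Y), card_top] at h1
      rw [← h1]
      refine lt_mul_of_one_lt_left Nat.card_pos (one_lt_card_iff_ne_bot _ |>.mpr fun hk => hV1 ?_)
      rw [eq_bot_iff]
      intro z hz
      have h2 : (⟨z, hVY hz⟩ : Y) ∈ (f.subgroupMap Y).ker := by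
        rw [MonoidHom.mem_ker]
        exact Subtype.ext ((QuotientGroup.eq_one_iff z).mpr hz)
      rw [hk, mem_bot] at h2
      exact mem_bot.mpr (congrArg Subtype.val h2)
    have : Group.IsSolvable (Y.map f) := Group.isSolvable_of_surjective (f.subgroupMap_surjective Y)
    have h3 := ih _ hlt (X := X ⧸ V) (A := A.map f) (B := B.map f) (Y := Y.map f) hab'
      (map_mono hB) inferInstance
      ((hcop.coprime_dvd_left (card_map_dvd A f)).coprime_dvd_right (card_map_dvd Y f))
      (by rw [← Subgroup.map_sup, htop, ← MonoidHom.range_eq_map,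
        MonoidHom.range_eq_top.mpr hsurj])
      (by rw [← map_commutator, hYA]) rfl
    have hBn : ∀ U : Subgroup X, A ≤ normalizer (U : Set X) → U ≤ Y → ∀ B₀ : Subgroup X, B₀ ≤ A →
        (U ⊓ centralizer (B₀ : Set X)).map f = U.map f ⊓ centralizer (B₀.map f : Set (X ⧸ V)) :=
      fun U hU hUY B₀ hB₀ => map_inf_centralizer f (hB₀.trans hU)
        ((hcop.coprime_dvd_left (card_dvd_of_le hB₀)).coprime_dvd_right (card_dvd_of_le hUY))
        (Or.inl (isSolvable_of_le hsA hB₀))
    have h4 : centJoin (A.map f) (B.map f) (Y.map f) ≤ (centJoin A B Y).map f := by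
      refine iSup_le ?_
      rintro ⟨B', hB', _, ⟨b, hb, rfl⟩, hBb⟩
      dsimp only
      let B₀ : Subgroup X := B ⊓ B'.comap f
      have hB₀map : B₀.map f = B' := by
        refine le_antisymm (map_le_iff_le_comap.mpr inf_le_right) fun y hy => ?_
        obtain ⟨x, hx, rfl⟩ := hB' hy
        exact ⟨x, mem_inf.mpr ⟨hx, hy⟩, rfl⟩
      have hsup : B₀ ⊔ zpowers b = B := by
        refine le_antisymm (sup_le inf_le_left (zpowers_le.mpr hb)) fun x hx => ?_
        have hcomm : ∀ y ∈ B.map f, ∀ z ∈ B.map f, y * z = z * y := fun y hy z hz =>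
          congrArg Subtype.val
            (mul_comm' (⟨y, map_mono hB hy⟩ : A.map f) ⟨z, map_mono hB hz⟩)
        have hnorm : zpowers (f b) ≤ normalizer (B' : Set (X ⧸ V)) := by
          intro y hy
          have hy' : y ∈ B.map f :=
            zpowers_le.mpr (show f b ∈ B.map f from ⟨b, hb, rfl⟩) hy
          rw [mem_normalizer_iff]
          intro z
          constructor
          · intro hz
            rw [hcomm y hy' z (hB' hz), mul_inv_cancel_right]; exact hz
          · intro hz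
            have h := hcomm y⁻¹ (inv_mem hy') _ (hB' hz)
            rw [show z = y⁻¹ * (y * z * y⁻¹) * y by group, h, inv_mul_cancel_right]; exact hz
        have h5 : f x ∈ B' ⊔ zpowers (f b) := by rw [hBb]; exact ⟨x, hx, rfl⟩
        obtain ⟨z, hz, c, hc, hzc⟩ := (mem_sup_of_le_normalizer hnorm).mp h5
        obtain ⟨k, rfl⟩ := mem_zpowers_iff.mp hc
        have h6 : x * (b ^ k)⁻¹ ∈ B₀ := mem_inf.mpr ⟨mul_mem hx (inv_mem (zpow_mem hb k)), by
          show f (x * (b ^ k)⁻¹) ∈ B'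
          rw [map_mul, map_inv, map_zpow, ← hzc, mul_inv_cancel_right]; exact hz⟩
        have h7 := mul_mem (mem_sup_left (T := zpowers b) h6)
          (mem_sup_right (S := B₀) (zpow_mem (mem_zpowers b) k))
        rwa [inv_mul_cancel_right] at h7
      have hB₀A : B₀ ≤ A := inf_le_left.trans hB
      let K : Subgroup X := ⁅Y ⊓ centralizer (B₀ : Set X), A⁆
      have hKA : A ≤ normalizer (K : Set X) := normalizer_commutator_ge_right _ A
      have hKY : K ≤ Y :=
        (le_normalizer_iff_commutator_le_left.mp (le_normalizer_inf_centralizer hAab hB₀A hAY)).trans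
          inf_le_left
      have hKmap : K.map f =
          ⁅Y.map f ⊓ centralizer (B' : Set (X ⧸ V)), A.map f⁆ := by
        rw [map_commutator, hBn Y hAY le_rfl B₀ hB₀A, hB₀map]
      rw [← hKmap]
      intro x hx
      obtain ⟨⟨-, hxB⟩, hxK⟩ := mem_inf.mp hx |>.imp_left mem_inf.mp
      have hxm : x ∈ (K ⊓ centralizer (B : Set X)).map f := by
        rw [hBn K hKA hKY B hB]; exact mem_inf.mpr ⟨hxK, hxB⟩
      obtain ⟨y, hy, rfl⟩ := hxm
      exact ⟨y, mem_centJoin ⟨inf_le_left, b, hb, hsup⟩ (hKY hy.1) hy.2 hy.1, rfl⟩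
    intro x hx
    obtain ⟨y, hy, hyx⟩ := h4 (h3 (by rw [← hBn Y hAY le_rfl B hB]; exact ⟨x, hx, rfl⟩))
    have hz : y⁻¹ * x ∈ V := (QuotientGroup.eq_one_iff _).mp (by
      show f (y⁻¹ * x) = 1
      rw [map_mul, map_inv, hyx, inv_mul_cancel])
    have := mul_mem (mem_sup_left (T := V) hy) (mem_sup_right (S := centJoin A B Y) hz)
    rwa [mul_inv_cancel_left] at this
  have hRX : centJoin A B Y ≤ Y ⊓ centralizer (B : Set X) :=
    iSup_le fun _ => inf_le_left
  -- it is enough to find a suitable normal subgroup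
  have hend : ∀ V : Subgroup X, V.Normal → V ≤ Y → V ≠ ⊥ →
      V ⊓ centralizer (A : Set X) ≤ centJoin A B Y →
      Y ⊓ centralizer (B : Set X) ≤ centJoin A B Y := by
    intro V hV hVY hV1 hVA x hx
    obtain ⟨r, hr, v, hv, rfl⟩ := mem_sup_of_normal_right.mp (hquot V hV hVY hV1 hx)
    refine mul_mem hr ?_
    have hv' : v ∈ V ⊓ centralizer (B : Set X) := mem_inf.mpr ⟨hv, (mem_inf.mp (by
      have := mul_mem (inv_mem (hRX hr)) hx
      rwa [inv_mul_cancel_left] at this)).2⟩
    obtain ⟨n, hn, c, hc, rfl⟩ := exists_mul_eq'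
      (le_normalizer_inf_centralizer hAab hB (hAn V hV))
      (hcop.coprime_dvd_right (card_dvd_of_le (inf_le_left.trans hVY))) (Or.inl hsA) hv'
    refine mul_mem ?_ (hVA (mem_inf.mpr ⟨(mem_inf.mp (mem_inf.mp hc).1).1, (mem_inf.mp hc).2⟩))
    have h2 : n ∈ V ⊓ centralizer (B : Set X) :=
      le_normalizer_iff_commutator_le_left.mp (le_normalizer_inf_centralizer hAab hB (hAn V hV)) hn
    exact mem_centJoin ⟨le_rfl, 1, one_mem B, by simp⟩ (hVY (mem_inf.mp h2).1) (mem_inf.mp h2).2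
      (commutator_mono (inf_le_inf_right _ hVY) le_rfl hn)
  by_cases hY1 : Y = ⊥
  · rw [hY1]; exact inf_le_left.trans bot_le
  by_cases hcase : ∃ W : Subgroup X, W.Normal ∧ W ≤ Y ∧ IsMulCommutative W ∧ ⁅W, Y⁆ ≠ ⊥
  · obtain ⟨W, hWn, hWY, hWab, hne⟩ := hcase
    exact hend ⁅W, Y⁆ inferInstance ((commutator_le_right W Y)) hne
      (commutator_inf_le_centJoin hAab hB inferInstance hcop hYA hWY hWab)
  push Not at hcase
  let Z : Subgroup X := Y ⊓ center X
  by_cases hZ : ∃ W : Subgroup X, W.Normal ∧ W ≤ Y ∧ IsMulCommutative W ∧ ⁅W, A⁆ ≠ ⊥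
  · obtain ⟨W, hWn, hWY, hWab, hne⟩ := hZ
    have hsub : ⁅W, A⁆ ≤ W := le_normalizer_iff_commutator_le_left.mp (hAn W hWn)
    have hN : (⁅W, A⁆).Normal := by
      rw [← normalizer_eq_top_iff, eq_top_iff, ← htop]
      refine sup_le (fun y hy => ?_) (normalizer_commutator_ge_right W A)
      have hyW : y ∈ centralizer (W : Set X) := mem_centralizer_iff.mpr fun w hw =>
        commutatorElement_eq_one_iff_mul_comm.mp
          (mem_bot.mp (hcase W hWn hWY hWab ▸ commutator_mem_commutator hw hy))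
      rw [mem_normalizer_iff]
      intro x
      constructor
      · intro hx
        rw [← mem_centralizer_iff.mp hyW x (hsub hx), mul_inv_cancel_right]; exact hx
      · intro hx
        have hx2 := mem_centralizer_iff.mp (inv_mem hyW) _ (hsub hx)
        rw [show x = y⁻¹ * (y * x * y⁻¹) * y by group, ← hx2, inv_mul_cancel_right]; exact hx
    exact hend ⁅W, A⁆ hN (hsub.trans hWY) hne (by
      rw [commutator_inf_centralizer_eq_bot hWab (hAn W hWn)
        (hcop.coprime_dvd_right (card_dvd_of_le hWY))]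
      exact bot_le)
  push Not at hZ
  have habZ : ∀ W : Subgroup X, W.Normal → W ≤ Y → IsMulCommutative W → W ≤ Z := by
    intro W hWn hWY hWab w hw
    refine mem_inf.mpr ⟨hWY hw, mem_center_iff.mpr fun g => ?_⟩
    have hle : Y ⊔ A ≤ centralizer (W : Set X) := by
      refine sup_le ?_ ?_ <;> intro y hy <;> refine mem_centralizer_iff.mpr fun v hv => ?_
      · exact commutatorElement_eq_one_iff_mul_comm.mp
          (mem_bot.mp (hcase W hWn hWY hWab ▸ commutator_mem_commutator hv hy))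
      · exact commutatorElement_eq_one_iff_mul_comm.mp
          (mem_bot.mp (hZ W hWn hWY hWab ▸ commutator_mem_commutator hv hy))
    rw [htop] at hle
    exact (mem_centralizer_iff.mp (hle (mem_top g)) w hw).symm
  have hYZ : ¬ Y ≤ Z := fun h => hY1 (by
    rw [← hYA, commutator_eq_bot_iff_le_centralizer]
    exact h.trans (inf_le_right.trans fun z hz => mem_centralizer_iff.mpr fun a _ =>
      mem_center_iff.mp hz a))
  let D : ℕ → Subgroup X := fun k => (derivedSeries Y k).map Y.subtype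
  obtain ⟨n, hn⟩ : ∃ n, D n ≤ Z := by
    obtain ⟨n, hn⟩ := hsol.solvable
    exact ⟨n, by simp [D, hn]⟩
  obtain ⟨k, hk, hk'⟩ : ∃ k, ¬ D k ≤ Z ∧ D (k + 1) ≤ Z := by
    have h0 : ¬ D 0 ≤ Z := by
      simpa [D, derivedSeries_zero, ← MonoidHom.range_eq_map] using hYZ
    induction n with
    | zero => exact absurd hn h0
    | succ n ihn => exact (em (D n ≤ Z)).elim ihn fun h => ⟨n, h, hn⟩
  have : (D k).Normal := by
    show ((derivedSeries Y k).map Y.subtype).Normal
    infer_instance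
  have hcenter : Z ≤ center X := inf_le_right
  have hZn : Z.Normal := inferInstance
  let W : Subgroup X := D k ⊔ Z
  have hWY : W ≤ Y := sup_le (map_subtype_le _) inf_le_left
  have hWW : ⁅W, W⁆ ≤ Z := commutator_le.mpr fun u hu v hv => by
    obtain ⟨x, hx, z, hz, rfl⟩ := mem_sup_of_normal_right.mp hu
    obtain ⟨y, hy, z', hz', rfl⟩ := mem_sup_of_normal_right.mp hv
    have hz1 := mem_center_iff.mp (hcenter hz)
    have hz2 := mem_center_iff.mp (hcenter hz')
    have e : ⁅x * z, y * z'⁆ = ⁅x, y⁆ := by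
      simp only [commutatorElement_def, mul_inv_rev]
      calc x * z * (y * z') * (z⁻¹ * x⁻¹) * (z'⁻¹ * y⁻¹)
          = x * (z * (y * z') * z⁻¹) * (x⁻¹ * z'⁻¹ * y⁻¹) := by group
        _ = x * y * (z' * x⁻¹) * z'⁻¹ * y⁻¹ := by rw [← hz1 (y * z')]; group
        _ = x * y * x⁻¹ * y⁻¹ := by rw [← hz2 x⁻¹]; group
    rw [e]
    refine hk' ?_
    show ⁅x, y⁆ ∈ (derivedSeries Y (k + 1)).map Y.subtype
    rw [derivedSeries_succ, map_commutator]
    exact commutator_mem_commutator hx hy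
  have hne : ⁅W, W⁆ ≠ ⊥ := fun h => hk (le_trans le_sup_left (habZ W inferInstance hWY
    ⟨⟨fun x y => Subtype.ext (commutatorElement_eq_one_iff_mul_comm.mp
      (mem_bot.mp (h ▸ commutator_mem_commutator x.2 y.2)))⟩⟩))
  have hR : Y ⊓ centralizer (B : Set X) ≤ centJoin A B Y ⊔ Z :=
    hquot Z hZn inf_le_left fun h => hne (le_bot_iff.mp (h ▸ hWW))
  refine hend ⁅W, W⁆ inferInstance (hWW.trans inf_le_left) hne (inf_le_left.trans ?_)
  let R := centJoin A B Y
  -- the elements of `W` whose commutators with `W` lie in `R`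
  have hcent : ∀ x ∈ W, ∀ y ∈ W, ∀ g : X, g * ⁅x, y⁆ * g⁻¹ = ⁅x, y⁆ := fun x hx y hy g => by
    rw [mem_center_iff.mp (hcenter (hWW (commutator_mem_commutator hx hy))) g,
      mul_inv_cancel_right]
  let S : Subgroup X :=
    { carrier := {x | x ∈ W ∧ ∀ w ∈ W, ⁅x, w⁆ ∈ R}
      one_mem' := ⟨one_mem W, fun w _ => by rw [commutatorElement_one_left]; exact one_mem R⟩
      mul_mem' := fun {x y} hx hy => ⟨mul_mem hx.1 hy.1, fun w hw => by
        have e : ⁅x * y, w⁆ = x * ⁅y, w⁆ * x⁻¹ * ⁅x, w⁆ := by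
          simp only [commutatorElement_def]; group
        rw [e, hcent y hy.1 w hw x]
        exact mul_mem (hy.2 w hw) (hx.2 w hw)⟩
      inv_mem' := fun {x} hx => ⟨inv_mem hx.1, fun w hw => by
        have e : ⁅x⁻¹, w⁆ = (x⁻¹ * ⁅x, w⁆ * x⁻¹⁻¹)⁻¹ := by
          simp only [commutatorElement_def]; group
        rw [e, hcent x hx.1 w hw x⁻¹]
        exact inv_mem (hx.2 w hw)⟩ }
  have hWA : A ≤ normalizer (W : Set X) := hAn W inferInstance
  have hcW := hcop.coprime_dvd_right (card_dvd_of_le hWY)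
  have hW1 : ⁅W, A⁆ ≤ W := le_normalizer_iff_commutator_le_left.mp hWA
  have hS1 : ⁅W, A⁆ ≤ S := by
    rw [← commutator_commutator_eq hWA hcW (Or.inl hsA)]
    refine (commutator_le_iSup_cocyclic hAab hB (normalizer_commutator_ge_right W A)
      (hcW.coprime_dvd_right (card_dvd_of_le hW1))).trans (iSup_le ?_)
    rintro ⟨B₀, hB₀⟩ x hx
    have hB₀A : B₀ ≤ A := hB₀.1.trans hB
    have hxK : x ∈ ⁅Y ⊓ centralizer (B₀ : Set X), A⁆ :=
      commutator_mono (inf_le_inf_right _ (hW1.trans hWY)) le_rfl hx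
    obtain ⟨hxW, hxB⟩ := mem_inf.mp (le_normalizer_iff_commutator_le_left.mp
      (le_normalizer_inf_centralizer hAab hB₀A (normalizer_commutator_ge_right W A)) hx)
    refine ⟨hW1 hxW, fun w hw => ?_⟩
    obtain ⟨c, hc, u, hu, rfl⟩ := exists_mul_eq' (hB₀A.trans hWA)
      (hcW.coprime_dvd_left (card_dvd_of_le hB₀A)) (Or.inl (isSolvable_of_le hsA hB₀A)) hw
    obtain ⟨huW, huB⟩ := mem_inf.mp hu
    have hcx : ⁅x, c⁆ = 1 := by
      rw [commutatorElement_eq_one_iff_mul_comm]
      suffices ⁅W, B₀⁆ ≤ centralizer ({x} : Set X) from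
        mem_centralizer_iff.mp (this hc) x rfl
      refine commutator_le.mpr fun v hv b hb => mem_centralizer_iff.mpr ?_
      intro y hy
      rw [Set.mem_singleton_iff.mp hy]
      rw [← commutatorElement_eq_one_iff_mul_comm]
      have hb' : b⁻¹ * x * b = x := by
        rw [mul_assoc, ← mem_centralizer_iff.mp hxB b hb, inv_mul_cancel_left]
      have e1 : ⁅x, ⁅v, b⁆⁆ = ⁅x, v⁆ * (v * (b * ⁅b⁻¹ * x * b, v⁻¹⁆ * b⁻¹) * v⁻¹) := by
        simp only [commutatorElement_def]; group
      have e2 : ⁅x, v⁻¹⁆ = v⁻¹ * ⁅x, v⁆⁻¹ * v⁻¹⁻¹ := by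
        simp only [commutatorElement_def]; group
      rw [e1, hb', hcent x (hW1 hxW) v⁻¹ (inv_mem hv) b, hcent x (hW1 hxW) v⁻¹ (inv_mem hv) v, e2]
      have h := hcent x (hW1 hxW) v hv v⁻¹
      rw [show v⁻¹ * ⁅x, v⁆⁻¹ * v⁻¹⁻¹ = (v⁻¹ * ⁅x, v⁆ * v⁻¹⁻¹)⁻¹ by group, h, mul_inv_cancel]
    have hcW' : c ∈ W := le_normalizer_iff_commutator_le_left.mp (hB₀A.trans hWA) hc
    have e : ⁅x, c * u⁆ = ⁅x, c⁆ * (c * ⁅x, u⁆ * c⁻¹) := by
      simp only [commutatorElement_def]; group
    rw [e, hcx, one_mul, hcent x (hW1 hxW) u huW c]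
    have hz := hWW (commutator_mem_commutator (hW1 hxW) huW)
    refine mem_centJoin hB₀ (mem_inf.mp hz).1
      (mem_centralizer_iff.mpr fun g _ => mem_center_iff.mp (hcenter hz) g) ?_
    rw [commutatorElement_def, show x * u * x⁻¹ * u⁻¹ = x * (u * x⁻¹ * u⁻¹) by group]
    exact mul_mem hxK ((mem_normalizer_iff.mp (normalizer_commutator_ge_left _ A
      (mem_inf.mpr ⟨hWY huW, huB⟩)) _).mp (inv_mem hxK))
  have hS2 : ∀ c ∈ W, c ∈ centralizer (A : Set X) → c ∈ S := by
    intro c hcW' hcA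
    refine ⟨hcW', fun w hw => ?_⟩
    obtain ⟨n, hn, c', hc', rfl⟩ := exists_mul_eq' hWA hcW (Or.inl hsA) hw
    obtain ⟨hc'W, hc'A⟩ := mem_inf.mp hc'
    have e : ⁅c, n * c'⁆ = ⁅n, c⁆⁻¹ * (n * ⁅c, c'⁆ * n⁻¹) := by
      simp only [commutatorElement_def]; group
    rw [e, hcent c hcW' c' hc'W n]
    refine mul_mem (inv_mem ((hS1 hn).2 c hcW')) ?_
    obtain ⟨r, hr, z, hz, rfl⟩ := mem_sup_of_normal_right.mp
      (hR (mem_inf.mpr ⟨hWY hcW', centralizer_le hB hcA⟩))
    have hz1 := mem_center_iff.mp (hcenter hz)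
    have e2 : ⁅r * z, c'⁆ = r * (c' * r⁻¹ * c'⁻¹) := by
      simp only [commutatorElement_def, mul_inv_rev]
      calc r * z * c' * (z⁻¹ * r⁻¹) * c'⁻¹ = r * (z * c') * z⁻¹ * r⁻¹ * c'⁻¹ := by group
        _ = r * (c' * r⁻¹ * c'⁻¹) := by rw [← hz1 c']; group
    rw [e2]
    exact mul_mem hr ((mem_normalizer_iff.mp
      (mem_normalizer_centJoin hB (hWY hc'W) hc'A) _).mp (inv_mem hr))
  refine commutator_le.mpr fun x hx y hy => ?_
  suffices hxS : x ∈ S from hxS.2 y hy
  obtain ⟨n, hn, c, hc, rfl⟩ := exists_mul_eq' hWA hcW (Or.inl hsA) hx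
  exact mul_mem (hS1 hn) (hS2 c (mem_inf.mp hc).1 (mem_inf.mp hc).2)

/-- `C_Y(B)` is generated by the `C_Y(B) ∩ [C_Y(B₀), A]`, `B / B₀` cyclic, when `Y = [Y, A]`. -/
theorem centJoin_eq {A B Y : Subgroup X} (hAab : IsMulCommutative A) (hB : B ≤ A)
    (hA : A ≤ normalizer (Y : Set X)) (hsol : Group.IsSolvable Y)
    (hcop : (Nat.card A).Coprime (Nat.card Y)) (hYA : ⁅Y, A⁆ = Y) :
    Y ⊓ centralizer (B : Set X) ≤ centJoin A B Y := by
  let K : Subgroup X := Y ⊔ A
  have hmapY : (Y.subgroupOf K).map K.subtype = Y := by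
    rw [subgroupOf_map_subtype, inf_eq_left.mpr le_sup_left]
  have hmapA : (A.subgroupOf K).map K.subtype = A := by
    rw [subgroupOf_map_subtype, inf_eq_left.mpr le_sup_right]
  have hBK : B ≤ K := hB.trans le_sup_right
  have hmapB : (B.subgroupOf K).map K.subtype = B := by
    rw [subgroupOf_map_subtype, inf_eq_left.mpr hBK]
  have : (Y.subgroupOf K).Normal :=
    normal_subgroupOf_of_le_normalizer (sup_le le_normalizer hA)
  have key := centJoin_eq_of_top (X := K) (A := A.subgroupOf K) (B := B.subgroupOf K)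
    (Y := Y.subgroupOf K)
    ⟨⟨fun x y => Subtype.ext (Subtype.ext
      (congrArg Subtype.val (mul_comm' (⟨_, x.2⟩ : A) ⟨_, y.2⟩) :))⟩⟩
    (fun x hx => hB hx)
    (Group.isSolvable_of_surjective (f := (subgroupOfEquivOfLe (le_sup_left : Y ≤ K)).symm.toMonoidHom)
      (MulEquiv.surjective _))
    (by rwa [card_subgroupOf le_sup_right, card_subgroupOf le_sup_left])
    (by rw [← subgroupOf_sup le_sup_left le_sup_right, subgroupOf_self])
    (by
      apply map_injective K.subtype_injective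
      rw [map_commutator, hmapY, hmapA, hYA])
  intro x hx
  have hxK : x ∈ K := mem_sup_left (mem_inf.mp hx).1
  have h1 : (⟨x, hxK⟩ : K) ∈ Y.subgroupOf K ⊓ centralizer (B.subgroupOf K : Set K) :=
    mem_inf.mpr ⟨(mem_inf.mp hx).1, mem_centralizer_iff.mpr fun b hb =>
      Subtype.ext (mem_centralizer_iff.mp (mem_inf.mp hx).2 b hb)⟩
  have h2 : x ∈ (centJoin (A.subgroupOf K) (B.subgroupOf K) (Y.subgroupOf K)).map K.subtype :=
    ⟨_, key h1, rfl⟩
  have hle : (centJoin (A.subgroupOf K) (B.subgroupOf K) (Y.subgroupOf K)).map K.subtype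
      ≤ centJoin A B Y := by
    simp only [centJoin, Subgroup.map_iSup]
    refine iSup_le ?_
    rintro ⟨B₀, hB₀, b, hb, hBb⟩
    have h3 : B₀.map K.subtype ≤ B := (map_mono hB₀).trans hmapB.le
    have h4 : B₀.map K.subtype ⊔ zpowers (b : X) = B := by
      have := congrArg (Subgroup.map K.subtype) hBb
      rwa [Subgroup.map_sup, MonoidHom.map_zpowers, hmapB] at this
    rintro _ ⟨y, hy, rfl⟩
    obtain ⟨hy1, hy2⟩ := mem_inf.mp hy
    obtain ⟨hyY, hyB⟩ := mem_inf.mp hy1
    refine mem_centJoin ⟨h3, b, hb, h4⟩ hyY (mem_centralizer_iff.mpr fun g hg =>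
      congrArg Subtype.val (mem_centralizer_iff.mp hyB ⟨g, hBK hg⟩ hg)) ?_
    have h5 := mem_map_of_mem K.subtype hy2
    rw [map_commutator] at h5
    refine commutator_mono ?_ hmapA.le h5
    exact (map_inf_le _ _ _).trans (le_inf (inf_le_left.trans hmapY.le)
      (inf_le_right.trans (map_centralizer_le_centralizer_image _ _)))
  exact hle h2

end CfsgLib.Coprime
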