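import Cfsg.Agent.Lib.Transfer.Frobenius
import Mathlib.GroupTheory.SchurZassenhaus
import Mathlib.Algebra.Group.ConjFinite
import Mathlib.Algebra.BigOperators.Fin
import Mathlib.RingTheory.Coprime.Lemmas
import Mathlib.Tactic.LinearCombination
set_option autoImplicit false

/-!
Groups with many conjugacy classes of `π`-elements.
-/

namespace CfsgLib.Coprime

open Subgroup CfsgLib.Transfer

variable {G : Type*} [Group G] [Finite G]

/-- The number of classes consisting of `p`-elements. -/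
noncomputable def pClassNumber (p : ℕ) (G : Type*) [Group G] : ℕ :=
  Nat.card {c : ConjClasses G // ∀ x ∈ c.carrier, ∃ k : ℕ, orderOf x = p ^ k}

/-- The conjugacy classes meeting a set. -/
noncomputable def classesOf [Fintype G] (s : Finset G) : Finset (ConjClasses G) := by
  classical exact s.image ConjClasses.mk

omit [Finite G] in
theorem mem_classesOf [Fintype G] {s : Finset G} {c : ConjClasses G} :
    c ∈ classesOf s ↔ ∃ x ∈ s, ConjClasses.mk x = c := by
  classical
  simp [classesOf]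

omit [Finite G] in
theorem mk_conj (t x : G) : ConjClasses.mk (t * x * t⁻¹) = ConjClasses.mk x :=
  ConjClasses.mk_eq_mk_iff_isConj.2 (isConj_iff.2 ⟨t⁻¹, by group⟩)

omit [Finite G] in
/-- Elements with a second conjugate in the set. -/
theorem two_mul_sdiff_le [Fintype G] [DecidableEq (ConjClasses G)] {s : Finset G} {I : Finset (ConjClasses G)}
    (h : ∀ x ∈ s, ConjClasses.mk x ∉ I → ∃ y ∈ s, y ≠ x ∧ ConjClasses.mk y = ConjClasses.mk x) :
    2 * (classesOf s \ I).card + (s.filter fun x => ConjClasses.mk x ∈ I).card ≤ s.card := by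
  classical
  have e := Finset.card_filter_add_card_filter_not (s := s) (fun x => ConjClasses.mk x ∈ I)
  have key : 2 * (classesOf s \ I).card ≤ (s.filter fun x => ¬ ConjClasses.mk x ∈ I).card := by
    refine Finset.mul_card_image_le_card_of_maps_to (f := ConjClasses.mk) (fun a ha => Finset.mem_sdiff.2
      ⟨mem_classesOf.2 ⟨a, (Finset.mem_filter.1 ha).1, rfl⟩, (Finset.mem_filter.1 ha).2⟩) 2 (fun c hc => ?_)
    obtain ⟨hc1, hc2⟩ := Finset.mem_sdiff.1 hc
    obtain ⟨x, hx, rfl⟩ := mem_classesOf.1 hc1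
    obtain ⟨y, hy, hyx, hm⟩ := h x hx hc2
    rw [← Finset.card_pair hyx]
    refine Finset.card_le_card fun z hz => ?_
    rcases Finset.mem_insert.1 hz with rfl | hz
    · simp [hy, hm, hc2]
    · rw [Finset.mem_singleton] at hz; subst hz; simp [hx, hc2]
  omega

omit [Finite G] in
/-- Elements moved by an element of odd order have three conjugates in an invariant set. -/
theorem three_mul_classes_le [Fintype G] {s f : Finset G} (hfs : f ⊆ s)
    (h : ∀ x ∈ s, x ∉ f → ∃ t : G, Odd (orderOf t) ∧ t * x ≠ x * t ∧ ∀ y ∈ s, t * y * t⁻¹ ∈ s) :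
    3 * (classesOf s).card ≤ s.card + 2 * f.card := by
  classical
  have hIf : (classesOf f).card ≤ f.card := by
    rw [classesOf]; exact Finset.card_image_le
  have key : 3 * (classesOf s \ classesOf f).card ≤ (s.filter fun x => x ∉ f).card := by
    refine le_trans ?_ (Finset.card_le_card (s := s.filter fun x => ConjClasses.mk x ∉ classesOf f) (fun z hz =>
      Finset.mem_filter.2 ⟨(Finset.mem_filter.1 hz).1, fun hzf => (Finset.mem_filter.1 hz).2
        (mem_classesOf.2 ⟨z, hzf, rfl⟩)⟩))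
    refine Finset.mul_card_image_le_card_of_maps_to (f := ConjClasses.mk) (fun a ha => Finset.mem_sdiff.2
      ⟨mem_classesOf.2 ⟨a, (Finset.mem_filter.1 ha).1, rfl⟩, (Finset.mem_filter.1 ha).2⟩) 3 (fun c hc => ?_)
    obtain ⟨hc1, hc2⟩ := Finset.mem_sdiff.1 hc
    obtain ⟨x, hx, rfl⟩ := mem_classesOf.1 hc1
    have hnf : ∀ y, ConjClasses.mk y = ConjClasses.mk x → y ∉ f := fun y hy hyf =>
      hc2 (mem_classesOf.2 ⟨y, hyf, hy⟩)
    obtain ⟨t, ⟨m, hm⟩, htx, hts⟩ := h x hx (hnf x rfl)
    set a := t * x * t⁻¹ with ha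
    set b := t * a * t⁻¹ with hb
    have hax : a ≠ x := fun e => htx (by
      calc t * x = t * x * t⁻¹ * t := by group
        _ = x * t := by rw [← ha, e])
    have hbx : b ≠ x := fun e => by
      have hc : Commute (t ^ 2) x := by
        show t ^ 2 * x = x * t ^ 2
        calc t ^ 2 * x = b * t ^ 2 := by rw [hb, ha, pow_two]; group
          _ = _ := by rw [e]
      have h2 : Commute ((t ^ 2) ^ (m + 1)) x := hc.pow_left _
      rw [← pow_mul, show 2 * (m + 1) = orderOf t + 1 by omega, pow_succ, pow_orderOf_eq_one, one_mul] at h2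
      exact htx h2.eq
    have hba : b ≠ a := fun e => hax (by
      rw [hb, ha] at e
      exact mul_left_cancel (mul_right_cancel e))
    have hm1 : ConjClasses.mk a = ConjClasses.mk x := mk_conj t x
    have hm2 : ConjClasses.mk b = ConjClasses.mk x := (mk_conj t a).trans hm1
    have hcard : ({x, a, b} : Finset G).card = 3 :=
      Finset.card_eq_three.2 ⟨x, a, b, hax.symm, hbx.symm, hba.symm, rfl⟩
    rw [← hcard]
    refine Finset.card_le_card fun z hz => ?_
    simp only [Finset.mem_insert, Finset.mem_singleton] at hz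
    rcases hz with rfl | rfl | rfl
    · simp [hx, hc2]
    · have ha_s : a ∈ s := hts x hx
      simp [ha_s, hm1, hc2]
    · have hb_s : b ∈ s := hts a (hts x hx)
      simp [hb_s, hm2, hc2]
  have e := Finset.card_filter_add_card_filter_not (s := s) (fun x => x ∈ f)
  have e2 : (s.filter fun x => x ∈ f) = f := by
    rw [Finset.filter_mem_eq_inter, Finset.inter_eq_right]; exact hfs
  rw [e2] at e
  have e3 : (classesOf s).card ≤ (classesOf s \ classesOf f).card + (classesOf f).card := Finset.card_le_card_sdiff_add_card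
  omega

variable {p : ℕ} [Fact p.Prime]

theorem exists_conj_mem_sylow (P : Sylow p G) {x : G} {k : ℕ} (hx : orderOf x = p ^ k) :
    ∃ g : G, g * x * g⁻¹ ∈ (P : Subgroup G) := by
  obtain ⟨R, hR⟩ := (IsPGroup.of_card (n := k) (by rw [Nat.card_zpowers, hx] :
    Nat.card (zpowers x) = p ^ k)).exists_le_sylow
  obtain ⟨g, hg⟩ := MulAction.exists_smul_eq G R P
  refine ⟨g, ?_⟩
  have h2 : (MulAut.conj g).toMonoidHom x ∈ ((g • R : Sylow p G) : Subgroup G) :=
    mem_map_of_mem (MulAut.conj g).toMonoidHom (hR (mem_zpowers x))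
  rw [hg] at h2
  exact h2

theorem pClassNumber_eq [Fintype G] (P : Sylow p G) [DecidablePred fun x => x ∈ (P : Subgroup G)] :
    pClassNumber p G = (classesOf (Finset.univ.filter fun x => x ∈ (P : Subgroup G))).card := by
  classical
  have := Fintype.ofFinite (ConjClasses G)
  rw [pClassNumber, Nat.card_eq_fintype_card, Fintype.card_subtype]
  congr 1
  ext c
  simp only [Finset.mem_filter, Finset.mem_univ, true_and, mem_classesOf]
  constructor
  · intro hc
    obtain ⟨x, rfl⟩ := ConjClasses.exists_rep c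
    obtain ⟨k, hk⟩ := hc x ConjClasses.mem_carrier_mk
    obtain ⟨g, hg⟩ := exists_conj_mem_sylow P hk
    exact ⟨_, hg, mk_conj g x⟩
  · rintro ⟨x, hx, rfl⟩ y hy
    obtain ⟨k, hk⟩ := IsPGroup.iff_orderOf.1 P.2 ⟨x, hx⟩
    rw [Subgroup.orderOf_mk] at hk
    obtain ⟨g, hg⟩ := isConj_iff.1 (ConjClasses.mem_carrier_iff_mk_eq.1 hy |> ConjClasses.mk_eq_mk_iff_isConj.1).symm
    exact ⟨k, by rw [← hg, ← MulAut.conj_apply, MulEquiv.orderOf_eq, hk]⟩

theorem pClassNumber_le_card_conjClasses (P : Sylow p G) :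
    pClassNumber p G ≤ Nat.card (ConjClasses (P : Subgroup G)) := by
  classical
  have := Fintype.ofFinite G
  have := Fintype.ofFinite (ConjClasses (P : Subgroup G))
  rw [pClassNumber_eq P, Nat.card_eq_fintype_card, ← Finset.card_univ]
  refine le_trans (Finset.card_le_card fun c hc => ?_)
    (Finset.card_image_le (f := ConjClasses.map (P : Subgroup G).subtype))
  obtain ⟨x, hx, rfl⟩ := mem_classesOf.1 hc
  simp only [Finset.mem_filter, Finset.mem_univ, true_and] at hx
  exact Finset.mem_image.2 ⟨ConjClasses.mk ⟨x, hx⟩, Finset.mem_univ _, rfl⟩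

theorem pClassNumber_le_card (P : Sylow p G) : pClassNumber p G ≤ Nat.card (P : Subgroup G) :=
  (pClassNumber_le_card_conjClasses P).trans (Nat.card_le_card_of_surjective _ ConjClasses.mk_surjective)

theorem pClassNumber_of_complement (P : Sylow p G) (h : Cfsg.HasNormalPComplement p G) :
    pClassNumber p G = Nat.card (ConjClasses (P : Subgroup G)) := by
  classical
  refine le_antisymm (pClassNumber_le_card_conjClasses P) ?_
  obtain ⟨K, hK, hc⟩ := (hasNormalPComplement_iff_exists_isComplement' P).1 h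
  have := Finite.of_surjective (ConjClasses.mk (α := G)) ConjClasses.mk_surjective
  refine Nat.card_le_card_of_injective
    (fun c => ⟨ConjClasses.map (P : Subgroup G).subtype c, fun y hy => ?_⟩) fun a b hab => ?_
  · obtain ⟨x, rfl⟩ := ConjClasses.exists_rep c
    obtain ⟨k, hk⟩ := IsPGroup.iff_orderOf.1 P.2 x
    obtain ⟨g, hg⟩ := isConj_iff.1 (ConjClasses.mem_carrier_iff_mk_eq.1 hy |> ConjClasses.mk_eq_mk_iff_isConj.1).symm
    refine ⟨k, ?_⟩
    rw [← hg, ← MulAut.conj_apply, MulEquiv.orderOf_eq, Subgroup.coe_subtype, Subgroup.orderOf_coe, hk]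
  obtain ⟨x, rfl⟩ := ConjClasses.exists_rep a
  obtain ⟨y, rfl⟩ := ConjClasses.exists_rep b
  have hab' : IsConj (x : G) (y : G) := ConjClasses.mk_eq_mk_iff_isConj.1 (congrArg Subtype.val hab)
  obtain ⟨g, hg⟩ := isConj_iff.1 hab'
  have hg' : g ∈ (↑(K ⊔ (P : Subgroup G)) : Set G) := by rw [hc.sup_eq_top]; exact mem_top g
  rw [normal_mul K (P : Subgroup G)] at hg'
  obtain ⟨n, hn, u, hu, rfl⟩ := hg'
  refine ConjClasses.mk_eq_mk_iff_isConj.2 (isConj_iff.2 ⟨⟨u, hu⟩, ?_⟩)
  set z : (P : Subgroup G) := ⟨u, hu⟩ * x * ⟨u, hu⟩⁻¹ with hz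
  have hzy : (y : G) * (z : G)⁻¹ ∈ K := by
    rw [← hg, hz]
    push_cast
    rw [show n * u * (x : G) * (n * u)⁻¹ * (u * x * u⁻¹)⁻¹ =
      n * ((u * x * u⁻¹) * n⁻¹ * (u * x * u⁻¹)⁻¹) by group]
    exact mul_mem hn (hK.conj_mem _ (inv_mem hn) _)
  have h1 : (y : G) * (z : G)⁻¹ = 1 := mem_bot.1 (hc.disjoint.le_bot ⟨hzy, (P : Subgroup G).mul_mem y.2 ((P : Subgroup G).inv_mem z.2)⟩)
  exact Subtype.ext (mul_inv_eq_one.1 h1).symm

omit [Fact p.Prime] in
/-- A coprime element moving a `p`-group has a fixed-point subgroup of index at least `4` (`p = 2`)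
or of index different from `3`. -/
theorem relIndex_fixed_ne {Q : Subgroup G} {t : G} (htQ : ∀ x ∈ Q, t * x * t⁻¹ ∈ Q) (hodd : Odd (orderOf t))
    (hcop : (orderOf t).Coprime (Nat.card Q)) {q : ℕ} (hq : q = 2 ∨ q = 3)
    [((Q ⊓ centralizer ({t} : Set G)).subgroupOf Q).Normal] :
    (Q ⊓ centralizer ({t} : Set G)).relIndex Q ≠ q := by
  intro hi
  set F := Q ⊓ centralizer ({t} : Set G) with hF
  set F' := F.subgroupOf Q
  have hqp : q.Prime := by rcases hq with rfl | rfl <;> norm_num
  have := Fact.mk hqp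
  have hcard : Nat.card (Q ⧸ F') = q := by rw [← index_eq_card]; exact hi
  obtain ⟨x, hx⟩ : ∃ x : Q, x ∉ F' := by
    by_contra! hall
    have : F' = ⊤ := eq_top_iff.2 fun x _ => hall x
    rw [show F.relIndex Q = F'.index from rfl, this, index_top] at hi
    exact hqp.one_lt.ne hi
  have hx1 : (QuotientGroup.mk' F' x) ≠ 1 := fun e => hx ((QuotientGroup.eq_one_iff x).1 e)
  have hxq : QuotientGroup.mk' F' x ^ q = 1 := by rw [← hcard]; exact pow_card_eq_one'
  set a : Q := ⟨t * x * t⁻¹, htQ x x.2⟩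
  obtain ⟨i, hi'⟩ := mem_zpowers_iff.1 (mem_zpowers_of_prime_card (p := q) hcard hx1 (g' := QuotientGroup.mk' F' a) :)
  have hxf : (x : G) ∈ F → False := hx
  -- `t` fixes the coset or inverts it
  have hfix : ∀ f ∈ F, t * f * t⁻¹ = f := fun f hf => by
    rw [← mem_centralizer_singleton_iff.1 hf.2, mul_inv_cancel_right]
  have hax : QuotientGroup.mk' F' a = QuotientGroup.mk' F' x ∨ QuotientGroup.mk' F' a = (QuotientGroup.mk' F' x)⁻¹ := by
    have ha1 : QuotientGroup.mk' F' a ≠ 1 := fun e => hx1 (by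
      have ha : (a : G) ∈ F := (QuotientGroup.eq_one_iff a).1 e
      have h2 : t⁻¹ * (a : G) * t = (x : G) := by show t⁻¹ * (t * x * t⁻¹) * t = x; group
      have h3 : (a : G) * t = t * a := mem_centralizer_singleton_iff.1 ha.2
      have h4 : (x : G) = a := by rw [← h2, mul_assoc, h3, inv_mul_cancel_left]
      exact absurd (h4 ▸ ha) hxf)
    rw [← hi']
    have hmod : QuotientGroup.mk' F' x ^ i = QuotientGroup.mk' F' x ^ (i % q) := by
      conv_lhs => rw [← Int.emod_add_mul_ediv i q, zpow_add, zpow_mul, zpow_natCast, hxq, one_zpow, mul_one]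
    rw [hmod]
    rcases hq with rfl | rfl
    · rcases Int.emod_two_eq_zero_or_one i with e | e
      · rw [← hi', hmod, Nat.cast_ofNat, e, zpow_zero] at ha1; exact absurd rfl ha1
      · exact Or.inl (by rw [Nat.cast_ofNat, e, zpow_one])
    · have : i % 3 = 0 ∨ i % 3 = 1 ∨ i % 3 = 2 := by omega
      rcases this with e | e | e
      · rw [← hi', hmod, Nat.cast_ofNat, e, zpow_zero] at ha1; exact absurd rfl ha1
      · exact Or.inl (by rw [Nat.cast_ofNat, e, zpow_one])
      · refine Or.inr (eq_inv_of_mul_eq_one_left ?_)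
        rw [Nat.cast_ofNat, e, ← zpow_add_one, show (2 : ℤ) + 1 = ((3 : ℕ) : ℤ) by norm_num, zpow_natCast, hxq]
  have hpow : ∀ (s : G) (hs : ∀ y ∈ Q, s * y * s⁻¹ ∈ Q), (∀ f ∈ F, s * f * s⁻¹ = f) →
      (orderOf s).Coprime (Nat.card Q) →
      QuotientGroup.mk' F' (⟨s * x * s⁻¹, hs x x.2⟩ : Q) = QuotientGroup.mk' F' x → s * x * s⁻¹ = x := by
    intro s hs hsf hsc e
    have hf : (x : G)⁻¹ * (s * x * s⁻¹) ∈ F :=
      (QuotientGroup.eq (a := x) (b := (⟨s * x * s⁻¹, hs x x.2⟩ : Q))).1 e.symm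
    set f := (x : G)⁻¹ * (s * x * s⁻¹) with hfdef
    have hit : ∀ n : ℕ, s ^ n * x * (s ^ n)⁻¹ = x * f ^ n := by
      intro n
      induction n with
      | zero => simp
      | succ n ih =>
        rw [pow_succ', mul_inv_rev, show s * s ^ n * (x : G) * ((s ^ n)⁻¹ * s⁻¹) = s * (s ^ n * x * (s ^ n)⁻¹) * s⁻¹ by group,
          ih, show s * ((x : G) * f ^ n) * s⁻¹ = s * x * s⁻¹ * (s * f * s⁻¹) ^ n by rw [conj_pow]; group,
          hsf f hf, show s * (x : G) * s⁻¹ = x * f by rw [hfdef, mul_inv_cancel_left], pow_succ', mul_assoc]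
    have h1 := hit (orderOf s)
    rw [pow_orderOf_eq_one, one_mul, inv_one, mul_one, left_eq_mul] at h1
    have h2 : orderOf f ∣ Nat.card Q := (Subgroup.orderOf_dvd_natCard _ hf.1)
    have h3 : orderOf f = 1 := Nat.eq_one_of_dvd_coprimes hsc (orderOf_dvd_of_pow_eq_one h1) h2
    rw [orderOf_eq_one_iff] at h3
    rw [hfdef, inv_mul_eq_one] at h3
    exact h3.symm
  rcases hax with e | e
  · refine hxf ⟨x.2, mem_centralizer_singleton_iff.2 ?_⟩
    have := hpow t htQ hfix hcop e
    calc (x : G) * t = t * x * t⁻¹ * t := by rw [this]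
      _ = t * x := by group
  · -- then `t ^ 2` fixes the coset
    have hs : ∀ y ∈ Q, t ^ 2 * y * (t ^ 2)⁻¹ ∈ Q := fun y hy => by
      rw [show t ^ 2 * y * (t ^ 2)⁻¹ = t * (t * y * t⁻¹) * t⁻¹ by rw [pow_two]; group]
      exact htQ _ (htQ y hy)
    have hf : (a : G) * x ∈ F := by
      rw [eq_inv_iff_mul_eq_one, ← map_mul] at e
      exact (QuotientGroup.eq_one_iff (a * x)).1 e
    have e2 : QuotientGroup.mk' F' (⟨t ^ 2 * x * (t ^ 2)⁻¹, hs x x.2⟩ : Q) = QuotientGroup.mk' F' x := by
      have h1 := hfix _ hf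
      have h2 : (⟨t ^ 2 * x * (t ^ 2)⁻¹, hs x x.2⟩ : Q) * a = a * x := Subtype.ext (by
        show t ^ 2 * x * (t ^ 2)⁻¹ * (t * x * t⁻¹) = t * x * t⁻¹ * x
        have h3 : t * (t * x * t⁻¹ * x) * t⁻¹ = t * x * t⁻¹ * x := h1
        rw [← h3, pow_two]; group)
      have h4 := congrArg (QuotientGroup.mk' F') h2
      rw [map_mul, map_mul, e, inv_mul_cancel, mul_inv_eq_one] at h4
      exact h4
    have hsc : (orderOf (t ^ 2)).Coprime (Nat.card Q) := hcop.coprime_dvd_left (orderOf_pow_dvd 2)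
    have hc2 := hpow (t ^ 2) hs (fun f hf => by
      rw [show t ^ 2 * f * (t ^ 2)⁻¹ = t * (t * f * t⁻¹) * t⁻¹ by rw [pow_two]; group, hfix f hf, hfix f hf]) hsc e2
    refine hxf ⟨x.2, mem_centralizer_singleton_iff.2 ?_⟩
    obtain ⟨m, hm⟩ := hodd
    have hc : Commute (t ^ 2) (x : G) := by
      show t ^ 2 * x = x * t ^ 2
      calc t ^ 2 * (x : G) = t ^ 2 * x * (t ^ 2)⁻¹ * t ^ 2 := by group
        _ = _ := by rw [hc2]
    have h2 : Commute ((t ^ 2) ^ (m + 1)) (x : G) := hc.pow_left _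
    rw [← pow_mul, show 2 * (m + 1) = orderOf t + 1 by omega, pow_succ, pow_orderOf_eq_one, one_mul] at h2
    exact h2.eq.symm

/-- Without a normal complement there is a centric subgroup with a nontrivial `p'`-automorphism. -/
theorem exists_centric_moved (h : ¬ Cfsg.HasNormalPComplement p G) :
    ∃ (P : Sylow p G) (Q : Subgroup G) (t : G), Q ≤ (P : Subgroup G) ∧
      (P : Subgroup G) ⊓ centralizer (Q : Set G) ≤ Q ∧ (∀ x ∈ Q, t * x * t⁻¹ ∈ Q) ∧ (orderOf t).Coprime p ∧
      t ∉ centralizer (Q : Set G) := by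
  classical
  rw [hasNormalPComplement_iff_frobenius] at h
  push Not at h
  obtain ⟨D, hD, g, hg, hgp, hgC⟩ := h
  set H := normalizer (D : Set G) with hH
  set C := centralizer (D : Set G) with hC
  have hDH : D ≤ H := le_normalizer
  have hCH : C ≤ H := Subgroup.centralizer_le_normalizer _
  obtain ⟨S, hS⟩ := (hD.comap_subtype (K := H)).exists_le_sylow
  obtain ⟨P, hP⟩ := (S.2.map H.subtype).exists_le_sylow
  set R := (P : Subgroup G) ⊓ C with hR
  set Q := D ⊔ R with hQ
  have hDP : D ≤ P := fun x hx => hP ⟨⟨x, hDH hx⟩, hS hx, rfl⟩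
  have hQP : Q ≤ P := sup_le hDP inf_le_left
  have hcentric : (P : Subgroup G) ⊓ centralizer (Q : Set G) ≤ Q := fun x hx =>
    mem_sup_right ⟨hx.1, centralizer_le (le_sup_left : D ≤ Q) hx.2⟩
  -- `R` is a Sylow subgroup of `C`
  have hSP : (S : Subgroup H) = (P : Subgroup G).subgroupOf H := by
    refine (S.3 (P.2.comap_subtype) ?_).symm
    intro x hx
    exact hP ⟨x, hx, rfl⟩
  have hCn : (C.subgroupOf H).Normal := by
    have := normal_in_normalizer (H := D)
    refine ⟨fun c hc n => mem_centralizer_iff.2 fun d hd => ?_⟩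
    have hd' : (n : G)⁻¹ * d * (n : G) ∈ D := by
      have := (mem_normalizer_iff.1 (inv_mem n.2) d).1 hd
      simpa using this
    have h1 : (n : G)⁻¹ * d * (n : G) * (c : G) = c * ((n : G)⁻¹ * d * (n : G)) := mem_centralizer_iff.1 hc _ hd'
    show d * ((n : G) * c * (n : G)⁻¹) = (n : G) * c * (n : G)⁻¹ * d
    calc d * ((n : G) * c * (n : G)⁻¹) = (n : G) * ((n : G)⁻¹ * d * (n : G) * c) * (n : G)⁻¹ := by group
      _ = _ := by rw [h1]; group
  obtain ⟨T, hT⟩ := exists_sylow_eq_subgroupOf S (C.subgroupOf H)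
  have hfr := Sylow.normalizer_sup_eq_top T
  have hTR : ∀ x : G, x ∈ R ↔ ∃ y ∈ ((T : Subgroup (C.subgroupOf H)).map (C.subgroupOf H).subtype), (y : G) = x := by
    intro x
    constructor
    · rintro ⟨hxP, hxC⟩
      refine ⟨⟨x, hCH hxC⟩, ⟨⟨⟨x, hCH hxC⟩, hxC⟩, ?_, rfl⟩, rfl⟩
      show _ ∈ (T : Subgroup (C.subgroupOf H))
      rw [hT]
      show (⟨x, hCH hxC⟩ : H) ∈ (S : Subgroup H)
      rw [hSP]
      exact hxP
    · rintro ⟨_, ⟨y, hy, rfl⟩, rfl⟩
      refine ⟨?_, y.2⟩
      change y ∈ (T : Subgroup (C.subgroupOf H)) at hy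
      rw [hT] at hy
      change (y : H) ∈ (S : Subgroup H) at hy
      rw [hSP] at hy
      exact hy
  obtain ⟨m, hm, c, hc, hmc⟩ : ∃ m : H, m ∈ normalizer
      (((T : Subgroup (C.subgroupOf H)).map (C.subgroupOf H).subtype : Subgroup H) : Set H) ∧
      ∃ c ∈ C.subgroupOf H, (⟨g, hg⟩ : H) = m * c := by
    have hmem : (⟨g, hg⟩ : H) ∈ (↑(normalizer (((T : Subgroup (C.subgroupOf H)).map (C.subgroupOf H).subtype :
      Subgroup H) : Set H) ⊔ C.subgroupOf H) : Set H) := by rw [hfr]; exact mem_top _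
    rw [mul_normal] at hmem
    obtain ⟨m, hm, c, hc, hmc⟩ := hmem
    exact ⟨m, hm, c, hc, hmc.symm⟩
  have hmimg : QuotientGroup.mk' (C.subgroupOf H) m = QuotientGroup.mk' (C.subgroupOf H) ⟨g, hg⟩ := by
    rw [hmc, map_mul, show QuotientGroup.mk' (C.subgroupOf H) c = 1 from (QuotientGroup.eq_one_iff c).2 hc, mul_one]
  have hmC : (m : G) ∉ C := fun h' => hgC (by
    have e : g = (m : G) * c := congrArg Subtype.val hmc
    rw [e]; exact mul_mem h' hc)
  set j := (orderOf (m : G)).factorization p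
  have htc : (orderOf ((m : G) ^ p ^ j)).Coprime p := by
    rw [orderOf_pow, Nat.gcd_eq_right (Nat.ordProj_dvd _ _)]
    exact ((Fact.out : p.Prime).coprime_iff_not_dvd.2 (Nat.not_dvd_ordCompl Fact.out (orderOf_pos _).ne')).symm
  refine ⟨P, Q, (m : G) ^ p ^ j, hQP, hcentric, fun x hx => ?_, htc, fun hc' => hmC ?_⟩
  · have hnR : (m : G) ∈ normalizer (R : Set G) := by
      refine mem_normalizer_iff.2 fun x => ⟨fun hx => ?_, fun hx => ?_⟩
      · obtain ⟨y, hy, rfl⟩ := (hTR x).1 hx
        exact (hTR _).2 ⟨m * y * m⁻¹, (mem_normalizer_iff.1 hm y).1 hy, rfl⟩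
      · obtain ⟨y, hy, hyx⟩ := (hTR _).1 hx
        refine (hTR x).2 ⟨m⁻¹ * y * m, ?_, ?_⟩
        · have := (mem_normalizer_iff.1 (inv_mem hm) y).1 hy
          simpa using this
        · rw [Subgroup.coe_mul, Subgroup.coe_mul, Subgroup.coe_inv, hyx]; group
    have hnQ : (m : G) ^ p ^ j ∈ normalizer (Q : Set G) := by
      refine pow_mem ?_ _
      refine (?_ : normalizer (D : Set G) ⊓ normalizer (R : Set G) ≤ normalizer (Q : Set G)) ⟨m.2, hnR⟩
      intro z hz
      refine mem_normalizer_iff.2 fun x => ?_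
      have e1 : ∀ z ∈ normalizer (D : Set G) ⊓ normalizer (R : Set G), ∀ x ∈ Q, z * x * z⁻¹ ∈ Q := by
        intro z hz x hx
        rw [hQ, sup_eq_closure] at hx ⊢
        induction hx using closure_induction with
        | mem x hx =>
          rcases hx with hx | hx
          · exact subset_closure (Or.inl ((mem_normalizer_iff.1 hz.1 x).1 hx))
          · exact subset_closure (Or.inr ((mem_normalizer_iff.1 hz.2 x).1 hx))
        | one => simp
        | mul a b _ _ ia ib => rw [show z * (a * b) * z⁻¹ = z * a * z⁻¹ * (z * b * z⁻¹) by group]; exact mul_mem ia ib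
        | inv a _ ia => rw [show z * a⁻¹ * z⁻¹ = (z * a * z⁻¹)⁻¹ by group]; exact inv_mem ia
      refine ⟨e1 z hz x, fun hx => ?_⟩
      have := e1 z⁻¹ (inv_mem hz) _ hx
      simpa [mul_assoc] using this
    exact (mem_normalizer_iff.1 hnQ x).1 hx
  · have hD' : (m : G) ^ p ^ j ∈ C := centralizer_le (le_sup_left : D ≤ Q) hc'
    have h1 : QuotientGroup.mk' (C.subgroupOf H) m ^ p ^ j = 1 := by
      rw [← map_pow]; exact (QuotientGroup.eq_one_iff _).2 (by simpa [mem_subgroupOf] using hD')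
    have h2 : (orderOf (QuotientGroup.mk' (C.subgroupOf H) m)).Coprime (p ^ j) := by
      rw [hmimg]
      refine (Nat.Coprime.coprime_dvd_left ((orderOf_map_dvd _ _).trans ?_) hgp).pow_right j
      rw [Subgroup.orderOf_mk]
    exact (QuotientGroup.eq_one_iff m).1 (orderOf_eq_one_iff.1
      (Nat.eq_one_of_dvd_coprimes h2 dvd_rfl (orderOf_dvd_of_pow_eq_one h1)))

/-- Few classes of `2`-elements without a normal `2`-complement. -/
theorem two_mul_pClassNumber_le (h : ¬ Cfsg.HasNormalPComplement 2 G) (P₀ : Sylow 2 G) :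
    2 * pClassNumber 2 G ≤ Nat.card (P₀ : Subgroup G) := by
  classical
  have := Fintype.ofFinite G
  obtain ⟨P, Q, t, hQP, hcen, htQ, htp, htC⟩ := exists_centric_moved h
  rw [show Nat.card (P₀ : Subgroup G) = Nat.card (P : Subgroup G) by
    rw [P₀.card_eq_multiplicity, P.card_eq_multiplicity], pClassNumber_eq P]
  set s := Finset.univ.filter fun x => x ∈ (P : Subgroup G)
  set q := Finset.univ.filter fun x => x ∈ Q
  set F := Q ⊓ centralizer ({t} : Set G) with hF
  set f := Finset.univ.filter fun x => x ∈ F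
  have hodd : Odd (orderOf t) := by
    rw [← Nat.not_even_iff_odd, even_iff_two_dvd, ← Nat.prime_two.coprime_iff_not_dvd]; exact htp.symm
  have cs : ∀ A : Subgroup G, (Finset.univ.filter fun x => x ∈ A).card = Nat.card A := fun A => by
    rw [Nat.card_eq_fintype_card, Fintype.card_subtype]
  have h3 : 3 * (classesOf q).card ≤ q.card + 2 * f.card := by
    refine three_mul_classes_le (fun x hx => ?_) (fun x hx hxf => ⟨t, hodd, fun e => hxf ?_, fun y hy => ?_⟩)
    · simp only [f, q, Finset.mem_filter, Finset.mem_univ, true_and] at hx ⊢; exact hx.1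
    · simp only [f, q, Finset.mem_filter, Finset.mem_univ, true_and] at hx ⊢
      exact ⟨hx, mem_centralizer_singleton_iff.2 e.symm⟩
    · simp only [q, Finset.mem_filter, Finset.mem_univ, true_and] at hy ⊢; exact htQ y hy
  have hidx : 4 * Nat.card F ≤ Nat.card Q := by
    have hne1 : F.relIndex Q ≠ 1 := fun e => htC (mem_centralizer_iff.2 fun x hx =>
      mem_centralizer_singleton_iff.1 ((relIndex_eq_one.1 e hx).2))
    have hmul : Nat.card F * F.relIndex Q = Nat.card Q := by
      have := card_mul_index (F.subgroupOf Q)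
      rwa [Nat.card_congr (subgroupOfEquivOfLe (inf_le_left : F ≤ Q)).toEquiv] at this
    obtain ⟨k, hk⟩ := IsPGroup.iff_card.1 (P.2.to_le hQP)
    have hd : F.relIndex Q ∣ 2 ^ k := hk ▸ ⟨_, (mul_comm _ _).trans hmul |>.symm⟩
    obtain ⟨i, -, hi⟩ := (Nat.dvd_prime_pow Nat.prime_two).1 hd
    have hi2 : 2 ≤ i := by
      by_contra hlt
      interval_cases i
      · exact hne1 (by rw [hi, pow_zero])
      · have : (F.subgroupOf Q).Normal := normal_of_index_eq_two (by rw [← pow_one 2, ← hi]; rfl)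
        exact relIndex_fixed_ne htQ hodd (hk ▸ htp.pow_right k) (Or.inl rfl) (by rw [hi, pow_one])
    rw [← hmul, mul_comm (Nat.card F)]
    exact Nat.mul_le_mul_right _ (by rw [hi]; exact le_trans (by norm_num) (Nat.pow_le_pow_right two_pos hi2))
  have h2 := two_mul_sdiff_le (s := s) (I := classesOf q) fun x hx hxI => by
    simp only [s, Finset.mem_filter, Finset.mem_univ, true_and] at hx
    obtain ⟨u, hu, hux⟩ : ∃ u ∈ (P : Subgroup G), u * x * u⁻¹ ≠ x := by
      by_contra! hall
      refine hxI (mem_classesOf.2 ⟨x, ?_, rfl⟩)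
      simp only [q, Finset.mem_filter, Finset.mem_univ, true_and]
      refine hcen ⟨hx, mem_centralizer_iff.2 fun u hu => ?_⟩
      calc u * x = u * x * u⁻¹ * u := by group
        _ = x * u := by rw [hall u (hQP hu)]
    exact ⟨u * x * u⁻¹, by simp only [s, Finset.mem_filter, Finset.mem_univ, true_and]; exact mul_mem (mul_mem hu hx) (inv_mem hu),
      hux, mk_conj u x⟩
  have h4 : q.card ≤ (s.filter fun x => ConjClasses.mk x ∈ classesOf q).card := Finset.card_le_card fun x hx => by
    refine Finset.mem_filter.2 ⟨?_, mem_classesOf.2 ⟨x, hx, rfl⟩⟩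
    simp only [s, q, Finset.mem_filter, Finset.mem_univ, true_and] at hx ⊢
    exact hQP hx
  have h5 : (classesOf s).card ≤ (classesOf s \ classesOf q).card + (classesOf q).card :=
    Finset.card_le_card_sdiff_add_card
  have eq : q.card = Nat.card Q := cs Q
  have ef : f.card = Nat.card F := cs F
  have e : s.card = Nat.card (P : Subgroup G) := cs _
  omega

end CfsgLib.Coprime
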