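import Mathlib.GroupTheory.Nilpotent
import Mathlib.GroupTheory.Sylow
import Cfsg.Agent.Lib.OddLocal.CNBasic
import Cfsg.Agent.Lib.Transfer.Frobenius

/-!
Left-normed commutator values `[…[x₀, x₁], …, x_k]`, the coprime order condition of
Baumslag–Wiegold type on them, and its first consequences: a value of prime power order centralises
every subgroup of coprime order elements that it normalises.
-/

set_option autoImplicit false

namespace CfsgLib.CommutatorValues

open Subgroup
open scoped commutatorElement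

universe u

variable {G : Type u} [Group G]

/-- `v` is a left-normed commutator value with `k + 1` entries. -/
def IsValue : ℕ → G → Prop
  | 0, _ => True
  | k + 1, x => ∃ v a : G, IsValue k v ∧ ⁅v, a⁆ = x

/-- `⁅…⁅u, g⁆, …, g⁆` with `j` copies of `g`. -/
def engel (g : G) : ℕ → G → G
  | 0, u => u
  | j + 1, u => ⁅engel g j u, g⁆

theorem isValue_of_succ : ∀ {k : ℕ} {x : G}, IsValue (k + 1) x → IsValue k x
  | 0, _, _ => trivial
  | _ + 1, _, ⟨v, a, hv, h⟩ => ⟨v, a, isValue_of_succ hv, h⟩

theorem isValue_engel (g u : G) : ∀ k : ℕ, IsValue k (engel g k u)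
  | 0 => trivial
  | k + 1 => ⟨engel g k u, g, isValue_engel g u k, rfl⟩

/-- A value of the form `⁅w, g⁆` built from `u`. -/
theorem isValue_engel_succ (g u : G) (k : ℕ) : IsValue k (engel g (k + 1) u) :=
  isValue_of_succ (isValue_engel g u (k + 1))

theorem map_engel {H : Type*} [Group H] (f : G →* H) (g u : G) :
    ∀ j : ℕ, f (engel g j u) = engel (f g) j (f u)
  | 0 => rfl
  | j + 1 => by
    show f ⁅engel g j u, g⁆ = ⁅engel (f g) j (f u), f g⁆
    rw [map_commutatorElement, map_engel f g u j]

theorem isValue_map {H : Type*} [Group H] (f : G →* H) :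
    ∀ {k : ℕ} {x : G}, IsValue k x → IsValue k (f x)
  | 0, _, _ => trivial
  | _ + 1, _, ⟨v, a, hv, h⟩ => ⟨f v, f a, isValue_map f hv, by rw [← map_commutatorElement, h]⟩

theorem exists_isValue_lift {H : Type*} [Group H] {f : G →* H} (hf : Function.Surjective f) :
    ∀ {k : ℕ} {y : H}, IsValue k y → ∃ x, IsValue k x ∧ f x = y
  | 0, y, _ => ⟨(hf y).choose, trivial, (hf y).choose_spec⟩
  | _ + 1, _, ⟨w, b, hw, h⟩ => by
    obtain ⟨v, hv, rfl⟩ := exists_isValue_lift hf hw
    obtain ⟨a, rfl⟩ := hf b
    exact ⟨⁅v, a⁆, ⟨v, a, hv, rfl⟩, by rw [map_commutatorElement, h]⟩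

/-- The entries of the fold form. -/
theorem isValue_iff_foldl : ∀ (k : ℕ) (x : G), IsValue k x ↔
    ∃ f : Fin (k + 1) → G,
      x = ((List.ofFn f).tail).foldl (fun a b => a * b * a⁻¹ * b⁻¹) (f 0) := by
  intro k
  induction k with
  | zero => exact fun x => ⟨fun _ => ⟨fun _ => x, by simp⟩, fun _ => trivial⟩
  | succ k ih =>
    intro x
    have key : ∀ f : Fin (k + 1 + 1) → G,
        ((List.ofFn f).tail).foldl (fun a b => a * b * a⁻¹ * b⁻¹) (f 0) =
        ⁅((List.ofFn fun i : Fin (k + 1) => f i.castSucc).tail).foldl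
            (fun a b => a * b * a⁻¹ * b⁻¹) (f 0), f (Fin.last (k + 1))⁆ := by
      intro f
      rw [List.ofFn_succ', List.concat_eq_append, List.tail_append_of_ne_nil
        (List.ne_nil_of_length_pos (by simp)), List.foldl_append]
      simp only [List.foldl_cons, List.foldl_nil, commutatorElement_def]
    constructor
    · rintro ⟨v, a, hv, rfl⟩
      obtain ⟨f, rfl⟩ := (ih v).1 hv
      refine ⟨Fin.snoc f a, ?_⟩
      rw [key]
      simp only [Fin.snoc_castSucc, Fin.snoc_last]
      rw [show (0 : Fin (k + 1 + 1)) = Fin.castSucc 0 from rfl, Fin.snoc_castSucc]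
    · rintro ⟨f, rfl⟩
      rw [key]
      refine ⟨_, _, (ih _).2 ⟨fun i => f i.castSucc, rfl⟩, rfl⟩

/-- The condition on values of coprime orders. -/
def Cond (k : ℕ) (G : Type u) [Group G] : Prop :=
  ∀ x y : G, IsValue k x → IsValue k y → (orderOf x).Coprime (orderOf y) →
    (∀ r : ℕ, r.Prime → r ∣ orderOf x * orderOf y → r ∣ orderOf (x * y)) ∨
      orderOf x * orderOf y ≤ orderOf (x * y)

/-- Values centralise the subgroups of coprime order elements that they normalise. -/
def Centralises (k : ℕ) (G : Type u) [Group G] : Prop :=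
  ∀ y : G, IsValue k y → ∀ U : Subgroup G, y ∈ normalizer (U : Set G) →
    (∀ u ∈ U, (orderOf u).Coprime (orderOf y)) → ∀ u ∈ U, Commute y u

theorem cond_subgroup {k : ℕ} (h : Cond k G) (H : Subgroup G) : Cond k H := fun x y hx hy hc => by
  simp only [← Subgroup.orderOf_coe, coe_mul] at hc ⊢
  exact h x y (isValue_map H.subtype hx) (isValue_map H.subtype hy) hc

theorem centralises_subgroup {k : ℕ} (h : Centralises k G) (H : Subgroup G) : Centralises k H := by
  intro y hy U hn hc u hu
  refine Subtype.ext ?_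
  refine h y (isValue_map H.subtype hy) (U.map H.subtype) ?_ ?_ u (mem_map_of_mem H.subtype hu)
  · refine Subgroup.le_normalizer_map H.subtype ?_
    exact mem_map_of_mem H.subtype hn
  · rintro _ ⟨w, hw, rfl⟩
    simpa [Subgroup.orderOf_coe] using hc w hw

variable [Finite G]

/-- If `x * y` has order dividing that of `x` then `y = 1`. -/
theorem eq_one_of_cond {k : ℕ} (h : Cond k G) {x y : G} (hx : IsValue k x) (hy : IsValue k y)
    (hc : (orderOf x).Coprime (orderOf y)) (hd : orderOf (x * y) ∣ orderOf x) : y = 1 := by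
  by_contra hy1
  have hy2 : 1 < orderOf y := by
    have h1 := orderOf_pos y
    have h2 : orderOf y ≠ 1 := fun e => hy1 (orderOf_eq_one_iff.1 e)
    omega
  rcases h x y hx hy hc with h1 | h1
  · obtain ⟨r, hr, hrd⟩ := Nat.exists_prime_and_dvd hy2.ne'
    exact hr.ne_one (Nat.eq_one_of_dvd_coprimes hc ((h1 r hr (hrd.mul_left _)).trans hd) hrd)
  · have h2 := Nat.le_of_dvd (orderOf_pos x) hd
    have h3 := orderOf_pos x
    nlinarith

/-- An Engel element of coprime order centralises. -/
theorem commute_of_engel {g : G} : ∀ (j : ℕ) {w : G} (U : Subgroup G),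
    g ∈ normalizer (U : Set G) → (∀ u ∈ U, (orderOf u).Coprime (orderOf g)) → w ∈ U →
    engel g j w = 1 → Commute g w
  | 0, w, _, _, _, _, h => by
    rw [show w = 1 from h]
    exact Commute.one_right g
  | j + 1, w, U, hn, hc, hw, h => by
    have hmem : ∀ u ∈ U, ⁅u, g⁆ ∈ U := fun u hu => by
      rw [commutatorElement_def, mul_assoc, mul_assoc]
      refine mul_mem hu ?_
      rw [← mul_assoc]
      exact (mem_normalizer_iff.1 hn u⁻¹).1 (inv_mem hu)
    have hshift : ∀ (i : ℕ), engel g i ⁅w, g⁆ = engel g (i + 1) w := by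
      intro i
      induction i with
      | zero => rfl
      | succ i ih =>
        show ⁅engel g i ⁅w, g⁆, g⁆ = ⁅engel g (i + 1) w, g⁆
        rw [ih]
    have hcg : Commute g ⁅w, g⁆ := commute_of_engel j U hn hc (hmem w hw) ((hshift j).trans h)
    set c := ⁅w, g⁆ with hcdef
    have h1 : g * w * g⁻¹ = c⁻¹ * w := by rw [hcdef, commutatorElement_def]; group
    have h2 : ∀ n : ℕ, g ^ n * w * (g ^ n)⁻¹ = (c⁻¹) ^ n * w := by
      intro n
      induction n with
      | zero => simp
      | succ n ih =>
        calc g ^ (n + 1) * w * (g ^ (n + 1))⁻¹ = g * (g ^ n * w * (g ^ n)⁻¹) * g⁻¹ := by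
              rw [pow_succ']; group
          _ = g * (c⁻¹) ^ n * w * g⁻¹ := by rw [ih]; group
          _ = (c⁻¹) ^ n * (g * w * g⁻¹) := by
              rw [((hcg.inv_right).pow_right n).eq]; group
          _ = _ := by rw [h1, pow_succ, mul_assoc]
    have h3 := h2 (orderOf g)
    rw [pow_orderOf_eq_one, one_mul, inv_one, mul_one, inv_pow] at h3
    have h4 : c ^ orderOf g = 1 := inv_eq_one.1 (mul_eq_right.1 h3.symm)
    have h5 : c = 1 := orderOf_eq_one_iff.1
      (Nat.eq_one_of_dvd_coprimes (hc c (hmem w hw)) dvd_rfl (orderOf_dvd_of_pow_eq_one h4))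
    exact (commutatorElement_eq_one_iff_commute.1 (hcdef ▸ h5)).symm

omit [Finite G] in
theorem engel_mem {g : G} {U : Subgroup G} (hn : g ∈ normalizer (U : Set G)) {u : G} (hu : u ∈ U) :
    ∀ j : ℕ, engel g j u ∈ U
  | 0 => hu
  | j + 1 => by
    show ⁅engel g j u, g⁆ ∈ U
    rw [commutatorElement_def, mul_assoc, mul_assoc]
    refine mul_mem (engel_mem hn hu j) ?_
    rw [← mul_assoc]
    exact (mem_normalizer_iff.1 hn _).1 (inv_mem (engel_mem hn hu j))

/-- The condition implies that values centralise coprime subgroups they normalise. -/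
theorem centralises_of_cond {k : ℕ} (h : Cond k G) : Centralises k G := by
  intro y hy U hn hc u hu
  refine commute_of_engel (k + 1) U hn hc hu ?_
  set v := engel y (k + 1) u with hv
  have hvy : v * y = engel y k u * y * (engel y k u)⁻¹ := by
    rw [hv]
    show ⁅engel y k u, y⁆ * y = _
    rw [commutatorElement_def, inv_mul_cancel_right]
  have hord : ∀ a b : G, orderOf (a * b * a⁻¹) = orderOf b := fun a b =>
    ((SemiconjBy.conj_mk a b).orderOf_eq a).symm
  refine eq_one_of_cond h hy (isValue_engel_succ y u k) (hc v (engel_mem hn hu _)).symm ?_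
  rw [show y * v = v⁻¹ * (v * y) * v⁻¹⁻¹ by group, hord, hvy, hord]

/-- The lower central series lies in every normal subgroup containing the values. -/
theorem lcs_le_of_values : ∀ (k : ℕ) (N : Subgroup G), N.Normal →
    (∀ v : G, IsValue k v → v ∈ N) → (⊤ : Subgroup G).lowerCentralSeries k ≤ N
  | 0, N, _, h => fun x _ => h x trivial
  | k + 1, N, hN, h => by
    rw [Subgroup.lowerCentralSeries_succ, Subgroup.commutator_le]
    intro x hx a _
    let π := QuotientGroup.mk' N
    have hle := lcs_le_of_values k ((center (G ⧸ N)).comap π) inferInstance fun v hv => by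
      rw [mem_comap, mem_center_iff]
      intro q
      induction q using QuotientGroup.induction_on with
      | _ b =>
        refine (commutatorElement_eq_one_iff_mul_comm.1 ?_).symm
        show ⁅π v, π b⁆ = 1
        rw [← map_commutatorElement]
        exact (QuotientGroup.eq_one_iff _).2 (h _ ⟨v, b, hv, rfl⟩)
    rw [← QuotientGroup.eq_one_iff]
    show π ⁅x, a⁆ = 1
    rw [map_commutatorElement, commutatorElement_eq_one_iff_mul_comm]
    exact (mem_center_iff.1 (hle hx) (π a)).symm

end CfsgLib.CommutatorValues
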