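import Cfsg.Agent.Lib.Coprime.CommutatorValuesQuotient
import Cfsg.Agent.Lib.Invol.BaerSuzuki

/-!
Nilpotency of a term of the lower central series from the orders of products of commutator values.
-/

set_option autoImplicit false

namespace CfsgLib.CommutatorValues

open Subgroup
open scoped commutatorElement

universe u

/-- There is no minimal counterexample. -/
theorem IsCritical.elim {G : Type u} [Group G] [Finite G] {k : ℕ} {M : Subgroup G}
    (h : IsCritical k M)
    (hsub : ∀ H : Subgroup G, H ≠ ⊤ → Group.IsNilpotent ((⊤ : Subgroup H).lowerCentralSeries k)) :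
    False := by
  haveI : Fact (Nat.Prime 2) := ⟨Nat.prime_two⟩
  haveI := h.normal
  have h2 : 2 ∣ M.index := h.even_index hsub
  obtain ⟨x, hxv, hxM, hx2, i, hxi⟩ := h.exists_involution_value h2
  have hcen := mem_center_iff.1 hx2
  -- some conjugate generates a non-`2`-group with `x`
  obtain ⟨g, hg⟩ : ∃ g : G, ¬ IsPGroup 2 (closure ({x, g * x * g⁻¹} : Set G)) := by
    by_contra hall
    push Not at hall
    refine hxM ?_
    have hmem := CfsgLib.Invol.baer_suzuki_mem_pCore hall
    by_contra hxM'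
    have htop := h.top _ (CfsgLib.Solvable.pCore_normal 2 G) fun hle => hxM' (hle hmem)
    apply h.nsol
    have hp : IsPGroup 2 (⊤ : Subgroup G) := htop ▸ CfsgLib.Solvable.pCore_isPGroup 2
    have : IsPGroup 2 G := hp.of_equiv Subgroup.topEquiv
    haveI := this.isNilpotent
    infer_instance
  set s := g * x * g⁻¹ with hs
  have hs2 : s * s = x * x := by
    rw [hs, show g * x * g⁻¹ * (g * x * g⁻¹) = g * x ^ 2 * g⁻¹ by rw [pow_two]; group,
      hcen g, mul_inv_cancel_right, pow_two]
  set e := x * s with he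
  set z := (x * x) * (x * x) with hz
  have hzc : ∀ a : G, a * z = z * a := fun a => by
    have := hcen a
    rw [pow_two] at this
    rw [hz, ← mul_assoc, this, mul_assoc, this, ← mul_assoc]
  have hzi : z ^ 2 ^ i = 1 := by
    have hc : Commute (x * x) (x * x) := Commute.refl _
    rw [hz, hc.mul_pow, ← pow_two x, ← pow_mul, mul_comm, pow_mul, hxi, one_pow, one_mul]
  have hxe : x * e * x⁻¹ = z * e⁻¹ := by
    calc x * e * x⁻¹ = x * x * s * x⁻¹ := by rw [he]; group
      _ = (x * x) * (s * s) * (s⁻¹ * x⁻¹) := by group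
      _ = _ := by rw [hs2, ← hz, he]; group
  -- `e` is not a `2`-element
  by_cases heP : ∃ j, e ^ 2 ^ j = 1
  · obtain ⟨j, hj⟩ := heP
    apply hg
    set A := closure ({e, z} : Set G) with hA
    have hAp : IsPGroup 2 A := by
      haveI : IsMulCommutative A := Subgroup.isMulCommutative_closure (by
        rintro a (rfl | rfl) b (rfl | rfl) <;> first | rfl | exact hzc _ | exact (hzc _).symm)
      rintro ⟨a, ha⟩
      refine ⟨max i j, Subtype.ext ?_⟩
      show a ^ 2 ^ max i j = 1
      induction ha using closure_induction with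
      | mem a ha =>
        rcases ha with rfl | rfl
        · exact orderOf_dvd_iff_pow_eq_one.1 ((orderOf_dvd_of_pow_eq_one hj).trans
            (pow_dvd_pow 2 (le_max_right i j)))
        · exact orderOf_dvd_iff_pow_eq_one.1 ((orderOf_dvd_of_pow_eq_one hzi).trans
            (pow_dvd_pow 2 (le_max_left i j)))
      | one => exact one_pow _
      | mul a b ha hb iha ihb =>
        have hc : Commute a b :=
          (congrArg Subtype.val ((inferInstance : IsMulCommutative A).is_comm.comm
            (⟨a, ha⟩ : A) ⟨b, hb⟩) :)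
        rw [hc.mul_pow, iha, ihb, mul_one]
      | inv a _ iha => rw [inv_pow, iha, inv_one]
    have heA : e ∈ A := subset_closure (Set.mem_insert e _)
    have hzA : z ∈ A := subset_closure (Set.mem_insert_of_mem e rfl)
    have hnorm : zpowers x ≤ normalizer (A : Set G) := by
      rw [zpowers_le, mem_normalizer_iff_map_conj_eq, hA, MonoidHom.map_closure]
      refine le_antisymm ((closure_le _).2 ?_) ((closure_le _).2 ?_)
      · rintro _ ⟨a, ha, rfl⟩
        rcases ha with rfl | rfl
        · show x * e * x⁻¹ ∈ Subgroup.closure _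
          rw [hxe]; exact mul_mem hzA (inv_mem heA)
        · show x * z * x⁻¹ ∈ Subgroup.closure _
          rw [hzc x, mul_inv_cancel_right]; exact hzA
      · have hz' : z ∈ closure ((MulAut.conj x).toMonoidHom '' ({e, z} : Set G)) :=
          subset_closure ⟨z, Set.mem_insert_of_mem e rfl, by
            show x * z * x⁻¹ = z
            rw [hzc x, mul_inv_cancel_right]⟩
        have he' : z * e⁻¹ ∈ closure ((MulAut.conj x).toMonoidHom '' ({e, z} : Set G)) :=
          subset_closure ⟨e, Set.mem_insert e _, hxe⟩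
        rintro a (rfl | rfl)
        · have := mul_mem (inv_mem he') hz'
          simpa [mul_assoc] using this
        · exact hz'
    have hxp : IsPGroup 2 (zpowers x) := by
      rintro ⟨_, t, rfl⟩
      exact ⟨i, Subtype.ext (by
        show (x ^ t) ^ 2 ^ i = 1
        rw [← zpow_natCast (x ^ t), ← zpow_mul, mul_comm, zpow_mul, zpow_natCast, hxi, one_zpow])⟩
    refine (hxp.to_sup_of_normal_right' hAp hnorm).to_le ((closure_le _).2 ?_)
    rintro a (ha | ha)
    · rw [ha]; exact mem_sup_left (mem_zpowers x)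
    · rw [show a = x⁻¹ * e by rw [ha, he]; group]
      exact mul_mem (mem_sup_left (inv_mem (mem_zpowers x))) (mem_sup_right heA)
  -- the odd part of `e` is inverted by `x`
  obtain ⟨a, d, hd, hed⟩ := Nat.exists_eq_pow_mul_and_not_dvd (orderOf_pos e).ne' 2 (by norm_num)
  set b := e ^ 2 ^ a with hb
  have hbo : orderOf b = d := by
    rw [hb, orderOf_pow_of_dvd (by positivity) (hed ▸ Dvd.intro d rfl), hed,
      Nat.mul_div_cancel_left _ (by positivity)]
  have hd2 : Nat.Coprime 2 d := Nat.prime_two.coprime_iff_not_dvd.2 hd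
  have hb1 : b ≠ 1 := fun e1 => heP ⟨a, e1⟩
  have hxb : x * b * x⁻¹ = b⁻¹ := by
    have h1 : x * b * x⁻¹ = z ^ 2 ^ a * b⁻¹ := by
      rw [hb, ← conj_pow, hxe, (show Commute z e⁻¹ from ((hzc e⁻¹).symm : z * e⁻¹ = e⁻¹ * z)).mul_pow,
        inv_pow]
    have h2 : (z ^ 2 ^ a) ^ d = 1 := by
      have h3 : (x * b * x⁻¹) ^ d = 1 := by
        rw [conj_pow, ← hbo, pow_orderOf_eq_one, mul_one, mul_inv_cancel]
      rw [h1, ((show Commute z b⁻¹ from (hzc b⁻¹).symm).pow_left _).mul_pow, inv_pow, ← hbo,
        pow_orderOf_eq_one, inv_one, mul_one, hbo] at h3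
      exact h3
    have h4 : z ^ 2 ^ a = 1 := orderOf_eq_one_iff.1 (Nat.eq_one_of_dvd_coprimes (hd2.pow_left i)
      (orderOf_dvd_of_pow_eq_one (by rw [← pow_mul, mul_comm, pow_mul, hzi, one_pow]))
      (orderOf_dvd_of_pow_eq_one h2))
    rw [h1, h4, one_mul]
  -- an odd value inverted by `x`
  have hpow : ∀ j, engel x j b = b ^ 2 ^ j := by
    intro j
    induction j with
    | zero => simp [engel]
    | succ j ih =>
      show ⁅engel x j b, x⁆ = _
      rw [ih, commutatorElement_def, mul_assoc, mul_assoc, ← mul_assoc x, ← inv_pow, ← conj_pow,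
        show x * b⁻¹ * x⁻¹ = b by
          calc x * b⁻¹ * x⁻¹ = (x * b * x⁻¹)⁻¹ := by group
            _ = b := by rw [hxb, inv_inv]]
      rw [pow_succ 2 j, mul_comm (2 ^ j) 2, ← pow_add, two_mul]
  set y := b ^ 2 ^ k with hy
  have hyv : IsValue k y := hy ▸ hpow k ▸ isValue_engel x b k
  have hy1 : y ≠ 1 := fun e1 => hb1 (orderOf_eq_one_iff.1 (Nat.eq_one_of_dvd_coprimes
    (hd2.pow_left k) (orderOf_dvd_of_pow_eq_one e1) hbo.dvd))
  refine hy1 (eq_one_of_cond h.cond hxv hyv ?_ ?_)
  · exact ((hd2.pow_left i).coprime_dvd_left (orderOf_dvd_of_pow_eq_one hxi)).coprime_dvd_right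
      (hbo ▸ orderOf_pow_dvd (2 ^ k))
  · have hinv : x * y * x⁻¹ = y⁻¹ := by rw [hy, ← conj_pow, hxb, inv_pow]
    have hsq : (x * y) ^ 2 = x ^ 2 := by
      calc (x * y) ^ 2 = (x * y * x⁻¹) * (x ^ 2) * y := by rw [pow_two, pow_two]; group
        _ = y⁻¹ * (x ^ 2 * y) := by rw [hinv, mul_assoc]
        _ = y⁻¹ * (y * x ^ 2) := by rw [hcen y]
        _ = _ := by rw [inv_mul_cancel_left]
    refine orderOf_dvd_of_pow_eq_one ?_
    obtain ⟨c, hc⟩ : 2 ∣ orderOf x := by
      obtain ⟨c, -, hc⟩ := (Nat.dvd_prime_pow Nat.prime_two).1 (orderOf_dvd_of_pow_eq_one hxi)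
      rcases c with _ | c
      · exfalso
        rw [pow_zero, orderOf_eq_one_iff] at hc
        exact hxM (hc ▸ one_mem M)
      · exact hc ▸ dvd_pow_self 2 (Nat.succ_ne_zero c)
    rw [hc, pow_mul, hsq, ← pow_mul, ← hc, pow_orderOf_eq_one]

/-- The condition on values makes the lower central term nilpotent. -/
theorem isNilpotent_lcs_of_cond : ∀ (m : ℕ) {G : Type u} [Group G] [Finite G], Nat.card G = m →
    ∀ {k : ℕ}, Cond k G → Group.IsNilpotent ((⊤ : Subgroup G).lowerCentralSeries k) := by
  intro m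
  induction m using Nat.strong_induction_on with
  | _ m ih => ?_
  intro G _ _ hm k hC
  subst hm
  by_cases hsol : Group.IsSolvable G
  · exact isNilpotent_lcs_of_solvable _ rfl hsol (centralises_of_cond hC)
  exfalso
  have hsub : ∀ H : Subgroup G, H ≠ ⊤ →
      Group.IsNilpotent ((⊤ : Subgroup H).lowerCentralSeries k) := fun H hH =>
    ih _ (lt_of_le_of_ne H.card_le_card_group
      fun e => hH (H.eq_top_of_card_eq e)) rfl (cond_subgroup hC H)
  have hproper : ∀ H : Subgroup G, H ≠ ⊤ → Group.IsSolvable H := fun H hH =>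
    isSolvable_of_isNilpotent_lcs (hsub H hH)
  have hbt : (⊥ : Subgroup G) ≠ ⊤ := fun e => by
    haveI : Subsingleton G := Subgroup.subsingleton_iff.1 (subsingleton_of_bot_eq_top e)
    exact hsol inferInstance
  obtain ⟨M, -, hM⟩ := Finite.exists_le_maximal
    (p := fun M : Subgroup G => M.Normal ∧ M ≠ ⊤) (a := ⊥) ⟨inferInstance, hbt⟩
  obtain ⟨hMn, hMtop⟩ := hM.prop
  refine IsCritical.elim (M := M) (k := k) ⟨hC, hMn, hproper M hMtop, fun X hX hXM => ?_, hsol⟩ hsub
  by_contra hXtop
  by_cases hsup : M ⊔ X = ⊤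
  · exact hsol (isSolvable_of_sup (hproper M hMtop) (hproper X hXtop) hsup)
  · haveI := hMn
    haveI := hX
    exact hXM (le_sup_right.trans (hM.le_of_ge ⟨inferInstance, hsup⟩ le_sup_left))

end CfsgLib.CommutatorValues
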