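import Cfsg.Agent.Lib.Coprime.CommutatorValuesSolvable
import Cfsg.Agent.Lib.Solvable.Zipper
import Mathlib.GroupTheory.Focal

/-!
A simple group in which every proper subgroup is metanilpotent (via a term of the lower central
series) and which has, for every prime, distinguished `p`-elements centralising the coprime
subgroups they normalise: the normaliser of each Sylow subgroup is maximal, controls fusion of its
elements and contains their centralisers.
-/

set_option autoImplicit false

namespace CfsgLib.CommutatorValues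

open Subgroup
open scoped commutatorElement Pointwise

universe u

variable {G : Type u} [Group G] [Finite G]

/-- The abstract hypotheses. -/
structure IsLocalConfig (k : ℕ) (G : Type u) [Group G] (Good : ℕ → G → Prop) : Prop where
  nsol : ¬ Group.IsSolvable G
  simple : IsSimpleGroup G
  sub : ∀ H : Subgroup G, H ≠ ⊤ → Group.IsNilpotent ((⊤ : Subgroup H).lowerCentralSeries k)
  pelem : ∀ p x, Good p x → ∃ i, x ^ p ^ i = 1
  centralises : ∀ p x, Good p x → ∀ s : ℕ, s.Prime → s ≠ p → ∀ U : Subgroup G, IsPGroup s U →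
    x ∈ normalizer (U : Set G) → ∀ u ∈ U, Commute x u
  exists_good : ∀ p : ℕ, p.Prime → ∀ (U : Subgroup G) (g : G), IsPGroup p U →
    g ∈ normalizer (U : Set G) → (orderOf g).Coprime p → g ∉ centralizer (U : Set G) →
    ∃ x ∈ U, x ≠ 1 ∧ Good p x
  step : ∀ p x b, Good p x → (∃ P : Subgroup G, IsPGroup p P ∧ x ∈ P ∧ b ∈ P) → Good p ⁅x, b⁆
  conj : ∀ p x g, Good p x → Good p (g * x * g⁻¹)

variable {k : ℕ} {Good : ℕ → G → Prop}

/-- Membership in a subgroup from the prime power parts. -/
theorem mem_of_parts {K : Subgroup G} {z : G}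
    (h : ∀ d ∈ zpowers z, ∀ s i : ℕ, s.Prime → d ^ s ^ i = 1 → d ∈ K) : z ∈ K := by
  have hle : zpowers z ≤ K := by
    rw [← subgroupOf_eq_top]
    refine CfsgLib.Solvable.eq_top_of_forall_prime fun s hs hd => ?_
    haveI : Fact s.Prime := ⟨hs⟩
    obtain ⟨T⟩ := (inferInstance : Nonempty (Sylow s (zpowers z)))
    refine T.not_dvd_index (hd.trans (index_dvd_of_le ?_))
    intro t ht
    obtain ⟨j, hj⟩ := T.2 ⟨t, ht⟩
    exact mem_subgroupOf.2 (h t t.2 s j hs
      (congrArg (fun w : (T : Subgroup (zpowers z)) => ((w : zpowers z) : G)) hj))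
  exact hle (mem_zpowers z)

/-- The same for a subgroup. -/
theorem le_of_parts {H K : Subgroup G}
    (h : ∀ d ∈ H, ∀ s i : ℕ, s.Prime → d ^ s ^ i = 1 → d ∈ K) : H ≤ K :=
  fun _ hz => mem_of_parts fun d hd => h d (zpowers_le.2 hz hd)

/-- A `p`-element of a nilpotent group lies in its `p`-core. -/
theorem mem_pCore_of_isNilpotent {X : Type*} [Group X] [Finite X] (hX : Group.IsNilpotent X) {p : ℕ}
    [Fact p.Prime] {x : X} {i : ℕ} (hx : x ^ p ^ i = 1) : x ∈ Cfsg.pCore p X := by
  haveI := hX
  have hnt : Group.IsNilpotent (⊤ : Subgroup X) := (Group.isNilpotent_congr Subgroup.topEquiv).2 hX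
  obtain ⟨z, hz, rfl⟩ := CfsgLib.OddLocal.mem_pPart hnt (mem_top x) hx
  exact CfsgLib.Solvable.le_pCore
    (Normal.map (CfsgLib.Solvable.pCore_normal p _) _ Subgroup.topEquiv.surjective)
    ((CfsgLib.Solvable.pCore_isPGroup p).map _) (mem_map_of_mem _ hz)

/-- A nilpotent group whose Sylow subgroup lies in the derived group has trivial Sylow subgroup. -/
theorem eq_bot_of_le_commutator_nilpotent {X : Type*} [Group X] [Finite X]
    (hX : Group.IsNilpotent X) {p : ℕ} [Fact p.Prime] (P : Sylow p X)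
    (h : (P : Subgroup X) ≤ _root_.commutator X) : (P : Subgroup X) = ⊥ := by
  haveI := hX
  have hnc : Cfsg.HasNormalPComplement p X := by
    rw [CfsgLib.Transfer.hasNormalPComplement_iff_frobenius]
    intro D hD g _ hgc
    refine mem_centralizer_iff.2 fun d hd => ?_
    obtain ⟨j, hj⟩ := hD ⟨d, hd⟩
    exact (CfsgLib.OddLocal.commute_of_coprime_of_isNilpotent hX
      (((hgc.pow_right j).symm).coprime_dvd_left
        (orderOf_dvd_of_pow_eq_one (congrArg Subtype.val hj :)))).eq
  haveI := CfsgLib.Transfer.pResidual_normal (G := X) (p := p)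
  set W := Cfsg.pResidual p X
  have htop : W ⊔ _root_.commutator X = ⊤ := top_le_iff.1 <| by
    rw [← CfsgLib.Transfer.pResidual_sup_sylow P]
    exact sup_le_sup_left h W
  have hWtop : W = ⊤ := by
    by_contra hne
    haveI : Group.IsNilpotent (X ⧸ W) := Group.nilpotent_of_surjective _
      (QuotientGroup.mk'_surjective W)
    haveI : Nontrivial (X ⧸ W) := QuotientGroup.nontrivial_iff.2 hne
    refine (Group.IsSolvable.commutator_lt_top_of_nontrivial (G := X ⧸ W)).ne ?_
    rw [commutator_def, ← map_top_of_surjective _ (QuotientGroup.mk'_surjective W),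
      ← map_commutator, map_top_of_surjective _ (QuotientGroup.mk'_surjective W), ← commutator_def,
      eq_top_iff, ← map_top_of_surjective _ (QuotientGroup.mk'_surjective W), ← htop,
      Subgroup.map_sup, (Subgroup.map_eq_bot_iff W).2 (by rw [QuotientGroup.ker_mk']), bot_sup_eq]
  have h1 := CfsgLib.Transfer.hasNormalPComplement_iff_coprime_pResidual.1 hnc
  rw [show Cfsg.pResidual p X = ⊤ from hWtop, card_top] at h1
  obtain ⟨j, hj⟩ := P.2.exists_card_eq
  exact Subgroup.card_eq_one.1 (Nat.eq_one_of_dvd_coprimes (h1.pow_right j)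
    (card_subgroup_dvd_card _) hj.dvd)

namespace IsLocalConfig

variable (h : IsLocalConfig k G Good)
include h

omit [Finite G] in
theorem not_isMulCommutative : ¬ IsMulCommutative G := fun hc => by
  haveI := hc
  exact h.nsol (Group.isSolvable_of_comm hc.is_comm.comm)

omit [Finite G] in
theorem eq_bot_or_top {X : Subgroup G} (hX : X.Normal) : X = ⊥ ∨ X = ⊤ :=
  haveI := h.simple
  hX.eq_bot_or_eq_top

omit [Finite G] in
theorem center_eq_bot : center G = ⊥ :=
  (h.eq_bot_or_top inferInstance).resolve_right fun e => h.not_isMulCommutative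
    ⟨⟨fun a b => mem_center_iff.1 (e ▸ mem_top b) a⟩⟩

omit [Finite G] in
theorem centralizer_ne_top {a : G} (ha : a ≠ 1) : centralizer ({a} : Set G) ≠ ⊤ := fun e =>
  ha (mem_bot.1 (h.center_eq_bot ▸ mem_center_iff.2 fun g =>
    mem_centralizer_singleton_iff.1 (e ▸ mem_top g : g ∈ centralizer ({a} : Set G))))

theorem normalizer_ne_top {p : ℕ} [Fact p.Prime] {U : Subgroup G} (hU : IsPGroup p U)
    (hne : U ≠ ⊥) : normalizer (U : Set G) ≠ ⊤ := fun e => by
  rcases h.eq_bot_or_top (normalizer_eq_top_iff.1 e) with h1 | h1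
  · exact hne h1
  · have h2 : IsPGroup p G := (h1 ▸ hU).of_equiv Subgroup.topEquiv
    haveI := h2.isNilpotent
    exact h.nsol inferInstance

/-- A good element lies in the `p`-core of every proper subgroup containing it. -/
theorem exists_pGroup_of_mem {p : ℕ} [Fact p.Prime] {v : G} (hv : Good p v) {H : Subgroup G}
    (hH : H ≠ ⊤) (hvH : v ∈ H) :
    ∃ N : Subgroup H, N.Normal ∧ IsPGroup p N ∧ (⟨v, hvH⟩ : H) ∈ N := by
  have hp := (Fact.out : p.Prime)
  obtain ⟨i, hi⟩ := h.pelem p v hv
  set R := (⊤ : Subgroup H).lowerCentralSeries k with hR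
  have hRnil : Group.IsNilpotent R := h.sub H hH
  have hq : Group.IsNilpotent (H ⧸ R) := isNilpotent_quotient_lcs k
  set π := QuotientGroup.mk' R
  set X := (Cfsg.pCore p (H ⧸ R)).comap π with hX
  haveI : (Cfsg.pCore p (H ⧸ R)).Normal := CfsgLib.Solvable.pCore_normal p _
  let S : Set H := {a | a ∈ R ∧ (orderOf a).Coprime p}
  set C := centralizer S with hC
  haveI hCn : C.Normal := ⟨fun c hc g => mem_centralizer_iff.2 fun a ha => by
    have hmem : g⁻¹ * a * g ∈ S := by
      refine ⟨by simpa using (inferInstance : R.Normal).conj_mem a ha.1 g⁻¹, ?_⟩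
      have he := (SemiconjBy.conj_mk g⁻¹ a).orderOf_eq g⁻¹
      rw [inv_inv] at he
      rw [← he]
      exact ha.2
    have h1 := mem_centralizer_iff.1 hc _ hmem
    calc a * (g * c * g⁻¹) = g * (g⁻¹ * a * g * c) * g⁻¹ := by group
      _ = g * (c * (g⁻¹ * a * g)) * g⁻¹ := by rw [h1]
      _ = _ := by group⟩
  have hvX : (⟨v, hvH⟩ : H) ∈ X := by
    refine mem_pCore_of_isNilpotent hq (i := i) ?_
    rw [← map_pow, show (⟨v, hvH⟩ : H) ^ p ^ i = 1 from Subtype.ext hi, map_one]
  have hvC : (⟨v, hvH⟩ : H) ∈ C := by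
    refine mem_centralizer_iff.2 fun a ha => ?_
    refine Eq.symm (mem_centralizer_singleton_iff.1 (?_ : a ∈ centralizer ({⟨v, hvH⟩} : Set H))).symm
    refine mem_of_parts fun d hd s j hs hdj => mem_centralizer_singleton_iff.2 ?_
    haveI : Fact s.Prime := ⟨hs⟩
    by_cases hsp : s = p
    · subst hsp
      have : d = 1 := orderOf_eq_one_iff.1 (Nat.eq_one_of_dvd_coprimes (ha.2.pow_right j)
        (orderOf_dvd_of_mem_zpowers hd) (orderOf_dvd_of_pow_eq_one hdj))
      rw [this, one_mul, mul_one]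
    · set U := (CfsgLib.OddLocal.pPart s R).map H.subtype
      have hdU : (d : G) ∈ U := mem_map_of_mem H.subtype
        (CfsgLib.OddLocal.mem_pPart hRnil (zpowers_le.2 ha.1 hd) hdj)
      have hvU : v ∈ normalizer (U : Set G) := by
        have h1 : (⟨v, hvH⟩ : H) ∈ normalizer (CfsgLib.OddLocal.pPart s R : Set H) := by
          refine CfsgLib.OddLocal.normalizer_le_normalizer_pPart s R ?_
          rw [normalizer_eq_top_iff.2 (inferInstance : R.Normal)]
          trivial
        exact Subgroup.le_normalizer_map H.subtype (mem_map_of_mem H.subtype h1)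
      exact Subtype.ext (h.centralises p v hv s hs hsp U
        ((CfsgLib.OddLocal.pPart_isPGroup s R).map _) hvU d hdU).eq.symm
  set Y := X ⊓ C with hY
  haveI : X.Normal := (inferInstance : (Cfsg.pCore p (H ⧸ R)).Normal).comap π
  haveI hYn : Y.Normal := inferInstance
  have hYnil : Group.IsNilpotent Y := by
    refine isNilpotent_of_quotient (R.subgroupOf Y) ?_ ?_
    · have hqY : IsPGroup p (Y ⧸ R.subgroupOf Y) := by
        intro z
        induction z using QuotientGroup.induction_on with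
        | _ y =>
          obtain ⟨j, hj⟩ := CfsgLib.Solvable.pCore_isPGroup p (G := H ⧸ R)
            ⟨π (y : H), (mem_inf.1 y.2).1⟩
          refine ⟨j, (QuotientGroup.eq_one_iff _).2 (mem_subgroupOf.2 ?_)⟩
          refine (QuotientGroup.eq_one_iff _).1 ?_
          show π ((y : H) ^ p ^ j) = 1
          rw [map_pow]
          exact congrArg Subtype.val hj
      exact hqY.isNilpotent
    · intro r s hr hs hrs x y hy a b hx hy'
      haveI : Fact s.Prime := ⟨hs⟩
      have hx' : (x : H) ^ r ^ a = 1 := by simpa using congrArg Subtype.val hx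
      have hy'' : (y : H) ^ s ^ b = 1 := by simpa using congrArg Subtype.val hy'
      refine Subtype.ext ?_
      by_cases hsp : s = p
      · subst hsp
        have hxR : (x : H) ∈ R := (QuotientGroup.eq_one_iff _).1
          (map_eq_one_of_coprime (CfsgLib.Solvable.pCore_isPGroup s) π (mem_inf.1 x.2).1
            (coprime_orderOf_of_pow hr hs hrs hx'))
        exact CfsgLib.OddLocal.commute_of_mem_nilpotent hRnil hxR (mem_subgroupOf.1 hy)
          (CfsgLib.OddLocal.coprime_orderOf_of_prime_ne hr hs hrs hx' hy'')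
      · exact (mem_centralizer_iff.1 (mem_inf.1 x.2).2 (y : H)
          ⟨mem_subgroupOf.1 hy, coprime_orderOf_of_pow hs hp hsp hy''⟩).symm
  refine ⟨CfsgLib.OddLocal.pPart p Y, ?_, CfsgLib.OddLocal.pPart_isPGroup p Y, ?_⟩
  · rw [← normalizer_eq_top_iff]
    refine top_le_iff.1 (le_trans ?_ (CfsgLib.OddLocal.normalizer_le_normalizer_pPart p Y))
    rw [normalizer_eq_top_iff.2 hYn]
  · exact CfsgLib.OddLocal.mem_pPart hYnil (mem_inf.2 ⟨hvX, hvC⟩) (i := i) (Subtype.ext hi)

/-- A nontrivial good element lies in a unique maximal subgroup. -/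
theorem unique_coatom {p : ℕ} [Fact p.Prime] {v : G} (hv : Good p v) (hv1 : v ≠ 1) :
    ∃ M : Subgroup G, IsCoatom M ∧ v ∈ M ∧ ∀ K : Subgroup G, IsCoatom K → v ∈ K → K = M := by
  have hA : ∀ H : Subgroup G, zpowers v ≤ H → H ≠ ⊤ → ((zpowers v).subgroupOf H).IsSubnormal := by
    intro H hAH hH
    obtain ⟨N, hNn, hNp, hvN⟩ := h.exists_pGroup_of_mem hv hH (hAH (mem_zpowers v))
    haveI := hNp.isNilpotent
    refine Subgroup.IsSubnormal.trans ?_ (CfsgLib.Solvable.isSubnormal_of_isNilpotent _)
      hNn.isSubnormal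
    intro a ha
    obtain ⟨t, ht⟩ := mem_zpowers_iff.1 (mem_subgroupOf.1 ha)
    have he : a = (⟨v, hAH (mem_zpowers v)⟩ : H) ^ t := Subtype.ext (by simpa using ht.symm)
    rw [he]
    exact zpow_mem hvN t
  have hns : ¬ (zpowers v).IsSubnormal := by
    intro hsn
    rcases hsn.eq_bot_or_top_of_isSimpleGroup h.simple with h1 | h1
    · exact hv1 (zpowers_eq_bot.1 h1)
    · haveI : IsCyclic G := isCyclic_iff_exists_zpowers_eq_top.2 ⟨v, h1⟩
      letI := IsCyclic.commGroup (α := G)
      exact h.nsol inferInstance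
  obtain ⟨M, hM, hAM, huniq⟩ := CfsgLib.Solvable.exists_unique_coatom_of_subnormal hA hns
  exact ⟨M, hM, hAM (mem_zpowers v), fun K hK hvK => huniq K hK (zpowers_le.2 hvK)⟩

/-- A Sylow subgroup contains a nontrivial good central element. -/
theorem exists_central_good {p : ℕ} [Fact p.Prime] (hp : p ∣ Nat.card G) (P : Sylow p G) :
    ∃ v ∈ (P : Subgroup G), v ≠ 1 ∧ Good p v ∧ ∀ b ∈ (P : Subgroup G), Commute v b := by
  have hpp := (Fact.out : p.Prime)
  -- some good element lies in `P`
  obtain ⟨x, hxP, hx1, hxg⟩ : ∃ x ∈ (P : Subgroup G), x ≠ 1 ∧ Good p x := by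
    by_contra hno
    push Not at hno
    have hF : Cfsg.HasNormalPComplement p G := by
      rw [CfsgLib.Transfer.hasNormalPComplement_iff_frobenius]
      intro U hU g hg hgc
      by_contra hgC
      obtain ⟨x, hxU, hx1, hxg⟩ := h.exists_good p hpp U g hU hg hgc hgC
      obtain ⟨Q, hQ⟩ := hU.exists_le_sylow
      obtain ⟨a, ha⟩ := MulAction.exists_smul_eq G Q P
      refine hno (a * x * a⁻¹) ?_ (fun e => hx1 (conj_eq_one_iff.1 e)) (h.conj p x a hxg)
      rw [← ha, Sylow.coe_subgroup_smul, mem_pointwise_smul_iff_inv_smul_mem, ← map_inv,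
        MulAut.smul_def, MulAut.conj_apply, inv_inv]
      simpa [mul_assoc] using hQ hxU
    obtain ⟨Q, N, hN, hcompl⟩ := hF
    rcases h.eq_bot_or_top hN with h1 | h1
    · have h2 := hcompl.card_mul
      rw [h1, card_bot, one_mul] at h2
      have h3 : IsPGroup p G := by
        obtain ⟨j, hj⟩ := Q.2.exists_card_eq
        exact IsPGroup.of_card (h2 ▸ hj)
      haveI := h3.isNilpotent
      exact h.nsol inferInstance
    · have h2 := hcompl.card_mul
      rw [h1, card_top] at h2
      have h3 : Nat.card (Q : Subgroup G) = 1 :=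
        Nat.eq_of_mul_eq_mul_left Nat.card_pos (h2.trans (mul_one _).symm)
      exact Sylow.ne_bot_of_dvd_card Q hp (Subgroup.card_eq_one.1 h3)
  -- descend along the upper central series
  haveI := P.2.isNilpotent
  obtain ⟨n, hn⟩ := Group.IsNilpotent.nilpotent (P : Subgroup G)
  classical
  have hex : ∃ j, ∃ a : (P : Subgroup G), a ∈ Subgroup.upperCentralSeries (P : Subgroup G) j ∧ a ≠ 1 ∧
      Good p a := ⟨n, ⟨x, hxP⟩, hn ▸ mem_top _, fun e => hx1 (congrArg Subtype.val e :), hxg⟩
  obtain ⟨a, haj, ha1, hag⟩ := Nat.find_spec hex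
  refine ⟨a, a.2, fun e => ha1 (Subtype.ext e), hag, fun b hb => ?_⟩
  rw [← commutatorElement_eq_one_iff_commute]
  by_contra hne
  obtain ⟨j, hj⟩ : ∃ j, Nat.find hex = j + 1 := by
    rcases Nat.eq_zero_or_pos (Nat.find hex) with h0 | h0
    · rw [h0, Subgroup.upperCentralSeries_zero, mem_bot] at haj
      exact absurd haj ha1
    · exact ⟨_, (Nat.sub_add_cancel h0).symm⟩
  rw [hj, Subgroup.mem_upperCentralSeries_succ_iff] at haj
  refine Nat.find_min hex (m := j) (by omega) ⟨⁅a, ⟨b, hb⟩⁆, ?_, ?_, ?_⟩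
  · simpa [commutatorElement_def] using haj ⟨b, hb⟩
  · exact fun e => hne (congrArg Subtype.val e :)
  · exact h.step p a b hag ⟨P, P.2, a.2, hb⟩

/-- The normaliser of a Sylow subgroup. -/
theorem home {p : ℕ} [Fact p.Prime] (hp : p ∣ Nat.card G) (P : Sylow p G) :
    IsCoatom (normalizer ((P : Subgroup G) : Set G)) ∧
      (∀ a ∈ (P : Subgroup G), a ≠ 1 →
        centralizer ({a} : Set G) ≤ normalizer ((P : Subgroup G) : Set G)) ∧
      (∀ a ∈ (P : Subgroup G), a ≠ 1 → ∀ g : G, g * a * g⁻¹ ∈ (P : Subgroup G) →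
        g ∈ normalizer ((P : Subgroup G) : Set G)) ∧
      (P : Subgroup G) ≤ (normalizer ((P : Subgroup G) : Set G)).lowerCentralSeries k := by
  obtain ⟨v, hvP, hv1, hvg, hvc⟩ := h.exists_central_good hp P
  obtain ⟨M, hM, hvM, huniq⟩ := h.unique_coatom hvg hv1
  have hMn : normalizer (M : Set G) = M := by
    rcases eq_top_or_lt_top (normalizer (M : Set G)) with h1 | h1
    · rcases h.eq_bot_or_top (normalizer_eq_top_iff.1 h1) with h2 | h2
      · exact absurd (mem_bot.1 (h2 ▸ hvM)) hv1
      · exact absurd h2 hM.1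
    · exact ((hM.le_iff.1 Subgroup.le_normalizer).resolve_left h1.ne)
  have hbelow : ∀ H : Subgroup G, H ≠ ⊤ → v ∈ H → H ≤ M := by
    intro H hH hvH
    obtain ⟨K, hK, hHK⟩ := (eq_top_or_exists_le_coatom H).resolve_left hH
    exact huniq K hK (hHK hvH) ▸ hHK
  have hC : ∀ a ∈ (P : Subgroup G), a ≠ 1 → centralizer ({a} : Set G) ≤ M := fun a ha ha1 =>
    hbelow _ (h.centralizer_ne_top ha1) (mem_centralizer_singleton_iff.2 (hvc a ha).eq)
  have hTI : ∀ a ∈ (P : Subgroup G), a ≠ 1 → ∀ g : G, g * a * g⁻¹ ∈ (P : Subgroup G) → g ∈ M := by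
    intro a ha ha1 g hg
    have hb1 : g * a * g⁻¹ ≠ 1 := fun e => ha1 (conj_eq_one_iff.1 e)
    obtain ⟨K, hK, hCK⟩ := (eq_top_or_exists_le_coatom _).resolve_left (h.centralizer_ne_top hb1)
    have hKM : K = M := huniq K hK (hCK (mem_centralizer_singleton_iff.2 (hvc _ hg).eq))
    have hgv : g * v * g⁻¹ ∈ M := hKM ▸ hCK (mem_centralizer_singleton_iff.2 (by
      calc g * v * g⁻¹ * (g * a * g⁻¹) = g * (v * a) * g⁻¹ := by group
        _ = g * (a * v) * g⁻¹ := by rw [(hvc a ha).eq]
        _ = _ := by group))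
    have hcoat : IsCoatom (M.map (MulAut.conj g⁻¹).toMonoidHom) :=
      ((MulEquiv.mapSubgroup (MulAut.conj g⁻¹)).isCoatom_iff M).2 hM
    have hvM' : v ∈ M.map (MulAut.conj g⁻¹).toMonoidHom :=
      ⟨_, hgv, by simp [mul_assoc]⟩
    have := huniq _ hcoat hvM'
    have hgi : g⁻¹ ∈ normalizer (M : Set G) := mem_normalizer_iff_map_conj_eq.2 this
    rw [hMn] at hgi
    simpa using inv_mem hgi
  -- `P` is normal in `M`
  have hPM : (P : Subgroup G) ≤ M := fun a ha => by
    by_cases ha1 : a = 1
    · exact ha1 ▸ one_mem M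
    · exact hC a ha ha1 (mem_centralizer_singleton_iff.2 rfl)
  have hfoc : (P : Subgroup G) ≤ (P : Subgroup G).focalSubgroup := by
    rw [← ker_transferFocal_inf_eq_focalSubgroup P]
    refine le_inf ?_ le_rfl
    have htop : (P : Subgroup G).transferFocal.ker = ⊤ := by
      refine (h.eq_bot_or_top inferInstance).resolve_left fun hbot => ?_
      refine h.not_isMulCommutative ⟨⟨fun a b => ?_⟩⟩
      refine (MonoidHom.ker_eq_bot_iff _).1 hbot ?_
      rw [map_mul, map_mul]
      exact (inferInstance : IsMulCommutative ((P : Subgroup G) ⧸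
        (P : Subgroup G).focalSubgroupOf)).is_comm.comm _ _
    rw [htop]
    exact le_top
  set P0 := P.subtype hPM with hP0
  have hP0map : (P0 : Subgroup M).map M.subtype = (P : Subgroup G) := by
    rw [hP0, Sylow.coe_subtype, subgroupOf_map_subtype, inf_eq_left.2 hPM]
  have hP0c : (P0 : Subgroup M) ≤ _root_.commutator M := by
    rw [← map_subtype_le_map_subtype, hP0map, map_subtype_commutator]
    refine hfoc.trans ?_
    rw [focalSubgroup_def, closure_le]
    rintro _ ⟨hmem, a, ha, g, rfl⟩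
    by_cases ha1 : a = 1
    · rw [ha1, commutatorElement_one_left]; exact one_mem _
    refine commutator_mem_commutator (hPM ha) (hTI a ha ha1 g ?_)
    have h1 : g * a * g⁻¹ = (a⁻¹ * ⁅a, g⁆)⁻¹ := by rw [commutatorElement_def]; group
    rw [h1]
    exact inv_mem (mul_mem (inv_mem ha) hmem)
  set R := (⊤ : Subgroup M).lowerCentralSeries k with hR
  have hRnil : Group.IsNilpotent R := h.sub M hM.1
  have hP0R : (P0 : Subgroup M) ≤ R := by
    set π := QuotientGroup.mk' R
    set P1 := P0.mapSurjective (f := π) (QuotientGroup.mk'_surjective R)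
    have hle : (P1 : Subgroup (M ⧸ R)) ≤ _root_.commutator (M ⧸ R) := by
      show (P0 : Subgroup M).map π ≤ _
      refine (map_mono hP0c).trans ?_
      rw [commutator_def, commutator_def, map_commutator]
      exact commutator_mono le_top le_top
    have hbot := eq_bot_of_le_commutator_nilpotent (isNilpotent_quotient_lcs k) P1 hle
    have hbot' : (P0 : Subgroup M).map π = ⊥ := hbot
    rwa [Subgroup.map_eq_bot_iff, QuotientGroup.ker_mk'] at hbot'
  have hP0eq : CfsgLib.OddLocal.pPart p R = (P0 : Subgroup M) := by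
    refine P0.3 (CfsgLib.OddLocal.pPart_isPGroup p R) fun a ha => ?_
    obtain ⟨j, hj⟩ := P0.2 ⟨a, ha⟩
    exact CfsgLib.OddLocal.mem_pPart hRnil (hP0R ha) (congrArg Subtype.val hj :)
  have hMle : M ≤ normalizer ((P : Subgroup G) : Set G) := by
    intro m hm
    have h1 : (⟨m, hm⟩ : M) ∈ normalizer ((P0 : Subgroup M) : Set M) := by
      rw [← hP0eq]
      refine CfsgLib.OddLocal.normalizer_le_normalizer_pPart p R ?_
      rw [normalizer_eq_top_iff.2 (inferInstance : R.Normal)]
      trivial
    have h2 := Subgroup.le_normalizer_map M.subtype (mem_map_of_mem M.subtype h1)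
    rwa [hP0map] at h2
  have hNe : normalizer ((P : Subgroup G) : Set G) = M :=
    (hM.le_iff.1 hMle).resolve_left
      (h.normalizer_ne_top P.2 (Sylow.ne_bot_of_dvd_card P hp))
  rw [hNe]
  refine ⟨hM, hC, hTI, ?_⟩
  rw [← hP0map, ← top_subtype_lowerCentralSeries]
  exact map_mono hP0R

end IsLocalConfig

end CfsgLib.CommutatorValues
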