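import Cfsg.Agent.Lib.Coprime.CommutatorValuesSolvable
import Mathlib.GroupTheory.Frattini
import Cfsg.Agent.Lib.StructC.Regular

/-!
The coprime order condition on commutator values forces solvability, hence a nilpotent term of
the lower central series.
-/

set_option autoImplicit false

namespace CfsgLib.CommutatorValues

open Subgroup
open scoped commutatorElement Pointwise

universe u

variable {G : Type u} [Group G] [Finite G]

omit [Finite G] in
theorem isSolvable_of_isNilpotent_lcs {k : ℕ}
    (h : Group.IsNilpotent ((⊤ : Subgroup G).lowerCentralSeries k)) : Group.IsSolvable G := by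
  have := h
  have := isNilpotent_quotient_lcs (G := G) k
  exact Group.isSolvable_of_ker_le_range ((⊤ : Subgroup G).lowerCentralSeries k).subtype
    (QuotientGroup.mk' ((⊤ : Subgroup G).lowerCentralSeries k))
    (by rw [QuotientGroup.ker_mk', range_subtype])

omit [Finite G] in
/-- A group with a solvable normal subgroup and a solvable supplement is solvable. -/
theorem isSolvable_of_sup {M X : Subgroup G} [M.Normal] (hM : Group.IsSolvable M)
    (hX : Group.IsSolvable X) (h : M ⊔ X = ⊤) : Group.IsSolvable G := by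
  have := hM
  have := hX
  let f : X →* G ⧸ M := (QuotientGroup.mk' M).comp X.subtype
  have hf : Function.Surjective f := fun z => by
    induction z using QuotientGroup.induction_on with
    | _ g =>
      have hg : g ∈ (X : Set G) * (M : Set G) := by rw [← mul_normal, sup_comm, h]; trivial
      obtain ⟨a, ha, b, hb, rfl⟩ := hg
      refine ⟨⟨a, ha⟩, ?_⟩
      show (a : G ⧸ M) = ((a * b : G) : G ⧸ M)
      rw [QuotientGroup.eq, inv_mul_cancel_left]
      exact hb
  have := Group.isSolvable_of_surjective hf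
  exact Group.isSolvable_of_ker_le_range M.subtype (QuotientGroup.mk' M)
    (by rw [QuotientGroup.ker_mk', range_subtype])

/-- The standing assumptions of the minimal counterexample. -/
structure IsCritical (k : ℕ) (M : Subgroup G) : Prop where
  cond : Cond k G
  normal : M.Normal
  solvable : Group.IsSolvable M
  top : ∀ X : Subgroup G, X.Normal → ¬ X ≤ M → X = ⊤
  nsol : ¬ Group.IsSolvable G

variable {k : ℕ} {M : Subgroup G}

omit [Finite G] in
theorem IsCritical.ne_top (h : IsCritical k M) : M ≠ ⊤ := by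
  intro e
  have := h.solvable
  exact h.nsol (Group.isSolvable_of_surjective (f := M.subtype) fun g => ⟨⟨g, e ▸ mem_top g⟩, rfl⟩)

omit [Finite G] in
theorem IsCritical.nsol_quotient (h : IsCritical k M) :
    haveI := h.normal
    ¬ Group.IsSolvable (G ⧸ M) := by
  haveI := h.normal
  intro hq
  have := h.solvable
  exact h.nsol (Group.isSolvable_of_ker_le_range M.subtype (QuotientGroup.mk' M)
    (by rw [QuotientGroup.ker_mk', range_subtype]))

/-- A prime divisor `r` of `|G / M|` admits an `r'`-element acting nontrivially modulo `M` on an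
`r`-subgroup. -/
theorem IsCritical.exists_action (h : IsCritical k M) {r : ℕ} [Fact r.Prime]
    (hr : r ∣ M.index) :
    ∃ (U : Subgroup G) (g : G), IsPGroup r U ∧ g ∈ normalizer (U : Set G) ∧
      (orderOf g).Coprime r ∧ ∃ u ∈ U, ⁅u, g⁆ ∉ M := by
  have hp := (Fact.out : r.Prime)
  haveI := h.normal
  set π := QuotientGroup.mk' M with hπ
  by_contra hcon
  push Not at hcon
  have hF : Cfsg.HasNormalPComplement r (G ⧸ M) := by
    rw [CfsgLib.Transfer.hasNormalPComplement_iff_frobenius]
    intro Db hDb gb hgb hgc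
    set D := Db.comap π with hD
    obtain ⟨S⟩ := (inferInstance : Nonempty (Sylow r D))
    set U := (S : Subgroup D).map D.subtype with hU
    have hDmap : D.map π = Db := map_comap_eq_self_of_surjective (QuotientGroup.mk'_surjective M) _
    have hUDb : U.map π = Db := by
      let f : D →* Db := (π.comp D.subtype).codRestrict Db fun a => mem_comap.1 a.2
      have hf : Function.Surjective f := fun b => by
        obtain ⟨a, ha⟩ := QuotientGroup.mk'_surjective M (b : G ⧸ M)
        exact ⟨⟨a, mem_comap.2 (by rw [ha]; exact b.2)⟩, Subtype.ext ha⟩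
      set S' := S.mapSurjective hf
      have htop : (S' : Subgroup Db) = ⊤ :=
        (S'.3 (Q := (⊤ : Subgroup Db)) (hDb.to_subgroup ⊤ |> id) le_top).symm
      have h1 : ((S : Subgroup D).map f).map Db.subtype = Db := by
        rw [show (S : Subgroup D).map f = ⊤ from htop, ← MonoidHom.range_eq_map, range_subtype]
      rw [hU, Subgroup.map_map]
      rw [Subgroup.map_map] at h1
      exact h1
    -- lift `gb` to the normaliser of `U`
    set Nd := Db.comap π ⊔ normalizer (U : Set G) with hNd
    obtain ⟨n, hn, hng⟩ : gb ∈ (normalizer (U : Set G)).map π := by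
      have hle : normalizer (Db : Set (G ⧸ M)) ≤ (normalizer (U : Set G)).map π := by
        intro z hz
        obtain ⟨g, rfl⟩ := QuotientGroup.mk'_surjective M z
        have hgD : g ∈ normalizer (D : Set G) := by
          refine mem_normalizer_iff.2 fun a => ?_
          simp only [hD, mem_comap, map_mul, map_inv]
          exact mem_normalizer_iff.1 hz (π a)
        haveI : (D.subgroupOf (normalizer (D : Set G))).Normal := normal_in_normalizer
        have hsup : normalizer (U : Set G) ⊔ D = D ⊔ normalizer (U : Set G) := sup_comm _ _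
        let S1 : Sylow r (D.subgroupOf (normalizer (D : Set G))) :=
          S.mapSurjective (f := (subgroupOfEquivOfLe (le_normalizer (H := D))).symm.toMonoidHom)
            (MulEquiv.surjective _)
        have htop := Sylow.normalizer_sup_eq_top S1
        have hS1 : ((S1 : Subgroup (D.subgroupOf (normalizer (D : Set G)))).map
            (D.subgroupOf (normalizer (D : Set G))).subtype).map
              (normalizer (D : Set G)).subtype = U := by
          rw [hU, Subgroup.map_map]
          show (((S : Subgroup D).map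
            (subgroupOfEquivOfLe (le_normalizer (H := D))).symm.toMonoidHom)).map _ = _
          rw [Subgroup.map_map]
          rfl
        have hmem : (⟨g, hgD⟩ : normalizer (D : Set G)) ∈
            ((normalizer (((S1 : Subgroup (D.subgroupOf (normalizer (D : Set G)))).map (D.subgroupOf (normalizer (D : Set G))).subtype : Subgroup (normalizer (D : Set G))) :
              Set (normalizer (D : Set G))) : Subgroup (normalizer (D : Set G))) :
                Set (normalizer (D : Set G))) * ((D.subgroupOf (normalizer (D : Set G))) : Set (normalizer (D : Set G))) := by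
          rw [← mul_normal, htop]; trivial
        obtain ⟨a, ha, b, hb, hab⟩ := hmem
        have haU : (a : G) ∈ normalizer (U : Set G) := by
          have h2 := Subgroup.le_normalizer_map (normalizer (D : Set G)).subtype
            (mem_map_of_mem _ ha)
          rwa [hS1] at h2
        have hbD : π (b : G) ∈ (normalizer (U : Set G)).map π := by
          have h3 : π (b : G) ∈ U.map π := by
            rw [hUDb]
            exact mem_comap.1 (mem_subgroupOf.1 hb)
          exact map_mono le_normalizer h3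
        have h4 : g = (a : G) * b := (congrArg Subtype.val hab).symm
        rw [h4, map_mul]
        exact mul_mem (mem_map_of_mem π haU) hbD
      exact hle hgb
    obtain ⟨e, d, hd, hnd⟩ := Nat.exists_eq_pow_mul_and_not_dvd (orderOf_pos n).ne' r hp.ne_one
    have hgU : n ^ r ^ e ∈ normalizer (U : Set G) := pow_mem hn _
    have hgc' : (orderOf (n ^ r ^ e)).Coprime r := by
      rw [orderOf_pow_of_dvd (pow_ne_zero _ hp.ne_zero) (hnd ▸ Dvd.intro d rfl), hnd,
        Nat.mul_div_cancel_left _ (pow_pos hp.pos e)]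
      exact ((hp.coprime_iff_not_dvd).2 hd).symm
    have hall := hcon U (n ^ r ^ e) (S.2.map _) hgU hgc'
    have hgmem : gb ∈ zpowers (gb ^ r ^ e) := by
      obtain ⟨i, hi⟩ := exists_pow_eq_self_of_coprime (hgc.symm.pow_left e)
      refine mem_zpowers_iff.2 ⟨(i : ℤ), ?_⟩
      rw [zpow_natCast, hi]
    refine mem_centralizer_iff.2 fun db hdb => ?_
    rw [← hUDb] at hdb
    obtain ⟨u, hu, rfl⟩ := hdb
    have hcomm : Commute (gb ^ r ^ e) (π u) := by
      have h5 : π ⁅u, n ^ r ^ e⁆ = 1 := (QuotientGroup.eq_one_iff _).2 (hall u hu)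
      rw [map_commutatorElement, map_pow, hng, commutatorElement_eq_one_iff_commute] at h5
      exact h5.symm
    obtain ⟨i, hi⟩ := mem_zpowers_iff.1 hgmem
    rw [← hi]
    exact (hcomm.zpow_left i).eq.symm
  obtain ⟨P, N, hN, hcompl⟩ := hF
  haveI := hN
  by_cases hNM : N.comap π ≤ M
  · apply h.nsol_quotient
    have hbot : N = ⊥ := by
      rw [eq_bot_iff]
      intro z hz
      obtain ⟨g, rfl⟩ := QuotientGroup.mk'_surjective M z
      exact mem_bot.2 ((QuotientGroup.eq_one_iff g).2 (hNM hz))
    have hPtop : (P : Subgroup (G ⧸ M)) = ⊤ := by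
      refine eq_top_of_card_eq _ ?_
      have h2 := hcompl.card_mul
      rw [hbot, card_bot, one_mul] at h2
      exact h2
    have hnil : Group.IsNilpotent (P : Subgroup (G ⧸ M)) := P.2.isNilpotent
    rw [hPtop] at hnil
    haveI : Group.IsNilpotent (G ⧸ M) := (Group.isNilpotent_congr Subgroup.topEquiv).1 hnil
    infer_instance
  · have htop := h.top _ (hN.comap π) hNM
    have hNtop : N = ⊤ := eq_top_iff.2 fun z _ => by
      obtain ⟨g, rfl⟩ := QuotientGroup.mk'_surjective M z
      exact mem_comap.1 (htop ▸ mem_top g)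
    have h2 := hcompl.card_mul
    rw [hNtop, card_top] at h2
    have h3 : Nat.card (P : Subgroup (G ⧸ M)) = 1 :=
      Nat.eq_of_mul_eq_mul_left Nat.card_pos (h2.trans (mul_one _).symm)
    have h4 := P.card_eq_multiplicity
    rw [h3] at h4
    have h5 : (Nat.card (G ⧸ M)).factorization r = 0 := by
      by_contra hne
      have := Nat.one_lt_pow hne hp.one_lt
      omega
    rw [← index_eq_card] at h5
    exact (Nat.Prime.factorization_pos_of_dvd hp index_ne_zero_of_finite hr).ne' h5

/-- A value of `r`-power order outside `M`. -/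
theorem IsCritical.exists_value (h : IsCritical k M) {r : ℕ} [Fact r.Prime] (hr : r ∣ M.index) :
    ∃ v : G, IsValue k v ∧ v ∉ M ∧ ∃ i, v ^ r ^ i = 1 := by
  haveI := h.normal
  obtain ⟨U, g, hU, hg, hgc, u, hu, hug⟩ := h.exists_action hr
  set π := QuotientGroup.mk' M
  refine ⟨engel g (k + 1) u, isValue_engel_succ g u k, fun hmem => hug ?_, ?_⟩
  · refine (QuotientGroup.eq_one_iff _).1 ?_
    show π ⁅u, g⁆ = 1
    rw [map_commutatorElement, commutatorElement_eq_one_iff_commute]
    refine (commute_of_engel (k + 1) (U.map π) (Subgroup.le_normalizer_map π (mem_map_of_mem π hg))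
      ?_ (mem_map_of_mem π hu) ?_).symm
    · intro z hz
      obtain ⟨j, hj⟩ := hU.map π ⟨z, hz⟩
      exact (((hgc.coprime_dvd_left (orderOf_map_dvd π g)).pow_right j).symm).coprime_dvd_left
        (orderOf_dvd_of_pow_eq_one (congrArg Subtype.val hj :))
    · rw [← map_engel]
      exact (QuotientGroup.eq_one_iff _).2 hmem
  · obtain ⟨i, hi⟩ := hU ⟨_, engel_mem hg hu (k + 1)⟩
    exact ⟨i, congrArg Subtype.val hi⟩

/-- The solvable radical is central. -/
theorem IsCritical.le_center (h : IsCritical k M) : M ≤ center G := by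
  haveI := h.normal
  have hsolM := h.solvable
  have hA := centralises_of_cond h.cond
  -- normal subgroups of prime power order are central
  have hpN : ∀ (p : ℕ), p.Prime → ∀ P : Subgroup G, P.Normal → IsPGroup p P → P ≤ center G := by
    intro p hp P hPn hP
    haveI := hPn
    haveI : Fact p.Prime := ⟨hp⟩
    obtain ⟨r, hr, hrd, hrp⟩ : ∃ r, r.Prime ∧ r ∣ M.index ∧ r ≠ p := by
      by_contra hcon
      push Not at hcon
      apply h.nsol_quotient
      have hq : IsPGroup p (G ⧸ M) := by
        rw [IsPGroup.iff_card]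
        refine ⟨_, Nat.eq_prime_pow_of_unique_prime_dvd Nat.card_pos.ne' fun {d} hd hdd => ?_⟩
        exact hcon d hd (by rwa [index_eq_card])
      haveI := hq.isNilpotent
      infer_instance
    haveI : Fact r.Prime := ⟨hr⟩
    obtain ⟨v, hv, hvM, i, hvi⟩ := h.exists_value hrd
    have hvC : v ∈ centralizer (P : Set G) := by
      refine mem_centralizer_iff.2 fun b hb => (hA v hv P ?_ ?_ b hb).symm
      · rw [normalizer_eq_top_iff.2 hPn]; trivial
      · intro b hb
        obtain ⟨j, hj⟩ := hP ⟨b, hb⟩
        exact CfsgLib.OddLocal.coprime_orderOf_of_prime_ne hp hr (Ne.symm hrp)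
          (congrArg Subtype.val hj :) hvi
    have htop := h.top _ inferInstance fun hle => hvM (hle hvC)
    exact fun b hb => mem_center_iff.2 fun g =>
      (mem_centralizer_iff.1 (htop ▸ mem_top g : g ∈ centralizer (P : Set G)) b hb).symm
  -- nilpotent normal subgroups are central
  have hnN : ∀ D : Subgroup G, D.Normal → Group.IsNilpotent D → D ≤ center G := by
    intro D hDn hD
    rw [← CfsgLib.OddLocal.iSup_pPart hD]
    refine iSup_le fun p => ?_
    haveI : Fact (p : ℕ).Prime := ⟨p.2⟩
    refine hpN p p.2 _ ?_ (CfsgLib.OddLocal.pPart_isPGroup _ D)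
    rw [← normalizer_eq_top_iff]
    refine top_le_iff.1 (le_trans ?_ (CfsgLib.OddLocal.normalizer_le_normalizer_pPart p D))
    rw [normalizer_eq_top_iff.2 hDn]
  obtain ⟨n, hn⟩ := hsolM
  suffices key : ∀ j, j ≤ n → (derivedSeries M (n - j)).map M.subtype ≤ center G by
    have := key n le_rfl
    rwa [Nat.sub_self, derivedSeries_zero, ← MonoidHom.range_eq_map, range_subtype] at this
  intro j hj
  induction j with
  | zero => rw [Nat.sub_zero, hn, Subgroup.map_bot]; exact bot_le
  | succ j ih =>
    have h1 := ih (by omega)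
    set D := (derivedSeries M (n - (j + 1))).map M.subtype with hD
    have hD1 : ⁅D, D⁆ ≤ center G := by
      rw [hD, ← Subgroup.map_commutator, ← derivedSeries_succ,
        show n - (j + 1) + 1 = n - j by omega]
      exact h1
    refine hnN D inferInstance ((Subgroup.isNilpotent_iff_lowerCentralSeries D).2 ⟨2, ?_⟩)
    rw [Subgroup.lowerCentralSeries_succ, Subgroup.lowerCentralSeries_succ,
      Subgroup.lowerCentralSeries_zero, Subgroup.commutator_eq_bot_iff_le_centralizer]
    exact hD1.trans (center_le_centralizer _)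

/-- An involution modulo the centre among the values of `2`-power order. -/
theorem IsCritical.exists_involution_value (h : IsCritical k M) (h2 : 2 ∣ M.index) :
    ∃ x : G, IsValue k x ∧ x ∉ M ∧ x ^ 2 ∈ center G ∧ ∃ i, x ^ 2 ^ i = 1 := by
  haveI : Fact (Nat.Prime 2) := ⟨Nat.prime_two⟩
  have hMZ := h.le_center
  haveI := h.normal
  classical
  have hex : ∃ c, ∃ (U : Subgroup G) (g : G), IsPGroup 2 U ∧ g ∈ normalizer (U : Set G) ∧
      (orderOf g).Coprime 2 ∧ (∃ u ∈ U, ⁅u, g⁆ ∉ M) ∧ Nat.card U = c := by
    obtain ⟨U, g, h1, h2', h3, h4⟩ := h.exists_action h2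
    exact ⟨_, U, g, h1, h2', h3, h4, rfl⟩
  obtain ⟨U, g, hU, hg, hgc, hug, hUc⟩ := Nat.find_spec hex
  obtain ⟨u, hu, hug⟩ := hug
  have hcop : ∀ w ∈ U, (orderOf w).Coprime (orderOf g) := fun w hw => by
    obtain ⟨i, hi⟩ := hU ⟨w, hw⟩
    exact ((hgc.pow_right i).symm).coprime_dvd_left
      (orderOf_dvd_of_pow_eq_one (congrArg Subtype.val hi :))
  -- proper invariant subgroups are centralised
  have hcentral : ∀ w ∈ U, ⁅w, g⁆ ∈ M → Commute g w := by
    intro w hw hwg
    refine commute_of_engel 2 U hg hcop hw ?_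
    show ⁅⁅w, g⁆, g⁆ = 1
    rw [commutatorElement_eq_one_iff_commute]
    exact (mem_center_iff.1 (hMZ hwg) g).symm
  have hproper : ∀ W : Subgroup G, W ≤ U → W ≠ U → g ∈ normalizer (W : Set G) →
      ∀ w ∈ W, Commute g w := by
    intro W hWU hne hgW w hw
    refine hcentral w (hWU hw) ?_
    by_contra hwg
    refine Nat.find_min hex (m := Nat.card W) ?_
      ⟨W, g, hU.to_le hWU, hgW, hgc, ⟨w, hw, hwg⟩, rfl⟩
    rw [← hUc]
    exact lt_of_le_of_ne (card_le_of_le hWU) fun e => hne (eq_of_le_of_card_ge hWU e.ge)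
  -- `U` is generated by commutators with `g`
  set T : Set G := {z | ∃ w ∈ U, z = ⁅w, g⁆} with hT
  have hTU : T ⊆ U := by
    rintro _ ⟨w, hw, rfl⟩
    exact engel_mem hg hw 1
  have hU1 : closure T = U := by
    by_contra hne
    have hgT : g ∈ normalizer (closure T : Set G) := by
      rw [mem_normalizer_iff_map_conj_eq, MonoidHom.map_closure]
      congr 1
      ext z
      constructor
      · rintro ⟨_, ⟨w, hw, rfl⟩, rfl⟩
        refine ⟨g * w * g⁻¹, (mem_normalizer_iff.1 hg w).1 hw, ?_⟩
        simp only [MulEquiv.coe_toMonoidHom, MonoidHom.coe_coe, MulAut.conj_apply, commutatorElement_def]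
        group
      · rintro ⟨w, hw, rfl⟩
        refine ⟨⁅g⁻¹ * w * g, g⁆, ⟨g⁻¹ * w * g, (mem_normalizer_iff''.1 hg w).1 hw, rfl⟩, ?_⟩
        simp only [MulEquiv.coe_toMonoidHom, MonoidHom.coe_coe, MulAut.conj_apply, commutatorElement_def]
        group
    have hc := hproper _ ((closure_le _).2 hTU) hne hgT
    refine hug ?_
    have h1 : Commute g u := commute_of_engel 2 U hg hcop hu (by
      show ⁅⁅u, g⁆, g⁆ = 1
      rw [commutatorElement_eq_one_iff_commute]
      exact (hc _ (subset_closure ⟨u, hu, rfl⟩)).symm)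
    rw [commutatorElement_eq_one_iff_commute.2 h1.symm]
    exact one_mem M
  -- the Frattini subgroup is central and centralised by `g`
  set F := (frattini U).map U.subtype with hF
  have hFU : F ≤ U := map_subtype_le _
  have hFne : F ≠ U := by
    intro e
    have htop : frattini U = ⊤ := by
      refine map_injective U.subtype_injective ?_
      rw [← hF, e, ← MonoidHom.range_eq_map, range_subtype]
    have hbot : (⊥ : Subgroup U) = ⊤ := frattini_nongenerating (by rw [htop, sup_top_eq])
    refine hug ?_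
    have : (⟨u, hu⟩ : U) = 1 := mem_bot.1 (hbot ▸ mem_top _)
    rw [show u = 1 from congrArg Subtype.val this, commutatorElement_one_left]
    exact one_mem M
  have hgF : g ∈ normalizer (F : Set G) := by
    let e : U ≃* U :=
      { toFun := fun x => ⟨g * x * g⁻¹, (mem_normalizer_iff.mp hg x).mp x.2⟩
        invFun := fun x => ⟨g⁻¹ * x * g, (mem_normalizer_iff''.mp hg x).mp x.2⟩
        left_inv := fun x => Subtype.ext (by show g⁻¹ * (g * x * g⁻¹) * g = x; group)
        right_inv := fun x => Subtype.ext (by show g * (g⁻¹ * x * g) * g⁻¹ = x; group)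
        map_mul' := fun x y => Subtype.ext (by
          show g * (x * y) * g⁻¹ = g * x * g⁻¹ * (g * y * g⁻¹); group) }
    have he := characteristic_iff_map_eq.mp (inferInstance : (frattini U).Characteristic) e
    rw [mem_normalizer_iff_map_conj_eq, hF, Subgroup.map_map]
    conv_rhs => rw [← he, Subgroup.map_map]
    rfl
  have hgc' := hproper F hFU hFne hgF
  have hpowF : ∀ w ∈ U, w ^ 2 ∈ F := fun w hw =>
    ⟨(⟨w, hw⟩ : U) ^ 2, CfsgLib.StructC.pow_mem_frattini hU _, rfl⟩
  have hcommF : ∀ a ∈ U, ∀ b ∈ U, ⁅a, b⁆ ∈ F := fun a ha b hb => by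
    refine ⟨⁅(⟨a, ha⟩ : U), ⟨b, hb⟩⁆, ?_, rfl⟩
    haveI := hU.isNilpotent
    refine mem_iInf.2 fun K => mem_iInf.2 fun hK => ?_
    haveI : K.Normal := NormalizerCondition.normal_of_coatom _ Group.normalizerCondition_of_isNilpotent hK
    obtain ⟨-, hidx⟩ := CfsgLib.StructC.coatom_card_mul hU hK
    have hKi : Nat.card (U ⧸ K) = 2 := by
      rw [← index_eq_card]
      refine Nat.eq_of_mul_eq_mul_left (Nat.card_pos (α := K)) ?_
      rw [card_mul_index, hidx]
    haveI : IsCyclic (U ⧸ K) := isCyclic_of_prime_card hKi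
    rw [← QuotientGroup.eq_one_iff]
    show QuotientGroup.mk' K ⁅(⟨a, ha⟩ : U), ⟨b, hb⟩⁆ = 1
    rw [map_commutatorElement, commutatorElement_eq_one_iff_mul_comm]
    letI := IsCyclic.commGroup (α := U ⧸ K)
    exact mul_comm _ _
  have hFc : ∀ c ∈ F, ∀ w ∈ U, Commute c w := by
    intro c hc w hw
    have hgen : closure T ≤ centralizer ({c} : Set G) := by
      rw [closure_le]
      rintro _ ⟨a, ha, rfl⟩
      refine mem_centralizer_singleton_iff.2 ?_
      set f := ⁅c, a⁻¹⁆ with hf
      have hfF : f ∈ F := hcommF c (hFU hc) a⁻¹ (inv_mem ha)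
      set a' := g * a⁻¹ * g⁻¹ with ha'
      have h1 : ⁅c, a'⁆ = f := by
        rw [ha', show ⁅c, g * a⁻¹ * g⁻¹⁆ = g * ⁅g⁻¹ * c * g, a⁻¹⁆ * g⁻¹ by
          simp only [commutatorElement_def]; group]
        rw [show g⁻¹ * c * g = c by rw [mul_assoc, ← (hgc' c hc).eq, inv_mul_cancel_left], ← hf,
          (hgc' f hfF).eq, mul_inv_cancel_right]
      have h2 : c * a⁻¹ * c⁻¹ = f * a⁻¹ := by rw [hf, commutatorElement_def]; group
      have h3 : c * a' * c⁻¹ = f * a' := by rw [← h1, commutatorElement_def]; group
      have hag : ⁅a, g⁆ = a * a' := by rw [ha', commutatorElement_def]; group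
      rw [hag]
      have h4 : c * (a * a') * c⁻¹ = a * a' := by
        calc c * (a * a') * c⁻¹ = (c * a⁻¹ * c⁻¹)⁻¹ * (c * a' * c⁻¹) := by group
          _ = _ := by rw [h2, h3]; group
      exact (mul_inv_eq_iff_eq_mul.1 h4).symm
    have hwc : w ∈ centralizer ({c} : Set G) := hgen (hU1.symm ▸ hw)
    exact ((mem_centralizer_singleton_iff.1 hwc).symm : c * w = w * c)
  -- the value
  set w := engel g k u with hwdef
  have hwU : w ∈ U := engel_mem hg hu k
  set v := ⁅w, g⁆ with hvdef
  have hvU : v ∈ U := engel_mem hg hu (k + 1)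
  have hvM : v ∉ M := by
    intro hvM
    refine hug ?_
    have hcw : Commute g u := commute_of_engel (k + 1) U hg hcop hu (by
      show v = 1
      rw [hvdef, commutatorElement_eq_one_iff_commute]
      exact (hcentral w hwU hvM).symm)
    rw [commutatorElement_eq_one_iff_commute.2 hcw.symm]
    exact one_mem M
  have hvval : IsValue (k + 1) v := ⟨w, g, isValue_engel g u k, rfl⟩
  by_cases hb : ∃ b ∈ U, ⁅v, b⁆ ∉ M
  · obtain ⟨b, hb, hvb⟩ := hb
    have hval : IsValue k ⁅v, b⁆ := by
      refine isValue_of_succ ⟨v, b, isValue_of_succ hvval, rfl⟩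
    have hsq : ⁅v, b⁆ ^ 2 = 1 := by
      have hc1 : Commute ⁅v, b⁆ v := hFc _ (hcommF v hvU b hb) v hvU
      have h1 : v ^ 2 * b * (v ^ 2)⁻¹ = b := by
        rw [(hFc _ (hpowF v hvU) b hb).eq, mul_inv_cancel_right]
      have h2 : v * b * v⁻¹ = ⁅v, b⁆ * b := by rw [commutatorElement_def]; group
      calc ⁅v, b⁆ ^ 2 = ⁅v, b⁆ * (⁅v, b⁆ * b) * b⁻¹ := by rw [pow_two]; group
        _ = ⁅v, b⁆ * (v * b * v⁻¹) * b⁻¹ := by rw [h2]
        _ = (⁅v, b⁆ * v) * b * v⁻¹ * b⁻¹ := by group
        _ = v * (⁅v, b⁆ * b) * v⁻¹ * b⁻¹ := by rw [hc1.eq]; group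
        _ = v * (v * b * v⁻¹) * v⁻¹ * b⁻¹ := by rw [h2]
        _ = (v ^ 2 * b * (v ^ 2)⁻¹) * b⁻¹ := by rw [pow_two]; group
        _ = 1 := by rw [h1, mul_inv_cancel]
    exact ⟨_, hval, hvb, by rw [hsq]; exact one_mem _, 1, by rw [pow_one, hsq]⟩
  · push Not at hb
    refine ⟨v, isValue_of_succ hvval, hvM, ?_, ?_⟩
    · have hw2 : ⁅w ^ 2, g⁆ = 1 :=
        commutatorElement_eq_one_iff_commute.2 (hgc' _ (hpowF w hwU)).symm
      have h1 : ⁅w ^ 2, g⁆ = ⁅w, v⁆ * (v * v) := by
        rw [hvdef]; simp only [commutatorElement_def, pow_two]; group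
      rw [h1] at hw2
      rw [pow_two, eq_inv_of_mul_eq_one_right hw2, commutatorElement_inv]
      exact hMZ (hb w hwU)
    · obtain ⟨i, hi⟩ := hU ⟨v, hvU⟩
      exact ⟨i, congrArg Subtype.val hi⟩

end CfsgLib.CommutatorValues
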