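import Cfsg.Agent.Lib.Coprime.CommutatorValuesLocal
import Cfsg.Agent.Lib.Char.CN

/-!
In a configuration as in `CommutatorValuesLocal` the Sylow normalisers of two commuting elements
coincide (by counting elements), so the group is a CN-group and has even order.
-/

set_option autoImplicit false

namespace CfsgLib.CommutatorValues

open Subgroup
open scoped commutatorElement Pointwise

universe u

variable {G : Type u} [Group G] [Finite G]

/-- `M` is the normaliser of a Sylow subgroup containing `d`. -/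
def Home (M : Subgroup G) (d : G) : Prop :=
  ∃ (r : ℕ) (_ : Fact r.Prime) (P : Sylow r G),
    d ∈ (P : Subgroup G) ∧ M = normalizer ((P : Subgroup G) : Set G)

theorem Home.conj {M : Subgroup G} {d : G} (h : Home M d) (g : G) :
    Home (M.map (MulAut.conj g).toMonoidHom) (g * d * g⁻¹) := by
  obtain ⟨r, hr, P, hd, rfl⟩ := h
  refine ⟨r, hr, g • P, ?_, ?_⟩
  · rw [Sylow.coe_subgroup_smul, mem_pointwise_smul_iff_inv_smul_mem, ← map_inv, MulAut.smul_def,
      MulAut.conj_apply, inv_inv]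
    simpa [mul_assoc] using hd
  · rw [Sylow.coe_subgroup_smul]
    exact (map_equiv_normalizer_eq _ (MulAut.conj g))

/-- Elements of prime power order `≠ 1` divide the group order by their prime. -/
theorem dvd_card_of_ne_one {r i : ℕ} (hr : r.Prime) {d : G} (hd : d ^ r ^ i = 1) (hd1 : d ≠ 1) :
    r ∣ Nat.card G := by
  obtain ⟨j, -, hj⟩ := (Nat.dvd_prime_pow hr).1 (orderOf_dvd_of_pow_eq_one hd)
  rcases j with _ | j
  · exact absurd (orderOf_eq_one_iff.1 (by simpa using hj)) hd1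
  · exact (dvd_pow_self r (Nat.succ_ne_zero j)).trans (hj ▸ orderOf_dvd_natCard d)

theorem prime_eq_of_pow {r s i j : ℕ} (hr : r.Prime) (hs : s.Prime) {d : G} (h1 : d ^ r ^ i = 1)
    (h2 : d ^ s ^ j = 1) (hd : d ≠ 1) : r = s := by
  by_contra hne
  exact hd (orderOf_eq_one_iff.1 (Nat.eq_one_of_dvd_coprimes
    (CfsgLib.OddLocal.coprime_orderOf_of_prime_ne hr hs hne h1 h2) dvd_rfl dvd_rfl))

/-- Prime power elements commuting modulo a normal subgroup with nilpotent quotient. -/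
theorem commutator_mem_lcs (M : Subgroup G) (k : ℕ) {a b : G} (ha : a ∈ M) (hb : b ∈ M)
    (hc : (orderOf a).Coprime (orderOf b)) : ⁅a, b⁆ ∈ M.lowerCentralSeries k := by
  rw [← top_subtype_lowerCentralSeries]
  refine ⟨⁅(⟨a, ha⟩ : M), ⟨b, hb⟩⁆, ?_, rfl⟩
  refine (QuotientGroup.eq_one_iff _).1 ?_
  show QuotientGroup.mk' ((⊤ : Subgroup M).lowerCentralSeries k) ⁅(⟨a, ha⟩ : M), ⟨b, hb⟩⁆ = 1
  rw [map_commutatorElement, commutatorElement_eq_one_iff_commute]
  refine CfsgLib.OddLocal.commute_of_coprime_of_isNilpotent (isNilpotent_quotient_lcs k) ?_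
  have h1 : orderOf (⟨a, ha⟩ : M) = orderOf a := Subgroup.orderOf_mk a ha
  have h2 : orderOf (⟨b, hb⟩ : M) = orderOf b := Subgroup.orderOf_mk b hb
  exact (hc.coprime_dvd_left (h1 ▸ orderOf_map_dvd _ _)).coprime_dvd_right
    (h2 ▸ orderOf_map_dvd _ _)

namespace IsLocalConfig

variable {k : ℕ} {Good : ℕ → G → Prop} (h : IsLocalConfig k G Good)
include h

theorem exists_home {r i : ℕ} (hr : r.Prime) {d : G} (hd : d ^ r ^ i = 1) :
    ∃ M : Subgroup G, Home M d := by
  haveI : Fact r.Prime := ⟨hr⟩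
  have hz : IsPGroup r (zpowers d) := by
    rintro ⟨_, t, rfl⟩
    exact ⟨i, Subtype.ext (by
      show (d ^ t) ^ r ^ i = 1
      rw [← zpow_natCast (d ^ t), ← zpow_mul, mul_comm, zpow_mul, zpow_natCast, hd, one_zpow])⟩
  obtain ⟨P, hP⟩ := hz.exists_le_sylow
  exact ⟨_, r, ⟨hr⟩, P, hP (mem_zpowers d), rfl⟩

/-- Two Sylow subgroups with a common element `≠ 1` are equal. -/
theorem sylow_unique {r : ℕ} [Fact r.Prime] (P Q : Sylow r G) {d : G} (hd1 : d ≠ 1)
    (hdP : d ∈ (P : Subgroup G)) (hdQ : d ∈ (Q : Subgroup G)) : P = Q := by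
  obtain ⟨j, hj⟩ := P.2 ⟨d, hdP⟩
  obtain ⟨-, -, hTI, -⟩ := h.home (dvd_card_of_ne_one (Fact.out : r.Prime)
    (congrArg Subtype.val hj :) hd1) P
  obtain ⟨g, rfl⟩ := MulAction.exists_smul_eq G P Q
  have ha : g⁻¹ * d * g ∈ (P : Subgroup G) := CfsgLib.Transfer.sylow_smul_mem_iff.1 hdQ
  have ha1 : g⁻¹ * d * g ≠ 1 := fun e => hd1 (by
    simpa [mul_assoc] using congrArg (fun t => g * t * g⁻¹) e)
  have hg := hTI _ ha ha1 g (by simpa [mul_assoc] using hdP)
  exact (Sylow.smul_eq_iff_mem_normalizer.2 hg).symm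

theorem home_unique {M L : Subgroup G} {d : G} (hM : Home M d) (hL : Home L d) (hd : d ≠ 1) :
    M = L := by
  obtain ⟨r, hr, P, hdP, rfl⟩ := hM
  obtain ⟨s, hs, Q, hdQ, rfl⟩ := hL
  obtain ⟨i, hi⟩ := P.2 ⟨d, hdP⟩
  obtain ⟨j, hj⟩ := Q.2 ⟨d, hdQ⟩
  obtain rfl : r = s := prime_eq_of_pow hr.out hs.out (congrArg Subtype.val hi :)
    (congrArg Subtype.val hj :) hd
  rw [h.sylow_unique P Q hd hdP hdQ]

theorem home_spec {M : Subgroup G} {d : G} (hM : Home M d) (hd : d ≠ 1) :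
    IsCoatom M ∧ d ∈ M ∧ centralizer ({d} : Set G) ≤ M ∧ d ∈ M.lowerCentralSeries k ∧
      normalizer (M : Set G) = M := by
  obtain ⟨r, hr, P, hdP, rfl⟩ := hM
  obtain ⟨i, hi⟩ := P.2 ⟨d, hdP⟩
  obtain ⟨hc, hC, -, hle⟩ := h.home (dvd_card_of_ne_one hr.out (congrArg Subtype.val hi :) hd) P
  refine ⟨hc, le_normalizer hdP, hC d hdP hd, hle hdP, ?_⟩
  rcases eq_top_or_lt_top (normalizer ((normalizer ((P : Subgroup G) : Set G) : Subgroup G) : Set G))
    with h1 | h1
  · rcases h.eq_bot_or_top (normalizer_eq_top_iff.1 h1) with h2 | h2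
    · exact absurd (mem_bot.1 (h2 ▸ le_normalizer hdP)) hd
    · exact absurd h2 hc.1
  · exact (hc.le_iff.1 le_normalizer).resolve_left h1.ne

theorem lcs_nilpotent {M : Subgroup G} (hM : IsCoatom M) :
    Group.IsNilpotent (M.lowerCentralSeries k) := by
  rw [← top_subtype_lowerCentralSeries]
  exact CfsgLib.OddLocal.isNilpotent_map M.subtype (h.sub M hM.1)

/-- A prime power element of the kernel of a home has that home. -/
theorem home_of_mem_lcs {M : Subgroup G} (hM : IsCoatom M) {r i : ℕ} (hr : r.Prime) {c : G}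
    (hc : c ∈ M.lowerCentralSeries k) (hci : c ^ r ^ i = 1) (hc1 : c ≠ 1) : Home M c := by
  haveI : Fact r.Prime := ⟨hr⟩
  set U := CfsgLib.OddLocal.pPart r (M.lowerCentralSeries k)
  have hcU : c ∈ U := CfsgLib.OddLocal.mem_pPart (h.lcs_nilpotent hM) hc hci
  have hU : IsPGroup r U := CfsgLib.OddLocal.pPart_isPGroup r _
  obtain ⟨P, hP⟩ := hU.exists_le_sylow
  obtain ⟨hPc, -, hTI, -⟩ := h.home (dvd_card_of_ne_one hr hci hc1) P
  have hMU : M ≤ normalizer (U : Set G) := (self_le_normalizer_lowerCentralSeries (S := M) k).trans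
    (CfsgLib.OddLocal.normalizer_le_normalizer_pPart r _)
  have hMP : M ≤ normalizer ((P : Subgroup G) : Set G) := fun g hg =>
    hTI c (hP hcU) hc1 g (hP ((mem_normalizer_iff.1 (hMU hg) c).1 hcU))
  exact ⟨r, ⟨hr⟩, P, hP hcU, ((hM.le_iff.1 hMP).resolve_left hPc.1).symm⟩

/-- A nilpotent subgroup lies in the home of each of its elements of prime power order. -/
theorem nilpotent_le {H M : Subgroup G} (hH : Group.IsNilpotent H) {r i : ℕ} (hr : r.Prime) {c : G}
    (hc : c ∈ H) (hci : c ^ r ^ i = 1) (hc1 : c ≠ 1) (hM : Home M c) : H ≤ M := by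
  refine le_of_parts fun d hd s j hs hdj => ?_
  by_cases hsr : s = r
  · subst hsr
    haveI : Fact s.Prime := ⟨hs⟩
    obtain ⟨Q, hQ⟩ := (CfsgLib.OddLocal.pPart_isPGroup s H).exists_le_sylow
    have hcQ : c ∈ (Q : Subgroup G) := hQ (CfsgLib.OddLocal.mem_pPart hH hc hci)
    rw [h.home_unique hM ⟨s, ⟨hs⟩, Q, hcQ, rfl⟩ hc1]
    exact le_normalizer (hQ (CfsgLib.OddLocal.mem_pPart hH hd hdj))
  · refine (h.home_spec hM hc1).2.2.1 (mem_centralizer_singleton_iff.2 ?_)
    exact CfsgLib.OddLocal.commute_of_mem_nilpotent hH hd hc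
      (CfsgLib.OddLocal.coprime_orderOf_of_prime_ne hs hr hsr hdj hci)

theorem lcs_inf_eq_bot {M L : Subgroup G} (hM : IsCoatom M) (hL : IsCoatom L) (hne : M ≠ L) :
    M.lowerCentralSeries k ⊓ L.lowerCentralSeries k = ⊥ := by
  rw [eq_bot_iff]
  refine le_of_parts fun d hd s j hs hdj => mem_bot.2 ?_
  by_contra hd1
  exact hne (h.home_unique (h.home_of_mem_lcs hM hs (mem_inf.1 hd).1 hdj hd1)
    (h.home_of_mem_lcs hL hs (mem_inf.1 hd).2 hdj hd1) hd1)

theorem inter_nilpotent {M L : Subgroup G} (hM : IsCoatom M) (hL : IsCoatom L) (hne : M ≠ L) :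
    Group.IsNilpotent (M ⊓ L : Subgroup G) := by
  refine CfsgLib.OddLocal.isNilpotent_of_commute _ fun p q hp hq hpq a ha b hb i j hai hbj => ?_
  have hc := CfsgLib.OddLocal.coprime_orderOf_of_prime_ne hp hq hpq hai hbj
  have h1 : ⁅a, b⁆ ∈ M.lowerCentralSeries k ⊓ L.lowerCentralSeries k :=
    mem_inf.2 ⟨commutator_mem_lcs M k (mem_inf.1 ha).1 (mem_inf.1 hb).1 hc,
      commutator_mem_lcs L k (mem_inf.1 ha).2 (mem_inf.1 hb).2 hc⟩
  rw [h.lcs_inf_eq_bot hM hL hne, mem_bot, commutatorElement_eq_one_iff_mul_comm] at h1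
  exact h1

/-- An element with another home gives a supplement to the kernel inside the intersection. -/
theorem exists_decomp {M L : Subgroup G} (hM : IsCoatom M) (hne : M ≠ L) {q i : ℕ} (hq : q.Prime)
    {b : G} (hbM : b ∈ M) (hbi : b ^ q ^ i = 1) (hb1 : b ≠ 1) (hbL : Home L b) :
    ∀ m ∈ M, ∃ f ∈ M.lowerCentralSeries k, ∃ w ∈ M ⊓ L, m = w * f := by
  haveI : Fact q.Prime := ⟨hq⟩
  obtain ⟨s, hs, Q, hbQ, rfl⟩ := hbL
  obtain ⟨t, ht⟩ := Q.2 ⟨b, hbQ⟩
  obtain rfl : s = q := prime_eq_of_pow hs.out hq (congrArg Subtype.val ht :) hbi hb1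
  have hz : IsPGroup s (zpowers (⟨b, hbM⟩ : M)) := by
    rintro ⟨_, t, rfl⟩
    exact ⟨i, Subtype.ext (Subtype.ext (by
      show (b ^ t) ^ s ^ i = 1
      rw [← zpow_natCast (b ^ t), ← zpow_mul, mul_comm, zpow_mul, zpow_natCast, hbi, one_zpow]))⟩
  obtain ⟨Q1, hQ1⟩ := hz.exists_le_sylow
  set R := (⊤ : Subgroup M).lowerCentralSeries k with hR
  set π := QuotientGroup.mk' R
  set S' := Q1.mapSurjective (f := π) (QuotientGroup.mk'_surjective R)
  have hS'n : (S' : Subgroup (M ⧸ R)).Normal :=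
    ((Group.isNilpotent_of_finite_tfae (G := M ⧸ R)).out 0 3 rfl rfl).mp
      (isNilpotent_quotient_lcs k) s hs S'
  set N := ((Q1 : Subgroup M).map π).comap π with hN
  haveI : N.Normal := Normal.comap hS'n π
  have hQ1N : (Q1 : Subgroup M) ≤ N := le_comap_map π _
  have htop := Sylow.normalizer_sup_eq_top (Q1.subtype hQ1N)
  rw [Sylow.coe_subtype, subgroupOf_map_subtype, inf_eq_left.2 hQ1N] at htop
  have htop' : normalizer ((Q1 : Subgroup M) : Set M) ⊔ R = ⊤ := by
    refine top_le_iff.1 (htop ▸ sup_le le_sup_left ?_)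
    rw [hN, comap_map_eq, QuotientGroup.ker_mk']
    exact sup_le (le_normalizer.trans le_sup_left) le_sup_right
  intro m hm
  have hmem : (⟨m, hm⟩ : M) ∈
      (normalizer ((Q1 : Subgroup M) : Set M) : Set M) * (R : Set M) := by
    rw [← mul_normal, htop']
    trivial
  obtain ⟨n, hn, f, hf, hnf⟩ := hmem
  refine ⟨(f : G), ?_, (n : G), mem_inf.2 ⟨n.2, ?_⟩, (congrArg Subtype.val hnf).symm⟩
  · rw [← top_subtype_lowerCentralSeries]
    exact mem_map_of_mem M.subtype hf
  -- `n` fixes the Sylow subgroup containing `b`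
  have hp1 : IsPGroup s ((Q1 : Subgroup M).map M.subtype) := Q1.2.map _
  obtain ⟨Q', hQ'⟩ := hp1.exists_le_sylow
  have hbQ1 : b ∈ (Q1 : Subgroup M).map M.subtype :=
    ⟨⟨b, hbM⟩, hQ1 (mem_zpowers _), rfl⟩
  obtain rfl : Q' = Q := h.sylow_unique Q' Q hb1 (hQ' hbQ1) hbQ
  refine (h.home (dvd_card_of_ne_one hq hbi hb1) Q').2.2.1 b hbQ hb1 n (hQ' ?_)
  exact (mem_normalizer_iff.1 (Subgroup.le_normalizer_map M.subtype
    (mem_map_of_mem M.subtype hn)) b).1 hbQ1

/-- Commuting elements of prime power order have the same home. -/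
theorem home_eq_of_commute {M L : Subgroup G} {p q i j : ℕ} (hp : p.Prime) (hq : q.Prime) {c b : G}
    (hc1 : c ≠ 1) (hb1 : b ≠ 1) (hci : c ^ p ^ i = 1) (hbj : b ^ q ^ j = 1) (hcM : Home M c)
    (hbL : Home L b) (hcomm : Commute c b) : M = L := by
  by_contra hne
  obtain ⟨hMc, hcM', hcC, hcF, -⟩ := h.home_spec hcM hc1
  obtain ⟨hLc, hbL', hbC, hbF, -⟩ := h.home_spec hbL hb1
  set W := M ⊓ L with hW
  have hcW : c ∈ W := mem_inf.2 ⟨hcM', hbC (mem_centralizer_singleton_iff.2 hcomm.eq)⟩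
  have hbW : b ∈ W := mem_inf.2 ⟨hcC (mem_centralizer_singleton_iff.2 hcomm.eq.symm), hbL'⟩
  have hWnil : Group.IsNilpotent W := h.inter_nilpotent hMc hLc hne
  classical
  let I := {N : Subgroup G // IsCoatom N ∧ ∃ d ∈ W, ∃ r t : ℕ, r.Prime ∧ d ^ r ^ t = 1 ∧ d ≠ 1 ∧
    Home N d}
  haveI : Fintype I := Fintype.ofFinite I
  let iM : I := ⟨M, hMc, c, hcW, p, i, hp, hci, hc1, hcM⟩
  let iL : I := ⟨L, hLc, b, hbW, q, j, hq, hbj, hb1, hbL⟩
  have hn2 : 2 ≤ Fintype.card I := by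
    refine Fintype.one_lt_card_iff.2 ⟨iM, iL, fun e => hne (congrArg (fun z : I => z.1) e)⟩
  have hWle : ∀ N : I, W ≤ N.1 := by
    rintro ⟨N, hN, d, hd, r, t, hr, hdt, hd1, hdN⟩
    exact h.nilpotent_le hWnil hr hd hdt hd1 hdN
  -- two distinct members meet in `W`
  have hpair : ∀ N N' : I, N ≠ N' → N.1 ⊓ N'.1 = W := by
    intro N N' hNN
    refine le_antisymm ?_ (le_inf (hWle N) (hWle N'))
    have hn := h.inter_nilpotent N.2.1 N'.2.1 fun e => hNN (Subtype.ext e)
    have hle : W ≤ N.1 ⊓ N'.1 := le_inf (hWle N) (hWle N')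
    exact le_inf (h.nilpotent_le hn hp (hle hcW) hci hc1 hcM)
      (h.nilpotent_le hn hq (hle hbW) hbj hb1 hbL)
  -- the homes of elements of `W`
  have hmemI : ∀ d ∈ W, ∀ r t : ℕ, r.Prime → d ^ r ^ t = 1 → d ≠ 1 →
      ∃ N : I, Home N.1 d ∧ d ∈ N.1.lowerCentralSeries k := by
    intro d hd r t hr hdt hd1
    obtain ⟨N, hN⟩ := h.exists_home hr hdt
    obtain ⟨hNc, -, -, hdF, -⟩ := h.home_spec hN hd1
    exact ⟨⟨N, hNc, d, hd, r, t, hr, hdt, hd1, hN⟩, hN, hdF⟩
  -- conjugate members are equal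
  have hconjI : ∀ (N N' : I) (g : G), N.1.map (MulAut.conj g).toMonoidHom = N'.1 → N = N' := by
    intro N N' g hg
    obtain ⟨-, d, hd, r, t, hr, hdt, hd1, hdN⟩ := N.2
    have h1 := hdN.conj g
    rw [hg] at h1
    obtain ⟨s, hs, P, hgd, hNP⟩ := h1
    obtain ⟨u, hu⟩ := P.2 ⟨_, hgd⟩
    have hgd1 : g * d * g⁻¹ ≠ 1 := fun e => hd1 (conj_eq_one_iff.1 e)
    obtain rfl : s = r := prime_eq_of_pow hs.out hr (congrArg Subtype.val hu :)
      (by rw [conj_pow, hdt, mul_one, mul_inv_cancel]) hgd1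
    -- `d` lies in the normal Sylow subgroup of `N'`
    haveI : Fact s.Prime := hs
    have hdN' : d ∈ normalizer ((P : Subgroup G) : Set G) := hNP ▸ hWle N' hd
    have hdP : d ∈ (P : Subgroup G) := by
      have hzp : IsPGroup s (zpowers d) := by
        rintro ⟨_, e, rfl⟩
        exact ⟨t, Subtype.ext (by
          show (d ^ e) ^ s ^ t = 1
          rw [← zpow_natCast (d ^ e), ← zpow_mul, mul_comm, zpow_mul, zpow_natCast, hdt, one_zpow])⟩
      have hsup := hzp.to_sup_of_normal_right' P.2 (zpowers_le.2 hdN')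
      rw [← P.3 hsup le_sup_right]
      exact mem_sup_left (mem_zpowers d)
    exact Subtype.ext (h.home_unique hdN ⟨s, hs, P, hdP, hNP⟩ hd1)
  -- disjointness of the kernels and their conjugates
  have hkey : ∀ (N N' : I) (z g : G), z ∈ N.1.lowerCentralSeries k → z ≠ 1 →
      g * z * g⁻¹ ∈ N'.1.lowerCentralSeries k → N.1.map (MulAut.conj g).toMonoidHom = N'.1 := by
    intro N N' z g hz hz1 hgz
    have hle : zpowers z ≤ N.1.lowerCentralSeries k := zpowers_le.2 hz
    obtain ⟨d, hd, r, t, hr, hdt, hd1⟩ : ∃ d ∈ zpowers z, ∃ r t : ℕ, r.Prime ∧ d ^ r ^ t = 1 ∧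
        d ≠ 1 := by
      by_contra! hno
      exact hz1 (mem_bot.1 (mem_of_parts (K := ⊥) fun d hd s u hs hdu =>
        mem_bot.2 (hno d hd s u hs hdu)))
    have hgd : g * d * g⁻¹ ∈ N'.1.lowerCentralSeries k := by
      obtain ⟨e, rfl⟩ := mem_zpowers_iff.1 hd
      rw [← conj_zpow]
      exact zpow_mem hgz e
    exact h.home_unique ((h.home_of_mem_lcs N.2.1 hr (hle hd) hdt hd1).conj g)
      (h.home_of_mem_lcs N'.2.1 hr hgd (by rw [conj_pow, hdt, mul_one, mul_inv_cancel])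
        fun e => hd1 (conj_eq_one_iff.1 e))
      fun e => hd1 (conj_eq_one_iff.1 e)
  have hTIF : ∀ (N : I) (z g : G), z ∈ N.1.lowerCentralSeries k → z ≠ 1 →
      g * z * g⁻¹ ∈ N.1.lowerCentralSeries k → g ∈ N.1 := by
    intro N z g hz hz1 hgz
    obtain ⟨-, d, hd, r, t, hr, hdt, hd1, hdN⟩ := N.2
    rw [← (h.home_spec hdN hd1).2.2.2.2]
    exact mem_normalizer_iff_map_conj_eq.2 (hkey N N z g hz hz1 hgz)
  -- the mixed elements
  set Mix : Set G := {z | z ∈ W ∧ ∀ N : I, z ∉ N.1.lowerCentralSeries k} with hMix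
  have hcomp : ∀ z ∈ Mix, ∃ d₁ d₂ : G, ∃ N₁ N₂ : I, ∃ r₁ t₁ r₂ t₂ : ℕ, N₁ ≠ N₂ ∧
      r₁.Prime ∧ d₁ ^ r₁ ^ t₁ = 1 ∧ r₂.Prime ∧ d₂ ^ r₂ ^ t₂ = 1 ∧
      d₁ ∈ zpowers z ∧ d₂ ∈ zpowers z ∧ d₁ ≠ 1 ∧ d₂ ≠ 1 ∧ Home N₁.1 d₁ ∧ Home N₂.1 d₂ := by
    rintro z ⟨hzW, hzN⟩
    have hle : zpowers z ≤ W := zpowers_le.2 hzW
    by_contra hno
    obtain ⟨d, hd, r, t, hr, hdt, hd1⟩ : ∃ d ∈ zpowers z, ∃ r t : ℕ, r.Prime ∧ d ^ r ^ t = 1 ∧
        d ≠ 1 := by
      by_contra! hno'
      exact hzN iM (by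
        rw [mem_bot.1 (mem_of_parts (K := (⊥ : Subgroup G)) fun d hd s u hs hdu =>
          mem_bot.2 (hno' d hd s u hs hdu) : z ∈ (⊥ : Subgroup G))]
        exact one_mem _)
    obtain ⟨N, hdN, -⟩ := hmemI d (hle hd) r t hr hdt hd1
    refine hzN N (mem_of_parts fun d' hd' s u hs hdu => ?_)
    by_cases hd'1 : d' = 1
    · rw [hd'1]; exact one_mem _
    obtain ⟨N', hd'N, hd'F⟩ := hmemI d' (hle hd') s u hs hdu hd'1
    by_cases hNN : N = N'
    · exact hNN ▸ hd'F
    · exact absurd ⟨d, d', N, N', r, t, s, u, hNN, hr, hdt, hs, hdu, hd, hd', hd1, hd'1, hdN, hd'N⟩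
        hno
  have hTIW : ∀ z g : G, z ∈ Mix → g * z * g⁻¹ ∈ Mix → g ∈ W := by
    intro z g hz hgz
    obtain ⟨d₁, d₂, N₁, N₂, r₁, t₁, r₂, t₂, hne12, hr₁, hdt₁, hr₂, hdt₂, hd₁, hd₂, h1₁, h1₂, hN₁,
      hN₂⟩ := hcomp z hz
    have aux : ∀ (d : G) (N : I) (r t : ℕ), r.Prime → d ^ r ^ t = 1 → d ∈ zpowers z → d ≠ 1 →
        Home N.1 d → g ∈ N.1 := by
      intro d N r t hr hdt hd hd1 hdN
      have hgd : g * d * g⁻¹ ∈ W := by
        obtain ⟨e, rfl⟩ := mem_zpowers_iff.1 hd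
        rw [← conj_zpow]
        exact zpow_mem hgz.1 e
      have hgd1 : g * d * g⁻¹ ≠ 1 := fun e => hd1 (conj_eq_one_iff.1 e)
      obtain ⟨N', hN', -⟩ := hmemI _ hgd r t hr
        (by rw [conj_pow, hdt, mul_one, mul_inv_cancel]) hgd1
      have he := h.home_unique (hdN.conj g) hN' hgd1
      obtain rfl : N = N' := hconjI N N' g he
      rw [← (h.home_spec hdN hd1).2.2.2.2]
      exact mem_normalizer_iff_map_conj_eq.2 he
    have := mem_inf.2 ⟨aux d₁ N₁ r₁ t₁ hr₁ hdt₁ hd₁ h1₁ hN₁, aux d₂ N₂ r₂ t₂ hr₂ hdt₂ hd₂ h1₂ hN₂⟩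
    rwa [hpair N₁ N₂ hne12] at this
  have hcross : ∀ (N : I) (z g : G), z ∈ Mix → g * z * g⁻¹ ∉ N.1.lowerCentralSeries k := by
    intro N z g hz hgz
    obtain ⟨d₁, d₂, N₁, N₂, r₁, t₁, r₂, t₂, hne12, hr₁, hdt₁, hr₂, hdt₂, hd₁, hd₂, h1₁, h1₂, hN₁,
      hN₂⟩ := hcomp z hz
    have aux : ∀ (d : G) (N' : I) (r t : ℕ), r.Prime → d ^ r ^ t = 1 → d ∈ zpowers z → d ≠ 1 →
        Home N'.1 d → N'.1.map (MulAut.conj g).toMonoidHom = N.1 := by
      intro d N' r t hr hdt hd hd1 hdN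
      have hgd : g * d * g⁻¹ ∈ N.1.lowerCentralSeries k := by
        obtain ⟨e, rfl⟩ := mem_zpowers_iff.1 hd
        rw [← conj_zpow]
        exact zpow_mem hgz e
      have hgd1 : g * d * g⁻¹ ≠ 1 := fun e => hd1 (conj_eq_one_iff.1 e)
      exact h.home_unique (hdN.conj g)
        (h.home_of_mem_lcs N.2.1 hr hgd (by rw [conj_pow, hdt, mul_one, mul_inv_cancel]) hgd1) hgd1
    exact hne12 (Subtype.ext (map_injective (MulAut.conj g).injective
      ((aux d₁ N₁ r₁ t₁ hr₁ hdt₁ hd₁ h1₁ hN₁).trans (aux d₂ N₂ r₂ t₂ hr₂ hdt₂ hd₂ h1₂ hN₂).symm)))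
  -- the element count
  let T := (Σ N : I, (G ⧸ N.1) × {z : G // z ∈ N.1.lowerCentralSeries k ∧ z ≠ 1}) ⊕
    ((G ⧸ W) × Mix)
  let φ : T → {z : G // z ≠ 1} := Sum.elim
    (fun x => ⟨Quotient.out x.2.1 * x.2.2.1 * (Quotient.out x.2.1)⁻¹,
      fun e => x.2.2.2.2 (conj_eq_one_iff.1 e)⟩)
    (fun x => ⟨Quotient.out x.1 * x.2.1 * (Quotient.out x.1)⁻¹, fun e => x.2.2.2 iM (by
      rw [conj_eq_one_iff.1 e]; exact one_mem _)⟩)
  have hφ : Function.Injective φ := by
    rintro (⟨N, u, z, hz⟩ | ⟨u, z, hz⟩) (⟨N', u', z', hz'⟩ | ⟨u', z', hz'⟩) heq <;>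
      have heq' := congrArg Subtype.val heq <;> simp only [φ, Sum.elim_inl, Sum.elim_inr] at heq'
    · have hg : (Quotient.out u')⁻¹ * Quotient.out u * z * ((Quotient.out u')⁻¹ * Quotient.out u)⁻¹ =
          z' := by
        calc _ = (Quotient.out u')⁻¹ * (Quotient.out u * z * (Quotient.out u)⁻¹) * Quotient.out u' := by
              group
          _ = _ := by rw [heq']; group
      have hk := hkey N N' z _ hz.1 hz.2 (hg.symm ▸ hz'.1)
      obtain rfl : N = N' := hconjI N N' _ hk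
      have hmem := hTIF N z _ hz.1 hz.2 (hg.symm ▸ hz'.1)
      obtain rfl : u' = u := by
        rw [← QuotientGroup.out_eq' u', ← QuotientGroup.out_eq' u]
        exact QuotientGroup.eq.2 hmem
      obtain rfl : z = z' := by simpa using hg
      rfl
    · refine (hcross N z' ((Quotient.out u)⁻¹ * Quotient.out u') hz' ?_).elim
      rw [show (Quotient.out u)⁻¹ * Quotient.out u' * z' * ((Quotient.out u)⁻¹ * Quotient.out u')⁻¹ =
        (Quotient.out u)⁻¹ * (Quotient.out u' * z' * (Quotient.out u')⁻¹) * Quotient.out u by group,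
        ← heq', show (Quotient.out u)⁻¹ * (Quotient.out u * z * (Quotient.out u)⁻¹) * Quotient.out u =
          z by group]
      exact hz.1
    · refine (hcross N' z ((Quotient.out u')⁻¹ * Quotient.out u) hz ?_).elim
      rw [show (Quotient.out u')⁻¹ * Quotient.out u * z * ((Quotient.out u')⁻¹ * Quotient.out u)⁻¹ =
        (Quotient.out u')⁻¹ * (Quotient.out u * z * (Quotient.out u)⁻¹) * Quotient.out u' by group,
        heq', show (Quotient.out u')⁻¹ * (Quotient.out u' * z' * (Quotient.out u')⁻¹) *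
          Quotient.out u' = z' by group]
      exact hz'.1
    · have hg : (Quotient.out u')⁻¹ * Quotient.out u * z * ((Quotient.out u')⁻¹ * Quotient.out u)⁻¹ =
          z' := by
        calc _ = (Quotient.out u')⁻¹ * (Quotient.out u * z * (Quotient.out u)⁻¹) * Quotient.out u' := by
              group
          _ = _ := by rw [heq']; group
      have hmem := hTIW z _ hz (hg.symm ▸ hz')
      obtain rfl : u' = u := by
        rw [← QuotientGroup.out_eq' u', ← QuotientGroup.out_eq' u]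
        exact QuotientGroup.eq.2 hmem
      obtain rfl : z = z' := by simpa using hg
      rfl
  have hcount := Nat.card_le_card_of_injective φ hφ
  simp only [T, Nat.card_sum, Nat.card_sigma, Nat.card_prod] at hcount
  have hsub : ∀ A : Subgroup G, Nat.card {z : G // z ∈ A ∧ z ≠ 1} + 1 = Nat.card A := by
    intro A
    have h1 : ((A : Set G) \ {1}).ncard + 1 = (A : Set G).ncard :=
      Set.ncard_sdiff_singleton_add_one (one_mem A) (Set.toFinite _)
    rw [← Nat.card_coe_set_eq, ← Nat.card_coe_set_eq] at h1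
    exact h1
  have hone : Nat.card {z : G // z ≠ 1} + 1 = Nat.card G := by
    have h1 := Nat.card_congr (Equiv.subtypeEquivRight
      (p := fun z : G => z ∈ (⊤ : Subgroup G) ∧ z ≠ 1) (q := fun z : G => z ≠ 1)
      fun z => and_iff_right (mem_top z))
    rw [← h1, hsub ⊤, card_top]
  -- the size of each kernel
  have hind : ∀ N : I, N.1.index * Nat.card (N.1.lowerCentralSeries k) * Nat.card W =
      Nat.card G * Nat.card (W ⊓ N.1.lowerCentralSeries k : Subgroup G) ∧
      2 * Nat.card (W ⊓ N.1.lowerCentralSeries k : Subgroup G) ≤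
        Nat.card (N.1.lowerCentralSeries k) := by
    intro N
    set F := N.1.lowerCentralSeries k with hF
    obtain ⟨N', hN'⟩ : ∃ N', N' ≠ N := Fintype.exists_ne_of_one_lt_card (by omega) N
    obtain ⟨-, d, hd, r, t, hr, hdt, hd1, hdN⟩ := N'.2
    have hdec := h.exists_decomp N.2.1 (fun e => hN' (Subtype.ext e.symm)) hr (hWle N hd) hdt hd1 hdN
    rw [hpair N N' hN'.symm] at hdec
    have hFN : F ≤ N.1 := by
      rw [hF, ← top_subtype_lowerCentralSeries]
      exact map_subtype_le _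
    set R := (⊤ : Subgroup N.1).lowerCentralSeries k with hR
    have hRF : R.map N.1.subtype = F := top_subtype_lowerCentralSeries _ _
    let ψ : W →* N.1 ⧸ R := (QuotientGroup.mk' R).comp (Subgroup.inclusion (hWle N))
    have hψ : Function.Surjective ψ := by
      intro x
      induction x using QuotientGroup.induction_on with
      | _ m =>
        obtain ⟨f, hf, w, hw, hm⟩ := hdec m m.2
        refine ⟨⟨w, hw⟩, QuotientGroup.eq.2 ?_⟩
        rw [show N.1.lowerCentralSeries k = R.map N.1.subtype from hRF.symm] at hf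
        obtain ⟨f', hf', rfl⟩ := hf
        have : f' = (Subgroup.inclusion (hWle N) ⟨w, hw⟩)⁻¹ * m := Subtype.ext (by
          show (f' : G) = w⁻¹ * (m : G)
          rw [hm]; exact (inv_mul_cancel_left _ _).symm)
        exact this ▸ hf'
    have hker : ψ.ker = (W ⊓ F).subgroupOf W := by
      ext x
      rw [MonoidHom.mem_ker, mem_subgroupOf, mem_inf]
      show ((Subgroup.inclusion (hWle N) x : N.1) : N.1 ⧸ R) = 1 ↔ _
      rw [QuotientGroup.eq_one_iff, ← hRF]
      constructor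
      · exact fun hx => ⟨x.2, ⟨_, hx, rfl⟩⟩
      · rintro ⟨-, y, hy, hyx⟩
        have : y = Subgroup.inclusion (hWle N) x := Subtype.ext hyx
        exact this ▸ hy
    have h1 : Nat.card W = R.index * Nat.card (W ⊓ F : Subgroup G) := by
      rw [card_eq_card_quotient_mul_card_subgroup ψ.ker,
        Nat.card_congr (QuotientGroup.quotientKerEquivOfSurjective ψ hψ).toEquiv, hker,
        Nat.card_congr (subgroupOfEquivOfLe inf_le_left).toEquiv, index_eq_card]
    have h2 : R.index * Nat.card F = Nat.card N.1 := by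
      rw [← hRF, card_map_of_injective N.1.subtype_injective, mul_comm, card_mul_index]
    refine ⟨?_, ?_⟩
    · rw [h1]
      calc N.1.index * Nat.card F * (R.index * Nat.card (W ⊓ F : Subgroup G))
          = N.1.index * (R.index * Nat.card F) * Nat.card (W ⊓ F : Subgroup G) := by ring
        _ = _ := by rw [h2, mul_comm N.1.index, card_mul_index]
    · have hdvd : Nat.card (W ⊓ F : Subgroup G) ∣ Nat.card F := card_dvd_of_le inf_le_right
      obtain ⟨e, he⟩ := hdvd
      have hlt : Nat.card (W ⊓ F : Subgroup G) < Nat.card F := by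
        refine lt_of_le_of_ne (card_le_of_le inf_le_right) fun e => ?_
        have hFW : F ≤ W := by
          have := eq_of_le_of_card_ge (inf_le_right : W ⊓ F ≤ F) e.ge
          exact this ▸ inf_le_left
        have hNW : N.1 ≤ W := fun m hm => by
          obtain ⟨f, hf, w, hw, rfl⟩ := hdec m hm
          exact mul_mem hw (hFW hf)
        exact hN' (Subtype.ext ((N.2.1.le_iff.1 (hNW.trans (hWle N'))).resolve_left N'.2.1.1))
      have he2 : 2 ≤ e := by
        by_contra hlt2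
        interval_cases e <;> omega
      calc 2 * Nat.card (W ⊓ F : Subgroup G) ≤ e * Nat.card (W ⊓ F : Subgroup G) :=
            Nat.mul_le_mul_right _ he2
        _ = _ := by rw [he, mul_comm]
  -- the mixed elements of `W`
  have hcover : Nat.card W ≤
      Nat.card Mix + 1 + ∑ N : I, Nat.card {z : G // z ∈ (W ⊓ N.1.lowerCentralSeries k) ∧ z ≠ 1} := by
    let ρ : W → Mix ⊕ Unit ⊕ (Σ N : I, {z : G // z ∈ (W ⊓ N.1.lowerCentralSeries k) ∧ z ≠ 1}) :=
      fun z => if h1 : (z : G) = 1 then Sum.inr (Sum.inl ())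
        else if h2 : ∃ N : I, (z : G) ∈ N.1.lowerCentralSeries k then
          Sum.inr (Sum.inr ⟨h2.choose, ⟨z, mem_inf.2 ⟨z.2, h2.choose_spec⟩, h1⟩⟩)
        else Sum.inl ⟨z, z.2, fun N hN => h2 ⟨N, hN⟩⟩
    have hρ : Function.Injective ρ := by
      let back : Mix ⊕ Unit ⊕ (Σ N : I, {z : G // z ∈ (W ⊓ N.1.lowerCentralSeries k) ∧ z ≠ 1}) → G :=
        Sum.elim (fun z => z.1) (Sum.elim (fun _ => 1) fun x => x.2.1)
      refine Function.Injective.of_comp (f := back) fun z z' he => Subtype.ext ?_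
      have hval : ∀ w : W, back (ρ w) = w := by
        intro w
        by_cases h1 : (w : G) = 1
        · simp only [ρ]
          rw [dif_pos h1]
          exact h1.symm
        · by_cases h2 : ∃ N : I, (w : G) ∈ N.1.lowerCentralSeries k
          · simp only [ρ]
            rw [dif_neg h1, dif_pos h2]
            rfl
          · simp only [ρ]
            rw [dif_neg h1, dif_neg h2]
            rfl
      simpa [Function.comp, hval] using he
    refine (Nat.card_le_card_of_injective ρ hρ).trans (le_of_eq ?_)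
    simp only [Nat.card_sum, Nat.card_sigma, Nat.card_unique]
    ring
  -- arithmetic
  set g : ℤ := (Nat.card G : ℤ) with hg
  set w : ℤ := (Nat.card W : ℤ) with hw
  have hwpos : 0 < w := by have := Nat.card_pos (α := W); omega
  have hWI : (W.index : ℤ) * w = g := by
    rw [hw, hg]
    exact_mod_cast (by rw [mul_comm]; exact W.card_mul_index : W.index * Nat.card W = Nat.card G)
  have hterm : ∀ N : I, (g : ℤ) * (Nat.card (W ⊓ N.1.lowerCentralSeries k : Subgroup G) : ℤ) * 2 - g ≤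
      2 * w * ((N.1.index : ℤ) * (Nat.card {z : G // z ∈ N.1.lowerCentralSeries k ∧ z ≠ 1} : ℤ)) := by
    intro N
    obtain ⟨h1, h2⟩ := hind N
    have h3 := hsub (N.1.lowerCentralSeries k)
    have h4 : 0 < Nat.card (W ⊓ N.1.lowerCentralSeries k : Subgroup G) := Nat.card_pos
    have h1' : (N.1.index : ℤ) * (Nat.card (N.1.lowerCentralSeries k) : ℤ) * w =
        g * (Nat.card (W ⊓ N.1.lowerCentralSeries k : Subgroup G) : ℤ) := by
      rw [hw, hg]; exact_mod_cast h1
    have h3' : (Nat.card {z : G // z ∈ N.1.lowerCentralSeries k ∧ z ≠ 1} : ℤ) + 1 =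
        (Nat.card (N.1.lowerCentralSeries k) : ℤ) := by exact_mod_cast h3
    have h2' : 2 * (Nat.card (W ⊓ N.1.lowerCentralSeries k : Subgroup G) : ℤ) ≤
        (Nat.card (N.1.lowerCentralSeries k) : ℤ) := by exact_mod_cast h2
    have h6 : 2 * ((N.1.index : ℤ) * w) ≤ g := by
      refine le_of_mul_le_mul_right ?_ (by exact_mod_cast h4 :
        (0 : ℤ) < Nat.card (W ⊓ N.1.lowerCentralSeries k : Subgroup G))
      calc 2 * ((N.1.index : ℤ) * w) * (Nat.card (W ⊓ N.1.lowerCentralSeries k : Subgroup G) : ℤ)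
          = (N.1.index : ℤ) * w * (2 * (Nat.card (W ⊓ N.1.lowerCentralSeries k : Subgroup G) : ℤ)) := by
            ring
        _ ≤ (N.1.index : ℤ) * w * (Nat.card (N.1.lowerCentralSeries k) : ℤ) :=
            mul_le_mul_of_nonneg_left h2' (by positivity)
        _ = _ := by rw [← h1']; ring
    rw [← h1', ← h3']
    nlinarith [h6]
  have hsum := Finset.sum_le_sum (s := Finset.univ) fun (N : I) _ => hterm N
  rw [← Finset.mul_sum, Finset.sum_sub_distrib, ← Finset.sum_mul, ← Finset.mul_sum,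
    Finset.sum_const, Finset.card_univ, nsmul_eq_mul] at hsum
  have hcover' : w ≤ (Nat.card Mix : ℤ) + 1 +
      ∑ N : I, ((Nat.card (W ⊓ N.1.lowerCentralSeries k : Subgroup G) : ℤ) - 1) := by
    have h5 : ∀ N : I, (Nat.card {z : G // z ∈ (W ⊓ N.1.lowerCentralSeries k) ∧ z ≠ 1} : ℤ) =
        (Nat.card (W ⊓ N.1.lowerCentralSeries k : Subgroup G) : ℤ) - 1 := fun N => by
      have := hsub (W ⊓ N.1.lowerCentralSeries k)
      omega
    rw [← Finset.sum_congr rfl fun N _ => h5 N, hw]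
    exact_mod_cast hcover
  rw [Finset.sum_sub_distrib, Finset.sum_const, Finset.card_univ, nsmul_eq_mul, mul_one] at hcover'
  have hcount' : (∑ N : I, (N.1.index : ℤ) *
      (Nat.card {z : G // z ∈ N.1.lowerCentralSeries k ∧ z ≠ 1} : ℤ)) +
      (W.index : ℤ) * (Nat.card Mix : ℤ) + 1 ≤ g := by
    rw [hg, ← hone]
    push_cast
    have := hcount
    simp only [← index_eq_card] at this
    exact_mod_cast Nat.add_le_add_right this 1
  have hgpos : 0 < g := by have := Nat.card_pos (α := G); omega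
  have hn2' : (2 : ℤ) ≤ (Fintype.card I : ℤ) := by exact_mod_cast hn2
  nlinarith [mul_le_mul_of_nonneg_left hcount' (by positivity : (0:ℤ) ≤ 2 * w),
    mul_le_mul_of_nonneg_left hcover' (by positivity : (0:ℤ) ≤ 2 * g),
    mul_le_mul_of_nonneg_left hn2' hgpos.le]

/-- The configuration is a CN-group. -/
theorem isCN : Cfsg.IsCNGroup G := by
  intro x hx
  obtain ⟨c, hc, r, t, hr, hct, hc1⟩ : ∃ c ∈ zpowers x, ∃ r t : ℕ, r.Prime ∧ c ^ r ^ t = 1 ∧
      c ≠ 1 := by
    by_contra! hno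
    exact hx (mem_bot.1 (mem_of_parts (K := ⊥) fun d hd s u hs hdu =>
      mem_bot.2 (hno d hd s u hs hdu)))
  obtain ⟨M, hM⟩ := h.exists_home hr hct
  obtain ⟨hMc, -, -, -, -⟩ := h.home_spec hM hc1
  have hxc : centralizer ({x} : Set G) ≤ centralizer ({c} : Set G) := by
    intro a ha
    obtain ⟨e, rfl⟩ := mem_zpowers_iff.1 hc
    exact mem_centralizer_singleton_iff.2
      ((show Commute a x from mem_centralizer_singleton_iff.1 ha).zpow_right e).eq
  refine CfsgLib.OddLocal.isNilpotent_of_le (h.lcs_nilpotent hMc) (hxc.trans ?_)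
  refine le_of_parts fun d hd s j hs hdj => ?_
  by_cases hd1 : d = 1
  · rw [hd1]; exact one_mem _
  obtain ⟨L, hL⟩ := h.exists_home hs hdj
  have he := h.home_eq_of_commute hr hs hc1 hd1 hct hdj hM hL
    (mem_centralizer_singleton_iff.1 hd : d * c = c * d).symm
  exact he ▸ (h.home_spec hL hd1).2.2.2.1

/-- The configuration has even order. -/
theorem not_odd (hodd : Odd (Nat.card G)) : False :=
  h.nsol (CfsgLib.Char.isSolvable_of_cn_odd hodd h.isCN)

end IsLocalConfig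

end CfsgLib.CommutatorValues
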