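import Cfsg.Agent.Lib.Coprime.CommutatorValuesMain
import Cfsg.Agent.Lib.Coprime.CommutatorValuesOdd

/-!
The simple quotient of a minimal counterexample by its centre is a local configuration, so it has
even order.
-/

set_option autoImplicit false

namespace CfsgLib.CommutatorValues

open Subgroup
open scoped commutatorElement Pointwise

universe u

variable {G : Type u} [Group G] [Finite G] {k : ℕ} {M : Subgroup G}

theorem IsCritical.even_index (h : IsCritical k M)
    (hsub : ∀ H : Subgroup G, H ≠ ⊤ → Group.IsNilpotent ((⊤ : Subgroup H).lowerCentralSeries k)) :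
    2 ∣ M.index := by
  haveI := h.normal
  have hMZ := h.le_center
  set π := QuotientGroup.mk' M with hπ
  have hA := centralises_of_cond h.cond
  -- lifting of `s`-subgroups
  have lift : ∀ (s : ℕ), s.Prime → ∀ U : Subgroup (G ⧸ M), IsPGroup s U →
      ∃ U0 : Subgroup G, IsPGroup s U0 ∧ U0.map π = U ∧
        (∀ n : G, π n ∈ normalizer (U : Set (G ⧸ M)) → n ∈ normalizer (U0 : Set G)) ∧
        (∀ v : G, π v ∈ U → (∃ i, v ^ s ^ i = 1) → v ∈ U0) := by
    intro s hs U hU
    haveI : Fact s.Prime := ⟨hs⟩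
    set D := U.comap π with hD
    have hDnil : Group.IsNilpotent D := by
      haveI : Group.IsNilpotent U := hU.isNilpotent
      let f : D →* U := (π.comp D.subtype).codRestrict U fun a => mem_comap.1 a.2
      refine Subgroup.isNilpotent_of_ker_le_center f fun a ha => mem_center_iff.2 fun b => ?_
      have haM : (a : G) ∈ M := (QuotientGroup.eq_one_iff _).1 (congrArg Subtype.val ha :)
      exact Subtype.ext (mem_center_iff.1 (hMZ haM) b)
    refine ⟨CfsgLib.OddLocal.pPart s D, CfsgLib.OddLocal.pPart_isPGroup s D, ?_, ?_, ?_⟩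
    · refine le_antisymm ((map_mono (CfsgLib.OddLocal.pPart_le s D)).trans (map_comap_le _ _)) ?_
      intro z hz
      obtain ⟨a, rfl⟩ := QuotientGroup.mk'_surjective M z
      obtain ⟨j, hj⟩ := hU ⟨π a, hz⟩
      obtain ⟨e, d, hd, had⟩ := Nat.exists_eq_pow_mul_and_not_dvd (orderOf_pos a).ne' s hs.ne_one
      -- a power of the `s`-part of `a` is congruent to `a`
      have hj' : π a ^ s ^ j = 1 := congrArg Subtype.val hj
      have hd1 : (s ^ j).Coprime d := ((hs.coprime_iff_not_dvd).2 hd).pow_left j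
      have hcop : d.Coprime (orderOf (π a)) := by
        exact hd1.symm.coprime_dvd_right (orderOf_dvd_of_pow_eq_one hj')
      obtain ⟨m, hm⟩ := exists_pow_eq_self_of_coprime hcop
      refine ⟨(a ^ d) ^ m, ?_, by rw [map_pow, map_pow, hm]⟩
      refine CfsgLib.OddLocal.mem_pPart hDnil (pow_mem (pow_mem (mem_comap.2 hz) d) m) (i := e) ?_
      rw [← pow_mul, ← pow_mul, show d * (m * s ^ e) = s ^ e * d * m by ring, pow_mul, ← had,
        pow_orderOf_eq_one, one_pow]
    · intro n hn
      refine CfsgLib.OddLocal.normalizer_le_normalizer_pPart s D ?_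
      refine mem_normalizer_iff.2 fun a => ?_
      simp only [hD, mem_comap, map_mul, map_inv]
      exact mem_normalizer_iff.1 hn (π a)
    · rintro v hv ⟨i, hi⟩
      exact CfsgLib.OddLocal.mem_pPart hDnil (mem_comap.2 hv) hi
  have hne : ∀ (H : Subgroup (G ⧸ M)), H ≠ ⊤ → H.comap π ≠ ⊤ := fun H hH e => hH (by
    rw [← map_comap_eq_self_of_surjective (QuotientGroup.mk'_surjective M) H, e,
      map_top_of_surjective _ (QuotientGroup.mk'_surjective M)])
  haveI : Nontrivial (G ⧸ M) := QuotientGroup.nontrivial_iff.2 h.ne_top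
  have hsimple : IsSimpleGroup (G ⧸ M) := ⟨fun N hN => by
    by_cases hle : N.comap π ≤ M
    · left
      rw [eq_bot_iff]
      intro z hz
      obtain ⟨a, rfl⟩ := QuotientGroup.mk'_surjective M z
      exact mem_bot.2 ((QuotientGroup.eq_one_iff a).2 (hle hz))
    · right
      by_contra hN'
      exact hne N hN' (h.top _ (hN.comap π) hle)⟩
  have hcfg : IsLocalConfig k (G ⧸ M)
      (fun p x => p.Prime ∧ ∃ v : G, IsValue k v ∧ (∃ i, v ^ p ^ i = 1) ∧ π v = x) := by
    refine ⟨h.nsol_quotient, hsimple, ?_, ?_, ?_, ?_, ?_, ?_⟩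
    · intro H hH
      have hn := hsub _ (hne H hH)
      let f : H.comap π →* H := (π.comp (H.comap π).subtype).codRestrict H fun a => mem_comap.1 a.2
      have hf : Function.Surjective f := fun b => by
        obtain ⟨a, ha⟩ := QuotientGroup.mk'_surjective M (b : G ⧸ M)
        exact ⟨⟨a, mem_comap.2 (by rw [ha]; exact b.2)⟩, Subtype.ext ha⟩
      have h1 := CfsgLib.OddLocal.isNilpotent_map f hn
      rwa [map_lowerCentralSeries, map_top_of_surjective f hf] at h1
    · rintro p x ⟨-, v, -, ⟨i, hi⟩, rfl⟩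
      exact ⟨i, by rw [← map_pow, hi, map_one]⟩
    · rintro p x ⟨hp, v, hv, ⟨i, hi⟩, rfl⟩ s hs hsp U hU hxU u hu
      obtain ⟨U0, hU0, hmap, hnorm, -⟩ := lift s hs U hU
      rw [← hmap] at hu
      obtain ⟨u0, hu0, rfl⟩ := hu
      refine ((hA v hv U0 (hnorm v hxU) ?_ u0 hu0).map π)
      intro w hw
      obtain ⟨j, hj⟩ := hU0 ⟨w, hw⟩
      exact CfsgLib.OddLocal.coprime_orderOf_of_prime_ne hs hp hsp
        (congrArg Subtype.val hj :) hi
    · intro p hp U g hU hg hgc hgC
      haveI : Fact p.Prime := ⟨hp⟩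
      obtain ⟨U0, hU0, hmap, hnorm, -⟩ := lift p hp U hU
      obtain ⟨n, rfl⟩ := QuotientGroup.mk'_surjective M g
      obtain ⟨e, d, hd, hnd⟩ := Nat.exists_eq_pow_mul_and_not_dvd (orderOf_pos n).ne' p hp.ne_one
      set n0 := n ^ p ^ e with hn0
      have hn0c : (orderOf n0).Coprime p := by
        rw [hn0, orderOf_pow_of_dvd (pow_ne_zero _ hp.ne_zero) (hnd ▸ Dvd.intro d rfl), hnd,
          Nat.mul_div_cancel_left _ (pow_pos hp.pos e)]
        exact ((hp.coprime_iff_not_dvd).2 hd).symm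
      have hn0U : n0 ∈ normalizer (U0 : Set G) := pow_mem (hnorm n hg) _
      by_contra hno
      push Not at hno
      refine hgC (mem_centralizer_iff.2 fun u hu => ?_)
      obtain ⟨m, hm⟩ := exists_pow_eq_self_of_coprime (x := π n) (hgc.symm.pow_left e)
      rw [← hmap] at hu
      obtain ⟨u0, hu0, rfl⟩ := hu
      have hcomm : Commute (π n0) (π u0) := by
        refine commute_of_engel (k + 1) (U0.map π) (Subgroup.le_normalizer_map π
          (mem_map_of_mem π hn0U)) ?_ (mem_map_of_mem π hu0) ?_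
        · intro z hz
          obtain ⟨j, hj⟩ := hU0.map π ⟨z, hz⟩
          exact (((hn0c.coprime_dvd_left (orderOf_map_dvd π n0)).pow_right j).symm).coprime_dvd_left
            (orderOf_dvd_of_pow_eq_one (congrArg Subtype.val hj :))
        · rw [← map_engel]
          by_contra hne1
          obtain ⟨j, hj⟩ := hU0 ⟨_, engel_mem hn0U hu0 (k + 1)⟩
          refine (hno (π (engel n0 (k + 1) u0)) (hmap ▸ mem_map_of_mem π (engel_mem hn0U hu0 _))
            hne1) hp (engel n0 (k + 1) u0) (isValue_engel_succ _ _ _) ⟨j, (congrArg Subtype.val hj :)⟩ rfl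
      have h2 := hcomm.pow_left m
      rw [hn0, map_pow, hm] at h2
      exact h2.eq.symm
    · rintro p x b ⟨hp, v, hv, ⟨i, hi⟩, rfl⟩ ⟨P, hP, hxP, hbP⟩
      obtain ⟨U0, hU0, hmap, -, hmem⟩ := lift p hp P hP
      rw [← hmap] at hbP
      obtain ⟨b0, hb0, rfl⟩ := hbP
      have hv0 : v ∈ U0 := hmem v hxP ⟨i, hi⟩
      have hmem' : ⁅v, b0⁆ ∈ U0 := by
        rw [commutatorElement_def]
        exact mul_mem (mul_mem (mul_mem hv0 hb0) (inv_mem hv0)) (inv_mem hb0)
      obtain ⟨j, hj⟩ := hU0 ⟨⁅v, b0⁆, hmem'⟩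
      exact ⟨hp, _, isValue_of_succ ⟨v, b0, hv, rfl⟩, ⟨j, congrArg Subtype.val hj⟩,
        map_commutatorElement _ _ _⟩
    · rintro p x g ⟨hp, v, hv, ⟨i, hi⟩, rfl⟩
      obtain ⟨a, rfl⟩ := QuotientGroup.mk'_surjective M g
      exact ⟨hp, (MulAut.conj a).toMonoidHom v, isValue_map _ hv,
        ⟨i, by rw [← map_pow, hi, map_one]⟩, by simp [π]⟩
  by_contra hodd
  refine hcfg.not_odd ?_
  rw [← index_eq_card]
  exact Nat.odd_iff.2 (by omega)

end CfsgLib.CommutatorValues
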