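import Cfsg.Agent.Lib.Coprime.CommutatorValues
import Cfsg.Agent.Lib.Trans3.BaerSuzuki

/-!
Solvable groups in which values of the `k`-th commutator word centralise the coprime subgroups
they normalise have nilpotent `k`-th lower central term.
-/

set_option autoImplicit false

namespace CfsgLib.CommutatorValues

open Subgroup
open scoped commutatorElement Pointwise

universe u

variable {G : Type u} [Group G] [Finite G]

omit [Finite G] in
theorem isNilpotent_of_lcs_bot {n : ℕ} (h : (⊤ : Subgroup G).lowerCentralSeries n = ⊥) :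
    Group.IsNilpotent G :=
  Subgroup.nilpotent_iff_lowerCentralSeries.2 ⟨n, h⟩

/-- The nilpotent residual: a term of the lower central series where it becomes stationary. -/
theorem exists_residual (k : ℕ) : ∃ n, k ≤ n ∧
    ∀ j, n ≤ j → (⊤ : Subgroup G).lowerCentralSeries j = (⊤ : Subgroup G).lowerCentralSeries n := by
  classical
  have hex : ∃ c, ∃ n, k ≤ n ∧ Nat.card ((⊤ : Subgroup G).lowerCentralSeries n) = c :=
    ⟨_, k, le_rfl, rfl⟩
  obtain ⟨n, hn, hc⟩ := Nat.find_spec hex
  refine ⟨n, hn, fun j hj => eq_of_le_of_card_ge (Subgroup.lowerCentralSeries_antitone _ hj) ?_⟩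
  rw [hc]
  exact Nat.find_min' hex ⟨j, hn.trans hj, rfl⟩

omit [Finite G] in
theorem residual_le {n : ℕ}
    (hn : ∀ j, n ≤ j → (⊤ : Subgroup G).lowerCentralSeries j = (⊤ : Subgroup G).lowerCentralSeries n)
    (K : Subgroup G) [K.Normal] (hK : Group.IsNilpotent (G ⧸ K)) :
    (⊤ : Subgroup G).lowerCentralSeries n ≤ K := by
  obtain ⟨m, hm⟩ := Subgroup.nilpotent_iff_lowerCentralSeries.1 hK
  rw [← hn (max n m) (le_max_left _ _), ← QuotientGroup.ker_mk' K, ← Subgroup.map_eq_bot_iff,
    map_lowerCentralSeries, map_top_of_surjective _ (QuotientGroup.mk'_surjective K),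
    eq_bot_iff, ← hm]
  exact Subgroup.lowerCentralSeries_antitone _ (le_max_right _ _)

omit [Finite G] in
theorem isNilpotent_quotient_lcs (n : ℕ) :
    Group.IsNilpotent (G ⧸ (⊤ : Subgroup G).lowerCentralSeries n) := by
  refine isNilpotent_of_lcs_bot (n := n) ?_
  rw [← map_top_of_surjective _ (QuotientGroup.mk'_surjective ((⊤ : Subgroup G).lowerCentralSeries n)),
    ← map_lowerCentralSeries, Subgroup.map_eq_bot_iff, QuotientGroup.ker_mk']

omit [Finite G] in
theorem isNilpotent_quotient_mono {A B : Subgroup G} [A.Normal] [B.Normal] (h : A ≤ B)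
    (hA : Group.IsNilpotent (G ⧸ A)) : Group.IsNilpotent (G ⧸ B) := by
  have := hA
  refine Group.nilpotent_of_surjective (QuotientGroup.map A B (MonoidHom.id G) h) fun q => ?_
  induction q using QuotientGroup.induction_on with
  | _ g => exact ⟨(g : G ⧸ A), rfl⟩

/-- A nilpotent subgroup is normalised by all of the Sylow subgroups containing its `r`-part. -/
theorem isNilpotent_of_quotient (R : Subgroup G) [R.Normal] (hq : Group.IsNilpotent (G ⧸ R))
    (h : ∀ r s : ℕ, r.Prime → s.Prime → r ≠ s → ∀ (x : G), ∀ y ∈ R, ∀ i j : ℕ,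
      x ^ r ^ i = 1 → y ^ s ^ j = 1 → Commute x y) : Group.IsNilpotent G := by
  have hR : Group.IsNilpotent R := CfsgLib.OddLocal.isNilpotent_of_commute R
    fun p q hp hq' hne a _ b hb i j hai hbj => h p q hp hq' hne a b hb i j hai hbj
  refine ((Group.isNilpotent_of_finite_tfae (G := G)).out 3 0 rfl rfl).mp ?_
  intro r hr S
  have hpart : CfsgLib.OddLocal.pPart r R ≤ (S : Subgroup G) := by
    haveI : (CfsgLib.OddLocal.pPart r R).Normal := by
      rw [← normalizer_eq_top_iff]
      refine top_le_iff.1 (le_trans ?_ (CfsgLib.OddLocal.normalizer_le_normalizer_pPart r R))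
      rw [normalizer_eq_top_iff.2 inferInstance]
    obtain ⟨P, hP⟩ := (CfsgLib.OddLocal.pPart_isPGroup r R).exists_le_sylow
    obtain ⟨g, rfl⟩ := MulAction.exists_smul_eq G P S
    intro x hx
    rw [Sylow.coe_subgroup_smul, mem_pointwise_smul_iff_inv_smul_mem, ← map_inv]
    exact hP ((inferInstance : (CfsgLib.OddLocal.pPart r R).Normal).conj_mem x hx g⁻¹)
  have hRN : R ≤ normalizer ((S : Subgroup G) : Set G) := by
    rw [← subgroupOf_eq_top]
    refine CfsgLib.Solvable.eq_top_of_forall_prime fun s hs hd => ?_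
    haveI : Fact s.Prime := ⟨hs⟩
    obtain ⟨T⟩ := (inferInstance : Nonempty (Sylow s R))
    refine T.not_dvd_index (hd.trans (index_dvd_of_le ?_))
    intro t ht
    obtain ⟨j, hj⟩ := T.2 ⟨t, ht⟩
    have hj' : (t : G) ^ s ^ j = 1 := congrArg (fun z : (T : Subgroup R) => ((z : R) : G)) hj
    rw [mem_subgroupOf]
    by_cases hsr : s = r
    · subst hsr
      exact le_normalizer (hpart (CfsgLib.OddLocal.mem_pPart hR t.2 hj'))
    · refine centralizer_le_normalizer _ (mem_centralizer_iff.2 fun a ha => ?_)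
      obtain ⟨i, hi⟩ := S.2 ⟨a, ha⟩
      exact h r s hr.out hs (Ne.symm hsr) a t t.2 i j (congrArg Subtype.val hi :) hj'
  set π := QuotientGroup.mk' R with hπ
  set S' := S.mapSurjective (f := π) (QuotientGroup.mk'_surjective R) with hS'
  have hS'n : (S' : Subgroup (G ⧸ R)).Normal :=
    ((Group.isNilpotent_of_finite_tfae (G := G ⧸ R)).out 0 3 rfl rfl).mp hq r hr S'
  have hcoe : (S' : Subgroup (G ⧸ R)) = (S : Subgroup G).map π := rfl
  rw [hcoe] at hS'n
  set N := ((S : Subgroup G).map π).comap π with hN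
  haveI : N.Normal := hS'n.comap π
  have hNle : N ≤ normalizer ((S : Subgroup G) : Set G) := by
    rw [hN, comap_map_eq, hπ, QuotientGroup.ker_mk']
    exact sup_le le_normalizer hRN
  have hSN : (S : Subgroup G) ≤ N := le_comap_map π _
  have htop := Sylow.normalizer_sup_eq_top (S.subtype hSN)
  rw [Sylow.coe_subtype, subgroupOf_map_subtype, inf_eq_left.2 hSN, sup_eq_left.2 hNle,
    normalizer_eq_top_iff] at htop
  exact htop

/-- A nilpotent subgroup of `G` maps to a `p`-group when its elements of order prime to `p`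
centralise it. -/
theorem isPGroup_map_of_le_ker {H : Type*} [Group H] {p : ℕ} (hp : p.Prime) (W : Subgroup G)
    (f : G →* H) (h : ∀ w ∈ W, (orderOf w).Coprime p → f w = 1) : IsPGroup p (W.map f) := by
  rintro ⟨_, w, hw, rfl⟩
  obtain ⟨a, m, hm, hwm⟩ := Nat.exists_eq_pow_mul_and_not_dvd (orderOf_pos w).ne' p hp.ne_one
  refine ⟨a, Subtype.ext ?_⟩
  show f w ^ p ^ a = 1
  rw [← map_pow]
  refine h _ (pow_mem hw _) ?_
  rw [orderOf_pow_of_dvd (pow_ne_zero _ hp.ne_zero) (hwm ▸ Dvd.intro m rfl), hwm,
    Nat.mul_div_cancel_left _ (pow_pos hp.pos a)]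
  exact ((hp.coprime_iff_not_dvd).2 hm).symm

/-- An element of `p'`-order mapping into a `p`-group maps to `1`. -/
theorem map_eq_one_of_coprime {H : Type*} [Group H] {p : ℕ} {P : Subgroup H} (hP : IsPGroup p P)
    (f : G →* H) {x : G} (hx : f x ∈ P) (hc : (orderOf x).Coprime p) : f x = 1 := by
  obtain ⟨a, ha⟩ := hP ⟨f x, hx⟩
  refine orderOf_eq_one_iff.1 (Nat.eq_one_of_dvd_coprimes ((hc.pow_right a)) (orderOf_map_dvd f x)
    (orderOf_dvd_of_pow_eq_one (congrArg Subtype.val ha :)))

omit [Finite G] in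
theorem coprime_orderOf_of_pow {r p : ℕ} (hr : r.Prime) (hp : p.Prime) (hne : r ≠ p) {x : G}
    {i : ℕ} (hx : x ^ r ^ i = 1) : (orderOf x).Coprime p :=
  (((Nat.coprime_primes hr hp).2 hne).pow_left i).coprime_dvd_left (orderOf_dvd_of_pow_eq_one hx)

/-- In a solvable group with the centralising property, the nilpotent residual of the nilpotent
residual is centralised by the coprime elements of the residual. -/
theorem residual_centralises {k : ℕ} (hA : Centralises k G) (hsol : Group.IsSolvable G) {n : ℕ}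
    (hn : ∀ j, n ≤ j → (⊤ : Subgroup G).lowerCentralSeries j = (⊤ : Subgroup G).lowerCentralSeries n)
    (R R2 : Subgroup G) [R.Normal] [R2.Normal] (hR : R = (⊤ : Subgroup G).lowerCentralSeries n)
    (hR2 : Group.IsNilpotent R2) (hq2 : Group.IsNilpotent (R.map (QuotientGroup.mk' R2)))
    (hR2R : R2 ≤ R) {p : ℕ} [Fact p.Prime] {u : G} (hu : u ∈ R) (hcop : (orderOf u).Coprime p)
    {w : G} (hw : w ∈ CfsgLib.OddLocal.pPart p R2) : Commute u w := by
  have hp := (Fact.out : p.Prime)
  set P2 := CfsgLib.OddLocal.pPart p R2 with hP2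
  haveI hP2n : P2.Normal := by
    rw [← normalizer_eq_top_iff]
    refine top_le_iff.1 (le_trans ?_ (CfsgLib.OddLocal.normalizer_le_normalizer_pPart p R2))
    rw [normalizer_eq_top_iff.2 inferInstance]
  set C := centralizer (P2 : Set G) with hC
  haveI : C.Normal := inferInstance
  set D := C ⊔ R2 with hD
  haveI : D.Normal := inferInstance
  have hR2C : IsPGroup p (R2.map (QuotientGroup.mk' C)) := by
    refine isPGroup_map_of_le_ker hp R2 _ fun x hx hxc => (QuotientGroup.eq_one_iff x).2 ?_
    refine mem_centralizer_iff.2 fun b hb => ?_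
    obtain ⟨j, hj⟩ := CfsgLib.OddLocal.pPart_isPGroup p R2 ⟨b, hb⟩
    refine (CfsgLib.OddLocal.commute_of_mem_nilpotent hR2
      (CfsgLib.OddLocal.pPart_le p R2 hb) hx ?_)
    exact ((hxc.pow_right j).symm).coprime_dvd_left
      (orderOf_dvd_of_pow_eq_one (congrArg Subtype.val hj :))
  -- it suffices that elements of prime power order lie in `D`
  suffices key : ∀ q : ℕ, q.Prime → q ≠ p → ∀ x ∈ R, (∃ i, x ^ q ^ i = 1) → x ∈ D by
    refine (mem_centralizer_iff.1 (?_ : u ∈ C) w hw).symm
    have hzp : zpowers u ≤ C := by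
      rw [← subgroupOf_eq_top]
      refine CfsgLib.Solvable.eq_top_of_forall_prime fun s hs hd => ?_
      haveI : Fact s.Prime := ⟨hs⟩
      obtain ⟨T⟩ := (inferInstance : Nonempty (Sylow s (zpowers u)))
      refine T.not_dvd_index (hd.trans (index_dvd_of_le ?_))
      intro t ht
      obtain ⟨j, hj⟩ := T.2 ⟨t, ht⟩
      have hj' : (t : G) ^ s ^ j = 1 :=
        congrArg (fun z : (T : Subgroup (zpowers u)) => ((z : zpowers u) : G)) hj
      rw [mem_subgroupOf]
      have htc : (orderOf (t : G)).Coprime p := hcop.coprime_dvd_left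
        (orderOf_dvd_of_mem_zpowers t.2)
      by_cases hsp : s = p
      · subst hsp
        have : (t : G) = 1 := orderOf_eq_one_iff.1 (Nat.eq_one_of_dvd_coprimes (htc.pow_right j)
          dvd_rfl (orderOf_dvd_of_pow_eq_one hj'))
        rw [this]; exact one_mem C
      · have htD : (t : G) ∈ D := key s hs hsp t (zpowers_le.2 hu t.2) ⟨j, hj'⟩
        refine (QuotientGroup.eq_one_iff _).1 (map_eq_one_of_coprime hR2C (QuotientGroup.mk' C) ?_ htc)
        have h1 := mem_map_of_mem (QuotientGroup.mk' C) htD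
        have hCbot : C.map (QuotientGroup.mk' C) = ⊥ := by
          rw [Subgroup.map_eq_bot_iff, QuotientGroup.ker_mk']
        rw [hD, Subgroup.map_sup, hCbot, bot_sup_eq] at h1
        exact h1
    exact hzp (mem_zpowers u)
  intro q hq hqp x hx hxq
  haveI : Fact q.Prime := ⟨hq⟩
  -- `R` is generated modulo `D` by its derived group and its elements of order prime to `q`
  let X : Set G := {a | a ∈ R ∧ (orderOf a).Coprime q}
  have hXc : ∀ g : G, ∀ a ∈ X, g * a * g⁻¹ ∈ X := fun g a ha =>
    ⟨(inferInstance : R.Normal).conj_mem a ha.1 g, by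
      rw [← (SemiconjBy.conj_mk g a).orderOf_eq g]; exact ha.2⟩
  haveI hXn : (closure X).Normal := CfsgLib.Trans3.closure_normal_of_conj_mem hXc
  set K := D ⊔ closure X ⊔ ⁅R, R⁆ with hK
  haveI : ⁅R, R⁆.Normal := inferInstance
  haveI hKn : K.Normal := inferInstance
  set π := QuotientGroup.mk' K with hπ
  have hXK : ∀ a ∈ X, π a = 1 := fun a ha => (QuotientGroup.eq_one_iff a).2
    (mem_sup_left (mem_sup_right (subset_closure ha)))
  have hRab : ∀ a ∈ R, ∀ b ∈ R, Commute (π a) (π b) := fun a ha b hb => by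
    rw [← commutatorElement_eq_one_iff_commute, ← map_commutatorElement]
    exact (QuotientGroup.eq_one_iff _).2 (mem_sup_right (commutator_mem_commutator ha hb))
  have hRq : IsPGroup q (R.map π) :=
    isPGroup_map_of_le_ker hq R π fun a ha hac => hXK a ⟨ha, hac⟩
  obtain ⟨U⟩ := (inferInstance : Nonempty (Sylow q R))
  have hUR : ∀ a ∈ R, ∃ b ∈ (U : Subgroup R).map R.subtype, π a = π b := by
    intro a ha
    obtain ⟨b, hb, c, hc, habc⟩ := CfsgLib.Transfer.exists_mem_sylow_mul U
      (C := (K.subgroupOf R)) (fun g hg => mem_subgroupOf.2 ((QuotientGroup.eq_one_iff _).1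
        (hXK g ⟨g.2, by rwa [Subgroup.orderOf_coe]⟩))) ⟨a, ha⟩
    refine ⟨b, mem_map_of_mem R.subtype hb, ?_⟩
    have h1 : a = (b : G) * c := congrArg Subtype.val habc
    rw [h1, map_mul]
    have h2 : π (c : G) = 1 := (QuotientGroup.eq_one_iff _).2 (mem_subgroupOf.1 hc)
    rw [h2, mul_one]
  -- elements of order prime to `q` normalising `U` centralise `R` modulo `K`
  set M := normalizer (((U : Subgroup R).map R.subtype : Subgroup G) : Set G) with hM
  have hMc : ∀ m ∈ M, (orderOf m).Coprime q → ∀ a ∈ R, Commute (π m) (π a) := by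
    intro m hm hmq a ha
    obtain ⟨b, hb, hab⟩ := hUR a ha
    rw [hab]
    have hUp : IsPGroup q ((U : Subgroup R).map R.subtype) := U.2.map _
    refine commute_of_engel (k + 1) (((U : Subgroup R).map R.subtype).map π)
      (Subgroup.le_normalizer_map π (mem_map_of_mem π hm)) ?_ (mem_map_of_mem π hb) ?_
    · intro z hz
      obtain ⟨j, hj⟩ := hUp.map π ⟨z, hz⟩
      exact (((hmq.coprime_dvd_left (orderOf_map_dvd π m)).pow_right j).symm).coprime_dvd_left
        (orderOf_dvd_of_pow_eq_one (congrArg Subtype.val hj :))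
    · rw [← map_engel]
      set v := engel m (k + 1) b with hv
      have hvU : v ∈ (U : Subgroup R).map R.subtype := engel_mem hm hb _
      obtain ⟨j, hj⟩ := hUp ⟨v, hvU⟩
      have hvq : v ^ q ^ j = 1 := congrArg Subtype.val hj
      refine (QuotientGroup.eq_one_iff _).2 (mem_sup_left (mem_sup_left (mem_sup_left ?_)))
      refine mem_centralizer_iff.2 fun c hc => (hA v (isValue_engel_succ m b k) P2 ?_ ?_ c hc).symm
      · rw [normalizer_eq_top_iff.2 hP2n]; trivial
      · intro c hc
        obtain ⟨i, hi⟩ := CfsgLib.OddLocal.pPart_isPGroup p R2 ⟨c, hc⟩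
        exact CfsgLib.OddLocal.coprime_orderOf_of_prime_ne hp hq (Ne.symm hqp)
          (congrArg Subtype.val hi :) hvq
  have hsup : M ⊔ R = ⊤ := Sylow.normalizer_sup_eq_top U
  set A := R.map π with hAdef
  haveI : A.Normal := Normal.map inferInstance π (QuotientGroup.mk'_surjective K)
  have hquot : IsPGroup q ((G ⧸ K) ⧸ centralizer (A : Set (G ⧸ K))) := by
    intro z
    induction z using QuotientGroup.induction_on with
    | _ z =>
      induction z using QuotientGroup.induction_on with
      | _ g =>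
        have hg : g ∈ (M : Set G) * (R : Set G) := by rw [← mul_normal, hsup]; trivial
        obtain ⟨m, hm, a, ha, rfl⟩ := hg
        obtain ⟨e, d, hd, hmd⟩ := Nat.exists_eq_pow_mul_and_not_dvd (orderOf_pos m).ne' q hq.ne_one
        refine ⟨e, ?_⟩
        have hcA : ∀ c ∈ R, π c ∈ centralizer (A : Set (G ⧸ K)) := fun c hc =>
          mem_centralizer_iff.2 (by rintro _ ⟨b, hb, rfl⟩; exact hRab b hb c hc)
        have hma : (((π (m * a) : G ⧸ K)) : (G ⧸ K) ⧸ centralizer (A : Set (G ⧸ K))) =
            ((π m : G ⧸ K) : (G ⧸ K) ⧸ centralizer (A : Set (G ⧸ K))) := by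
          rw [QuotientGroup.eq, map_mul, mul_inv_rev, mul_assoc, inv_mul_cancel, mul_one]
          exact inv_mem (hcA a ha)
        show (((π (m * a) : G ⧸ K)) : (G ⧸ K) ⧸ centralizer (A : Set (G ⧸ K))) ^ q ^ e = 1
        rw [hma, ← QuotientGroup.mk_pow, QuotientGroup.eq_one_iff, ← map_pow]
        refine mem_centralizer_iff.2 ?_
        rintro _ ⟨b, hb, rfl⟩
        refine (hMc _ (pow_mem hm _) ?_ b hb).symm
        rw [orderOf_pow_of_dvd (pow_ne_zero _ hq.ne_zero) (hmd ▸ Dvd.intro d rfl), hmd,
          Nat.mul_div_cancel_left _ (pow_pos hq.pos e)]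
        exact ((hq.coprime_iff_not_dvd).2 hd).symm
  have hnil : Group.IsNilpotent (G ⧸ K) := by
    refine isNilpotent_of_quotient A ?_ ?_
    · have hGR : Group.IsNilpotent (G ⧸ R) := hR ▸ isNilpotent_quotient_lcs n
      have := hGR
      let f : G ⧸ R →* (G ⧸ K) ⧸ A := QuotientGroup.lift R ((QuotientGroup.mk' A).comp π)
        fun a ha => (QuotientGroup.eq_one_iff _).2 (mem_map_of_mem π ha)
      refine Group.nilpotent_of_surjective f fun z => ?_
      induction z using QuotientGroup.induction_on with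
      | _ z =>
        induction z using QuotientGroup.induction_on with
        | _ g => exact ⟨(g : G ⧸ R), rfl⟩
    · intro r s hr hs hrs z y hy i j hz hy'
      by_cases hsq : s = q
      · subst hsq
        have hzc : z ∈ centralizer (A : Set (G ⧸ K)) := by
          rw [← QuotientGroup.eq_one_iff]
          have h2 : IsPGroup s (⊤ : Subgroup ((G ⧸ K) ⧸ centralizer (A : Set (G ⧸ K)))) :=
            hquot.to_subgroup ⊤
          exact map_eq_one_of_coprime h2 (QuotientGroup.mk' _) (mem_top _)
            (coprime_orderOf_of_pow hr hs hrs hz)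
        exact (mem_centralizer_iff.1 hzc y hy).symm
      · have : y = 1 := map_eq_one_of_coprime hRq (MonoidHom.id _) hy
          (coprime_orderOf_of_pow hs hq hsq hy')
        rw [this]; exact Commute.one_right z
  have hRK : R ≤ K := hR ▸ residual_le hn K hnil
  -- in the nilpotent group `R D / D`
  set ρ := QuotientGroup.mk' D with hρ
  set H := R.map ρ with hH
  haveI hHnil : Group.IsNilpotent H := by
    have h1 : R2.map ρ = ⊥ := by
      rw [Subgroup.map_eq_bot_iff, hρ, QuotientGroup.ker_mk']
      exact le_sup_right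
    let f : G ⧸ R2 →* G ⧸ D := QuotientGroup.map R2 D (MonoidHom.id G) le_sup_right
    have h2 : (R.map (QuotientGroup.mk' R2)).map f = H := by
      rw [Subgroup.map_map]
      congr 1
    rw [← h2]
    exact CfsgLib.OddLocal.isNilpotent_map f hq2
  set W := Cfsg.pResidual q H with hW
  haveI : W.Normal := CfsgLib.Transfer.pResidual_normal
  have hWtop : W = ⊤ := by
    have hX1 : ∀ a ∈ X, ρ a ∈ W.map H.subtype := fun a ha =>
      ⟨⟨ρ a, mem_map_of_mem ρ ha.1⟩, CfsgLib.Transfer.mem_pResidual_of_coprime (by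
        rw [Subgroup.orderOf_mk]
        exact ha.2.coprime_dvd_left (orderOf_map_dvd ρ a)), rfl⟩
    have hle : H ≤ W.map H.subtype ⊔ ⁅H, H⁆ := by
      have h1 : R.map ρ ≤ K.map ρ := map_mono hRK
      refine h1.trans ?_
      rw [hK, Subgroup.map_sup, Subgroup.map_sup, Subgroup.map_commutator, ← hH]
      refine sup_le (sup_le ?_ ?_) le_sup_right
      · rw [(Subgroup.map_eq_bot_iff D).2 (by rw [hρ, QuotientGroup.ker_mk'])]
        exact bot_le
      · rw [MonoidHom.map_closure, closure_le]
        rintro _ ⟨a, ha, rfl⟩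
        exact mem_sup_left (hX1 a ha)
    have htop : W ⊔ _root_.commutator H = ⊤ := by
      refine map_injective H.subtype_injective ?_
      rw [Subgroup.map_sup, map_subtype_commutator, ← MonoidHom.range_eq_map, range_subtype]
      refine le_antisymm (sup_le (map_subtype_le W) (Subgroup.commutator_le_self H)) hle
    by_contra hne
    haveI : Group.IsNilpotent (H ⧸ W) := Group.nilpotent_of_surjective _
      (QuotientGroup.mk'_surjective W)
    haveI : Nontrivial (H ⧸ W) := QuotientGroup.nontrivial_iff.2 hne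
    refine (Group.IsSolvable.commutator_lt_top_of_nontrivial (G := H ⧸ W)).ne ?_
    rw [commutator_def, ← map_top_of_surjective _ (QuotientGroup.mk'_surjective W),
      ← map_commutator, map_top_of_surjective _ (QuotientGroup.mk'_surjective W), ← commutator_def,
      eq_top_iff, ← map_top_of_surjective _ (QuotientGroup.mk'_surjective W), ← htop,
      Subgroup.map_sup, (Subgroup.map_eq_bot_iff W).2 (by rw [QuotientGroup.ker_mk']), bot_sup_eq]
  have hnc : Cfsg.HasNormalPComplement q H := by
    rw [CfsgLib.Transfer.hasNormalPComplement_iff_frobenius]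
    intro P hP g _ hgc
    refine mem_centralizer_iff.2 fun d hd => ?_
    obtain ⟨j, hj⟩ := hP ⟨d, hd⟩
    exact (CfsgLib.OddLocal.commute_of_coprime_of_isNilpotent (inferInstance : Group.IsNilpotent H)
      (((hgc.pow_right j).symm).coprime_dvd_left
        (orderOf_dvd_of_pow_eq_one (congrArg Subtype.val hj :)))).eq
  have hcard : (Nat.card H).Coprime q := by
    have h1 := CfsgLib.Transfer.hasNormalPComplement_iff_coprime_pResidual.1 hnc
    rwa [← hW, hWtop, card_top] at h1
  obtain ⟨i, hi⟩ := hxq
  refine (QuotientGroup.eq_one_iff _).1 (orderOf_eq_one_iff.1 ?_)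
  refine Nat.eq_one_of_dvd_coprimes (hcard.pow_right i) ?_ ((orderOf_map_dvd ρ x).trans
    (orderOf_dvd_of_pow_eq_one hi))
  have h1 := orderOf_dvd_natCard (⟨ρ x, mem_map_of_mem ρ hx⟩ : H)
  rwa [Subgroup.orderOf_mk] at h1

/-- **The solvable case**: the `k`-th term of the lower central series is nilpotent. -/
theorem isNilpotent_lcs_of_solvable : ∀ (m : ℕ) {G : Type u} [Group G] [Finite G], Nat.card G = m →
    Group.IsSolvable G → ∀ {k : ℕ}, Centralises k G →
    Group.IsNilpotent ((⊤ : Subgroup G).lowerCentralSeries k) := by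
  intro m
  induction m using Nat.strong_induction_on with
  | _ m ih => ?_
  intro G _ _ hm hsol k hA
  subst hm
  by_cases hGn : Group.IsNilpotent G
  · haveI := hGn
    infer_instance
  obtain ⟨n, hkn, hn⟩ := exists_residual (G := G) k
  set R := (⊤ : Subgroup G).lowerCentralSeries n with hR
  haveI : R.Normal := inferInstance
  haveI : Nontrivial G := by
    by_contra hnt
    rw [not_nontrivial_iff_subsingleton] at hnt
    exact hGn inferInstance
  have hRtop : R ≠ ⊤ := by
    intro htop
    refine (Group.IsSolvable.commutator_lt_top_of_nontrivial (G := G)).not_ge ?_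
    refine le_trans htop.ge ?_
    rw [← Subgroup.top_lowerCentralSeries_one, ← hn (max n 1) (le_max_left _ _)]
    exact Subgroup.lowerCentralSeries_antitone _ (le_max_right _ _)
  have hlt : Nat.card R < Nat.card G :=
    lt_of_le_of_ne R.card_le_card_group fun e => hRtop (R.eq_top_of_card_eq e)
  have hRk := ih _ hlt (G := R) rfl inferInstance (centralises_subgroup hA R)
  obtain ⟨n1, hkn1, hn1⟩ := exists_residual (G := R) k
  set R2 := R.lowerCentralSeries n1 with hR2
  haveI : R2.Normal := inferInstance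
  have hR2R : R2 ≤ R := by
    rw [hR2, ← top_subtype_lowerCentralSeries]
    exact map_subtype_le _
  have hR2n : Group.IsNilpotent R2 := by
    have h1 : Group.IsNilpotent ((((⊤ : Subgroup R).lowerCentralSeries k)).map R.subtype) :=
      CfsgLib.OddLocal.isNilpotent_map R.subtype hRk
    rw [top_subtype_lowerCentralSeries] at h1
    exact CfsgLib.OddLocal.isNilpotent_of_le h1 (Subgroup.lowerCentralSeries_antitone _ hkn1)
  have hq2 : Group.IsNilpotent (R.map (QuotientGroup.mk' R2)) := by
    refine (Subgroup.isNilpotent_iff_lowerCentralSeries _).2 ⟨n1, ?_⟩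
    rw [← map_lowerCentralSeries, Subgroup.map_eq_bot_iff, QuotientGroup.ker_mk']
  -- `R` is nilpotent
  have hRnil : Group.IsNilpotent R := by
    refine isNilpotent_of_quotient (R2.subgroupOf R) ?_ ?_
    · have := hq2
      let f : R ⧸ R2.subgroupOf R →* R.map (QuotientGroup.mk' R2) :=
        QuotientGroup.lift _ ((QuotientGroup.mk' R2).subgroupMap R) fun a ha =>
          Subtype.ext ((QuotientGroup.eq_one_iff _).2 (mem_subgroupOf.1 ha) :)
      have hf : Function.Injective f := by
        rw [← MonoidHom.ker_eq_bot_iff, eq_bot_iff]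
        intro z hz
        induction z using QuotientGroup.induction_on with
        | _ a =>
          refine mem_bot.2 ((QuotientGroup.eq_one_iff a).2 (mem_subgroupOf.2 ?_))
          exact (QuotientGroup.eq_one_iff _).1 (congrArg Subtype.val hz :)
      exact Group.isNilpotent_congr (MonoidHom.ofInjective hf) |>.2 inferInstance
    · intro r s hr hs hrs x y hy i j hx hy'
      haveI : Fact s.Prime := ⟨hs⟩
      have hys : (y : G) ∈ CfsgLib.OddLocal.pPart s R2 :=
        CfsgLib.OddLocal.mem_pPart hR2n (mem_subgroupOf.1 hy) (i := j)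
          (by simpa using congrArg Subtype.val hy')
      exact Subtype.ext (residual_centralises hA hsol hn R R2 hR hR2n hq2 hR2R x.2
        (coprime_orderOf_of_pow hr hs hrs (x := (x : G)) (i := i)
          (by simpa using congrArg Subtype.val hx)) hys).eq
  -- hence `N` is nilpotent
  set N := (⊤ : Subgroup G).lowerCentralSeries k with hN
  haveI : N.Normal := inferInstance
  have hRN : R ≤ N := Subgroup.lowerCentralSeries_antitone _ hkn
  refine isNilpotent_of_quotient (R.subgroupOf N) ?_ ?_
  · have hGR : Group.IsNilpotent (G ⧸ R) := isNilpotent_quotient_lcs n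
    have := hGR
    let f : N ⧸ R.subgroupOf N →* G ⧸ R := QuotientGroup.map _ R N.subtype fun a ha => ha
    have hf : Function.Injective f := by
      rw [← MonoidHom.ker_eq_bot_iff, eq_bot_iff]
      intro z hz
      induction z using QuotientGroup.induction_on with
      | _ a =>
        exact mem_bot.2 ((QuotientGroup.eq_one_iff a).2 (mem_subgroupOf.2
          ((QuotientGroup.eq_one_iff _).1 hz)))
    exact Group.isNilpotent_congr (MonoidHom.ofInjective hf) |>.2 inferInstance
  intro r s hr hs hrs x y hy i j hx hy'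
  haveI : Fact s.Prime := ⟨hs⟩
  set Ps := CfsgLib.OddLocal.pPart s R with hPs
  haveI hPsn : Ps.Normal := by
    rw [← normalizer_eq_top_iff]
    refine top_le_iff.1 (le_trans ?_ (CfsgLib.OddLocal.normalizer_le_normalizer_pPart s R))
    rw [normalizer_eq_top_iff.2 inferInstance]
  have hys : (y : G) ∈ Ps := CfsgLib.OddLocal.mem_pPart hRnil (mem_subgroupOf.1 hy) (i := j)
    (by simpa using congrArg Subtype.val hy')
  set C := centralizer (Ps : Set G) with hC
  haveI : C.Normal := inferInstance
  set D := C ⊔ R with hD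
  haveI : D.Normal := inferInstance
  have hQn : Group.IsNilpotent (G ⧸ D) :=
    isNilpotent_quotient_mono le_sup_right (isNilpotent_quotient_lcs n)
  have hRC : IsPGroup s (R.map (QuotientGroup.mk' C)) := by
    refine isPGroup_map_of_le_ker hs R _ fun w hw hwc => (QuotientGroup.eq_one_iff w).2 ?_
    refine mem_centralizer_iff.2 fun b hb => ?_
    obtain ⟨t, ht⟩ := CfsgLib.OddLocal.pPart_isPGroup s R ⟨b, hb⟩
    refine CfsgLib.OddLocal.commute_of_mem_nilpotent hRnil (CfsgLib.OddLocal.pPart_le s R hb) hw ?_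
    exact ((hwc.pow_right t).symm).coprime_dvd_left
      (orderOf_dvd_of_pow_eq_one (congrArg Subtype.val ht :))
  -- the values of the quotient are `s`-elements
  have hvals : ∀ v : G ⧸ D, IsValue k v → ∃ a, v ^ s ^ a = 1 := by
    intro v hv
    obtain ⟨φ⟩ := ((Group.isNilpotent_of_finite_tfae (G := G ⧸ D)).out 0 4 rfl rfl).mp hQn
    have hcoord : ∀ (q : (Nat.card (G ⧸ D)).primeFactors) (P : Sylow (q : ℕ) (G ⧸ D)),
        (q : ℕ) ≠ s → φ.symm v q P = 1 := by
      intro q P hqs
      haveI hqf : Fact (q : ℕ).Prime := ⟨Nat.prime_of_mem_primeFactors q.2⟩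
      have hval : IsValue k (φ.symm v q P) := by
        have h1 := isValue_map φ.symm.toMonoidHom hv
        exact isValue_map ((Pi.evalMonoidHom (fun P : Sylow (q : ℕ) (G ⧸ D) =>
          ((P : Subgroup (G ⧸ D)) : Type u)) P).comp (Pi.evalMonoidHom
            (fun q : (Nat.card (G ⧸ D)).primeFactors =>
              ∀ P : Sylow (q : ℕ) (G ⧸ D), ((P : Subgroup (G ⧸ D)) : Type u)) q)) h1
      obtain ⟨S⟩ := (inferInstance : Nonempty (Sylow (q : ℕ) G))
      have hPS : (P : Subgroup (G ⧸ D)) = (S : Subgroup G).map (QuotientGroup.mk' D) := by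
        haveI : Subsingleton (Sylow (q : ℕ) (G ⧸ D)) := by
          haveI : (P : Subgroup (G ⧸ D)).Normal :=
            ((Group.isNilpotent_of_finite_tfae (G := G ⧸ D)).out 0 3 rfl rfl).mp hQn _ hqf P
          haveI := Sylow.unique_of_normal P inferInstance
          infer_instance
        rw [Subsingleton.elim P (S.mapSurjective (QuotientGroup.mk'_surjective D))]
        rfl
      let g : (S : Subgroup G) →* (P : Subgroup (G ⧸ D)) :=
        ((QuotientGroup.mk' D).comp (S : Subgroup G).subtype).codRestrict _ fun a => by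
          rw [hPS]; exact mem_map_of_mem _ a.2
      have hg : Function.Surjective g := fun b => by
        obtain ⟨a, ha, hab⟩ : (b : G ⧸ D) ∈ (S : Subgroup G).map (QuotientGroup.mk' D) := hPS ▸ b.2
        exact ⟨⟨a, ha⟩, Subtype.ext hab⟩
      obtain ⟨w, hw, hwv⟩ := exists_isValue_lift hg hval
      rw [← hwv]
      refine Subtype.ext ((QuotientGroup.eq_one_iff _).2 (mem_sup_left ?_))
      refine mem_centralizer_iff.2 fun b hb =>
        (hA w (isValue_map (S : Subgroup G).subtype hw) Ps ?_ ?_ b hb).symm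
      · rw [normalizer_eq_top_iff.2 hPsn]; trivial
      · intro b hb
        obtain ⟨t, ht⟩ := CfsgLib.OddLocal.pPart_isPGroup s R ⟨b, hb⟩
        obtain ⟨e, he⟩ := S.2 w
        exact CfsgLib.OddLocal.coprime_orderOf_of_prime_ne hs hqf.out (Ne.symm hqs)
          (congrArg Subtype.val ht :) (congrArg Subtype.val he :)
    obtain ⟨a, d, hd, had⟩ := Nat.exists_eq_pow_mul_and_not_dvd
      (Nat.card_pos (α := G ⧸ D)).ne' s hs.ne_one
    refine ⟨a, φ.symm.injective ?_⟩
    rw [map_pow, map_one]
    funext q P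
    show φ.symm v q P ^ s ^ a = 1
    by_cases hqs : (q : ℕ) = s
    · obtain ⟨e, he⟩ := P.2 (φ.symm v q P)
      rw [← orderOf_dvd_iff_pow_eq_one]
      have h1 : orderOf (φ.symm v q P) ∣ s ^ e :=
        (orderOf_dvd_of_pow_eq_one he).trans (by rw [hqs])
      refine Nat.Coprime.dvd_of_dvd_mul_right ((((hs.coprime_iff_not_dvd).2 hd).pow_left e).coprime_dvd_left h1) ?_
      rw [← had, ← Subgroup.orderOf_coe]
      exact orderOf_dvd_natCard _
    · rw [hcoord q P hqs, one_pow]
  have hle : (⊤ : Subgroup (G ⧸ D)).lowerCentralSeries k ≤ Cfsg.pCore s (G ⧸ D) := by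
    refine lcs_le_of_values k _ (CfsgLib.Solvable.pCore_normal s _) fun v hv => ?_
    obtain ⟨a, ha⟩ := hvals v hv
    have hnt : Group.IsNilpotent (⊤ : Subgroup (G ⧸ D)) :=
      (Group.isNilpotent_congr Subgroup.topEquiv).2 hQn
    obtain ⟨z, hz, rfl⟩ := CfsgLib.OddLocal.mem_pPart hnt (mem_top v) ha
    haveI := hQn
    exact CfsgLib.Solvable.le_pCore
      (Normal.map (CfsgLib.Solvable.pCore_normal s _) _ Subgroup.topEquiv.surjective)
      ((CfsgLib.Solvable.pCore_isPGroup s).map _) (mem_map_of_mem _ hz)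
  have hxc : (orderOf (x : G)).Coprime s :=
    coprime_orderOf_of_pow hr hs hrs (by simpa using congrArg Subtype.val hx)
  have hxD : (x : G) ∈ D := by
    refine (QuotientGroup.eq_one_iff _).1
      (map_eq_one_of_coprime (CfsgLib.Solvable.pCore_isPGroup s) (QuotientGroup.mk' D) ?_ hxc)
    refine hle ?_
    rw [← map_top_of_surjective _ (QuotientGroup.mk'_surjective D), ← map_lowerCentralSeries]
    exact mem_map_of_mem _ x.2
  have hxC : (x : G) ∈ C := by
    refine (QuotientGroup.eq_one_iff _).1 (map_eq_one_of_coprime hRC (QuotientGroup.mk' C) ?_ hxc)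
    have h1 := mem_map_of_mem (QuotientGroup.mk' C) hxD
    have hCbot : C.map (QuotientGroup.mk' C) = ⊥ := by
      rw [Subgroup.map_eq_bot_iff, QuotientGroup.ker_mk']
    rw [hD, Subgroup.map_sup, hCbot, bot_sup_eq] at h1
    exact h1
  exact Subtype.ext (mem_centralizer_iff.1 hxC y hys).symm

end CfsgLib.CommutatorValues
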