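import Cfsg.Agent.Lib.Comp.Components
import Mathlib

/-!
# At most one component when cyclic `p`-subgroups of equal order are conjugate

Solvability of groups of odd order is a hypothesis (it gives a common prime of two components).
-/

set_option autoImplicit false
set_option linter.style.haveILetI false

namespace CfsgLib.Coprime

open Subgroup CfsgLib.Comp

universe u

variable {G : Type u} [Group G] [Finite G]

/-- Cyclic `p`-subgroups of equal order are conjugate. -/
def CyclicConj (G : Type u) [Group G] : Prop :=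
  ∀ p : ℕ, p.Prime → ∀ A B : Subgroup G, IsCyclic ↥A → IsCyclic ↥B → IsPGroup p ↥A →
    Nat.card ↥A = Nat.card ↥B → ∃ g : G, B = A.map (MulAut.conj g).toMonoidHom

/-- A `p`-element of `K` outside `Z(K)`, of least possible order. -/
structure Moving (p : ℕ) (K : Subgroup G) (a : G) : Prop where
  mem : a ∈ K
  pow : ∃ k : ℕ, orderOf a = p ^ k
  noncentral : a ∉ centralizer (K : Set G)

theorem exists_moving {p : ℕ} [hp : Fact p.Prime] {K : Subgroup G}
    (hpK : p ∣ Nat.card (↥K ⧸ center ↥K)) : ∃ a, Moving p K a := by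
  obtain ⟨x, hx⟩ := exists_prime_orderOf_dvd_card' p hpK
  obtain ⟨y, rfl⟩ := QuotientGroup.mk'_surjective _ x
  obtain ⟨k, hk⟩ : ∃ k, k = (orderOf y).factorization p := ⟨_, rfl⟩
  set r := orderOf y / p ^ k with hr
  have hy0 := (orderOf_pos y).ne'
  refine ⟨((y ^ r : ↥K) : G), (y ^ r).2, ⟨k, ?_⟩, fun hc => ?_⟩
  · rw [Subgroup.orderOf_coe, hr, orderOf_pow_orderOf_div hy0 (hk ▸ Nat.ordProj_dvd _ _)]
  · have h1 : y ^ r ∈ center ↥K := mem_center_iff.2 fun z =>
      Subtype.ext (mem_centralizer_iff.1 hc z z.2)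
    have h2 : (QuotientGroup.mk' (center ↥K) y) ^ r = 1 := by
      rw [← map_pow]; exact (QuotientGroup.eq_one_iff _).2 h1
    have h3 := orderOf_dvd_of_pow_eq_one h2
    rw [hx, hr, hk] at h3
    exact Nat.not_dvd_ordCompl hp.out hy0 h3

theorem exists_conj_pow (h : CyclicConj G) {p : ℕ} (hp : p.Prime) {a c : G}
    (ha : ∃ k : ℕ, orderOf a = p ^ k) (ho : orderOf c = orderOf a) :
    ∃ g : G, c ∈ (zpowers a).map (MulAut.conj g).toMonoidHom := by
  haveI := Fact.mk hp
  obtain ⟨k, hk⟩ := ha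
  obtain ⟨g, hg⟩ := h p hp (zpowers a) (zpowers c) inferInstance inferInstance
    (IsPGroup.of_card (n := k) (by rw [Nat.card_zpowers, hk]))
    (by rw [Nat.card_zpowers, Nat.card_zpowers, ho])
  exact ⟨g, hg ▸ mem_zpowers c⟩

theorem product_not_conj (h : CyclicConj G) {p : ℕ} (hp : p.Prime) {K₁ K₂ : Subgroup G}
    (h1 : Cfsg.IsComponent K₁) (h2 : Cfsg.IsComponent K₂) (hne : K₁ ≠ K₂) {a b : G}
    (ha : Moving p K₁ a) (hb : Moving p K₂ b) : orderOf (a * b) ≠ orderOf a := by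
  intro ho
  obtain ⟨g, hg⟩ := exists_conj_pow h hp ha.pow ho
  set K := K₁.map (MulAut.conj g).toMonoidHom
  have hK : Cfsg.IsComponent K := isComponent_map_conj h1 g
  have hab : a * b ∈ K := map_mono (zpowers_le.2 ha.mem) hg
  have h12 := (component_eq_or_le_centralizer h1 h2).resolve_left hne
  have h21 := (component_eq_or_le_centralizer h2 h1).resolve_left hne.symm
  rcases component_eq_or_le_centralizer hK h1 with e | e
  · rw [e] at hab
    have hb1 : b ∈ K₁ := by simpa using mul_mem (inv_mem ha.mem) hab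
    exact hb.noncentral (h12 hb1)
  · have hbc : b ∈ centralizer (K₁ : Set G) := h21 hb.mem
    exact ha.noncentral (by simpa using mul_mem (e hab) (inv_mem hbc))

theorem orderOf_mul_of_lt {p : ℕ} (hp : p.Prime) {a b : G} (hc : Commute a b)
    (ha : ∃ k : ℕ, orderOf a = p ^ k) (hb : ∃ k : ℕ, orderOf b = p ^ k)
    (hlt : orderOf b < orderOf a) : orderOf (a * b) = orderOf a := by
  haveI := Fact.mk hp
  obtain ⟨k, hk⟩ := ha
  obtain ⟨l, hl⟩ := hb
  have hlk : l < k := (Nat.pow_lt_pow_iff_right hp.one_lt).1 (hk ▸ hl ▸ hlt)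
  obtain ⟨j, rfl⟩ := Nat.exists_eq_add_of_lt hlk
  rw [hk]
  refine orderOf_eq_prime_pow ?_ ?_
  · rw [hc.mul_pow, show b ^ p ^ (l + j) = 1 by
      rw [pow_add, pow_mul, ← hl, pow_orderOf_eq_one, one_pow], mul_one]
    intro h
    have h' := Nat.le_of_dvd (pow_pos hp.pos _) (orderOf_dvd_of_pow_eq_one h)
    rw [hk] at h'
    exact absurd h' (not_le.2 (Nat.pow_lt_pow_right hp.one_lt (by omega)))
  · rw [hc.mul_pow, ← hk, pow_orderOf_eq_one, one_mul, hk,
      show l + j + 1 = l + (j + 1) by ring, pow_add, pow_mul, ← hl, pow_orderOf_eq_one, one_pow]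

theorem components_subsingleton
    (hFT : ∀ (X : Type u) [Group X] [Finite X], Odd (Nat.card X) → Group.IsSolvable X)
    (h : CyclicConj G) {K₁ K₂ : Subgroup G} (h1 : Cfsg.IsComponent K₁) (h2 : Cfsg.IsComponent K₂) :
    K₁ = K₂ := by
  by_contra hne
  haveI : Fact (Nat.Prime 2) := ⟨Nat.prime_two⟩
  have hcomm : ∀ {a b : G}, a ∈ K₁ → b ∈ K₂ → Commute a b := fun ha hb =>
    (mem_centralizer_iff.1 ((component_eq_or_le_centralizer h1 h2).resolve_left hne ha) _ hb).symm
  have heven : ∀ {K : Subgroup G}, Cfsg.IsComponent K → 2 ∣ Nat.card (↥K ⧸ center ↥K) := by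
    intro K hK
    by_contra hd
    haveI : IsSimpleGroup (↥K ⧸ center ↥K) := hK.2.2
    exact not_isMulCommutative_central_quotient hK.2 ⟨⟨IsSimpleGroup.comm_iff_isSolvable.2
      (hFT _ (Nat.odd_iff.2 (Nat.two_dvd_ne_zero.1 hd)))⟩⟩
  -- `K₂` is conjugate to `K₁`
  obtain ⟨g, hg⟩ : ∃ g : G, K₂ = K₁.map (MulAut.conj g).toMonoidHom := by
    obtain ⟨a, ha⟩ := exists_moving (heven h1)
    obtain ⟨b, hb⟩ := exists_moving (heven h2)
    rcases lt_trichotomy (orderOf b) (orderOf a) with hlt | heq | hlt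
    · exact absurd (orderOf_mul_of_lt Nat.prime_two (hcomm ha.mem hb.mem) ha.pow hb.pow hlt)
        (product_not_conj h Nat.prime_two h1 h2 hne ha hb)
    · obtain ⟨g, hg⟩ := exists_conj_pow h Nat.prime_two ha.pow heq
      refine ⟨g, ?_⟩
      rcases component_eq_or_le_centralizer (isComponent_map_conj h1 g) h2 with e | e
      · exact e.symm
      · exact absurd (e (map_mono (zpowers_le.2 ha.mem) hg)) hb.noncentral
    · exact absurd (orderOf_mul_of_lt Nat.prime_two (hcomm ha.mem hb.mem).symm hb.pow ha.pow hlt)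
        (product_not_conj h Nat.prime_two h2 h1 (Ne.symm hne) hb ha)
  -- an odd prime
  haveI : IsSimpleGroup (↥K₁ ⧸ center ↥K₁) := h1.2.2
  obtain ⟨p, hp, hp2, hpK⟩ : ∃ p, p.Prime ∧ p ≠ 2 ∧ p ∣ Nat.card (↥K₁ ⧸ center ↥K₁) := by
    by_contra hcon
    push Not at hcon
    have hpow := Nat.eq_prime_pow_of_unique_prime_dvd (n := Nat.card (↥K₁ ⧸ center ↥K₁)) (p := 2)
      Nat.card_pos.ne' fun {d} hd hdd => by_contra fun hne' => hcon d hd hne' hdd
    have hnil := (IsPGroup.of_card hpow).isNilpotent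
    exact not_isMulCommutative_central_quotient h1.2 ⟨⟨IsSimpleGroup.comm_iff_isSolvable.2
      inferInstance⟩⟩
  haveI := Fact.mk hp
  obtain ⟨a, ha⟩ := exists_moving hpK
  set b := g * a * g⁻¹ with hbdef
  have hob : orderOf b = orderOf a := ((SemiconjBy.conj_mk g a).orderOf_eq g).symm
  obtain ⟨k, hk⟩ := ha.pow
  have hb : Moving p K₂ b := by
    refine ⟨hg ▸ mem_map_of_mem _ ha.mem, ⟨k, hob.trans hk⟩, fun hc => ha.noncentral ?_⟩
    refine mem_centralizer_iff.2 fun z hz => ?_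
    have h' : (g * z * g⁻¹) * b = b * (g * z * g⁻¹) :=
      mem_centralizer_iff.1 hc _ (hg ▸ mem_map_of_mem _ hz)
    rw [hbdef] at h'
    refine mul_left_cancel (a := g) (mul_right_cancel (b := g⁻¹) ?_)
    simpa [mul_assoc] using h'
  have hb' : Moving p K₂ b⁻¹ :=
    ⟨inv_mem hb.mem, ⟨k, by rw [orderOf_inv, hob, hk]⟩,
      fun hc => hb.noncentral ((Subgroup.inv_mem_iff _).1 hc)⟩
  have hc := hcomm ha.mem hb.mem
  have hn1 := product_not_conj h hp h1 h2 hne ha hb
  have hn2 := product_not_conj h hp h1 h2 hne ha hb'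
  obtain ⟨j, rfl⟩ : ∃ j, k = j + 1 := by
    refine Nat.exists_eq_add_one_of_ne_zero ?_
    rintro rfl
    rw [pow_zero, orderOf_eq_one_iff] at hk
    exact ha.noncentral (hk ▸ one_mem _)
  have hbot : ∀ {c : G}, Commute a c → c ^ p ^ (j + 1) = 1 → orderOf (a * c) ≠ orderOf a →
      a ^ p ^ j * c ^ p ^ j = 1 := by
    intro c hac hc1 hne'
    by_contra h0
    refine hne' (hk ▸ orderOf_eq_prime_pow (by rwa [hac.mul_pow]) ?_)
    rw [hac.mul_pow, hc1, mul_one, ← hk, pow_orderOf_eq_one]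
  have hb1 : b ^ p ^ (j + 1) = 1 := by rw [← hk, ← hob, pow_orderOf_eq_one]
  have e1 := hbot hc hb1 hn1
  have e2 := hbot hc.inv_right (by rw [inv_pow, hb1, inv_one]) hn2
  rw [inv_pow, mul_inv_eq_one] at e2
  rw [← e2, ← pow_two] at e1
  have h3 := orderOf_dvd_of_pow_eq_one (x := a) (n := p ^ j * 2) (by rw [pow_mul]; exact e1)
  rw [hk, pow_succ] at h3
  exact hp2 ((Nat.prime_dvd_prime_iff_eq hp Nat.prime_two).1
    (Nat.dvd_of_mul_dvd_mul_left (pow_pos hp.pos _) h3))

/-- The layer modulo its centre is non-abelian simple. -/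
theorem layer_simple
    (hFT : ∀ (X : Type u) [Group X] [Finite X], Odd (Nat.card X) → Group.IsSolvable X)
    (h : CyclicConj G) (hE : Cfsg.layer G ≠ ⊥) :
    IsSimpleGroup (↥(Cfsg.layer G) ⧸ center ↥(Cfsg.layer G)) ∧
      ¬ IsMulCommutative (↥(Cfsg.layer G) ⧸ center ↥(Cfsg.layer G)) := by
  obtain ⟨K, hK⟩ : ∃ K : Subgroup G, Cfsg.IsComponent K := by
    by_contra hcon
    push Not at hcon
    exact hE (sSup_eq_bot.2 fun K hK => absurd hK (hcon K))
  have he : Cfsg.layer G = K :=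
    le_antisymm (sSup_le fun L hL => (components_subsingleton hFT h hL hK).le) (le_layer hK)
  rw [he]
  exact ⟨hK.2.2, not_isMulCommutative_central_quotient hK.2⟩

end CfsgLib.Coprime
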