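import Mathlib.GroupTheory.Nilpotent
import Mathlib.RingTheory.Coprime.Lemmas
import Mathlib.GroupTheory.Sylow
import Cfsg.Prelude.Def_Transfer
set_option autoImplicit false

/-!
Minimal covers by nilpotent subgroups.
-/

namespace CfsgLib.Coprime

open Subgroup

variable {G : Type*} [Group G] [Finite G] {p : ℕ} [Fact p.Prime] (𝓐 : Finset (Subgroup G))

/-- In a nilpotent subgroup containing a `p`-element, every other element commutes with that element
when the Sylow `p`-subgroups are abelian. -/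
theorem le_centralizer_of_nilpotent (P : Sylow p G) (hab : IsMulCommutative (P : Subgroup G)) {A : Subgroup G}
    (hA : Group.IsNilpotent A) {v : G} {k : ℕ} (hv : v ∈ A) (hvk : v ^ p ^ k = 1) :
    A ≤ centralizer ({v} : Set G) := by
  obtain ⟨e⟩ := ((Group.isNilpotent_of_finite_tfae (G := A)).out 0 4 rfl rfl).1 hA
  intro a ha
  refine mem_centralizer_singleton_iff.2 ?_
  suffices h : (⟨a, ha⟩ : A) * ⟨v, hv⟩ = ⟨v, hv⟩ * ⟨a, ha⟩ from congrArg Subtype.val h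
  refine e.symm.injective ?_
  rw [map_mul, map_mul]
  funext q Q
  by_cases hq : q.1 = p
  · obtain ⟨qv, hqm⟩ := q
    subst hq
    obtain ⟨R, hR⟩ := ((Q.2.map A.subtype) : IsPGroup qv _).exists_le_sylow
    obtain ⟨g, hg⟩ := MulAction.exists_smul_eq G R P
    have hRab : ∀ x ∈ (R : Subgroup G), ∀ y ∈ (R : Subgroup G), x * y = y * x := by
      intro x hx y hy
      have hx' : g * x * g⁻¹ ∈ (P : Subgroup G) := hg ▸ ⟨x, hx, rfl⟩
      have hy' : g * y * g⁻¹ ∈ (P : Subgroup G) := hg ▸ ⟨y, hy, rfl⟩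
      have h : g * x * g⁻¹ * (g * y * g⁻¹) = g * y * g⁻¹ * (g * x * g⁻¹) :=
        congrArg Subtype.val (hab.is_comm.comm ⟨_, hx'⟩ ⟨_, hy'⟩)
      exact (MulAut.conj g).injective (by rw [map_mul, map_mul]; exact h)
    exact Subtype.ext (Subtype.ext (hRab _ (hR ⟨_, ((e.symm ⟨a, ha⟩) ⟨qv, hqm⟩ Q).2, rfl⟩) _
      (hR ⟨_, ((e.symm ⟨v, hv⟩) ⟨qv, hqm⟩ Q).2, rfl⟩)))
  · have h1 : (e.symm ⟨v, hv⟩) q Q ^ p ^ k = 1 := by
      rw [← Pi.pow_apply, ← Pi.pow_apply, ← map_pow, show (⟨v, hv⟩ : A) ^ p ^ k = 1 from Subtype.ext hvk, map_one]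
      rfl
    have : Fact (q.1).Prime := ⟨Nat.prime_of_mem_primeFactors q.2⟩
    obtain ⟨j, hj⟩ := IsPGroup.iff_orderOf.1 Q.2 ((e.symm ⟨v, hv⟩) q Q)
    have h2 := orderOf_dvd_of_pow_eq_one h1
    have : orderOf ((e.symm ⟨v, hv⟩) q Q) = 1 := by
      rw [hj] at h2 ⊢
      have hqp : (q.1).Prime := Nat.prime_of_mem_primeFactors q.2
      exact Nat.eq_one_of_dvd_coprimes ((Nat.coprime_primes hqp Fact.out).2 hq |>.pow j k) dvd_rfl h2
    rw [Pi.mul_apply, Pi.mul_apply, Pi.mul_apply, Pi.mul_apply, orderOf_eq_one_iff.1 this, mul_one, one_mul]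

variable {𝓐}

/-- In a minimal cover by nilpotent subgroups, a subgroup is the only member below itself. -/
theorem card_le_one_of_cover (hcov : (∀ A ∈ 𝓐, A ≠ ⊤) ∧ (∀ g : G, ∃ A ∈ 𝓐, g ∈ A))
    (hmin : ∀ 𝓑 : Finset (Subgroup G), (∀ A ∈ 𝓑, A ≠ ⊤) ∧ (∀ g : G, ∃ A ∈ 𝓑, g ∈ A) → 𝓐.card ≤ 𝓑.card)
    {C : Subgroup G} (hC : C ≠ ⊤) {A B : Subgroup G} (hA : A ∈ 𝓐) (hAC : A ≤ C) (hB : B ∈ 𝓐) (hBC : B ≤ C) :
    A = B := by
  classical
  by_contra hne
  let 𝓑 := insert C ((𝓐.erase A).erase B)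
  have h : 𝓐.card ≤ 𝓑.card := hmin 𝓑 ⟨fun X hX => by
    rcases Finset.mem_insert.1 hX with rfl | hX
    · exact hC
    · exact hcov.1 X (Finset.mem_of_mem_erase (Finset.mem_of_mem_erase hX)),
    fun g => by
      obtain ⟨X, hX, hgX⟩ := hcov.2 g
      by_cases hXA : X = A
      · exact ⟨C, Finset.mem_insert_self _ _, hAC (hXA ▸ hgX)⟩
      by_cases hXB : X = B
      · exact ⟨C, Finset.mem_insert_self _ _, hBC (hXB ▸ hgX)⟩
      exact ⟨X, Finset.mem_insert_of_mem (Finset.mem_erase.2 ⟨hXB, Finset.mem_erase.2 ⟨hXA, hX⟩⟩), hgX⟩⟩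
  have h1 := Finset.card_insert_le C ((𝓐.erase A).erase B)
  rw [Finset.card_erase_of_mem (Finset.mem_erase.2 ⟨Ne.symm hne, hB⟩), Finset.card_erase_of_mem hA] at h1
  have h2 : 1 < 𝓐.card := Finset.one_lt_card.2 ⟨A, hA, B, hB, hne⟩
  simp only [𝓑] at h
  omega

/-- Abelian Sylow subgroups and minimal covers by nilpotent subgroups. -/
theorem cover_member (hZ : center G = ⊥) (hcov : (∀ A ∈ 𝓐, A ≠ ⊤) ∧ (∀ g : G, ∃ A ∈ 𝓐, g ∈ A))
    (hmin : ∀ 𝓑 : Finset (Subgroup G), (∀ A ∈ 𝓑, A ≠ ⊤) ∧ (∀ g : G, ∃ A ∈ 𝓑, g ∈ A) → 𝓐.card ≤ 𝓑.card)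
    (hnil : ∀ A ∈ 𝓐, Group.IsNilpotent A) (P : Sylow p G) (hab : IsMulCommutative (P : Subgroup G))
    (hPne : (P : Subgroup G) ≠ ⊥)
    (hne : ¬ ((∀ x ∈ (P : Subgroup G), x ^ p = 1) ∧ p < Nat.card (P : Subgroup G))) :
    centralizer ((P : Subgroup G) : Set G) ∈ 𝓐 ∧ (P : Subgroup G) ≤ centralizer ((P : Subgroup G) : Set G) ∧
      ∀ v ∈ (P : Subgroup G), v ≠ 1 → ∀ B ∈ 𝓐, v ∈ B → B = centralizer ((P : Subgroup G) : Set G) := by
  classical
  have hp : p.Prime := Fact.out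
  -- a nontrivial `p`-element lies in exactly one member
  have huniq : ∀ v : G, v ≠ 1 → ∀ k : ℕ, v ^ p ^ k = 1 → ∀ A ∈ 𝓐, ∀ B ∈ 𝓐, v ∈ A → v ∈ B → A = B := by
    intro v hv k hk A hA B hB hvA hvB
    refine card_le_one_of_cover hcov hmin (C := centralizer ({v} : Set G)) (fun h => hv ?_) hA
      (le_centralizer_of_nilpotent P hab (hnil A hA) hvA hk) hB
      (le_centralizer_of_nilpotent P hab (hnil B hB) hvB hk)
    rw [← mem_bot, ← hZ, mem_center_iff]
    exact fun g => (mem_centralizer_singleton_iff.1 (h ▸ mem_top g))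
  have hpow : ∀ v ∈ (P : Subgroup G), ∃ k : ℕ, v ^ p ^ k = 1 := fun v hv => by
    obtain ⟨k, hk⟩ := P.2 ⟨v, hv⟩
    exact ⟨k, congrArg Subtype.val hk⟩
  -- `P` lies in one member
  obtain ⟨A, hA, hPA⟩ : ∃ A ∈ 𝓐, (P : Subgroup G) ≤ A := by
    by_cases hexp : ∀ x ∈ (P : Subgroup G), x ^ p = 1
    · obtain ⟨⟨x, hx⟩, hx1⟩ := (ne_bot_iff_exists_ne_one).1 hPne
      obtain ⟨A, hA, hxA⟩ := hcov.2 x
      have hx1' : x ≠ 1 := fun h => hx1 (Subtype.ext h)
      have hcard : Nat.card (P : Subgroup G) ≤ p := not_lt.1 fun h => hne ⟨hexp, h⟩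
      refine ⟨A, hA, ?_⟩
      rw [← eq_of_le_of_card_ge (zpowers_le.2 hx)
        (by rwa [Nat.card_zpowers, orderOf_eq_prime (hexp x hx) hx1'])]
      exact zpowers_le.2 hxA
    push Not at hexp
    obtain ⟨x, hx, hxp⟩ := hexp
    obtain ⟨A, hA, hxA⟩ := hcov.2 x
    refine ⟨A, hA, ?_⟩
    obtain ⟨k, hk⟩ := hpow _ (pow_mem hx p)
    have homega : ∀ w ∈ (P : Subgroup G), w ^ p = 1 → w ∈ A := by
      intro w hw hwp
      obtain ⟨B, hB, hxwB⟩ := hcov.2 (x * w)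
      have hc : Commute x w := congrArg Subtype.val (hab.is_comm.comm ⟨x, hx⟩ ⟨w, hw⟩)
      have he : (x * w) ^ p = x ^ p := by rw [hc.mul_pow, hwp, mul_one]
      obtain rfl := huniq _ hxp k hk A hA B hB (pow_mem hxA p) (he ▸ pow_mem hxwB p)
      simpa using mul_mem (inv_mem hxA) hxwB
    intro v hv
    by_cases hv1 : v = 1
    · rw [hv1]; exact one_mem A
    obtain ⟨B, hB, hvB⟩ := hcov.2 v
    obtain ⟨j, hj⟩ := IsPGroup.iff_orderOf.1 P.2 ⟨v, hv⟩
    rw [Subgroup.orderOf_mk] at hj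
    have hj1 : 1 ≤ j := Nat.one_le_iff_ne_zero.2 fun h => hv1 (orderOf_eq_one_iff.1 (by rw [hj, h, pow_zero]))
    have hwp : (v ^ p ^ (j - 1)) ^ p = 1 := by
      rw [← pow_mul, ← pow_succ, show j - 1 + 1 = j by omega, ← hj, pow_orderOf_eq_one]
    have hw1 : v ^ p ^ (j - 1) ≠ 1 := fun h => by
      have := (Nat.pow_dvd_pow_iff_le_right hp.one_lt).1 (hj ▸ orderOf_dvd_of_pow_eq_one h)
      omega
    exact huniq _ hw1 1 (by rw [pow_one]; exact hwp) B hB A hA (pow_mem hvB _)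
      (homega _ (pow_mem hv _) hwp) ▸ hvB
  have hAC : A ≤ centralizer ((P : Subgroup G) : Set G) := fun a ha =>
    mem_centralizer_iff.2 fun v hv => by
      obtain ⟨k, hk⟩ := hpow v hv
      exact (mem_centralizer_singleton_iff.1 (le_centralizer_of_nilpotent P hab (hnil A hA) (hPA hv) hk ha)).symm
  obtain ⟨⟨x₀, hx₀⟩, hx₀1⟩ := (ne_bot_iff_exists_ne_one).1 hPne
  have hx₀1' : x₀ ≠ 1 := fun h => hx₀1 (Subtype.ext h)
  obtain ⟨k₀, hk₀⟩ := hpow _ hx₀
  have hCA : centralizer ((P : Subgroup G) : Set G) = A := by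
    refine le_antisymm (fun y hy => ?_) hAC
    set j := (orderOf y).factorization p with hj
    -- the two parts of `y`
    set m := orderOf y / p ^ j with hm
    have hmp : ¬ p ∣ m := Nat.not_dvd_ordCompl hp (orderOf_pos y).ne'
    have hjm : p ^ j * m = orderOf y := Nat.ordProj_mul_ordCompl_eq_self _ p
    obtain ⟨B, hB, hB'⟩ := hcov.2 (x₀ * y ^ p ^ j)
    have hcomm : Commute x₀ (y ^ p ^ j) := Commute.pow_right (mem_centralizer_iff.1 hy x₀ hx₀) _
    have hcop : (p ^ k₀).Coprime m := (hp.coprime_iff_not_dvd.2 hmp).pow_left _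
    obtain ⟨s, t, hst⟩ := Nat.isCoprime_iff_coprime.2 hcop
    have hym : (y ^ p ^ j) ^ (m : ℤ) = 1 := by
      rw [zpow_natCast, ← pow_mul, hjm, pow_orderOf_eq_one]
    have hxk : x₀ ^ ((p ^ k₀ : ℕ) : ℤ) = 1 := by rw [zpow_natCast, hk₀]
    have e1 : (x₀ * y ^ p ^ j) ^ (t * m) = x₀ := by
      rw [hcomm.mul_zpow, mul_comm t, zpow_mul (y ^ p ^ j), hym, one_zpow, mul_one,
        show (m : ℤ) * t = 1 + (-s) * ((p ^ k₀ : ℕ) : ℤ) by push_cast at hst ⊢; linarith,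
        zpow_add, zpow_one, mul_comm (-s), zpow_mul, hxk, one_zpow, mul_one]
    have hx₀B : x₀ ∈ B := e1 ▸ zpow_mem hB' _
    obtain rfl := huniq x₀ hx₀1' k₀ hk₀ A hA B hB (hPA hx₀) hx₀B
    have hy1 : y ^ p ^ j ∈ A := by simpa using mul_mem (inv_mem (hPA hx₀)) hB'
    have hy2 : y ^ m ∈ (P : Subgroup G) := by
      have hp' : IsPGroup p (zpowers (y ^ m)) := IsPGroup.of_card (n := j) (by
        have hm0 : m ≠ 0 := fun h => hmp (by rw [h]; exact dvd_zero p)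
        rw [Nat.card_zpowers, orderOf_pow' _ hm0, ← hjm,
          Nat.gcd_eq_right (dvd_mul_left m _), Nat.mul_div_cancel _ (Nat.pos_of_ne_zero hm0)])
      have hn : zpowers (y ^ m) ≤ normalizer ((P : Subgroup G) : Set G) := zpowers_le.2 (pow_mem
        (Subgroup.centralizer_le_normalizer _ hy) _)
      have hsup : IsPGroup p ((zpowers (y ^ m)) ⊔ (P : Subgroup G) : Subgroup G) :=
        hp'.to_sup_of_normal_right' P.2 hn
      rw [← P.3 hsup le_sup_right]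
      exact mem_sup_left (mem_zpowers _)
    have hcop2 : (p ^ j).Coprime m := (hp.coprime_iff_not_dvd.2 hmp).pow_left _
    obtain ⟨s', t', hst'⟩ := Nat.isCoprime_iff_coprime.2 hcop2
    have e2 : y = (y ^ p ^ j) ^ s' * (y ^ m) ^ t' := by
      rw [← zpow_natCast y, ← zpow_natCast y m, ← zpow_mul, ← zpow_mul, ← zpow_add, mul_comm _ s', mul_comm _ t',
        hst', zpow_one]
    rw [e2]
    exact mul_mem (zpow_mem hy1 _) (zpow_mem (hPA hy2) _)
  refine ⟨hCA ▸ hA, hCA ▸ hPA, fun v hv hv1 B hB hvB => hCA ▸ ?_⟩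
  obtain ⟨k, hk⟩ := hpow v hv
  exact huniq v hv1 k hk B hB A hA hvB (hPA hv)

/-- The normalizer of an abelian Sylow subgroup in a group with a minimal nilpotent cover. -/
theorem cover_normalizer (hZ : center G = ⊥) (hcov : (∀ A ∈ 𝓐, A ≠ ⊤) ∧ (∀ g : G, ∃ A ∈ 𝓐, g ∈ A))
    (hmin : ∀ 𝓑 : Finset (Subgroup G), (∀ A ∈ 𝓑, A ≠ ⊤) ∧ (∀ g : G, ∃ A ∈ 𝓑, g ∈ A) → 𝓐.card ≤ 𝓑.card)
    (hnil : ∀ A ∈ 𝓐, Group.IsNilpotent A) (P : Sylow p G) (hab : IsMulCommutative (P : Subgroup G))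
    (hnn : ¬ (P : Subgroup G).Normal)
    (hne : ¬ (Cfsg.IsElementaryAbelian p (P : Subgroup G) ∧ p < Nat.card (P : Subgroup G))) :
    centralizer ((P : Subgroup G) : Set G) ∈ 𝓐 ∧ (P : Subgroup G) ≤ centralizer ((P : Subgroup G) : Set G) ∧
      IsCoatom (normalizer ((P : Subgroup G) : Set G)) ∧
      (∀ g : G, g ∉ normalizer ((P : Subgroup G) : Set G) →
        ¬ p ∣ Nat.card (normalizer ((P : Subgroup G) : Set G) ⊓
          (normalizer ((P : Subgroup G) : Set G)).map (MulAut.conj g).toMonoidHom : Subgroup G)) ∧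
      ∀ M : Subgroup G, IsCoatom M → centralizer ((P : Subgroup G) : Set G) ≤ M →
        M = normalizer ((P : Subgroup G) : Set G) := by
  classical
  have hp : p.Prime := Fact.out
  have hne' : ¬ ((∀ x ∈ (P : Subgroup G), x ^ p = 1) ∧ p < Nat.card (P : Subgroup G)) := fun h =>
    hne ⟨⟨hab, h.1⟩, h.2⟩
  have hPne : (P : Subgroup G) ≠ ⊥ := fun h => hnn (by rw [h]; infer_instance)
  have key : ∀ g : G, centralizer ((g • P : Sylow p G) : Set G) ∈ 𝓐 ∧
      ((g • P : Sylow p G) : Subgroup G) ≤ centralizer ((g • P : Sylow p G) : Set G) ∧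
      ∀ v ∈ ((g • P : Sylow p G) : Subgroup G), v ≠ 1 → ∀ B ∈ 𝓐, v ∈ B →
        B = centralizer ((g • P : Sylow p G) : Set G) := by
    intro g
    have hQ : ((g • P : Sylow p G) : Subgroup G) = (P : Subgroup G).map (MulAut.conj g).toMonoidHom := rfl
    have hcard : Nat.card ((g • P : Sylow p G) : Subgroup G) = Nat.card (P : Subgroup G) := by
      rw [hQ, card_map_of_injective (MulAut.conj g).injective]
    refine cover_member hZ hcov hmin hnil _ (hQ ▸ inferInstance) (fun h => hPne ?_) fun h => hne' ⟨fun x hx => ?_, hcard ▸ h.2⟩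
    · rw [← Subgroup.card_eq_one, ← hcard, h, Subgroup.card_bot]
    · have h2 := h.1 _ (hQ ▸ mem_map_of_mem (MulAut.conj g).toMonoidHom hx)
      rw [← map_pow] at h2
      exact (MulAut.conj g).injective (h2.trans (map_one _).symm)
  obtain ⟨hC, hPC, huP⟩ := cover_member hZ hcov hmin hnil P hab hPne hne'
  obtain ⟨⟨x, hx⟩, hx1⟩ := (ne_bot_iff_exists_ne_one).1 hPne
  have hx1' : x ≠ 1 := fun h => hx1 (Subtype.ext h)
  -- members determine Sylow subgroups
  have hmem : ∀ g : G, centralizer ((g • P : Sylow p G) : Set G) = centralizer ((P : Subgroup G) : Set G) →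
      g ∈ normalizer ((P : Subgroup G) : Set G) := by
    intro g hg
    refine Sylow.smul_eq_iff_mem_normalizer.1 (Sylow.ext ?_)
    have hle : ((g • P : Sylow p G) : Subgroup G) ≤ normalizer ((P : Subgroup G) : Set G) :=
      ((key g).2.1.trans hg.le).trans (Subgroup.centralizer_le_normalizer _)
    exact (g • P).3 (IsPGroup.to_sup_of_normal_right' (g • P).2 P.2 hle) le_sup_left |>.symm.trans
      (P.3 (IsPGroup.to_sup_of_normal_right' (g • P).2 P.2 hle) le_sup_right)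
  have hMle : ∀ M : Subgroup G, M ≠ ⊤ → centralizer ((P : Subgroup G) : Set G) ≤ M →
      M ≤ normalizer ((P : Subgroup G) : Set G) := by
    intro M hM hCM m hm
    obtain ⟨hD, hPD, -⟩ := key m
    refine hmem m (card_le_one_of_cover hcov hmin hM hD ?_ hC hCM)
    intro y hy
    have : m⁻¹ * y * m ∈ centralizer ((P : Subgroup G) : Set G) := mem_centralizer_iff.2 fun v hv => by
      have h := mem_centralizer_iff.1 hy _ (mem_map_of_mem (MulAut.conj m).toMonoidHom hv)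
      simp only [MulEquiv.coe_toMonoidHom, MulAut.conj_apply] at h
      calc v * (m⁻¹ * y * m) = m⁻¹ * (m * v * m⁻¹ * y) * m := by group
        _ = _ := by rw [h]; group
    have := mul_mem (mul_mem hm (hCM this)) (inv_mem hm)
    simpa [mul_assoc] using this
  have hNtop : normalizer ((P : Subgroup G) : Set G) ≠ ⊤ := fun h => hnn (normalizer_eq_top_iff.1 h)
  have hCN := Subgroup.centralizer_le_normalizer ((P : Subgroup G) : Set G)
  refine ⟨hC, hPC, ⟨hNtop, fun M hM => by_contra fun h => hM.not_ge (hMle M h (hCN.trans hM.le))⟩,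
    fun g hg hdvd => hg ?_, fun M hM hCM => ((hMle M hM.1 hCM).eq_or_lt.resolve_right fun h => hNtop (hM.2 _ h))⟩
  obtain ⟨w, hv⟩ := exists_prime_orderOf_dvd_card' p hdvd
  rw [← Subgroup.orderOf_coe] at hv
  obtain ⟨v, hvN, hvg⟩ := w
  change orderOf v = p at hv
  have hv1 : v ≠ 1 := fun h => by rw [h, orderOf_one] at hv; exact hp.one_lt.ne hv
  have inP : ∀ Q : Sylow p G, ∀ u : G, orderOf u = p → u ∈ normalizer ((Q : Subgroup G) : Set G) → u ∈ (Q : Subgroup G) := by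
    intro Q u hu huN
    rw [← Q.3 ((IsPGroup.of_card (n := 1) (by rw [Nat.card_zpowers, hu, pow_one] : Nat.card (zpowers u) = p ^ 1)).to_sup_of_normal_right' Q.2
      (zpowers_le.2 huN)) le_sup_right]
    exact mem_sup_left (mem_zpowers u)
  have hvP := inP P v hv hvN
  have hvQ := inP (g • P) v hv (by
    obtain ⟨n, hn, rfl⟩ := hvg
    refine Sylow.smul_eq_iff_mem_normalizer.1 ?_
    show (MulAut.conj g n) • (g • P) = g • P
    rw [MulAut.conj_apply, ← mul_smul, inv_mul_cancel_right, mul_smul, Sylow.smul_eq_iff_mem_normalizer.2 hn])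
  obtain ⟨B, hB, hvB⟩ := hcov.2 v
  exact hmem g (((key g).2.2 v hvQ hv1 B hB hvB).symm.trans (huP v hvP hv1 B hB hvB))

end CfsgLib.Coprime
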