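import Mathlib.NumberTheory.Bertrand
import Mathlib.GroupTheory.SpecificGroups.Alternating
import Cfsg.Agent.Lib.Coprime.NilpotentCover
import Cfsg.Agent.Lib.KnownA.AbelianAltSylow

/-!
Alternating and symmetric groups of degree at least 6 have no minimal cover by nilpotent subgroups:
a prime `n/2 < p < n` gives a cyclic Sylow subgroup whose centralizer lies in an intransitive
maximal subgroup, which is not its normalizer.
-/

set_option autoImplicit false

namespace CfsgLib.Coprime

open Subgroup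

/-- A prime strictly between `n / 2` and `n`. -/
theorem exists_prime_half_lt {n : ℕ} (hn : 3 ≤ n) : ∃ p, p.Prime ∧ p < n ∧ n < 2 * p := by
  obtain ⟨p, hp, h1, h2⟩ := Nat.exists_prime_lt_and_le_two_mul (n / 2) (by omega)
  refine ⟨p, hp, ?_, by omega⟩
  rcases lt_or_eq_of_le (show p ≤ n by omega) with h | h
  · exact h
  subst h
  -- `p = n` even prime
  have h2p : p = 2 * (p / 2) := by omega
  have : 2 ∣ p := ⟨p / 2, h2p⟩
  have := (Nat.prime_dvd_prime_iff_eq Nat.prime_two hp).1 this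
  omega

variable {n p : ℕ}

/-- An element normalizing the group of a cycle and fixing two points of it centralizes it. -/
theorem fixes_cycle_support {c s : Equiv.Perm (Fin n)} (hp : p.Prime) (hc : c.IsCycle)
    (ho : orderOf c = p) (hs : s * c * s⁻¹ ∈ zpowers c) {x z : Fin n} (hx : x ∈ c.support)
    (hz : z ∈ c.support) (hxz : x ≠ z) (hsx : s x = x) (hsz : s z = z) :
    ∀ y ∈ c.support, s y = y := by
  obtain ⟨i, hi⟩ := hs
  have hi' : c ^ i = s * c * s⁻¹ := hi
  have hpow : ∀ j : ℤ, s * c ^ j * s⁻¹ = c ^ (i * j) := fun j => by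
    rw [← conj_zpow, ← hi', ← zpow_mul]
  have happ : ∀ j : ℤ, s ((c ^ j) x) = (c ^ (i * j)) x := fun j => by
    rw [← hpow, Equiv.Perm.mul_apply, Equiv.Perm.mul_apply, show s⁻¹ x = x from s.symm_apply_eq.2 hsx.symm]
  have hxc : c x ≠ x := Equiv.Perm.mem_support.1 hx
  have hzero : ∀ m : ℤ, (c ^ m) x = x → (p : ℤ) ∣ m := fun m hm => by
    rw [← ho, orderOf_dvd_iff_zpow_eq_one]
    by_contra h
    have hp' : (c ^ m).support = c.support := by
      obtain ⟨j, hj⟩ : ∃ j : ℕ, c ^ m = c ^ j := by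
        obtain ⟨j, hj⟩ := (mem_powers_iff_mem_zpowers (x := c) (y := c ^ m)).2 ⟨m, rfl⟩
        exact ⟨j, hj.symm⟩
      rw [hj] at h ⊢
      exact hc.support_pow_eq_iff.2 fun hd => h (orderOf_dvd_iff_pow_eq_one.1 hd)
    exact Equiv.Perm.mem_support.1 (hp'.symm ▸ hx : x ∈ (c ^ m).support) hm
  obtain ⟨j, hj⟩ := hc.exists_zpow_eq hxc (Equiv.Perm.mem_support.1 hz)
  have h1 : (c ^ (i * j)) x = (c ^ j) x := by rw [← happ, hj, hsz]
  have h2 : (p : ℤ) ∣ (i - 1) * j := by
    refine hzero _ ?_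
    have := congrArg (c ^ (-j)) h1
    rw [← Equiv.Perm.mul_apply, ← zpow_add, ← Equiv.Perm.mul_apply, ← zpow_add, neg_add_cancel, zpow_zero] at this
    rw [show (i - 1) * j = -j + i * j by ring]
    exact this
  have hjne : ¬ (p : ℤ) ∣ j := fun h => hxz (by
    rw [← hj, (orderOf_dvd_iff_zpow_eq_one.1 (by rw [ho]; exact h) : c ^ j = 1)]
    rfl)
  have hi1 : (p : ℤ) ∣ i - 1 := ((Nat.prime_iff_prime_int.1 hp).dvd_or_dvd h2).resolve_right hjne
  intro y hy
  obtain ⟨k, hk⟩ := hc.exists_zpow_eq hxc (Equiv.Perm.mem_support.1 hy)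
  rw [← hk, happ, show i * k = k + (i - 1) * k by ring, zpow_add,
    (orderOf_dvd_iff_zpow_eq_one.1 (by rw [ho]; exact dvd_mul_of_dvd_left hi1 k) : c ^ ((i - 1) * k) = 1), mul_one]

/-- A `p`-cycle subgroup is not normalized by all three-cycles on the support. -/
theorem not_normalize_of_three {c : Equiv.Perm (Fin n)} (hp : p.Prime) (hp5 : 5 ≤ p) (hc : c.IsCycle)
    (ho : orderOf c = p) : ∃ s : Equiv.Perm (Fin n), s.IsThreeCycle ∧ s.support ⊆ c.support ∧
      s * c * s⁻¹ ∉ zpowers c := by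
  classical
  have hcard : c.support.card = p := hc.orderOf ▸ ho
  obtain ⟨t, ht, htc⟩ := Finset.exists_subset_card_eq (show 5 ≤ c.support.card by omega)
  obtain ⟨e⟩ : Nonempty (Fin 5 ≃ t) := ⟨(t.equivFinOfCardEq htc).symm⟩
  set v : Fin 5 → Fin n := fun i => (e i : Fin n)
  have hv : ∀ i, v i ∈ c.support := fun i => ht (e i).2
  have hne : ∀ i j, i ≠ j → v i ≠ v j := fun i j h h' => h (e.injective (Subtype.ext h'))
  set s := Equiv.swap (v 0) (v 1) * Equiv.swap (v 0) (v 2) with hs
  have h3 : s.IsThreeCycle := Equiv.Perm.isThreeCycle_swap_mul_swap_same (hne 0 1 (by decide))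
    (hne 0 2 (by decide)) (hne 1 2 (by decide))
  have hfix : ∀ y : Fin n, y ≠ v 0 → y ≠ v 1 → y ≠ v 2 → s y = y := fun y h0 h1 h2 => by
    rw [hs, Equiv.Perm.mul_apply, Equiv.swap_apply_of_ne_of_ne h0 h2, Equiv.swap_apply_of_ne_of_ne h0 h1]
  refine ⟨s, h3, fun y hy => ?_, fun hn => ?_⟩
  · by_contra hyc
    refine Equiv.Perm.mem_support.1 hy (hfix y ?_ ?_ ?_) <;>
      exact fun h => hyc (h ▸ hv _)
  · have := fixes_cycle_support hp hc ho hn (hv 3) (hv 4) (hne 3 4 (by decide))
      (hfix _ (hne 3 0 (by decide)) (hne 3 1 (by decide)) (hne 3 2 (by decide)))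
      (hfix _ (hne 4 0 (by decide)) (hne 4 1 (by decide)) (hne 4 2 (by decide))) (v 0) (hv 0)
    rw [hs, Equiv.Perm.mul_apply, Equiv.swap_apply_left,
      Equiv.swap_apply_of_ne_of_ne (hne 2 0 (by decide)) (hne 2 1 (by decide))] at this
    exact hne 2 0 (by decide) this

/-- The general argument, for a group of permutations containing the alternating group. -/
theorem no_nilpotent_cover_perm (hn : 6 ≤ n) {G : Type*} [Group G] [Finite G]
    (ι : G →* Equiv.Perm (Fin n)) (hι : Function.Injective ι) (hA : alternatingGroup (Fin n) ≤ ι.range)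
    (hZ : center G = ⊥) (𝓐 : Finset (Subgroup G))
    (hcov : (∀ A ∈ 𝓐, A ≠ ⊤) ∧ (∀ g : G, ∃ A ∈ 𝓐, g ∈ A))
    (hmin : ∀ 𝓑 : Finset (Subgroup G), (∀ A ∈ 𝓑, A ≠ ⊤) ∧ (∀ g : G, ∃ A ∈ 𝓑, g ∈ A) → 𝓐.card ≤ 𝓑.card)
    (hnil : ∀ A ∈ 𝓐, Group.IsNilpotent A) : False := by
  classical
  obtain ⟨p, hp, hpn, hnp⟩ := exists_prime_half_lt (n := n) (by omega)
  haveI := Fact.mk hp
  have hp5 : 5 ≤ p := by
    by_contra h
    push Not at h
    have : p = 4 := by omega
    exact absurd (this ▸ hp) (by norm_num)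
  have hlift : ∀ s : Equiv.Perm (Fin n), s.IsThreeCycle → ∃ g : G, ι g = s := fun s hs =>
    hA hs.mem_alternatingGroup
  -- Sylow subgroups have order `p`
  have hGdvd : Nat.card G ∣ n.factorial := by
    have h := Subgroup.card_dvd_of_injective ι hι
    rwa [Nat.card_perm, Nat.card_fin] at h
  have hpG : p ∣ Nat.card G := by
    have h1 : Nat.card (alternatingGroup (Fin n)) ∣ Nat.card G := by
      rw [Nat.card_congr (MonoidHom.ofInjective hι).toEquiv]
      exact card_dvd_of_le hA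
    refine dvd_trans ?_ h1
    haveI : Nontrivial (Fin n) := Fin.nontrivial_iff_two_le.mpr (by omega)
    have h2 := two_mul_card_alternatingGroup (α := Fin n)
    rw [← Nat.card_eq_fintype_card, ← Nat.card_eq_fintype_card, Nat.card_perm, Nat.card_fin] at h2
    exact ((Nat.coprime_primes hp Nat.prime_two).2 (by omega)).dvd_of_dvd_mul_left
      (h2 ▸ hp.dvd_factorial.2 hpn.le)
  obtain ⟨P⟩ : Nonempty (Sylow p G) := inferInstance
  have hv : n.factorial.factorization p = 1 := by
    rw [Nat.factorization_def _ hp, CfsgLib.KnownA.AltSylow.val_of_lt_sq (by nlinarith)]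
    exact Nat.div_eq_of_lt_le (by omega) (by omega)
  have hPcard : Nat.card (P : Subgroup G) = p := by
    have h1 : (Nat.card G).factorization p = 1 := by
      refine le_antisymm (hv ▸ (Nat.factorization_le_iff_dvd Nat.card_pos.ne' n.factorial_ne_zero).2 hGdvd p) ?_
      exact hp.factorization_pos_of_dvd Nat.card_pos.ne' hpG
    rw [P.card_eq_multiplicity, h1, pow_one]
  haveI : IsCyclic (P : Subgroup G) := isCyclic_of_prime_card hPcard
  obtain ⟨⟨g, hg⟩, hgen⟩ := IsCyclic.exists_generator (α := (P : Subgroup G))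
  have hgo : orderOf g = p := by
    rw [← hPcard, ← orderOf_eq_card_of_forall_mem_zpowers hgen, Subgroup.orderOf_mk]
  have hPz : (P : Subgroup G) = zpowers g :=
    (eq_of_le_of_card_ge (zpowers_le.2 hg) (by rw [Nat.card_zpowers, hgo, hPcard])).symm
  set c := ι g with hcdef
  have hco : orderOf c = p := (orderOf_injective ι hι g).trans hgo
  have hcyc : c.IsCycle := Equiv.Perm.isCycle_of_prime_order' (hco ▸ hp) (by rw [hco, Fintype.card_fin]; omega)
  have hcard : c.support.card = p := hcyc.orderOf ▸ hco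
  -- the intransitive subgroup
  set S := c.support
  let T : Subgroup G :=
    { carrier := {h | ∀ y, ι h y ∈ S ↔ y ∈ S}
      one_mem' := fun y => by simp
      mul_mem' := fun {a b} ha hb y => by rw [map_mul, Equiv.Perm.mul_apply]; exact (ha _).trans (hb y)
      inv_mem' := fun {a} ha y => by
        have := ha ((ι a)⁻¹ y)
        rw [← Equiv.Perm.mul_apply, mul_inv_cancel, Equiv.Perm.one_apply] at this
        rw [map_inv]; exact this.symm }
  have hmem : ∀ h : G, h ∈ T ↔ ∀ y, ι h y ∈ S ↔ y ∈ S := fun h => Iff.rfl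
  have hCT : centralizer ((P : Subgroup G) : Set G) ≤ T := by
    intro h hh
    rw [hmem]
    intro y
    have hc : ι h * c * (ι h)⁻¹ = c := by
      rw [hcdef, ← map_mul, ← map_inv, ← map_mul, ← mem_centralizer_iff.1 hh g hg, mul_inv_cancel_right]
    show _ ∈ c.support ↔ _
    conv_lhs => rw [← hc, Equiv.Perm.support_conj]
    simp [S]
  have hTne : T ≠ ⊤ := by
    intro hT
    obtain ⟨x, hx⟩ : ∃ x, x ∉ S := by
      by_contra h
      push Not at h
      have : S = Finset.univ := Finset.eq_univ_of_forall h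
      rw [this, Finset.card_univ, Fintype.card_fin] at hcard
      omega
    obtain ⟨a, ha, b, hb, hab⟩ := Finset.one_lt_card.1 (show 1 < S.card by omega)
    have hax : a ≠ x := fun h => hx (h ▸ ha)
    have hbx : b ≠ x := fun h => hx (h ▸ hb)
    obtain ⟨s, hs⟩ := hlift _ (Equiv.Perm.isThreeCycle_swap_mul_swap_same hax hab hbx.symm)
    have := (hmem s).1 (hT ▸ mem_top s) b
    rw [hs, Equiv.Perm.mul_apply, Equiv.swap_apply_right, Equiv.swap_apply_left] at this
    exact hx (this.2 hb)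
  haveI : Finite (Subgroup G) := Finite.of_injective _ SetLike.coe_injective
  obtain ⟨M, hM, hTM⟩ := (eq_top_or_exists_le_coatom T).resolve_left hTne
  obtain ⟨s, hs3, hsS, hsn⟩ := not_normalize_of_three hp hp5 hcyc hco
  obtain ⟨h, hh⟩ := hlift s hs3
  have hhn : h ∉ normalizer ((P : Subgroup G) : Set G) := by
    intro hN
    apply hsn
    obtain ⟨i, hi⟩ := (hPz ▸ (mem_normalizer_iff.1 hN g).1 hg : h * g * h⁻¹ ∈ zpowers g)
    refine ⟨i, ?_⟩
    show c ^ i = s * c * s⁻¹
    rw [hcdef, ← map_zpow, show g ^ i = h * g * h⁻¹ from hi, map_mul, map_mul, map_inv, hh]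
  have hnn : ¬ (P : Subgroup G).Normal := fun hN => hhn (by rw [normalizer_eq_top]; exact mem_top h)
  obtain ⟨-, -, -, -, hu⟩ := cover_normalizer hZ hcov hmin hnil P
    (IsMulCommutative.mk ⟨fun a b => (IsCyclic.commGroup (α := (P : Subgroup G))).mul_comm a b⟩) hnn
    fun hh => by rw [hPcard] at hh; exact hh.2.false
  refine hhn ((hu M hM (hCT.trans hTM)) ▸ hTM ?_)
  rw [hmem]
  intro y
  rw [hh]
  by_cases hy : y ∈ s.support
  · exact iff_of_true (hsS (Equiv.Perm.apply_mem_support.2 hy)) (hsS hy)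
  · rw [Equiv.Perm.notMem_support.1 hy]

end CfsgLib.Coprime
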