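import Mathlib
import Cfsg.Prelude.Def_Transfer

/-!
# The linear action on an elementary abelian subgroup, over the algebraic closure
-/

set_option autoImplicit false
set_option linter.style.haveILetI false

namespace CfsgLib.Coprime

open Subgroup

universe u v
variable {G : Type u} [Group G] [Finite G]

/-- Endomorphisms of a group of exponent `n` as linear maps. -/
def endHom (n : ℕ) (A : Type u) [CommGroup A] [Module (ZMod n) (Additive A)] :
    Monoid.End A →* Module.End (ZMod n) (Additive A) where
  toFun f := AddMonoidHom.toZModLinearMap n (MonoidHom.toAdditive f)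
  map_one' := LinearMap.ext fun _ => rfl
  map_mul' _ _ := LinearMap.ext fun _ => rfl

theorem endHom_apply (n : ℕ) (A : Type u) [CommGroup A] [Module (ZMod n) (Additive A)]
    (f : Monoid.End A) (a : A) : endHom n A f (Additive.ofMul a) = Additive.ofMul (f a) := rfl

/-- The abstract form of `exists_elementary_rep`. -/
theorem exists_rep_of_exponent {p : ℕ} [hp : Fact p.Prime] {A : Type u} [CommGroup A] [Finite A]
    [Module (ZMod p) (Additive A)] {Γ : Type v} [Group Γ] (act : Γ →* Monoid.End A) :
    ∃ (d : ℕ) (ρ : Γ →* Module.End (AlgebraicClosure (ZMod p)) (Fin d → AlgebraicClosure (ZMod p))),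
      (∀ g : Γ, ρ g = 1 → ∀ a, act g a = a) ∧
      ∀ g : Γ, (∀ a, act g a = a → a = 1) → ∀ w, ρ g w = w → w = 0 := by
  let ρ₀ : Γ →* Module.End (ZMod p) (Additive A) := (endHom p A).comp act
  have hρ₀ : ∀ g a, ρ₀ g (Additive.ofMul a) = Additive.ofMul (act g a) := fun g a =>
    endHom_apply p A (act g) a
  haveI : Module.Finite (ZMod p) (Additive A) := Module.Finite.of_finite
  let k := AlgebraicClosure (ZMod p)
  let bas := Module.finBasis (ZMod p) (Additive A)
  let e₁ : Module.End (ZMod p) (Additive A) →+*
      Matrix (Fin (Module.finrank (ZMod p) (Additive A))) (Fin (Module.finrank (ZMod p) (Additive A))) (ZMod p) :=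
    (LinearMap.toMatrixAlgEquiv bas).toAlgHom.toRingHom
  let e₃ : Matrix (Fin (Module.finrank (ZMod p) (Additive A))) (Fin (Module.finrank (ZMod p) (Additive A))) k →+*
      Module.End k (Fin (Module.finrank (ZMod p) (Additive A)) → k) :=
    (Matrix.toLinAlgEquiv' (R := k)).toAlgHom.toRingHom
  let E := e₃.comp (((algebraMap (ZMod p) k).mapMatrix).comp e₁)
  have hE : Function.Injective E := by
    intro M N h
    exact (LinearMap.toMatrixAlgEquiv bas).injective
      (Matrix.map_injective (algebraMap (ZMod p) k).injective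
        ((Matrix.toLinAlgEquiv' (R := k)).injective h))
  refine ⟨_, E.toMonoidHom.comp ρ₀, ?_, ?_⟩
  · intro g hg a
    have h1 : ρ₀ g = 1 := hE (by rw [map_one]; exact hg)
    have h := congrArg (fun f : Module.End (ZMod p) (Additive A) => f (Additive.ofMul a)) h1
    simp only [hρ₀, Module.End.one_apply] at h
    exact Additive.ofMul.injective h
  · intro g hfree w hw
    have h0 : Function.Injective (ρ₀ g - (1 : Module.End (ZMod p) (Additive A))) := by
      refine (injective_iff_map_eq_zero (ρ₀ g - (1 : Module.End (ZMod p) (Additive A)))).2 fun z hz => ?_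
      have h : ρ₀ g (Additive.ofMul (Additive.toMul z)) = Additive.ofMul (Additive.toMul z) :=
        sub_eq_zero.1 hz
      rw [hρ₀] at h
      have h' := hfree _ (Additive.ofMul.injective h)
      exact Additive.toMul.injective h'
    have hu : IsUnit (E (ρ₀ g - 1)) :=
      ((Module.End.isUnit_iff _).2 ⟨h0, Finite.injective_iff_surjective.1 h0⟩).map E
    rw [map_sub, map_one] at hu
    apply ((Module.End.isUnit_iff _).1 hu).1
    rw [map_zero]
    exact sub_eq_zero.2 hw

/-- A group acting by conjugation on an elementary abelian `p`-subgroup `V` acts linearly over an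
algebraically closed field of characteristic `p`; the kernel centralizes `V`, and elements without
fixed points on `V` have no fixed vectors. -/
theorem exists_elementary_rep {p : ℕ} [hp : Fact p.Prime] {V Γ : Subgroup G}
    (hV : Cfsg.IsElementaryAbelian p V) (hΓV : Γ ≤ Subgroup.normalizer (V : Set G)) :
    ∃ (d : ℕ) (ρ : Γ →* Module.End (AlgebraicClosure (ZMod p)) (Fin d → AlgebraicClosure (ZMod p))),
      (∀ g : Γ, ρ g = 1 → (g : G) ∈ Subgroup.centralizer (V : Set G)) ∧
      ∀ g : Γ, V ⊓ Subgroup.centralizer (Subgroup.zpowers (g : G) : Set G) = ⊥ →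
        ∀ w, ρ g w = w → w = 0 := by
  letI : CommGroup V :=
    { (inferInstance : Group V) with mul_comm := fun a b => hV.1.is_comm.comm a b }
  let act : Γ →* Monoid.End V :=
    { toFun := fun g => (V.normalizerMonoidHom ⟨g, hΓV g.2⟩).toMonoidHom
      map_one' := MonoidHom.ext fun v => Subtype.ext
        (show ((1 : Γ) : G) * (v : G) * ((1 : Γ) : G)⁻¹ = (v : G) by simp)
      map_mul' := fun g h => MonoidHom.ext fun v => Subtype.ext
        (show ((g * h : Γ) : G) * (v : G) * ((g * h : Γ) : G)⁻¹ =
          (g : G) * ((h : G) * (v : G) * (h : G)⁻¹) * (g : G)⁻¹ by simp [mul_assoc]) }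
  have hact : ∀ g v, ((act g v : V) : G) = (g : G) * v * (g : G)⁻¹ := fun g v => rfl
  haveI : Module (ZMod p) (Additive V) := AddCommGroup.zmodModule fun w => by
    apply Additive.toMul.injective
    rw [toMul_nsmul, toMul_zero]
    exact Subtype.ext (by simpa using hV.2 _ (Additive.toMul w).2)
  obtain ⟨d, ρ, h1, h2⟩ := exists_rep_of_exponent (p := p) act
  refine ⟨d, ρ, fun g hg => ?_, fun g hfree => h2 g fun v hv => ?_⟩
  · rw [Subgroup.mem_centralizer_iff]
    intro v hv
    have h := congrArg Subtype.val (h1 g hg ⟨v, hv⟩)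
    rw [hact] at h
    exact (mul_inv_eq_iff_eq_mul.1 h).symm
  · have h' := congrArg Subtype.val hv
    rw [hact] at h'
    have hm : (v : G) ∈ V ⊓ Subgroup.centralizer (Subgroup.zpowers (g : G) : Set G) := by
      refine Subgroup.mem_inf.2 ⟨v.2, ?_⟩
      rw [Subgroup.mem_centralizer_iff]
      rintro _ ⟨i, rfl⟩
      exact ((show Commute (g : G) v from mul_inv_eq_iff_eq_mul.1 h').zpow_left i).eq
    rw [hfree, Subgroup.mem_bot] at hm
    exact Subtype.ext hm

end CfsgLib.Coprime
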