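import Cfsg.Agent.Lib.Solvable.Zipper
import Cfsg.Agent.Lib.Comp.Subnormal
import Cfsg.Agent.Lib.OddLocal.FittingHall
import Mathlib.Tactic

/-!
Left Engel elements and the hypercentre of a finite group.
-/

set_option autoImplicit false

open Subgroup
open scoped commutatorElement

namespace CfsgLib.Coprime

universe u

theorem foldl_replicate {α β : Type*} (f : α → β → α) (g : β) (n : ℕ) (x : α) :
    (List.replicate n g).foldl f x = (fun a => f a g)^[n] x := by
  induction n generalizing x with
  | zero => rfl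
  | succ n ih => rw [List.replicate_succ, List.foldl_cons, ih, Function.iterate_succ_apply]

/-- Baer: a left Engel element lies in the Fitting subgroup. -/
theorem mem_fitting_of_engel (n : ℕ) : ∀ (G : Type u) [Group G] [Finite G], Nat.card G = n → ∀ g : G,
    (∀ x : G, ∃ k : ℕ, (fun a => ⁅a, g⁆)^[k] x = 1) → g ∈ Cfsg.fittingSubgroup G := by
  induction n using Nat.strong_induction_on with
  | _ n ih =>
    intro G _ _ hn g hg
    have hnil : Group.IsNilpotent (zpowers g) := by
      let _ : CommGroup (zpowers g) := IsCyclic.commGroup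
      infer_instance
    suffices h : (zpowers g).IsSubnormal from
      CfsgLib.Comp.le_fittingSubgroup_of_isSubnormal h hnil (mem_zpowers g)
    have hsub : ∀ H : Subgroup G, zpowers g ≤ H → H ≠ ⊤ → ((zpowers g).subgroupOf H).IsSubnormal := by
      intro H hgH hH
      have hgm : g ∈ H := hgH (mem_zpowers g)
      have hF := ih _ (hn ▸ CfsgLib.Solvable.card_subgroup_lt hH) H rfl ⟨g, hgm⟩ fun x => by
        obtain ⟨k, hk⟩ := hg (x : G)
        refine ⟨k, Subtype.ext ?_⟩
        have hco : ∀ m, (((fun a : H => ⁅a, (⟨g, hgm⟩ : H)⁆)^[m] x : H) : G) = (fun a => ⁅a, g⁆)^[m] (x : G) := by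
          intro m
          induction m with
          | zero => rfl
          | succ m ihm =>
            simp only [Function.iterate_succ_apply', ← ihm]
            rfl
        rw [hco, hk]; rfl
      have := CfsgLib.Solvable.fittingSubgroup_isNilpotent (G := H)
      refine Subgroup.IsSubnormal.trans ?_ (CfsgLib.Solvable.isSubnormal_of_isNilpotent _)
        (CfsgLib.Solvable.fittingSubgroup_normal H).isSubnormal
      intro y hy
      obtain ⟨i, hi⟩ := mem_zpowers_iff.mp hy
      rw [show y = (⟨g, hgm⟩ : H) ^ i from Subtype.ext (by simpa using hi.symm)]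
      exact zpow_mem hF i
    by_contra hns
    obtain ⟨M, hM, hgM, huniq⟩ := CfsgLib.Solvable.exists_unique_coatom_of_subnormal hsub hns
    have hconj : ∀ c : G, c * g * c⁻¹ ∈ M → c ∈ normalizer (M : Set G) := by
      intro c hc
      set K := M.map (MulAut.conj c⁻¹).toMonoidHom with hK
      have hKc : IsCoatom K :=
        (OrderIso.isCoatom_iff (MulAut.conj c⁻¹).mapSubgroup M).mpr hM
      have hgK : zpowers g ≤ K := zpowers_le.mpr ⟨c * g * c⁻¹, hc, by simp [mul_assoc]⟩
      have heq := huniq K hKc hgK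
      rw [Subgroup.mem_normalizer_iff]
      intro h
      constructor
      · intro hh
        rw [← heq] at hh
        obtain ⟨m, hm, rfl⟩ := hh
        simpa [mul_assoc] using hm
      · intro hh
        rw [← heq]
        exact ⟨c * h * c⁻¹, hh, by simp [mul_assoc]⟩
    have hN : normalizer (M : Set G) = M := by
      refine ((hM.le_iff).mp Subgroup.le_normalizer).resolve_left fun htop => ?_
      have hMn : M.Normal := Subgroup.normalizer_eq_top_iff.mp htop
      exact hns (Subgroup.IsSubnormal.trans hgM (hsub M hgM hM.1) hMn.isSubnormal)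
    obtain ⟨x, -, hx⟩ := SetLike.exists_of_lt (lt_top_iff_ne_top.mpr hM.1)
    obtain ⟨k, hk⟩ := hg x
    have key : ∀ m, (fun a => ⁅a, g⁆)^[m] x ∈ M → False := by
      intro m
      induction m with
      | zero => exact hx
      | succ m ihm =>
        intro hm
        refine ihm (hN.le (hconj _ ?_))
        rw [Function.iterate_succ_apply', commutatorElement_def] at hm
        simpa [mul_assoc] using M.mul_mem hm (hgM (mem_zpowers g))
    exact key k (hk ▸ M.one_mem)

variable {G : Type*} [Group G] [Finite G]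

/-- Elements of the Fitting subgroup are left Engel. -/
theorem engel_of_mem_fitting {g : G} (hg : g ∈ Cfsg.fittingSubgroup G) (x : G) :
    ∃ k : ℕ, (fun a => ⁅a, g⁆)^[k] x = 1 := by
  set F := Cfsg.fittingSubgroup G
  have hFn : F.Normal := CfsgLib.Solvable.fittingSubgroup_normal G
  obtain ⟨n, hn⟩ := Subgroup.nilpotent_iff_lowerCentralSeries.mp
    (CfsgLib.Solvable.fittingSubgroup_isNilpotent (G := G))
  have h1 : ⁅x, g⁆ ∈ F := by
    rw [commutatorElement_def]
    exact F.mul_mem (hFn.conj_mem g hg x) (F.inv_mem hg)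
  have key : ∀ m, ∃ y : F, y ∈ (⊤ : Subgroup F).lowerCentralSeries m ∧
      (y : G) = (fun a => ⁅a, g⁆)^[m + 1] x := by
    intro m
    induction m with
    | zero => exact ⟨⟨_, h1⟩, by rw [Subgroup.lowerCentralSeries_zero]; exact mem_top _, rfl⟩
    | succ m ih =>
      obtain ⟨y, hy, hyc⟩ := ih
      refine ⟨⁅y, ⟨g, hg⟩⁆, ?_, ?_⟩
      · rw [Subgroup.lowerCentralSeries_succ]
        exact commutator_mem_commutator hy (mem_top _)
      · rw [Function.iterate_succ_apply', ← hyc]
        rfl
  obtain ⟨y, hy, hyc⟩ := key n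
  refine ⟨n + 1, ?_⟩
  rw [hn, Subgroup.mem_bot] at hy
  rw [← hyc, hy, OneMemClass.coe_one]

theorem exists_ucs_max (G : Type*) [Group G] [Finite G] :
    ∃ n, ∀ m, Subgroup.upperCentralSeries G m ≤ Subgroup.upperCentralSeries G n := by
  obtain ⟨K, ⟨n, rfl⟩, hK⟩ := (Set.toFinite (Set.range (Subgroup.upperCentralSeries G))).exists_maximal
    (Set.range_nonempty _)
  refine ⟨n, fun m => ?_⟩
  rcases le_total m n with h | h
  · exact Subgroup.upperCentralSeries_mono G h
  · exact hK ⟨m, rfl⟩ (Subgroup.upperCentralSeries_mono G h)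

/-- Elements of the hypercentre generate nilpotent subgroups with every element. -/
theorem isNilpotent_of_mem_ucs {g : G} {n : ℕ} (hg : g ∈ Subgroup.upperCentralSeries G n) (x : G) :
    Group.IsNilpotent (closure ({x, g} : Set G)) := by
  set H := closure ({x, g} : Set G)
  have hsub : ∀ m, (Subgroup.upperCentralSeries G m).subgroupOf H ≤ Subgroup.upperCentralSeries H m := by
    intro m
    induction m with
    | zero => simp [Subgroup.upperCentralSeries_zero]
    | succ m ih =>
      intro h hh
      rw [Subgroup.mem_upperCentralSeries_succ_iff]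
      intro y
      exact ih (Subgroup.mem_upperCentralSeries_succ_iff.mp (Subgroup.mem_subgroupOf.mp hh) (y : G))
  set Z := Subgroup.upperCentralSeries G n
  have hHle : H ≤ (zpowers (QuotientGroup.mk' Z x)).comap (QuotientGroup.mk' Z) := by
    rw [closure_le]
    rintro y (rfl | rfl)
    · exact mem_zpowers _
    · show QuotientGroup.mk' Z _ ∈ zpowers _
      rw [show QuotientGroup.mk' Z y = 1 from (QuotientGroup.eq_one_iff _).mpr hg]
      exact one_mem _
  refine ⟨⟨n + 1, eq_top_iff.mpr fun h _ => ?_⟩⟩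
  rw [Subgroup.mem_upperCentralSeries_succ_iff]
  intro y
  refine hsub n (Subgroup.mem_subgroupOf.mpr ?_)
  obtain ⟨i, hi⟩ := hHle h.2
  obtain ⟨j, hj⟩ := hHle y.2
  show ⁅(h : G), (y : G)⁆ ∈ Z
  rw [← QuotientGroup.eq_one_iff, ← QuotientGroup.mk'_apply, map_commutatorElement, ← hi, ← hj]
  exact commutatorElement_eq_one_iff_commute.mpr (Commute.zpow_zpow_self _ i j)

/-- If every `⟨x, g⟩` is nilpotent then `g` is hypercentral. -/
theorem mem_ucs_of_forall_isNilpotent {g : G}
    (hg : ∀ x : G, Group.IsNilpotent (closure ({x, g} : Set G))) :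
    ∃ n, g ∈ Subgroup.upperCentralSeries G n := by
  obtain ⟨n, hn⟩ := exists_ucs_max G
  refine ⟨n, ?_⟩
  set Z := Subgroup.upperCentralSeries G n
  have hF : g ∈ Cfsg.fittingSubgroup G := mem_fitting_of_engel _ G rfl g fun x => by
    set H := closure ({x, g} : Set G)
    obtain ⟨k, hk⟩ := engel_of_mem_fitting (G := H)
      (g := ⟨g, subset_closure (by simp)⟩) (by
        have := hg x
        have h := CfsgLib.Solvable.le_fittingSubgroup (G := H) (N := ⊤) inferInstance inferInstance
        exact h (mem_top _)) ⟨x, subset_closure (by simp)⟩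
    refine ⟨k, ?_⟩
    have hco : ∀ m, (((fun a : H => ⁅a, (⟨g, subset_closure (by simp)⟩ : H)⁆)^[m]
        ⟨x, subset_closure (by simp)⟩ : H) : G) = (fun a => ⁅a, g⁆)^[m] x := by
      intro m
      induction m with
      | zero => rfl
      | succ m ihm => simp only [Function.iterate_succ_apply', ← ihm]; rfl
    rw [← hco, hk]; rfl
  suffices h : (Z.subgroupOf (zpowers g)) = ⊤ by
    exact (Subgroup.subgroupOf_eq_top.mp h) (mem_zpowers g)
  refine CfsgLib.Solvable.eq_top_of_forall_prime fun p hp => ?_
  have : Fact p.Prime := ⟨hp⟩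
  obtain ⟨S⟩ := (inferInstance : Nonempty (Sylow p (zpowers g)))
  suffices hS : ∀ u ∈ (S : Subgroup (zpowers g)), (u : G) ∈ Z by
    exact fun hd => S.not_dvd_index (hd.trans (Subgroup.index_dvd_of_le hS))
  intro u hu
  obtain ⟨k, hk⟩ := (IsPGroup.iff_orderOf.mp S.2) ⟨u, hu⟩
  rw [← Subgroup.orderOf_coe, ← Subgroup.orderOf_coe] at hk
  simp only at hk
  have hug : (u : G) ∈ zpowers g := u.2
  -- `u` centralises the `p'`-elements and lies in `O_p(G)`
  set S' : Set G := {w | (orderOf w).Coprime p}
  set N := Cfsg.pCore p G ⊓ centralizer S'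
  have huN : (u : G) ∈ N := by
    refine ⟨?_, Subgroup.mem_centralizer_iff.mpr fun w hw => ?_⟩
    · have hup : IsPGroup p (zpowers (u : G)) :=
        IsPGroup.of_card (n := k) (by rw [Nat.card_zpowers, hk])
      have := CfsgLib.Solvable.fittingSubgroup_isNilpotent (G := G)
      have hle : zpowers (u : G) ≤ Cfsg.fittingSubgroup G :=
        zpowers_le.mpr ((zpowers_le.mpr hF) hug)
      exact CfsgLib.Comp.le_pCore_of_isSubnormal (Subgroup.IsSubnormal.trans hle
        (CfsgLib.Solvable.isSubnormal_of_isNilpotent _)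
        (CfsgLib.Solvable.fittingSubgroup_normal G).isSubnormal) hup (mem_zpowers _)
    · have hw' : w ∈ closure ({w, g} : Set G) := subset_closure (by simp)
      have hu' : (u : G) ∈ closure ({w, g} : Set G) :=
        (zpowers_le.mpr (subset_closure (show g ∈ ({w, g} : Set G) by simp))) hug
      exact congrArg Subtype.val (CfsgLib.OddLocal.commute_of_coprime_of_isNilpotent (hg w)
        (x := ⟨w, hw'⟩) (y := ⟨u, hu'⟩) (by
          rw [← Subgroup.orderOf_coe, ← Subgroup.orderOf_coe]
          show (orderOf w).Coprime (orderOf (u : G))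
          rw [hk]
          exact Nat.Coprime.pow_right _ hw)).eq
  have : (centralizer S').Normal := ⟨fun a ha c => Subgroup.mem_centralizer_iff.mpr fun w hw => by
    have e : orderOf (c⁻¹ * w * c) = orderOf w := by
      simpa using (MulEquiv.orderOf_eq (MulAut.conj c⁻¹) w)
    have h := Subgroup.mem_centralizer_iff.mp ha (c⁻¹ * w * c) (show (orderOf _).Coprime p from e.symm ▸ hw)
    calc w * (c * a * c⁻¹) = c * ((c⁻¹ * w * c) * a) * c⁻¹ := by group
      _ = c * (a * (c⁻¹ * w * c)) * c⁻¹ := by rw [h]
      _ = c * a * c⁻¹ * w := by group⟩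
  have := CfsgLib.Solvable.pCore_normal p G
  have hNn : N.Normal := inferInstance
  by_contra huZ
  obtain ⟨P⟩ := (inferInstance : Nonempty (Sylow p G))
  have hNP : N ≤ P := by
    have hNp : IsPGroup p N := (CfsgLib.Solvable.pCore_isPGroup (G := G) p).to_le inf_le_left
    exact le_sup_right.trans (P.3 (P.2.to_sup_of_normal_right hNp) le_sup_left).le
  set π := QuotientGroup.mk' Z
  have hPp : IsPGroup p ((P : Subgroup G).map π) := P.2.map π
  have := hPp.isNilpotent
  have : (N.map π).Normal := Subgroup.Normal.map hNn π (QuotientGroup.mk'_surjective Z)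
  have hne : (N.map π).subgroupOf ((P : Subgroup G).map π) ≠ ⊥ := by
    intro h
    rw [Subgroup.subgroupOf_eq_bot, disjoint_iff, inf_eq_left.mpr (Subgroup.map_mono hNP),
      Subgroup.map_eq_bot_iff, QuotientGroup.ker_mk'] at h
    exact huZ (h huN)
  obtain ⟨⟨z, hzP⟩, hzN, hz1⟩ : ∃ z, z ∈ (N.map π).subgroupOf ((P : Subgroup G).map π) ⊓
      center ((P : Subgroup G).map π) ∧ z ≠ 1 := by
    obtain ⟨z, hz1, hz2⟩ := (Subgroup.bot_or_exists_ne_one _).resolve_left
      (CfsgLib.Solvable.normal_inf_center_ne_bot _ hne)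
    exact ⟨z, hz1, hz2⟩
  obtain ⟨hzN, hzc⟩ := hzN
  obtain ⟨w, hwN, hw⟩ := Subgroup.mem_subgroupOf.mp hzN
  simp only at hw
  set C := (centralizer ({z} : Set (G ⧸ Z))).comap π
  have hC : C = ⊤ := by
    refine CfsgLib.Solvable.eq_top_of_forall_prime fun q hq => ?_
    have : Fact q.Prime := ⟨hq⟩
    intro hd
    obtain ⟨Q, hQC⟩ : ∃ Q : Sylow q G, (Q : Subgroup G) ≤ C := by
      by_cases hqp : q = p
      · subst hqp
        refine ⟨P, fun a ha => Subgroup.mem_centralizer_singleton_iff.mpr ?_⟩
        exact congrArg Subtype.val (Subgroup.mem_center_iff.mp hzc ⟨π a, a, ha, rfl⟩)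
      · obtain ⟨Q⟩ := (inferInstance : Nonempty (Sylow q G))
        refine ⟨Q, fun a ha => Subgroup.mem_centralizer_singleton_iff.mpr ?_⟩
        obtain ⟨m, hm⟩ := (IsPGroup.iff_orderOf.mp Q.2) ⟨a, ha⟩
        rw [← Subgroup.orderOf_coe] at hm
        have hcop : (orderOf a).Coprime p := by
          simp only at hm
          rw [hm]
          exact Nat.Coprime.pow_left _ ((Nat.coprime_primes hq hp).mpr hqp)
        rw [← hw, ← map_mul, ← map_mul]
        exact congrArg π (Subgroup.mem_centralizer_iff.mp hwN.2 a hcop)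
    exact Q.not_dvd_index (hd.trans (Subgroup.index_dvd_of_le hQC))
  have hzcen : w ∈ Subgroup.upperCentralSeries G (n + 1) := by
    rw [Subgroup.mem_upperCentralSeries_succ_iff]
    intro y
    rw [← QuotientGroup.eq_one_iff, ← QuotientGroup.mk'_apply, map_commutatorElement, hw]
    have hy : y ∈ C := hC ▸ mem_top y
    exact commutatorElement_eq_one_iff_commute.mpr
      (Subgroup.mem_centralizer_singleton_iff.mp hy).symm
  apply hz1
  exact Subtype.ext (hw.symm.trans ((QuotientGroup.eq_one_iff _).mpr (hn _ hzcen)))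

end CfsgLib.Coprime
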