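import Cfsg.Agent.Lib.Transfer.ExtraspecialIso

/-!
# Elementary abelian subgroups of extraspecial 2-groups
-/

namespace CfsgLib.Coprime

open Subgroup CfsgLib.Transfer
open scoped commutatorElement

variable {E F : Type*} [Group E] [Finite E] [Group F] [Finite F]

/-- `A` consists of commuting elements of exponent two. -/
def IsEA2 (A : Subgroup E) : Prop := (∀ a ∈ A, ∀ b ∈ A, a * b = b * a) ∧ ∀ a ∈ A, a ^ 2 = 1

/-- `H` has an elementary abelian subgroup of the largest conceivable order. -/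
def IsPlus2 (H : Subgroup E) : Prop :=
  ∃ A : Subgroup E, A ≤ H ∧ IsEA2 A ∧ 2 * Nat.card H ≤ Nat.card A ^ 2

omit [Finite E] in
theorem comm_sup_center {A : Subgroup E} (hA : ∀ a ∈ A, ∀ b ∈ A, a * b = b * a) :
    ∀ a ∈ A ⊔ center E, ∀ b ∈ A ⊔ center E, a * b = b * a := by
  intro a' ha' b' hb'
  obtain ⟨a, ha, z, hz, rfl⟩ := mem_sup_of_normal_right.1 ha'
  obtain ⟨b, hb, w, hw, rfl⟩ := mem_sup_of_normal_right.1 hb'
  have hz' := mem_center_iff.1 hz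
  have hw' := mem_center_iff.1 hw
  calc a * z * (b * w) = a * (z * b) * w := by group
    _ = a * b * (z * w) := by rw [← hz']; group
    _ = b * a * (w * z) := by rw [hA a ha b hb, hw']
    _ = b * (a * w) * z := by group
    _ = b * w * (a * z) := by rw [hw']; group

theorem ea2_sup_center (h : Cfsg.IsExtraspecial 2 E) {A : Subgroup E} (hA : IsEA2 A) :
    IsEA2 (A ⊔ center E) := by
  have : Fact (Nat.Prime 2) := ⟨Nat.prime_two⟩
  refine ⟨comm_sup_center hA.1, fun a' ha' => ?_⟩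
  obtain ⟨a, ha, z, hz, rfl⟩ := mem_sup_of_normal_right.1 ha'
  rw [(show Commute a z from mem_center_iff.1 hz a).mul_pow, hA.2 a ha,
    special_center_pow h.1 hz, one_mul]

theorem ea2_center (h : Cfsg.IsExtraspecial 2 E) : IsEA2 (center E) := by
  have : Fact (Nat.Prime 2) := ⟨Nat.prime_two⟩
  exact ⟨fun a _ b hb => mem_center_iff.1 hb a, fun a ha => special_center_pow h.1 ha⟩

/-- Cutting down a commutative subgroup along a pair. -/
theorem card_le_two_mul_inf (h : Cfsg.IsExtraspecial 2 E) {H A : Subgroup E} (hH : IsEsGood H)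
    (hA : A ≤ H) (hcomm : ∀ a ∈ A, ∀ b ∈ A, a * b = b * a)
    {x y : E} (hxA : x ∈ A) (hy : y ∈ H) (hxy : ⁅x, y⁆ ≠ 1) :
    Nat.card A ≤ 2 * Nat.card (A ⊓ (H ⊓ centralizer ({x, y} : Set E)) : Subgroup E) := by
  have : Fact (Nat.Prime 2) := ⟨Nat.prime_two⟩
  obtain ⟨hg, hdec, -⟩ := hH.split h (hA hxA) hy hxy
  set B := A ⊓ (H ⊓ centralizer ({x, y} : Set E))
  have hc := special_commutatorElement_mem_center h.1
  let f : Fin 2 × B → A := fun t => ⟨x ^ (t.1 : ℕ) * (t.2 : E), mul_mem (pow_mem hxA _) t.2.2.1⟩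
  have hf : Function.Surjective f := by
    rintro ⟨g, hgA⟩
    obtain ⟨a, b, k, hk, rfl⟩ := hdec g (hA hgA)
    have hb : ⁅x, y⁆ ^ b = 1 := by
      have e : ⁅x, x ^ a * y ^ b * k⁆ = 1 :=
        commutatorElement_eq_one_iff_mul_comm.2 (hcomm x hxA _ hgA)
      have hxk : ⁅x, k⁆ = 1 :=
        commutatorElement_eq_one_iff_mul_comm.2 (esGood_centralize hk).1.eq
      rwa [commutatorElement_mul_right hc, commutatorElement_mul_right hc,
        commutatorElement_pow_right hc, commutatorElement_pow_right hc, commutatorElement_self,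
        one_pow, one_mul, hxk, mul_one] at e
    have hord : orderOf ⁅x, y⁆ = 2 :=
      orderOf_eq_prime (special_commutatorElement_pow h.1 x y) hxy
    obtain ⟨c, rfl⟩ : 2 ∣ b := hord ▸ orderOf_dvd_of_pow_eq_one hb
    have hxZ : (x ^ 2) ^ (a / 2) ∈ center E := pow_mem (es_two_sq_mem h x) _
    have hyZ : y ^ (2 * c) ∈ center E := by rw [pow_mul]; exact pow_mem (es_two_sq_mem h y) _
    have hrest : (x ^ 2) ^ (a / 2) * y ^ (2 * c) * k ∈ H ⊓ centralizer ({x, y} : Set E) :=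
      mul_mem (hg.1 ((center E).mul_mem hxZ hyZ)) hk
    have heq : x ^ (a % 2) * ((x ^ 2) ^ (a / 2) * y ^ (2 * c) * k) = x ^ a * y ^ (2 * c) * k := by
      conv_rhs => rw [← Nat.mod_add_div a 2, pow_add, pow_mul x]
      group
    refine ⟨(⟨a % 2, Nat.mod_lt _ (by norm_num)⟩, ⟨_, ?_, hrest⟩), Subtype.ext heq⟩
    rw [← eq_inv_mul_iff_mul_eq] at heq
    rw [heq]
    exact A.mul_mem (A.inv_mem (A.pow_mem hxA _)) hgA
  calc Nat.card A ≤ Nat.card (Fin 2 × B) := Nat.card_le_card_of_surjective f hf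
    _ = _ := by rw [Nat.card_prod, Nat.card_fin]

theorem two_le_card_good (h : Cfsg.IsExtraspecial 2 E) {H : Subgroup E} (hH : IsEsGood H) :
    2 ≤ Nat.card H :=
  h.2 ▸ Nat.le_of_dvd Nat.card_pos (card_dvd_of_le hH.1)

/-- Commutative subgroups have order at most `√(2|H|)`. -/
theorem comm_card_sq_le (h : Cfsg.IsExtraspecial 2 E) :
    ∀ (n : ℕ) (H A : Subgroup E), IsEsGood H → Nat.card H = n → A ≤ H →
      (∀ a ∈ A, ∀ b ∈ A, a * b = b * a) → Nat.card A ^ 2 ≤ 2 * n := by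
  have : Fact (Nat.Prime 2) := ⟨Nat.prime_two⟩
  intro n
  induction n using Nat.strong_induction_on with
  | _ n ih => ?_
  intro H A hH cH hA hcomm
  have h2 := two_le_card_good h hH
  have hle : Nat.card A ≤ Nat.card (A ⊔ center E : Subgroup E) :=
    Nat.le_of_dvd Nat.card_pos (card_dvd_of_le le_sup_left)
  set A' := A ⊔ center E
  refine (Nat.pow_le_pow_left hle 2).trans ?_
  by_cases hz : A' ≤ center E
  · have : Nat.card A' ≤ 2 := h.2 ▸ Nat.le_of_dvd Nat.card_pos (card_dvd_of_le hz)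
    calc Nat.card A' ^ 2 ≤ 2 ^ 2 := Nat.pow_le_pow_left this 2
      _ ≤ 2 * n := by omega
  obtain ⟨x, hxA, hxZ⟩ := SetLike.not_le_iff_exists.1 hz
  have hA' : A' ≤ H := sup_le hA hH.1
  obtain ⟨y, hy, hxy⟩ := hH.exists_noncommuting (hA' hxA) hxZ
  obtain ⟨g, -, -⟩ := hH.split h (hA' hxA) hy hxy
  obtain ⟨e, l⟩ := esGood_card_lt h hH (hA' hxA) hy hxy
  have hcomm' := comm_sup_center hcomm
  have h1 := card_le_two_mul_inf h hH hA' hcomm' hxA hy hxy
  have h2' := ih _ (cH ▸ l) _ (A' ⊓ (H ⊓ centralizer ({x, y} : Set E))) g rfl inf_le_right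
    fun a ha b hb => hcomm' a ha.1 b hb.1
  rw [← cH, e]
  calc Nat.card A' ^ 2
      ≤ (2 * Nat.card (A' ⊓ (H ⊓ centralizer ({x, y} : Set E)) : Subgroup E)) ^ 2 :=
        Nat.pow_le_pow_left h1 2
    _ ≤ _ := by rw [mul_pow]; omega

/-- An involution outside `H'` enlarges an elementary abelian subgroup of `H'`. -/
theorem ea2_enlarge {H : Subgroup E} {x y : E} (hx : x ∈ H) (hxy : ⁅x, y⁆ ≠ 1) (hx2 : x ^ 2 = 1)
    {A : Subgroup E} (hA : A ≤ H ⊓ centralizer ({x, y} : Set E)) (hE : IsEA2 A) :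
    ∃ B : Subgroup E, B ≤ H ∧ IsEA2 B ∧ 2 * Nat.card A ≤ Nat.card B := by
  have hcx : ∀ a ∈ A, Commute x a := fun a ha => (esGood_centralize (hA ha)).1
  have hxx : x⁻¹ = x := inv_eq_of_mul_eq_one_right (by rw [← pow_two]; exact hx2)
  let B : Subgroup E :=
    { carrier := {g | ∃ a ∈ A, g = a ∨ g = x * a}
      one_mem' := ⟨1, one_mem A, Or.inl rfl⟩
      mul_mem' := by
        rintro g g' ⟨a, ha, rfl | rfl⟩ ⟨b, hb, rfl | rfl⟩
        · exact ⟨_, mul_mem ha hb, Or.inl rfl⟩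
        · exact ⟨_, mul_mem ha hb, Or.inr (by rw [← mul_assoc, ← (hcx g ha).eq, mul_assoc])⟩
        · exact ⟨_, mul_mem ha hb, Or.inr (mul_assoc _ _ _)⟩
        · refine ⟨_, mul_mem ha hb, Or.inl ?_⟩
          rw [mul_assoc, ← mul_assoc a, ← (hcx a ha).eq, mul_assoc, ← mul_assoc, ← pow_two, hx2,
            one_mul]
      inv_mem' := by
        rintro g ⟨a, ha, rfl | rfl⟩
        · exact ⟨_, inv_mem ha, Or.inl rfl⟩
        · exact ⟨_, inv_mem ha, Or.inr (by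
            rw [mul_inv_rev, hxx, ((hcx a ha).inv_right).eq])⟩ }
  have hAB : A ≤ B := fun a ha => ⟨a, ha, Or.inl rfl⟩
  have hxB : x ∈ B := ⟨1, one_mem A, Or.inr (mul_one x).symm⟩
  have hxA : x ∉ A := fun hm =>
    hxy (commutatorElement_eq_one_iff_mul_comm.2 (esGood_centralize (hA hm)).2.eq.symm)
  refine ⟨B, ?_, ⟨?_, ?_⟩, ?_⟩
  · rintro g ⟨a, ha, rfl | rfl⟩
    · exact (hA ha).1
    · exact mul_mem hx (hA ha).1
  · rintro g ⟨a, ha, rfl | rfl⟩ g' ⟨b, hb, rfl | rfl⟩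
    · exact hE.1 _ ha _ hb
    · exact ((hcx g ha).symm.mul_right (hE.1 _ ha _ hb)).eq
    · exact ((hcx g' hb).mul_left (hE.1 _ ha _ hb)).eq
    · exact (((Commute.refl x).mul_right (hcx b hb)).mul_left
        ((hcx a ha).symm.mul_right (hE.1 _ ha _ hb))).eq
  · rintro g ⟨a, ha, rfl | rfl⟩
    · exact hE.2 _ ha
    · rw [(hcx a ha).mul_pow, hx2, hE.2 a ha, one_mul]
  · obtain ⟨k, hk⟩ := card_dvd_of_le hAB
    have hk1 : k ≠ 1 := by
      rintro rfl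
      rw [mul_one] at hk
      exact hxA (eq_of_le_of_card_ge hAB hk.le ▸ hxB)
    have hk0 : k ≠ 0 := by rintro rfl; exact Nat.card_pos.ne' (hk.trans (mul_zero _))
    rw [hk, mul_comm 2]
    exact Nat.mul_le_mul_left _ (by omega)

/-- There is an elementary abelian subgroup of order at least `√(|H|/2)`. -/
theorem exists_ea2_large (h : Cfsg.IsExtraspecial 2 E) :
    ∀ (n : ℕ) (H : Subgroup E), IsEsGood H → Nat.card H = n →
      ∃ A : Subgroup E, A ≤ H ∧ IsEA2 A ∧ n ≤ 2 * Nat.card A ^ 2 := by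
  have : Fact (Nat.Prime 2) := ⟨Nat.prime_two⟩
  intro n
  induction n using Nat.strong_induction_on with
  | _ n ih => ?_
  intro H hH cH
  by_cases h8 : n ≤ 8
  · exact ⟨center E, hH.1, ea2_center h, by rw [h.2]; omega⟩
  obtain ⟨b, x, y, P, t⟩ := es_two_exists_pair h hH (by omega)
  obtain rfl := t (by omega)
  obtain ⟨g, -, -⟩ := hH.split h P.1 P.2.1 P.2.2.1
  obtain ⟨e, l⟩ := esGood_card_lt h hH P.1 P.2.1 P.2.2.1
  obtain ⟨A, hA, hE, hn⟩ := ih _ (cH ▸ l) _ g rfl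
  obtain ⟨B, hB, hE', hm⟩ := ea2_enlarge P.1 P.2.2.1 (P.2.2.2.1.2 rfl) hA hE
  refine ⟨B, hB, hE', ?_⟩
  have := Nat.pow_le_pow_left hm 2
  rw [mul_pow] at this
  omega

theorem isPlus2_of_pair (h : Cfsg.IsExtraspecial 2 E) {H : Subgroup E} (hH : IsEsGood H)
    {x y : E} (hx : x ∈ H) (hy : y ∈ H) (hxy : ⁅x, y⁆ ≠ 1) (hx2 : x ^ 2 = 1)
    (hp : IsPlus2 (H ⊓ centralizer ({x, y} : Set E))) : IsPlus2 H := by
  have : Fact (Nat.Prime 2) := ⟨Nat.prime_two⟩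
  obtain ⟨A, hA, hE, hn⟩ := hp
  obtain ⟨B, hB, hE', hm⟩ := ea2_enlarge hx hxy hx2 hA hE
  refine ⟨B, hB, hE', ?_⟩
  obtain ⟨e, -⟩ := esGood_card_lt h hH hx hy hxy
  have := Nat.pow_le_pow_left hm 2
  rw [mul_pow] at this
  omega

theorem isPlus2_of_card_two (h : Cfsg.IsExtraspecial 2 E) {H : Subgroup E} (hH : IsEsGood H)
    (h2 : Nat.card H = 2) : IsPlus2 H :=
  ⟨center E, hH.1, ea2_center h, by rw [h.2, h2]; norm_num⟩

/-- In a subgroup of plus type the pair can be chosen to leave one of plus type. -/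
theorem exists_pair_plus (h : Cfsg.IsExtraspecial 2 E) {H : Subgroup E} (hH : IsEsGood H)
    (h2 : Nat.card H ≠ 2) (hp : IsPlus2 H) :
    ∃ x y, EsPair H true x y ∧ IsPlus2 (H ⊓ centralizer ({x, y} : Set E)) := by
  have : Fact (Nat.Prime 2) := ⟨Nat.prime_two⟩
  obtain ⟨A, hA, hE, hn⟩ := hp
  have hle : Nat.card A ≤ Nat.card (A ⊔ center E : Subgroup E) :=
    Nat.le_of_dvd Nat.card_pos (card_dvd_of_le le_sup_left)
  have hn' : 2 * Nat.card H ≤ Nat.card (A ⊔ center E : Subgroup E) ^ 2 :=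
    hn.trans (Nat.pow_le_pow_left hle 2)
  set A' := A ⊔ center E
  have hA' : A' ≤ H := sup_le hA hH.1
  have hE' : IsEA2 A' := ea2_sup_center h hE
  have h2' := two_le_card_good h hH
  have hz : ¬ A' ≤ center E := fun hz => by
    have : Nat.card A' ≤ 2 := h.2 ▸ Nat.le_of_dvd Nat.card_pos (card_dvd_of_le hz)
    have := Nat.pow_le_pow_left this 2
    omega
  obtain ⟨x, hxA, hxZ⟩ := SetLike.not_le_iff_exists.1 hz
  obtain ⟨y, hy, hxy, hy2⟩ := es_two_dihedral_pair h hH (hA' hxA) hxZ (hE'.2 x hxA)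
  refine ⟨x, y, ⟨hA' hxA, hy, hxy, by simp [hE'.2 x hxA], by simp [hy2]⟩,
    A' ⊓ (H ⊓ centralizer ({x, y} : Set E)), inf_le_right,
    ⟨fun a ha b hb => hE'.1 a ha.1 b hb.1, fun a ha => hE'.2 a ha.1⟩, ?_⟩
  obtain ⟨e, -⟩ := esGood_card_lt h hH (hA' hxA) hy hxy
  have h1 := card_le_two_mul_inf h hH hA' hE'.1 hxA hy hxy
  have h1' := Nat.pow_le_pow_left h1 2
  rw [mul_pow] at h1'
  omega

/-- Good subgroups of equal order and equal type are isomorphic. -/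
theorem esGood_iso_of_plus (h₁ : Cfsg.IsExtraspecial 2 E) (h₂ : Cfsg.IsExtraspecial 2 F) :
    ∀ (n : ℕ) (H : Subgroup E) (K : Subgroup F), IsEsGood H → IsEsGood K →
      Nat.card H = n → Nat.card K = n → (IsPlus2 H ↔ IsPlus2 K) → Nonempty (H ≃* K) := by
  have : Fact (Nat.Prime 2) := ⟨Nat.prime_two⟩
  intro n
  induction n using Nat.strong_induction_on with
  | _ n ih => ?_
  intro H K hH hK cH cK hiff
  by_cases hn2 : n = 2
  · exact ⟨mulEquivOfPrimeCardEq (p := 2) (cH.trans hn2) (cK.trans hn2)⟩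
  by_cases hp : IsPlus2 H
  · obtain ⟨x₁, y₁, P₁, q₁⟩ := exists_pair_plus h₁ hH (by omega) hp
    obtain ⟨x₂, y₂, P₂, q₂⟩ := exists_pair_plus h₂ hK (by omega) (hiff.1 hp)
    obtain ⟨e₁, l₁⟩ := esGood_card_lt h₁ hH P₁.1 P₁.2.1 P₁.2.2.1
    obtain ⟨e₂, -⟩ := esGood_card_lt h₂ hK P₂.1 P₂.2.1 P₂.2.2.1
    exact es_two_extend h₁ h₂ hH hK P₁ P₂ (ih _ (cH ▸ l₁) _ _
      (hH.split h₁ P₁.1 P₁.2.1 P₁.2.2.1).1 (hK.split h₂ P₂.1 P₂.2.1 P₂.2.2.1).1 rfl (by omega)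
      (iff_of_true q₁ q₂))
  · have hp' : ¬ IsPlus2 K := fun h => hp (hiff.2 h)
    obtain ⟨b₁, x₁, y₁, P₁, t₁⟩ := es_two_exists_pair h₁ hH (by omega)
    obtain ⟨b₂, x₂, y₂, P₂, t₂⟩ := es_two_exists_pair h₂ hK (by omega)
    have g₁ := (hH.split h₁ P₁.1 P₁.2.1 P₁.2.2.1).1
    have g₂ := (hK.split h₂ P₂.1 P₂.2.1 P₂.2.2.1).1
    obtain ⟨e₁, l₁⟩ := esGood_card_lt h₁ hH P₁.1 P₁.2.1 P₁.2.2.1
    obtain ⟨e₂, -⟩ := esGood_card_lt h₂ hK P₂.1 P₂.2.1 P₂.2.2.1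
    have u₁ := two_le_card_good h₁ g₁
    have u₂ := two_le_card_good h₂ g₂
    by_cases h8 : 8 < n
    · obtain rfl := t₁ (by omega)
      obtain rfl := t₂ (by omega)
      exact es_two_extend h₁ h₂ hH hK P₁ P₂ (ih _ (cH ▸ l₁) _ _ g₁ g₂ rfl (by omega)
        (iff_of_false (fun h => hp (isPlus2_of_pair h₁ hH P₁.1 P₁.2.1 P₁.2.2.1 (P₁.2.2.2.1.2 rfl) h))
          (fun h => hp' (isPlus2_of_pair h₂ hK P₂.1 P₂.2.1 P₂.2.2.1 (P₂.2.2.2.1.2 rfl) h))))
    · have c₁ : Nat.card (H ⊓ centralizer ({x₁, y₁} : Set E) : Subgroup E) = 2 := by omega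
      have c₂ : Nat.card (K ⊓ centralizer ({x₂, y₂} : Set F) : Subgroup F) = 2 := by omega
      have hb₁ : b₁ = false := by
        by_contra hb
        simp only [Bool.not_eq_false] at hb
        exact hp (isPlus2_of_pair h₁ hH P₁.1 P₁.2.1 P₁.2.2.1 (P₁.2.2.2.1.2 hb)
          (isPlus2_of_card_two h₁ g₁ c₁))
      have hb₂ : b₂ = false := by
        by_contra hb
        simp only [Bool.not_eq_false] at hb
        exact hp' (isPlus2_of_pair h₂ hK P₂.1 P₂.2.1 P₂.2.2.1 (P₂.2.2.2.1.2 hb)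
          (isPlus2_of_card_two h₂ g₂ c₂))
      subst hb₁ hb₂
      exact es_two_extend h₁ h₂ hH hK P₁ P₂ ⟨mulEquivOfPrimeCardEq (p := 2) c₁ c₂⟩

end CfsgLib.Coprime
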