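import Mathlib
import Cfsg.Agent.Lib.Transfer.UniqueOrderP
import Cfsg.Agent.Lib.Coprime.Sylow
import Cfsg.Agent.Lib.Solvable.Products
import Cfsg.Agent.Lib.Solvable.Nilpotent

/-!
In a faithful irreducible coprime action of a `p`-group, `p` odd, on an abelian group, some member of a generating
set fixes a subgroup of order at most the `p`-th root; products of two centralizers in coprime action.
-/

set_option autoImplicit false

namespace CfsgLib.Coprime.FixedCube

open Subgroup

theorem eq_bot_of_inf_center {P : Type*} [Group P] [Finite P] {p : ℕ} [Fact p.Prime] (hP : IsPGroup p P)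
    (N : Subgroup P) [N.Normal] (h : N ⊓ center P = ⊥) : N = ⊥ := by
  have : Group.IsNilpotent P := hP.isNilpotent
  by_contra hN
  exact CfsgLib.Solvable.normal_inf_center_ne_bot N hN h

section Abelian

variable {P V : Type*} [Group P] [CommGroup V] (φ : P →* MulAut V) {p : ℕ}

/-- product over the orbit of `a` -/
def orbitProd (p : ℕ) (a : P) : V →* V := ∏ j ∈ Finset.range p, (φ (a ^ j)).toMonoidHom

theorem orbitProd_apply (a : P) (v : V) : orbitProd φ p a v = ∏ j ∈ Finset.range p, φ (a ^ j) v := by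
  simp [orbitProd, MonoidHom.finsetProd_apply]

theorem act_orbitProd (c a : P) (v : V) :
    φ c (orbitProd φ p a v) = orbitProd φ p (c * a * c⁻¹) (φ c v) := by
  rw [orbitProd_apply, orbitProd_apply, map_prod]
  refine Finset.prod_congr rfl fun j _ => ?_
  rw [conj_pow, ← MulAut.mul_apply, ← MulAut.mul_apply, ← map_mul, ← map_mul]
  congr 2
  group

theorem fixed_orbitProd {a : P} (ha : a ^ p = 1) (v : V) : φ a (orbitProd φ p a v) = orbitProd φ p a v := by
  rw [orbitProd_apply, map_prod]
  have h1 : ∀ j : ℕ, φ a (φ (a ^ j) v) = φ (a ^ (j + 1)) v := fun j => by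
    rw [← MulAut.mul_apply, ← map_mul, pow_succ']
  simp only [h1]
  rcases Nat.eq_zero_or_pos p with rfl | hp
  · simp
  obtain ⟨m, rfl⟩ := Nat.exists_eq_succ_of_ne_zero hp.ne'
  rw [Finset.prod_range_succ, Finset.prod_range_succ', ha, pow_zero]

theorem orbitProd_of_fixed {a b : P} (hab : Commute a b) {w : V} (hw : φ b w = w) :
    orbitProd φ p (a * b) w = orbitProd φ p a w := by
  rw [orbitProd_apply, orbitProd_apply]
  refine Finset.prod_congr rfl fun j _ => ?_
  have hj : φ (b ^ j) w = w := by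
    clear ‹j ∈ _›
    induction j with
    | zero => simp
    | succ j ih => rw [pow_succ', map_mul, MulAut.mul_apply, ih, hw]
  rw [hab.mul_pow, map_mul, MulAut.mul_apply, hj]

variable [Finite P] [Finite V] [Fact p.Prime]

theorem fixed_bot_of_central (hinj : Function.Injective φ)
    (hirr : ∀ W : Subgroup V, (∀ g : P, ∀ w ∈ W, φ g w ∈ W) → W = ⊥ ∨ W = ⊤)
    {z : P} (hz : ∀ g : P, Commute g z) (hz1 : z ≠ 1) {v : V} (hv : φ z v = v) : v = 1 := by
  let W : Subgroup V :=
    { carrier := {w | φ z w = w}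
      one_mem' := map_one _
      mul_mem' := fun {a b} ha hb => show φ z (a * b) = a * b by rw [map_mul, ha, hb]
      inv_mem' := fun {a} ha => show φ z a⁻¹ = a⁻¹ by rw [map_inv, ha] }
  rcases hirr W (fun g w hw => show φ z (φ g w) = φ g w by
    rw [← MulAut.mul_apply, ← map_mul, ← (hz g).eq, map_mul, MulAut.mul_apply, hw]) with h | h
  · exact mem_bot.1 (h ▸ (hv : v ∈ W))
  · refine absurd (hinj (a₁ := z) (a₂ := 1) ?_) hz1
    rw [map_one]
    exact MulEquiv.ext fun w => (h ▸ mem_top w : w ∈ W)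

theorem exists_small_fixed (hp2 : p ≠ 2) (hP : IsPGroup p P) (hcop : (Nat.card V).Coprime p)
    (hinj : Function.Injective φ) [Nontrivial P] [Nontrivial V]
    (hirr : ∀ W : Subgroup V, (∀ g : P, ∀ w ∈ W, φ g w ∈ W) → W = ⊥ ∨ W = ⊤)
    (C : Set P) (hC : closure C = ⊤) :
    ∃ c ∈ C, Nat.card {v : V // φ c v = v} ^ 3 ≤ Nat.card V := by
  classical
  have hpow : ∀ {v : V}, v ^ p = 1 → v = 1 := fun {v} h => by
    have h1 : orderOf v ∣ p := orderOf_dvd_of_pow_eq_one h
    have h2 : orderOf v ∣ 1 := hcop ▸ Nat.dvd_gcd (orderOf_dvd_natCard v) h1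
    exact orderOf_eq_one_iff.1 (Nat.dvd_one.1 h2)
  have hp1 := (Fact.out : p.Prime).one_lt
  by_cases hcyc : IsCyclic P
  · obtain ⟨g, hg⟩ := hcyc.exists_generator
    obtain ⟨c, hc, hgen⟩ : ∃ c ∈ C, zpowers c = ⊤ := by
      obtain ⟨k, hk⟩ := IsPGroup.iff_card.1 hP
      have hk0 : k ≠ 0 := fun e => by
        rw [e, pow_zero] at hk
        exact absurd hk (Finite.one_lt_card (α := P)).ne'
      by_contra hno
      push Not at hno
      have hle : closure C ≤ zpowers (g ^ p) := (closure_le _).2 fun c hc => by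
        obtain ⟨m, rfl⟩ := mem_powers_iff_mem_zpowers.2 (hg c)
        by_cases hpm : p ∣ m
        · obtain ⟨r, rfl⟩ := hpm
          show g ^ (p * r) ∈ zpowers (g ^ p)
          rw [pow_mul]
          exact pow_mem (mem_zpowers _) r
        · refine absurd (eq_top_of_card_eq _ ?_) (hno _ hc)
          show Nat.card (zpowers (g ^ m)) = Nat.card P
          rw [Nat.card_zpowers, Nat.Coprime.orderOf_pow ?_, orderOf_eq_card_of_forall_mem_zpowers hg]
          rw [orderOf_eq_card_of_forall_mem_zpowers hg, hk]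
          exact Nat.Coprime.pow_left _ ((Fact.out : p.Prime).coprime_iff_not_dvd.2 hpm)
      rw [hC, top_le_iff] at hle
      have h1 : orderOf (g ^ p) = Nat.card P := by rw [← Nat.card_zpowers, hle, Subgroup.card_top]
      rw [orderOf_pow, orderOf_eq_card_of_forall_mem_zpowers hg, hk,
        Nat.gcd_eq_right (dvd_pow_self p hk0)] at h1
      exact absurd h1 (Nat.div_lt_self (pow_pos (Fact.out : p.Prime).pos k) hp1).ne
    refine ⟨c, hc, ?_⟩
    have hz : ∀ h : P, Commute h c := fun h => by
      obtain ⟨m, rfl⟩ := mem_zpowers_iff.1 (hgen ▸ mem_top h : h ∈ zpowers c)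
      exact ((Commute.refl c).zpow_left m)
    have hc1 : c ≠ 1 := fun e => by
      rw [e, zpowers_one_eq_bot] at hgen
      exact bot_ne_top hgen
    have : Subsingleton {v : V // φ c v = v} := ⟨fun a b => Subtype.ext (by
      rw [fixed_bot_of_central φ hinj hirr hz hc1 a.2, fixed_bot_of_central φ hinj hirr hz hc1 b.2])⟩
    have hone : Nat.card {v : V // φ c v = v} ≤ 1 := Finite.card_le_one_iff_subsingleton.2 this
    calc Nat.card {v : V // φ c v = v} ^ 3 ≤ 1 ^ 3 := Nat.pow_le_pow_left hone 3
      _ ≤ Nat.card V := by rw [one_pow]; exact Nat.card_pos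
  obtain ⟨A, hAn, hAc, hAe, hAcard⟩ := CfsgLib.Transfer.exists_normal_elementary_sq hp2 hP hcyc
  -- `A` is not central
  have hnc : ¬ A ≤ center P := by
    intro hAZ
    obtain ⟨v, hv⟩ := exists_ne (1 : V)
    have : Nontrivial A := Finite.one_lt_card_iff_nontrivial.1 (by rw [hAcard]; nlinarith)
    obtain ⟨⟨z, hzA⟩, hz1⟩ := exists_ne (1 : A)
    obtain ⟨e, heA, hez⟩ : ∃ e ∈ A, e ∉ zpowers z := by
      by_contra h
      push Not at h
      have h1 := card_le_of_le (H := A) (K := zpowers z) h
      rw [hAcard, Nat.card_zpowers] at h1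
      have h2 := Nat.le_of_dvd (by omega) (orderOf_dvd_of_pow_eq_one (hAe z hzA))
      nlinarith
    have hzc : ∀ g : P, Commute g z := fun g => mem_center_iff.1 (hAZ hzA) g
    have hz1' : z ≠ 1 := fun e => hz1 (Subtype.ext e)
    have hfix : ∀ i, orbitProd φ p (e * z ^ i) v = 1 := fun i => by
      have hmem : e * z ^ i ∈ A := mul_mem heA (pow_mem hzA i)
      refine fixed_bot_of_central φ hinj hirr (fun g => mem_center_iff.1 (hAZ hmem) g) ?_
        (fixed_orbitProd φ (hAe _ hmem) v)
      intro h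
      exact hez ((eq_inv_of_mul_eq_one_left h).symm ▸ inv_mem (pow_mem (mem_zpowers z) i))
    have hsum : ∀ j ∈ Finset.range p, ∏ i ∈ Finset.range p, φ ((e * z ^ i) ^ j) v =
        if j = 0 then v ^ p else 1 := by
      intro j hj
      split_ifs with h0
      · subst h0; simp [Finset.prod_const]
      · have hzj : z ^ j ≠ 1 := fun h => by
          have h2 := Nat.le_of_dvd (Nat.pos_of_ne_zero h0) (orderOf_dvd_of_pow_eq_one h)
          rw [orderOf_eq_prime (hAe z hzA) hz1'] at h2
          exact absurd (Finset.mem_range.1 hj) (by omega)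
        have e1 : ∀ i, φ ((e * z ^ i) ^ j) v = φ (e ^ j) (φ ((z ^ j) ^ i) v) := fun i => by
          rw [((hzc e).pow_right i).mul_pow, ← pow_mul, ← pow_mul, mul_comm i, map_mul, MulAut.mul_apply]
        simp only [e1]
        rw [← map_prod, ← orbitProd_apply φ (z ^ j) v,
          fixed_bot_of_central φ hinj hirr (fun g => (hzc g).pow_right j) hzj
            (fixed_orbitProd φ (by rw [← pow_mul, mul_comm, pow_mul, hAe z hzA, one_pow]) v), map_one]
    have htot : ∏ i ∈ Finset.range p, orbitProd φ p (e * z ^ i) v = v ^ p := by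
      simp only [orbitProd_apply]
      rw [Finset.prod_comm, Finset.prod_congr rfl hsum, Finset.prod_ite_eq' _ _ _,
        if_pos (Finset.mem_range.2 (by omega))]
    rw [Finset.prod_congr rfl (fun i _ => hfix i), Finset.prod_const_one] at htot
    exact hv (hpow htot.symm)
  -- `A ∩ Z(P)` has order `p`, and `P` centralizes `A` modulo it
  obtain ⟨e, heA, heZ⟩ := SetLike.not_le_iff_exists.1 hnc
  have hE : ¬ centralizer ({e} : Set P) = ⊤ := fun h => heZ (mem_center_iff.2 fun g =>
    (mem_centralizer_singleton_iff.1 (h ▸ mem_top g)))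
  obtain ⟨c, hc, hce⟩ : ∃ c ∈ C, c ∉ centralizer ({e} : Set P) := by
    by_contra h
    push Not at h
    exact hE (top_le_iff.1 (hC ▸ (closure_le _).2 h))
  refine ⟨c, hc, ?_⟩
  set z := e⁻¹ * (c * e * c⁻¹) with hzdef
  have hzA : z ∈ A := mul_mem (inv_mem heA) (hAn.conj_mem e heA c)
  have hz1 : z ≠ 1 := fun h => hce (mem_centralizer_singleton_iff.2 (by
    have h' : c * e * c⁻¹ = e := by rw [hzdef, inv_mul_eq_one] at h; exact h.symm
    exact mul_inv_eq_iff_eq_mul.1 h'))
  have hzZ : z ∈ center P := by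
    set Z := A ⊓ center P with hZ
    have hZn : Z.Normal := inferInstance
    set π := QuotientGroup.mk' Z
    have himg : Nat.card (A.map π) ∣ p ^ 2 := hAcard ▸ card_map_dvd _ _
    have hZne : Z ≠ ⊥ := by
      intro h
      have hA0 : A ≠ ⊥ := fun h0 => heZ (by rw [mem_bot.1 (h0 ▸ heA : e ∈ (⊥ : Subgroup P))]; exact one_mem _)
      exact hA0 (eq_bot_of_inf_center hP A h)
    have hmap : Nat.card (A.map π) * Nat.card Z = p ^ 2 := by
      rw [← hAcard, ← relIndex_ker, QuotientGroup.ker_mk', mul_comm, ← Subgroup.relIndex_bot_left Z,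
        Subgroup.relIndex_mul_relIndex _ _ _ bot_le inf_le_left, Subgroup.relIndex_bot_left]
    have hP' : IsPGroup p (P ⧸ Z) := hP.to_quotient Z
    have hsmall : Nat.card (A.map π) ≤ p := by
      obtain ⟨k, hk⟩ := IsPGroup.iff_card.1 (hP.to_subgroup Z)
      have hk0 : k ≠ 0 := fun e => hZne (by rw [e, pow_zero] at hk; exact card_eq_one.1 hk)
      rw [hk] at hmap
      have h1 : p ≤ p ^ k := Nat.le_self_pow hk0 p
      nlinarith
    have hcen : A.map π ≤ center (P ⧸ Z) := by
      have : (A.map π).Normal := hAn.map π (QuotientGroup.mk'_surjective Z)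
      by_contra h
      set W := A.map π ⊓ center (P ⧸ Z) with hW
      have hW1 : W ≠ ⊥ := fun h0 => h (by
        rw [eq_bot_of_inf_center hP' _ h0]; exact bot_le)
      obtain ⟨k, hk⟩ := IsPGroup.iff_card.1 (hP'.to_subgroup W)
      have hk0 : k ≠ 0 := fun e => hW1 (by rw [e, pow_zero] at hk; exact card_eq_one.1 hk)
      have h1 : Nat.card (A.map π) ≤ Nat.card W := hk ▸ hsmall.trans (Nat.le_self_pow hk0 p)
      exact h (le_trans (eq_of_le_of_card_ge inf_le_left h1).ge inf_le_right)
    have h1 : π e⁻¹ * (π c * π e * (π c)⁻¹) = 1 := by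
      rw [mem_center_iff.1 (hcen ⟨e, heA, rfl⟩) (π c)]
      simp
    have h2 : π z = 1 := by rw [hzdef, map_mul, map_mul, map_mul, map_inv π c]; exact h1
    exact ((QuotientGroup.eq_one_iff z).1 h2).2
  have hzc : ∀ g : P, Commute g z := fun g => mem_center_iff.1 hzZ g
  have hzp : z ^ p = 1 := hAe z hzA
  have hzord : orderOf z = p := orderOf_eq_prime hzp hz1
  have hconj : ∀ i : ℕ, c * (e * z ^ i) * c⁻¹ = e * z ^ (i + 1) := fun i => by
    have h1 : c * e * c⁻¹ = e * z := by rw [hzdef, mul_inv_cancel_left]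
    have h2 : c * z ^ i * c⁻¹ = z ^ i := by rw [((hzc c).pow_right i).eq, mul_inv_cancel_right]
    calc c * (e * z ^ i) * c⁻¹ = (c * e * c⁻¹) * (c * z ^ i * c⁻¹) := by group
      _ = e * z ^ (i + 1) := by rw [h1, h2, mul_assoc, ← pow_succ']
  have hπfix : ∀ (i : ℕ) (v : V), φ (e * z ^ i) (orbitProd φ p (e * z ^ i) v) = orbitProd φ p (e * z ^ i) v :=
    fun i v => fixed_orbitProd φ (hAe _ (mul_mem heA (pow_mem hzA i))) v
  have hzz : ∀ (m : ℕ) (w : V), z ^ m ≠ 1 → orbitProd φ p (z ^ m) w = 1 := fun m w hm =>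
    fixed_bot_of_central φ hinj hirr (fun g => (hzc g).pow_right m) hm
      (fixed_orbitProd φ (by rw [← pow_mul, mul_comm, pow_mul, hzp, one_pow]) w)
  -- orthogonality
  have horth : ∀ (i l : ℕ) (v : V), orbitProd φ p (e * z ^ l) (orbitProd φ p (e * z ^ i) v) =
      if z ^ l = z ^ i then orbitProd φ p (e * z ^ i) v ^ p else 1 := by
    intro i l v
    set w := orbitProd φ p (e * z ^ i) v with hw
    have hfix : φ (e * z ^ i) w = w := hπfix i v
    split_ifs with h
    · have hj : ∀ j : ℕ, φ ((e * z ^ i) ^ j) w = w := by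
        intro j
        induction j with
        | zero => simp
        | succ j ih => rw [pow_succ', map_mul, MulAut.mul_apply, ih, hfix]
      rw [h, orbitProd_apply, Finset.prod_congr rfl (fun j _ => hj j), Finset.prod_const, Finset.card_range]
    · obtain ⟨m, hm⟩ := mem_powers_iff_mem_zpowers.2
        (mul_mem (pow_mem (mem_zpowers z) l) (inv_mem (pow_mem (mem_zpowers z) i)))
      have hm' : z ^ m = z ^ l * (z ^ i)⁻¹ := hm
      have e1 : e * z ^ l = z ^ m * (e * z ^ i) := by
        rw [hm', mul_assoc, ← mul_assoc (z ^ i)⁻¹, ((hzc e).pow_right i).inv_right.symm.eq, mul_assoc,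
          inv_mul_cancel, mul_one, ((hzc e).pow_right l).eq]
      rw [e1, orbitProd_of_fixed φ ((hzc (e * z ^ i)).pow_right m).symm hfix]
      exact hzz m w (fun h1 => h (mul_inv_eq_one.1 (hm' ▸ h1)))
  -- `c`-fixed vectors are determined by one component
  have hdet : ∀ (l : ℕ) (v : V), φ c v = v → orbitProd φ p (e * z ^ l) v = 1 → v = 1 := by
    intro l v hv h1
    have hall : ∀ t : ℕ, orbitProd φ p (e * z ^ (l + t)) v = 1 := by
      intro t
      induction t with
      | zero => exact h1
      | succ t ih =>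
        have := act_orbitProd φ (p := p) c (e * z ^ (l + t)) v
        rw [ih, map_one, hconj, hv] at this
        rw [show l + (t + 1) = l + t + 1 by ring]
        exact this.symm
    have hsum : ∀ j ∈ Finset.range p, ∏ t ∈ Finset.range p, φ ((e * z ^ (l + t)) ^ j) v =
        if j = 0 then v ^ p else 1 := by
      intro j hj
      split_ifs with h0
      · subst h0; simp [Finset.prod_const]
      · have hzj : z ^ j ≠ 1 := fun h => by
          have h2 := Nat.le_of_dvd (Nat.pos_of_ne_zero h0) (orderOf_dvd_of_pow_eq_one h)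
          rw [hzord] at h2
          exact absurd (Finset.mem_range.1 hj) (by omega)
        have e1 : ∀ t, φ ((e * z ^ (l + t)) ^ j) v = φ ((e * z ^ l) ^ j) (φ ((z ^ j) ^ t) v) := fun t => by
          rw [pow_add, ← mul_assoc, ((hzc (e * z ^ l)).pow_right t).mul_pow, ← pow_mul, ← pow_mul, mul_comm t,
            map_mul, MulAut.mul_apply]
        simp only [e1]
        rw [← map_prod, ← orbitProd_apply φ (z ^ j) v, hzz j v hzj, map_one]
    have htot : ∏ t ∈ Finset.range p, orbitProd φ p (e * z ^ (l + t)) v = v ^ p := by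
      simp only [orbitProd_apply]
      rw [Finset.prod_comm, Finset.prod_congr rfl hsum, Finset.prod_ite_eq' _ _ _,
        if_pos (Finset.mem_range.2 (by omega))]
    rw [Finset.prod_congr rfl (fun t _ => hall t), Finset.prod_const_one] at htot
    exact hpow htot.symm
  let Φ : (Fin p → {v : V // φ c v = v}) → V := fun u => ∏ i : Fin p, orbitProd φ p (e * z ^ (i : ℕ)) (u i).1
  have hΦ : Function.Injective Φ := by
    intro u u' h
    funext l
    refine Subtype.ext ?_
    have hl : ∀ w : Fin p → {v : V // φ c v = v},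
        orbitProd φ p (e * z ^ (l : ℕ)) (Φ w) = orbitProd φ p (e * z ^ (l : ℕ)) (w l).1 ^ p := by
      intro w
      rw [map_prod, Finset.prod_eq_single l]
      · rw [horth, if_pos rfl]
      · intro i _ hil
        rw [horth, if_neg]
        intro hzi
        exact hil (Fin.ext (pow_injOn_Iio_orderOf (by simp [hzord]) (by simp [hzord]) hzi.symm))
      · exact fun h => absurd (Finset.mem_univ l) h
    have h2 := (hl u).symm.trans ((congrArg _ h).trans (hl u'))
    have h3 : orbitProd φ p (e * z ^ (l : ℕ)) ((u l).1 * (u' l).1⁻¹) = 1 :=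
      hpow (by rw [map_mul, map_inv, mul_pow, inv_pow, h2, mul_inv_cancel])
    exact mul_inv_eq_one.1 (hdet _ _ (by rw [map_mul, map_inv, (u l).2, (u' l).2]) h3)
  have h4 := Nat.card_le_card_of_injective Φ hΦ
  rw [Nat.card_fun, Nat.card_fin] at h4
  refine le_trans (Nat.pow_le_pow_right ?_ ?_) h4
  · have : Nonempty {v : V // φ c v = v} := ⟨⟨1, map_one _⟩⟩
    exact Nat.card_pos
  · have := (Fact.out : p.Prime).two_le
    omega

end Abelian

end CfsgLib.Coprime.FixedCube
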