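import Cfsg.Agent.Lib.Coprime.Generation
import Cfsg.Agent.Lib.Coprime.Sylow
import Cfsg.Agent.Lib.PGroup.Uniserial
import Cfsg.Agent.Lib.OddLocal.Norm
import Cfsg.Agent.Lib.Comp.Normalize
import Cfsg.Agent.Lib.OddLocal.FixedPointLemma
set_option autoImplicit false

/-!
For a coprime action of a group `P = ⟨x⟩` of odd prime order on a solvable group `H`, the fixed
points in `[H, P]` are generated by the fixed points in the subgroups `[h, P]`.
-/

namespace CfsgLib.Coprime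

open Subgroup
open scoped commutatorElement

universe u

variable {X : Type u} [Group X]

/-- `[h, P]` for `P = ⟨x⟩`. -/
def twist (x h : X) : Subgroup X := closure {c | ∃ i : ℕ, c = ⁅h⁻¹, x ^ i⁆}

/-- The subgroup generated by the fixed points in the `[h, P]`. -/
def fixGen (H : Subgroup X) (x : X) : Subgroup X :=
  ⨆ h ∈ H, twist x h ⊓ centralizer (zpowers x : Set X)

theorem le_fixGen {H : Subgroup X} {x h : X} (hh : h ∈ H) :
    twist x h ⊓ centralizer (zpowers x : Set X) ≤ fixGen H x :=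
  le_iSup₂ (f := fun h (_ : h ∈ H) => twist x h ⊓ centralizer (zpowers x : Set X)) h hh

theorem fixGen_mono {H L : Subgroup X} (x : X) (h : L ≤ H) : fixGen L x ≤ fixGen H x :=
  iSup₂_le fun _ hl => le_fixGen (h hl)

theorem twist_le {H : Subgroup X} {x h : X} (hh : h ∈ H) : twist x h ≤ ⁅H, zpowers x⁆ := by
  rw [twist, closure_le]
  rintro _ ⟨i, rfl⟩
  exact commutator_mem_commutator (inv_mem hh) (pow_mem (mem_zpowers x) i)

theorem twist_le_self {H : Subgroup X} {x h : X} (hx : x ∈ normalizer (H : Set X)) (hh : h ∈ H) :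
    twist x h ≤ H :=
  (twist_le hh).trans (le_normalizer_iff_commutator_le_left.1 (zpowers_le.2 hx))

theorem fixGen_le {H : Subgroup X} {x : X} (hx : x ∈ normalizer (H : Set X)) :
    fixGen H x ≤ H ⊓ centralizer (zpowers x : Set X) :=
  iSup₂_le fun _ hh => inf_le_inf_right _ (twist_le_self hx hh)

theorem map_twist {Y : Type*} [Group Y] (f : X →* Y) (x h : X) :
    (twist x h).map f = twist (f x) (f h) := by
  rw [twist, twist, MonoidHom.map_closure]
  congr 1
  ext c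
  constructor
  · rintro ⟨_, ⟨i, rfl⟩, rfl⟩
    exact ⟨i, by rw [map_commutatorElement, map_inv, map_pow]⟩
  · rintro ⟨i, rfl⟩
    exact ⟨_, ⟨i, rfl⟩, by rw [map_commutatorElement, map_inv, map_pow]⟩

theorem map_fixGen_le {Y : Type*} [Group Y] (f : X →* Y) (H : Subgroup X) (x : X) :
    (fixGen H x).map f ≤ fixGen (H.map f) (f x) := by
  rw [map_le_iff_le_comap, fixGen, iSup₂_le_iff]
  intro h hh
  rw [← map_le_iff_le_comap]
  refine le_trans ?_ (le_fixGen (mem_map_of_mem f hh))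
  rw [← map_twist]
  refine le_inf (map_mono inf_le_left) ?_
  rintro _ ⟨c, hc, rfl⟩
  refine mem_centralizer_iff.2 fun a ha => ?_
  rw [← MonoidHom.map_zpowers] at ha
  obtain ⟨b, hb, rfl⟩ := ha
  rw [← map_mul, ← map_mul, mem_centralizer_iff.1 hc.2 b hb]

theorem commutator_zpowers_le_iSup_twist [Finite X] (H : Subgroup X) (x : X) :
    ⁅H, zpowers x⁆ ≤ ⨆ h ∈ H, twist x h := by
  refine commutator_le.2 fun g hg a ha => ?_
  obtain ⟨i, rfl⟩ := Submonoid.mem_powers_iff _ _ |>.1 (mem_powers_iff_mem_zpowers.2 ha)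
  refine le_iSup₂ (f := fun h (_ : h ∈ H) => twist x h) g⁻¹ (inv_mem hg) (subset_closure ⟨i, ?_⟩)
  rw [inv_inv]

theorem mem_normalizer_twist [Finite X] (x h : X) : x ∈ normalizer (twist x h : Set X) := by
  rw [mem_normalizer_iff_map_conj]
  refine eq_of_le_of_card_ge ?_ (card_map_conj x _).ge
  rw [map_le_iff_le_comap, twist, closure_le]
  rintro _ ⟨i, rfl⟩
  show x * ⁅h⁻¹, x ^ i⁆ * x⁻¹ ∈ twist x h
  rw [show x * ⁅h⁻¹, x ^ i⁆ * x⁻¹ = ⁅h⁻¹, x ^ 1⁆⁻¹ * ⁅h⁻¹, x ^ (i + 1)⁆ by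
    simp only [commutatorElement_def, pow_one, pow_succ']; group]
  exact mul_mem (inv_mem (subset_closure ⟨1, rfl⟩)) (subset_closure ⟨i + 1, rfl⟩)

theorem conj_mem_fixGen {H : Subgroup X} {x c d : X} (hc : c ∈ H) (hcx : c ∈ centralizer (zpowers x : Set X))
    (hd : d ∈ fixGen H x) : c * d * c⁻¹ ∈ fixGen H x := by
  have h : fixGen H x ≤ (fixGen H x).comap (MulAut.conj c).toMonoidHom := by
    refine iSup₂_le fun h hh y hy => ?_
    refine le_fixGen (mul_mem (mul_mem hc hh) (inv_mem hc)) (mem_inf.2 ⟨?_, mul_mem (mul_mem hcx hy.2) (inv_mem hcx)⟩)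
    have e : (MulAut.conj c).toMonoidHom x = x := by
      show c * x * c⁻¹ = x
      rw [← mem_centralizer_iff.1 hcx x (mem_zpowers x), mul_inv_cancel_right]
    have h1 := mem_map_of_mem (MulAut.conj c).toMonoidHom hy.1
    rw [map_twist, e] at h1
    exact h1
  exact h hd

variable [Finite X] {p : ℕ} [hp : Fact p.Prime] {x : X}

omit [Finite X] in
theorem coprime_zpowers (hx : x ^ p = 1) {H : Subgroup X} (hcop : (Nat.card H).Coprime p) :
    (Nat.card (zpowers x)).Coprime (Nat.card H) := by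
  rw [Nat.card_zpowers]
  exact hcop.symm.coprime_dvd_left (orderOf_dvd_of_pow_eq_one hx)

omit hp in
theorem isSolvable_zpowers (x : X) : Group.IsSolvable (zpowers x) :=
  Group.isSolvable_of_comm fun ⟨a, ha⟩ ⟨b, hb⟩ => Subtype.ext (by
    obtain ⟨i, rfl⟩ := mem_zpowers_iff.1 ha
    obtain ⟨j, rfl⟩ := mem_zpowers_iff.1 hb
    exact ((Commute.refl x).zpow_zpow i j).eq)

/-- `[K, P] = K` for `K = [h, P]`. -/
theorem commutator_twist (hx : x ^ p = 1) {H : Subgroup X} (hxH : x ∈ normalizer (H : Set X))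
    (hcop : (Nat.card H).Coprime p) {h : X} (hh : h ∈ H) :
    ⁅twist x h, zpowers x⁆ = twist x h := by
  refine le_antisymm (le_normalizer_iff_commutator_le_left.1 (zpowers_le.2 (mem_normalizer_twist x h))) ?_
  obtain ⟨n, hn, hc⟩ := exists_mem_centralizer_of_coset (N := twist x h) (zpowers_le.2 hxH)
    (zpowers_le.2 (mem_normalizer_twist x h)) (twist_le_self hxH hh) (coprime_zpowers hx hcop)
    (Or.inl (isSolvable_zpowers x)) hh (fun a ha => by
      obtain ⟨i, rfl⟩ := Submonoid.mem_powers_iff _ _ |>.1 (mem_powers_iff_mem_zpowers.2 ha)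
      exact subset_closure ⟨i, by rw [commutatorElement_def, inv_inv]⟩)
  conv_lhs => rw [twist]
  rw [closure_le]
  rintro _ ⟨i, rfl⟩
  have e : x ^ i * (h * n) = (h * n) * x ^ i := mem_centralizer_iff.1 hc _ (pow_mem (mem_zpowers x) i)
  have e2 : (h * n)⁻¹ * x ^ i * (h * n) = x ^ i := by rw [mul_assoc, e, inv_mul_cancel_left]
  rw [show ⁅h⁻¹, x ^ i⁆ = ⁅n, x ^ i⁆ by
    rw [commutatorElement_def, commutatorElement_def, inv_inv]
    calc h⁻¹ * x ^ i * h * (x ^ i)⁻¹ = n * ((h * n)⁻¹ * x ^ i * (h * n)) * n⁻¹ * (x ^ i)⁻¹ := by group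
      _ = _ := by rw [e2]]
  exact commutator_mem_commutator hn (pow_mem (mem_zpowers x) i)

/-- The statement, for one pair. -/
def FixedGenerated (H : Subgroup X) (x : X) : Prop :=
  ⁅H, zpowers x⁆ ⊓ centralizer (zpowers x : Set X) ≤ fixGen H x

/-- The induction hypothesis. -/
def Below (p n : ℕ) : Prop :=
  ∀ (Y : Type u) [Group Y] [Finite Y] (H : Subgroup Y) (x : Y), Nat.card H < n → x ^ p = 1 →
    x ∈ normalizer (H : Set Y) → Group.IsSolvable H → (Nat.card H).Coprime p → FixedGenerated H x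

omit hp in
theorem pow_index_mem_of_central {G : Type*} [Group G] [Finite G] (S : Subgroup G) (U : Subgroup S)
    (hc : ∀ a b : S, ⁅a, b⁆ ∈ U) {z : G} (hz : z ∈ center G) (hz' : z ∈ commutator G) :
    ∃ h : z ^ S.index ∈ S, (⟨z ^ S.index, h⟩ : S) ∈ U := by
  have key : ∀ (k : ℕ) (g₀ : G), g₀⁻¹ * z ^ k * g₀ ∈ S → g₀⁻¹ * z ^ k * g₀ = z ^ k := fun k g₀ _ => by
    rw [mul_assoc, ← mem_center_iff.1 (pow_mem hz k) g₀, inv_mul_cancel_left]
  have hU : U.Normal := ⟨fun n hn g => by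
    rw [show g * n * g⁻¹ = ⁅g, n⁆ * n by rw [commutatorElement_def]; group]
    exact mul_mem (hc g n) hn⟩
  let _ : CommGroup (S ⧸ U) :=
    { (inferInstance : Group (S ⧸ U)) with
      mul_comm := by
        intro a b
        induction a using QuotientGroup.induction_on with
        | H a => induction b using QuotientGroup.induction_on with
          | H b =>
            refine QuotientGroup.eq.2 ?_
            rw [show (a * b)⁻¹ * (b * a) = ⁅b⁻¹, a⁻¹⁆ by rw [commutatorElement_def]; group]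
            exact hc _ _ }
  refine ⟨MonoidHom.transfer_eq_pow_aux z key, ?_⟩
  have h1 : MonoidHom.transfer (QuotientGroup.mk' U) z = 1 := Abelianization.commutator_subset_ker _ hz'
  rw [MonoidHom.transfer_eq_pow _ z key] at h1
  exact (QuotientGroup.eq_one_iff _).1 h1

variable {H : Subgroup X} (hp2 : p ≠ 2) (hx : x ^ p = 1) (hxH : x ∈ normalizer (H : Set X))
  (hsol : Group.IsSolvable H) (hcop : (Nat.card H).Coprime p) (hfull : ⁅H, zpowers x⁆ = H)
  (ih : Below.{u} p (Nat.card H))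

section
include hx hsol hcop ih

theorem sub_le {L : Subgroup X} (hL : L ≤ H) (hxL : x ∈ normalizer (L : Set X)) (hne : L ≠ H) :
    ⁅L, zpowers x⁆ ⊓ centralizer (zpowers x : Set X) ≤ fixGen H x :=
  (ih X L x (lt_of_le_of_ne (card_le_of_le hL) fun e => hne (eq_of_le_of_card_ge hL e.ge)) hx hxL
    (isSolvable_of_le hsol hL) (hcop.coprime_dvd_left (card_dvd_of_le hL))).trans (fixGen_mono x hL)

include hxH hfull

set_option maxHeartbeats 800000 in
theorem quotient_step {N : Subgroup X} (hNH : N ≤ H) (hHN : H ≤ normalizer (N : Set X))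
    (hxN : x ∈ normalizer (N : Set X)) (hne : N ≠ ⊥) :
    H ⊓ centralizer (zpowers x : Set X) ≤ fixGen H x ⊔ (N ⊓ centralizer (zpowers x : Set X)) := by
  intro c hc
  set Y := normalizer (N : Set X) with hY
  let x' : Y := ⟨x, hxN⟩
  let H' : Subgroup Y := H.subgroupOf Y
  let f : Y →* Y ⧸ N.subgroupOf Y := QuotientGroup.mk' _
  have hH' : H'.map Y.subtype = H := subgroupOf_map_subtype H Y ▸ inf_eq_left.2 hHN
  have hcardH' : Nat.card H' = Nat.card H := Nat.card_congr (subgroupOfEquivOfLe hHN).toEquiv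
  have hxH' : x' ∈ normalizer (H' : Set Y) := mem_normalizer_iff.2 fun y =>
    mem_normalizer_iff.1 hxH (y : X)
  have hP : (zpowers x').map Y.subtype = zpowers x := MonoidHom.map_zpowers _ _
  have hcop' : (Nat.card H').Coprime p := hcardH' ▸ hcop
  have hx' : x' ^ p = 1 := Subtype.ext hx
  have hsol' : Group.IsSolvable H' := isSolvable_subgroupOf hHN hsol
  have hfull' : ⁅H', zpowers x'⁆ = H' := by
    apply Subgroup.map_injective Y.subtype_injective
    rw [map_commutator, hH', hP, hfull]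
  -- the image is smaller
  have hlt : Nat.card (H'.map f) < Nat.card H := by
    have h1 : Nat.card H' = Nat.card (f.comp H'.subtype).ker * (f.comp H'.subtype).ker.index :=
      (card_mul_index _).symm
    rw [index_ker, MonoidHom.range_comp, range_subtype] at h1
    rw [← hcardH', h1]
    refine lt_mul_left Nat.card_pos ?_
    obtain ⟨⟨n, hn⟩, hn1⟩ := (N.ne_bot_iff_exists_ne_one).1 hne
    refine (one_lt_card_iff_ne_bot _).2 fun e => hn1 ?_
    have hm : (⟨⟨n, hHN (hNH hn)⟩, hNH hn⟩ : H') ∈ (f.comp H'.subtype).ker :=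
      (QuotientGroup.eq_one_iff _).2 hn
    rw [e, mem_bot] at hm
    exact Subtype.ext (congrArg (fun y : H' => ((y : Y) : X)) hm)
  have a1 : f x' ^ p = 1 := by rw [← map_pow, hx', map_one]
  have a2 : f x' ∈ normalizer ((H'.map f : Subgroup (Y ⧸ N.subgroupOf Y)) : Set (Y ⧸ N.subgroupOf Y)) :=
    le_normalizer_map f (mem_map_of_mem f hxH')
  have a3 : Group.IsSolvable (H'.map f) := isSolvable_map f hsol'
  have a4 : (Nat.card (H'.map f)).Coprime p :=
    Nat.Coprime.coprime_dvd_left (Subgroup.card_map_dvd H' f) hcop'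
  have hT : FixedGenerated (H'.map f) (f x') :=
    ih (Y ⧸ N.subgroupOf Y) (H'.map f) (f x') hlt a1 a2 a3 a4
  let c' : Y := ⟨c, hHN hc.1⟩
  have hcf : f c' ∈ ⁅H'.map f, zpowers (f x')⁆ ⊓ centralizer (zpowers (f x') : Set (Y ⧸ N.subgroupOf Y)) := by
    rw [← MonoidHom.map_zpowers, ← map_commutator, hfull']
    refine mem_inf.2 ⟨mem_map_of_mem f (show c' ∈ H' from hc.1), mem_centralizer_iff.2 ?_⟩
    rintro _ ⟨a, ha, rfl⟩
    rw [← map_mul, ← map_mul]
    exact congrArg f (Subtype.ext (mem_centralizer_iff.1 hc.2 a (hP ▸ mem_map_of_mem Y.subtype ha)))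
  have hlift : fixGen (H'.map f) (f x') ≤ (fixGen H' x').map f := by
    refine iSup₂_le fun h hh => ?_
    obtain ⟨h₀, hh₀, rfl⟩ := hh
    refine le_trans (le_of_eq ?_) (map_mono (le_fixGen hh₀))
    rw [map_inf_centralizer f (zpowers_le.2 (mem_normalizer_twist x' h₀))
      (coprime_zpowers hx' (hcop'.coprime_dvd_left (card_dvd_of_le (twist_le_self hxH' hh₀))))
      (Or.inl (isSolvable_zpowers x')), map_twist, MonoidHom.map_zpowers]
  obtain ⟨d, hd, hdc⟩ := hlift (hT hcf)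
  have hdH : (d : X) ∈ fixGen H x := by
    have h1 := map_fixGen_le Y.subtype H' x' (mem_map_of_mem Y.subtype hd)
    rwa [hH'] at h1
  have hdHC := fixGen_le hxH hdH
  have hn : (d : X)⁻¹ * c ∈ N := by
    have h1 : f (d⁻¹ * c') = 1 := by rw [map_mul, map_inv, hdc, inv_mul_cancel]
    exact ((QuotientGroup.eq_one_iff (N := N.subgroupOf Y) (d⁻¹ * c')).1 h1 : _)
  rw [show c = (d : X) * ((d : X)⁻¹ * c) by group]
  exact mul_mem (mem_sup_left hdH) (mem_sup_right (mem_inf.2 ⟨hn, mul_mem (inv_mem hdHC.2) hc.2⟩))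

end

omit [Finite X] in
theorem le_normalizer_of_abelian {M L : Subgroup X} (hM : IsMulCommutative M) (hL : L ≤ M) :
    M ≤ normalizer (L : Set X) := fun m hm => by
  rw [mem_normalizer_iff]
  intro y
  constructor <;> intro hy
  · have e : m * y = y * m := congrArg Subtype.val (hM.is_comm.comm ⟨m, hm⟩ ⟨y, hL hy⟩)
    rwa [e, mul_inv_cancel_right]
  · have hy' : y ∈ M := by
      have := mul_mem (mul_mem (inv_mem hm) (hL hy)) hm
      simpa [mul_assoc] using this
    have e : m * y = y * m := congrArg Subtype.val (hM.is_comm.comm ⟨m, hm⟩ ⟨y, hy'⟩)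
    rwa [e, mul_inv_cancel_right] at hy

omit [Finite X] in
theorem mem_normalizer_centralizer (M : Subgroup X) {g : X} (hg : g ∈ normalizer (M : Set X)) :
    g ∈ normalizer (centralizer (M : Set X) : Set X) := by
  have key : ∀ g ∈ normalizer (M : Set X), ∀ y ∈ centralizer (M : Set X), g * y * g⁻¹ ∈ centralizer (M : Set X) := by
    intro g hg y hy
    refine mem_centralizer_iff.2 fun m hm => ?_
    have e := mem_centralizer_iff.1 hy (g⁻¹ * m * g) ((mem_normalizer_iff''.1 hg m).1 hm)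
    calc m * (g * y * g⁻¹) = g * ((g⁻¹ * m * g) * y) * g⁻¹ := by group
      _ = _ := by rw [e]; group
  exact mem_normalizer_iff.2 fun y => ⟨key g hg y, fun hy => by
    simpa [mul_assoc] using key g⁻¹ (inv_mem hg) _ hy⟩

/-- The part of `M` known to lie in the right place. -/
def goodPart (H M : Subgroup X) (x : X) : Subgroup X := ⁅M, zpowers x⁆ ⊔ (M ⊓ fixGen H x)

section
include hx hcop

theorem le_goodPart {M V : Subgroup X} (hMH : M ≤ H) (hVM : V ≤ M) (hxV : x ∈ normalizer (V : Set X))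
    (hV : V ⊓ centralizer (zpowers x : Set X) ≤ fixGen H x) : V ≤ goodPart H M x := by
  intro v hv
  obtain ⟨n, hn, c, hc, rfl⟩ := exists_mul_eq' (zpowers_le.2 hxV)
    (coprime_zpowers hx (hcop.coprime_dvd_left (card_dvd_of_le (hVM.trans hMH)))) (Or.inl (isSolvable_zpowers x)) hv
  exact mul_mem (mem_sup_left (commutator_mono hVM le_rfl hn)) (mem_sup_right ⟨hVM hc.1, hV hc⟩)

include hxH

theorem fixed_le_of_le_goodPart {M : Subgroup X} (hMH : M ≤ H) (hM : IsMulCommutative M)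
    (hxM : x ∈ normalizer (M : Set X)) (hle : M ≤ goodPart H M x) :
    M ⊓ centralizer (zpowers x : Set X) ≤ fixGen H x := by
  intro c hc
  have hW : ⁅M, zpowers x⁆ ≤ M := le_normalizer_iff_commutator_le_left.1 (zpowers_le.2 hxM)
  obtain ⟨n, hn, d, hd, rfl⟩ :=
    (mem_sup_of_le_normalizer (inf_le_left.trans (le_normalizer_of_abelian hM hW))).1 (hle hc.1)
  have hnC : n ∈ centralizer (zpowers x : Set X) := by
    rw [show n = n * d * d⁻¹ by group]
    exact mul_mem hc.2 (inv_mem (fixGen_le hxH hd.2).2)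
  have h1 : n ∈ (⊥ : Subgroup X) := commutator_inf_centralizer_eq_bot hM (zpowers_le.2 hxM)
    (coprime_zpowers hx (hcop.coprime_dvd_left (card_dvd_of_le hMH))) ▸ (⟨hn, hnC⟩ : n ∈ ⁅M, zpowers x⁆ ⊓ _)
  rw [mem_bot.1 h1, one_mul]
  exact hd.2

end

omit [Finite X] hp in
theorem conj_div_mem_goodPart {H M : Subgroup X} {x m : X} (hm : m ∈ M) :
    m * (x * m * x⁻¹)⁻¹ ∈ goodPart H M x := by
  refine mem_sup_left ?_
  rw [show m * (x * m * x⁻¹)⁻¹ = ⁅m, x⁆ by rw [commutatorElement_def]; group]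
  exact commutator_mem_commutator hm (mem_zpowers x)

theorem twoStep_identity {G : Type*} [CommGroup G] (f g : G →* G) (hfg : ∀ m, f (g m) = m) (m : G) :
    f (f (m * (g (g m))⁻¹) * (m * (g (g m))⁻¹)⁻¹) * (f (m * (g (g m))⁻¹) * (m * (g (g m))⁻¹)⁻¹)⁻¹ =
      g m * m⁻¹ * f (f m * m⁻¹) * (f m * m⁻¹ * g (g m * m⁻¹))⁻¹ := by
  simp only [map_mul, map_inv, hfg]
  clear hfg
  apply (Additive.ofMul (α := G)).injective
  simp only [ofMul_mul, ofMul_inv]
  abel

/-- The linear algebra: an equation on all commutators forces `a` to normalize `[M, P]`. -/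
theorem mem_normalizer_commutator_of_equation (hp2 : p ≠ 2) (hx : x ^ p = 1) {M : Subgroup X}
    (hMcop : (Nat.card M).Coprime p) (hM : IsMulCommutative M) (hxM : x ∈ normalizer (M : Set X)) {a : X}
    (haM : a ∈ normalizer (M : Set X))
    (heq : ∀ m ∈ M, (a * ((x * m * x⁻¹) * m⁻¹) * a⁻¹) * (x * a * x⁻¹ * ((x⁻¹ * m * x) * m⁻¹) * (x * a * x⁻¹)⁻¹) =
      (a * ((x⁻¹ * m * x) * m⁻¹) * a⁻¹) * (x⁻¹ * a * x * ((x * m * x⁻¹) * m⁻¹) * (x⁻¹ * a * x)⁻¹)) :
    a ∈ normalizer ((⁅M, zpowers x⁆ : Subgroup X) : Set X) := by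
  classical
  set C := centralizer (zpowers x : Set X) with hC
  set W := ⁅M, zpowers x⁆ with hWdef
  have hW : W ≤ M := le_normalizer_iff_commutator_le_left.1 (zpowers_le.2 hxM)
  have hWC : W ⊓ C = ⊥ := commutator_inf_centralizer_eq_bot hM (zpowers_le.2 hxM) (coprime_zpowers hx hMcop)
  let _ : CommGroup M := { (inferInstance : Group M) with mul_comm := hM.is_comm.comm }
  let W' := W.subgroupOf M
  let q : M →* M ⧸ W' := QuotientGroup.mk' W'
  let A : M →* M := (M.normalizerMonoidHom ⟨a, haM⟩).toMonoidHom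
  let Xc : M →* M := (M.normalizerMonoidHom ⟨x, hxM⟩).toMonoidHom
  let Xi : M →* M := (M.normalizerMonoidHom (⟨x, hxM⟩⁻¹)).toMonoidHom
  have hA : ∀ m : M, (A m : X) = a * m * a⁻¹ := fun m => rfl
  have hX : ∀ m : M, (Xc m : X) = x * m * x⁻¹ := fun m => rfl
  have hXi : ∀ m : M, (Xi m : X) = x⁻¹ * m * x⁻¹⁻¹ := fun m => rfl
  have hqX : ∀ m : M, q (Xc m) = q m := fun m => (QuotientGroup.eq).2 (by
    show ((Xc m : X))⁻¹ * (m : X) ∈ W
    rw [show (Xc m : X)⁻¹ * m = (Xc m : X)⁻¹ * ⁅(m : X), x⁆ * (Xc m : X) by rw [hX, commutatorElement_def]; group]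
    have := (mem_normalizer_iff''.1 (le_normalizer_of_abelian hM hW (Xc m).2) ⁅(m : X), x⁆).1
      (commutator_mem_commutator m.2 (mem_zpowers x))
    exact this)
  have hqXi : ∀ m : M, q (Xi m) = q m := fun m => by
    rw [← hqX (Xi m)]
    exact congrArg q (Subtype.ext (by rw [hX, hXi]; group))
  let ε : M →* M := Xc * (MonoidHom.id M)⁻¹
  let δ : M →* M := MonoidHom.id M * (Xi.comp Xi)⁻¹
  have hkey : ∀ m : M, q (A (ε (ε (δ m)))) = 1 := by
    intro m
    have h1 : A (Xc m * m⁻¹) * Xc (A (Xi (Xi m * m⁻¹))) = A (Xi m * m⁻¹) * Xi (A (Xc (Xc m * m⁻¹))) := by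
      apply Subtype.ext
      push_cast [hA, hX, hXi]
      have := heq m m.2
      simp only [inv_inv, mul_inv_rev, mul_assoc] at this ⊢
      exact this
    have h2 := congrArg q h1
    rw [map_mul q (A _) (Xc _), map_mul q (A _) (Xi _), hqX, hqXi, ← map_mul q, ← map_mul q] at h2
    have h3 : ∀ y : M, Xc (Xi y) = y := fun y => Subtype.ext (by rw [hX, hXi]; group)
    have e : A (ε (ε (δ m))) = A (Xi m * m⁻¹) * A (Xc (Xc m * m⁻¹)) * (A (Xc m * m⁻¹) * A (Xi (Xi m * m⁻¹)))⁻¹ := by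
      simp only [← map_mul, ← map_inv]
      exact congrArg A (twoStep_identity Xc Xi h3 m)
    rw [e, map_mul, map_inv, h2, mul_inv_cancel]
  let E : M →* M := ε.comp (ε.comp δ)
  have hεW : ∀ m : M, (ε m : X) ∈ W := fun m => by
    show (Xc m : X) * (m : X)⁻¹ ∈ W
    rw [hX, show x * (m : X) * x⁻¹ * (m : X)⁻¹ = ⁅(m : X), x⁆⁻¹ by rw [commutatorElement_inv, commutatorElement_def]]
    exact inv_mem (commutator_mem_commutator m.2 (mem_zpowers x))
  have hδW : ∀ m : M, (δ m : X) ∈ W := fun m => by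
    show (m : X) * (Xi (Xi m) : X)⁻¹ ∈ W
    rw [hXi, hXi, show (m : X) * (x⁻¹ * (x⁻¹ * m * x⁻¹⁻¹) * x⁻¹⁻¹)⁻¹ = ⁅(m : X), x⁻¹ * x⁻¹⁆ by
      rw [commutatorElement_def]; group]
    exact commutator_mem_commutator m.2 (mul_mem (inv_mem (mem_zpowers x)) (inv_mem (mem_zpowers x)))
  have hfix : ∀ y : X, x * y * x⁻¹ = y → y ∈ C := fun y hy => by
    refine mem_centralizer_iff.2 fun z hz => ?_
    obtain ⟨i, rfl⟩ := mem_zpowers_iff.1 hz
    have hxy : Commute x y := mul_inv_eq_iff_eq_mul.1 hy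
    exact (hxy.zpow_left i).eq
  have hεinj : ∀ m : M, (m : X) ∈ W → ε m = 1 → m = 1 := fun m hm h1 => by
    have h2 : Xc m = m := mul_inv_eq_one.1 h1
    have : (m : X) ∈ (⊥ : Subgroup X) := hWC ▸ (⟨hm, hfix _ ((hX m).symm.trans (congrArg Subtype.val h2))⟩ : (m : X) ∈ W ⊓ C)
    exact Subtype.ext (mem_bot.1 this)
  have hker : ∀ m : M, E m = 1 → (m : X) ∈ C := fun m h1 => by
    have h2 := hεinj _ (hδW m) (hεinj _ (hεW _) h1)
    have h3 : (Xi (Xi m) : X) = m := (congrArg Subtype.val (mul_inv_eq_one.1 h2)).symm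
    rw [hXi, hXi] at h3
    have hxx : Commute (m : X) (x * x) := by
      show (m : X) * (x * x) = x * x * m
      conv_rhs => rw [← h3]
      group
    obtain ⟨k, hk⟩ := ((Fact.out : p.Prime).odd_of_ne_two hp2)
    have e : x = (x * x) ^ (k + 1) := by
      rw [← sq, ← pow_mul, show 2 * (k + 1) = p + 1 by omega, pow_succ, hx, one_mul]
    refine hfix _ (mul_inv_eq_iff_eq_mul.2 ?_)
    have := (hxx.pow_right (k + 1)).eq
    rw [← e] at this
    exact this.symm
  -- `E` maps onto `W`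
  have hrange : ∀ w : M, (w : X) ∈ W → ∃ m, E m = w := by
    have h1 : E.range ≤ W' := by
      rintro _ ⟨m, rfl⟩; exact hεW _
    have h2 : E.ker ≤ ((M ⊓ C).subgroupOf M) := fun m hm => ⟨m.2, hker m hm⟩
    have h3 : Nat.card M = Nat.card E.ker * Nat.card E.range := by
      rw [← card_mul_index E.ker, index_ker]
    have h4 : Nat.card W' * Nat.card ((M ⊓ C).subgroupOf M) = Nat.card M := by
      rw [Nat.card_congr (subgroupOfEquivOfLe hW).toEquiv,
        Nat.card_congr (subgroupOfEquivOfLe (inf_le_left : M ⊓ C ≤ M)).toEquiv,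
        ← card_sup_of_inf_eq_bot (inf_le_left.trans (le_normalizer_of_abelian hM hW))
          (le_bot_iff.1 (hWC ▸ le_inf inf_le_right (inf_le_left.trans inf_le_right)))]
      rw [commutator_sup_centralizer (zpowers_le.2 hxM) (coprime_zpowers hx hMcop) (Or.inl (isSolvable_zpowers x))]
    have h5 : E.range = W' := by
      refine eq_of_le_of_card_ge h1 ?_
      have h6 := card_le_of_le h2
      by_contra hlt
      push Not at hlt
      have : Nat.card E.ker * Nat.card E.range < Nat.card ((M ⊓ C).subgroupOf M) * Nat.card W' :=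
        Nat.mul_lt_mul_of_le_of_lt h6 hlt Nat.card_pos
      rw [mul_comm (Nat.card ((M ⊓ C).subgroupOf M)), h4] at this
      omega
    exact fun w hw => (h5 ▸ hw : w ∈ E.range)
  rw [mem_normalizer_iff_map_conj]
  refine eq_of_le_of_card_ge ?_ (card_map_conj a W).ge
  rintro _ ⟨w, hw, rfl⟩
  obtain ⟨m, hm⟩ := hrange ⟨w, hW hw⟩ hw
  have h1 := hkey m
  rw [show ε (ε (δ m)) = ⟨w, hW hw⟩ from hm] at h1
  exact ((QuotientGroup.eq_one_iff (N := W') (A ⟨w, hW hw⟩)).1 h1 : _)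

omit [Finite X] in
theorem conj_equation {M K : Subgroup X} (hM : IsMulCommutative M) (hxM : x ∈ normalizer (M : Set X))
    {m a : X} (hm : m ∈ M) (haK : a ∈ K) (hxK : x ∈ normalizer (K : Set X))
    (hKM : ∀ g ∈ K, g ∈ normalizer (M : Set X)) (hKcomm : ∀ s ∈ K, ∀ t ∈ K, s * t = t * s)
    (hK2bot : M ⊓ twist x (m * a) = ⊥) [Finite X] :
    (a * ((x * m * x⁻¹) * m⁻¹) * a⁻¹) * (x * a * x⁻¹ * ((x⁻¹ * m * x) * m⁻¹) * (x * a * x⁻¹)⁻¹) =
      (a * ((x⁻¹ * m * x) * m⁻¹) * a⁻¹) * (x⁻¹ * a * x * ((x * m * x⁻¹) * m⁻¹) * (x⁻¹ * a * x)⁻¹) := by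
  have haM : a ∈ normalizer (M : Set X) := hKM a haK
  set u := (x * m * x⁻¹) * m⁻¹ with hu
  set v := (x⁻¹ * m * x) * m⁻¹ with hv
  have hu' : u ∈ M := mul_mem ((mem_normalizer_iff.1 hxM m).1 hm) (inv_mem hm)
  have hv' : v ∈ M := mul_mem ((mem_normalizer_iff''.1 hxM m).1 hm) (inv_mem hm)
  set a1 := x * a * x⁻¹ with ha1
  set a2 := x⁻¹ * a * x with ha2
  have ha1' : a1 ∈ K := (mem_normalizer_iff.1 hxK a).1 haK
  have ha2' : a2 ∈ K := (mem_normalizer_iff''.1 hxK a).1 haK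
  set h' := m * a with hh'
  set K2 := twist x h' with hK2
  have hgen : ∀ y ∈ zpowers x, ⁅h'⁻¹, y⁆ ∈ K2 := fun y hy => by
    obtain ⟨i, rfl⟩ := Submonoid.mem_powers_iff _ _ |>.1 (mem_powers_iff_mem_zpowers.2 hy)
    exact subset_closure ⟨i, rfl⟩
  have h1 := hgen x (mem_zpowers x)
  have h2 := hgen x⁻¹ (inv_mem (mem_zpowers x))
  have e1 : ⁅h'⁻¹, x⁆ = (a⁻¹ * (m⁻¹ * (x * m * x⁻¹)) * a) * (a⁻¹ * a1) := by
    rw [hh', ha1, commutatorElement_def]; group
  have e2 : ⁅h'⁻¹, x⁻¹⁆ = (a⁻¹ * (m⁻¹ * (x⁻¹ * m * x)) * a) * (a⁻¹ * a2) := by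
    rw [hh', ha2, commutatorElement_def]; group
  have eu : m⁻¹ * (x * m * x⁻¹) = u :=
    congrArg Subtype.val (hM.is_comm.comm ⟨m⁻¹, inv_mem hm⟩ ⟨_, (mem_normalizer_iff.1 hxM m).1 hm⟩)
  have ev : m⁻¹ * (x⁻¹ * m * x) = v :=
    congrArg Subtype.val (hM.is_comm.comm ⟨m⁻¹, inv_mem hm⟩ ⟨_, (mem_normalizer_iff''.1 hxM m).1 hm⟩)
  rw [eu] at e1; rw [ev] at e2
  set d1 := a⁻¹ * a1 with hd1
  set d2 := a⁻¹ * a2 with hd2
  have hd1' : d1 ∈ K := mul_mem (inv_mem haK) ha1'
  have hd2' : d2 ∈ K := mul_mem (inv_mem haK) ha2'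
  set u' := a⁻¹ * u * a with hu2
  set v' := a⁻¹ * v * a with hv2
  have hu2' : u' ∈ M := (mem_normalizer_iff''.1 haM u).1 hu'
  have hv2' : v' ∈ M := (mem_normalizer_iff''.1 haM v).1 hv'
  have hA : u' * (d1 * v' * d1⁻¹) ∈ M :=
    mul_mem hu2' ((mem_normalizer_iff.1 (hKM _ hd1') v').1 hv2')
  have hB : v' * (d2 * u' * d2⁻¹) ∈ M :=
    mul_mem hv2' ((mem_normalizer_iff.1 (hKM _ hd2') u').1 hu2')
  have hcomm : (u' * d1) * (v' * d2) * ((v' * d2) * (u' * d1))⁻¹ =
      u' * (d1 * v' * d1⁻¹) * (v' * (d2 * u' * d2⁻¹))⁻¹ := by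
    have e := hKcomm d1 hd1' d2 hd2'
    calc (u' * d1) * (v' * d2) * ((v' * d2) * (u' * d1))⁻¹
        = u' * (d1 * v' * d1⁻¹) * ((d1 * d2) * d1⁻¹) * u'⁻¹ * d2⁻¹ * v'⁻¹ := by group
      _ = _ := by rw [e]; group
  have hone : u' * (d1 * v' * d1⁻¹) * (v' * (d2 * u' * d2⁻¹))⁻¹ = 1 := by
    refine mem_bot.1 (hK2bot ▸ mem_inf.2 ⟨mul_mem hA (inv_mem hB), ?_⟩)
    rw [← hcomm, ← e1, ← e2]
    exact mul_mem (mul_mem h1 h2) (inv_mem (mul_mem h2 h1))
  have h3 := congrArg (fun y => (a * a) * y * (a * a)⁻¹) (mul_inv_eq_one.1 hone)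
  have c1 := hKcomm a haK a1 ha1'
  have c2 := hKcomm a haK a2 ha2'
  have f1 : ∀ y : X, (a * a) * (d1 * (a⁻¹ * y * a) * d1⁻¹) * (a * a)⁻¹ = a1 * y * a1⁻¹ := fun y => by
    calc (a * a) * (d1 * (a⁻¹ * y * a) * d1⁻¹) * (a * a)⁻¹
        = (a * a1) * a⁻¹ * y * ((a * a1) * a⁻¹)⁻¹ := by rw [hd1]; group
      _ = _ := by rw [c1]; group
  have f2 : ∀ y : X, (a * a) * (d2 * (a⁻¹ * y * a) * d2⁻¹) * (a * a)⁻¹ = a2 * y * a2⁻¹ := fun y => by
    calc (a * a) * (d2 * (a⁻¹ * y * a) * d2⁻¹) * (a * a)⁻¹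
        = (a * a2) * a⁻¹ * y * ((a * a2) * a⁻¹)⁻¹ := by rw [hd2]; group
      _ = _ := by rw [c2]; group
  rw [← f1 v, ← f2 u]
  simp only [hu2, hv2] at h3 ⊢
  calc _ = (a * a) * (a⁻¹ * u * a * (d1 * (a⁻¹ * v * a) * d1⁻¹)) * (a * a)⁻¹ := by group
    _ = _ := by rw [h3]; group

section
include hp2 hx hxH hsol hcop hfull ih

/-- A minimal invariant `M` on which `H` acts nontrivially. -/
theorem fixed_le_of_noncentral {M : Subgroup X} (hMH : M ≤ H) (hHM : H ≤ normalizer (M : Set X))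
    (hxM : x ∈ normalizer (M : Set X)) (hM : IsMulCommutative M) (hne : M ≠ ⊥)
    (hmin : ∀ L : Subgroup X, L ≤ M → H ≤ normalizer (L : Set X) → x ∈ normalizer (L : Set X) →
      L = ⊥ ∨ L = M)
    (hnc : ⁅M, H⁆ ≠ ⊥) : M ⊓ centralizer (zpowers x : Set X) ≤ fixGen H x := by
  classical
  set C := centralizer (zpowers x : Set X) with hC
  set D := fixGen H x with hD
  set W := ⁅M, zpowers x⁆ with hWdef
  have hW : W ≤ M := le_normalizer_iff_commutator_le_left.1 (zpowers_le.2 hxM)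
  have hMcop : (Nat.card M).Coprime p := hcop.coprime_dvd_left (card_dvd_of_le hMH)
  have hWC : W ⊓ C = ⊥ := commutator_inf_centralizer_eq_bot hM (zpowers_le.2 hxM) (coprime_zpowers hx hMcop)
  have hxW : x ∈ normalizer (W : Set X) :=
    PGroup.right_le_normalizer_commutator M _ (mem_zpowers x)
  by_contra hnot
  have hgood : ¬ M ≤ goodPart H M x := fun h => hnot (fixed_le_of_le_goodPart hx hxH hcop hMH hM hxM h)
  have hM' : ⁅M, H⁆ = M :=
    (hmin _ (le_normalizer_iff_commutator_le_left.1 hHM) (PGroup.right_le_normalizer_commutator M H)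
      (OddLocal.le_normalizer_commutator (zpowers_le.2 hxM) (zpowers_le.2 hxH) (mem_zpowers x))).resolve_left hnc
  -- elements whose commutators with `M` are good
  let S : Subgroup X :=
    { carrier := {k | k ∈ H ∧ ∀ m ∈ M, ⁅m, k⁆ ∈ goodPart H M x}
      one_mem' := ⟨one_mem H, fun m _ => by rw [commutatorElement_one_right]; exact one_mem _⟩
      mul_mem' := fun {a b} ha hb => ⟨mul_mem ha.1 hb.1, fun m hm => by
        rw [show ⁅m, a * b⁆ = ⁅m, b⁆ * ⁅b * m * b⁻¹, a⁆ by simp only [commutatorElement_def]; group]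
        exact mul_mem (hb.2 m hm) (ha.2 _ ((mem_normalizer_iff.1 (hHM hb.1) m).1 hm))⟩
      inv_mem' := fun {a} ha => ⟨inv_mem ha.1, fun m hm => by
        rw [show ⁅m, a⁻¹⁆ = ⁅a⁻¹ * m * a⁻¹⁻¹, a⁆⁻¹ by simp only [commutatorElement_def]; group]
        exact inv_mem (ha.2 _ ((mem_normalizer_iff.1 (hHM (inv_mem ha.1)) m).1 hm))⟩ }
  have hsub : ∀ L : Subgroup X, L ≤ H → x ∈ normalizer (L : Set X) → ⁅L, zpowers x⁆ = L → M ⊔ L ≠ H →
      L ≤ S := by
    intro L hL hxL hLf hLne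
    set Q := ⁅M ⊔ L, zpowers x⁆ with hQ
    have hLQ : L ≤ Q := hLf ▸ commutator_mono le_sup_right le_rfl
    have hV : ⁅M, L⁆ ≤ Q := commutator_le.2 fun m hm l hl => by
      rw [commutatorElement_def]
      exact mul_mem ((mem_normalizer_iff.1 (PGroup.left_le_normalizer_commutator (M ⊔ L) (zpowers x) (mem_sup_left hm)) l).1 (hLQ hl))
        (inv_mem (hLQ hl))
    have h1 := le_goodPart hx hcop hMH
      ((commutator_mono le_rfl hL).trans (le_normalizer_iff_commutator_le_left.1 hHM))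
      (OddLocal.le_normalizer_commutator (zpowers_le.2 hxM) (zpowers_le.2 hxL) (mem_zpowers x))
      ((inf_le_inf_right _ hV).trans (sub_le hx hsol hcop ih (sup_le hMH hL)
        (Comp.le_normalizer_sup (zpowers_le.2 hxM) (zpowers_le.2 hxL) (mem_zpowers x)) hLne))
    exact fun l hl => ⟨hL hl, fun m hm => h1 (commutator_mem_commutator hm hl)⟩
  -- some `[h, P]` supplements `M`
  obtain ⟨h, hh, hK⟩ : ∃ h ∈ H, ¬ twist x h ≤ S := by
    by_contra! hall
    refine hgood (hM'.symm.le.trans (commutator_le.2 fun m hm k hk => ?_))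
    exact (iSup₂_le hall ((commutator_zpowers_le_iSup_twist H x) (hfull.symm ▸ hk)) : k ∈ S).2 m hm
  set K := twist x h with hKdef
  have hKH : K ≤ H := twist_le_self hxH hh
  have hxK : x ∈ normalizer (K : Set X) := mem_normalizer_twist x h
  have hKf : ⁅K, zpowers x⁆ = K := commutator_twist hx hxH hcop hh
  have hMK : M ⊔ K = H := by
    by_contra hne'
    exact hK (hsub K hKH hxK hKf hne')
  have hnormal : ∀ L : Subgroup X, M ⊔ L = H → x ∈ normalizer (L : Set X) →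
      M ⊓ L = ⊥ ∨ M ⊓ L = M := by
    intro L hL hxL
    refine hmin _ inf_le_left (hL ▸ sup_le (le_normalizer_of_abelian hM inf_le_left) fun l hl => ?_) ?_
    · exact mem_normalizer_iff.2 fun y => and_congr
        (mem_normalizer_iff.1 (hHM (hL ▸ mem_sup_right hl)) y) (mem_normalizer_iff.1 (le_normalizer hl) y)
    · exact mem_normalizer_iff.2 fun y => and_congr (mem_normalizer_iff.1 hxM y) (mem_normalizer_iff.1 hxL y)
  have hMKbot : M ⊓ K = ⊥ := (hnormal K hMK hxK).resolve_right fun e =>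
    hnot ((inf_le_inf_right _ (inf_eq_left.1 e)).trans (le_fixGen hh))
  -- `K` acts faithfully
  have hKC : K ⊓ centralizer (M : Set X) = ⊥ := by
    by_contra hN
    set N := K ⊓ centralizer (M : Set X) with hNdef
    have hMN : M ≤ normalizer (N : Set X) := fun m hm => by
      rw [mem_normalizer_iff]
      intro y
      constructor <;> intro hy
      · rwa [mem_centralizer_iff.1 hy.2 m hm, mul_inv_cancel_right]
      · have e := mem_centralizer_iff.1 hy.2 m hm
        have e2 : y = m * y * m⁻¹ := by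
          calc y = m⁻¹ * (m * y * m⁻¹) * m := by group
            _ = m⁻¹ * ((m * y * m⁻¹) * m) := by group
            _ = _ := by rw [← e]; group
        rwa [e2]
    have hxN : x ∈ normalizer (N : Set X) := mem_normalizer_iff.2 fun y => and_congr (mem_normalizer_iff.1 hxK y)
      (mem_normalizer_iff.1 (mem_normalizer_centralizer M hxM) y)
    have hKN : K ≤ normalizer (N : Set X) := fun k hk => mem_normalizer_iff.2 fun y =>
      and_congr (mem_normalizer_iff.1 (le_normalizer hk) y)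
      (mem_normalizer_iff.1 (mem_normalizer_centralizer M (hHM (hKH hk))) y)
    refine hnot fun c hc => ?_
    have h1 := quotient_step hx hxH hsol hcop hfull ih (inf_le_left.trans hKH) (hMK ▸ sup_le hMN hKN) hxN hN
      ⟨hMH hc.1, hc.2⟩
    exact sup_le le_rfl ((inf_le_inf_right _ inf_le_left).trans (le_fixGen hh)) h1
  -- `K` is abelian
  have hKab : ⁅K, K⁆ = ⊥ := by
    by_contra hK'
    set K' := ⁅K, K⁆ with hK'def
    have hK'le : K' ≤ K := commutator_le_self K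
    have hxK' : x ∈ normalizer (K' : Set X) :=
      OddLocal.le_normalizer_commutator (zpowers_le.2 hxK) (zpowers_le.2 hxK) (mem_zpowers x)
    have hlt : K' < K := by
      refine lt_of_le_of_ne hK'le fun e => ?_
      have : Group.IsSolvable K := isSolvable_of_le hsol hKH
      rcases subsingleton_or_nontrivial K with hs | hn
      · exact hK' (commutator_eq_bot_iff_le_centralizer.2 fun a ha => mem_centralizer_iff.2 fun b hb =>
          congrArg Subtype.val ((Subsingleton.elim _ _ : (⟨b, hb⟩ * ⟨a, ha⟩ : K) = ⟨a, ha⟩ * ⟨b, hb⟩)))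
      · refine (Group.IsSolvable.commutator_lt_top_of_nontrivial K).ne ?_
        apply Subgroup.map_injective K.subtype_injective
        rw [map_subtype_commutator, ← MonoidHom.range_eq_map, range_subtype]
        exact e
    have hK'S : K' ≤ S := by
      intro k hk
      have hK'cop : (Nat.card (zpowers x)).Coprime (Nat.card K') :=
        coprime_zpowers hx (hcop.coprime_dvd_left (card_dvd_of_le (hK'le.trans hKH)))
      obtain ⟨n, hn, z, hz, rfl⟩ := exists_mul_eq' (zpowers_le.2 hxK') hK'cop (Or.inl (isSolvable_zpowers x)) hk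
      have hne2 : M ⊔ ⁅K', zpowers x⁆ ≠ H := by
        intro e
        refine hlt.ne (le_antisymm hK'le fun k hk => ?_)
        have hL : ⁅K', zpowers x⁆ ≤ K' := le_normalizer_iff_commutator_le_left.1 (zpowers_le.2 hxK')
        obtain ⟨m, hm, l, hl, rfl⟩ := (mem_sup_of_le_normalizer
          ((hL.trans (hK'le.trans hKH)).trans hHM)).1 (show k ∈ M ⊔ _ from e ▸ hKH hk)
        have : m ∈ (⊥ : Subgroup X) := hMKbot ▸ (⟨hm, by
          simpa using mul_mem hk (inv_mem (hK'le (hL hl)))⟩ : m ∈ M ⊓ K)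
        rw [mem_bot.1 this, one_mul]
        exact hL hl
      refine mul_mem (hsub _ ((le_normalizer_iff_commutator_le_left.1 (zpowers_le.2 hxK')).trans (hK'le.trans hKH))
        (PGroup.right_le_normalizer_commutator K' _ (mem_zpowers x))
        (commutator_commutator_eq (zpowers_le.2 hxK') hK'cop (Or.inl (isSolvable_zpowers x))) hne2 hn) ?_
      have hzH : z ∈ H := hKH (hK'le hz.1)
      have hzD : z ∈ D := le_fixGen hh ⟨hK'le hz.1, hz.2⟩
      refine ⟨hzH, fun m hm => ?_⟩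
      obtain ⟨w, hw, c, hc, rfl⟩ := exists_mul_eq' (zpowers_le.2 hxM) (coprime_zpowers hx hMcop)
        (Or.inl (isSolvable_zpowers x)) hm
      rw [show ⁅w * c, z⁆ = (w * ⁅c, z⁆ * w⁻¹) * ⁅w, z⁆ by simp only [commutatorElement_def]; group]
      have hczM : ⁅c, z⁆ ∈ M :=
        le_normalizer_iff_commutator_le_left.1 hHM (commutator_mem_commutator hc.1 hzH)
      have ew : w * ⁅c, z⁆ = ⁅c, z⁆ * w := congrArg Subtype.val (hM.is_comm.comm ⟨w, hW hw⟩ ⟨_, hczM⟩)
      rw [ew, mul_inv_cancel_right]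
      refine mul_mem (mem_sup_right (mem_inf.2 ⟨hczM, ?_⟩)) (mem_sup_left ?_)
      · rw [commutatorElement_def]
        exact mul_mem (conj_mem_fixGen (hMH hc.1) hc.2 hzD) (inv_mem hzD)
      · have hzW : z ∈ normalizer (W : Set X) := OddLocal.le_normalizer_commutator
          (E := zpowers z) (zpowers_le.2 (hHM hzH))
          (zpowers_le.2 (centralizer_le_normalizer _ hz.2)) (mem_zpowers z)
        rw [commutatorElement_def, show w * z * w⁻¹ * z⁻¹ = w * (z * w⁻¹ * z⁻¹) by group]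
        exact mul_mem hw ((mem_normalizer_iff.1 hzW _).1 (inv_mem hw))
    have hMK' : ⁅M, K'⁆ = M := by
      refine (hmin _ ((commutator_mono le_rfl (hK'le.trans hKH)).trans (le_normalizer_iff_commutator_le_left.1 hHM))
        (hMK ▸ sup_le (PGroup.left_le_normalizer_commutator M K')
          (OddLocal.le_normalizer_commutator (hKH.trans hHM) (OddLocal.le_normalizer_commutator le_normalizer le_normalizer)))
        (OddLocal.le_normalizer_commutator (zpowers_le.2 hxM) (zpowers_le.2 hxK') (mem_zpowers x))).resolve_left fun e => ?_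
      rw [commutator_comm, commutator_eq_bot_iff_le_centralizer] at e
      exact hK' (le_bot_iff.1 (hKC ▸ le_inf hK'le e))
    exact hgood (hMK'.symm.le.trans (commutator_le.2 fun m hm k hk => (hK'S hk).2 m hm))
  have hKcomm : ∀ s ∈ K, ∀ t ∈ K, s * t = t * s := fun s hs t ht =>
    (commutatorElement_eq_one_iff_mul_comm.1 (mem_bot.1 (hKab ▸ commutator_mem_commutator hs ht)))
  -- choose `a ∈ K` with `[a, P] = K`
  obtain ⟨n, hn, hc⟩ := exists_mem_centralizer_of_coset (N := K) (zpowers_le.2 hxH)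
    (zpowers_le.2 hxK) hKH (coprime_zpowers hx hcop)
    (Or.inl (isSolvable_zpowers x)) hh (fun a ha => by
      obtain ⟨i, rfl⟩ := Submonoid.mem_powers_iff _ _ |>.1 (mem_powers_iff_mem_zpowers.2 ha)
      exact subset_closure ⟨i, by rw [commutatorElement_def, inv_inv]⟩)
  obtain ⟨a, haK, hKa⟩ : ∃ a ∈ K, K = twist x a := by
    refine ⟨n⁻¹, inv_mem hn, ?_⟩
    rw [hKdef, twist, twist]
    congr 1
    ext y
    have e : ∀ i : ℕ, ⁅h⁻¹, x ^ i⁆ = ⁅n⁻¹⁻¹, x ^ i⁆ := fun i => by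
      have e2 : (h * n)⁻¹ * x ^ i * (h * n) = x ^ i := by
        rw [mul_assoc, mem_centralizer_iff.1 hc _ (pow_mem (mem_zpowers x) i), inv_mul_cancel_left]
      rw [commutatorElement_def, commutatorElement_def, inv_inv, inv_inv]
      calc h⁻¹ * x ^ i * h * (x ^ i)⁻¹ = n * ((h * n)⁻¹ * x ^ i * (h * n)) * n⁻¹ * (x ^ i)⁻¹ := by group
        _ = _ := by rw [e2]
    simp only [Set.mem_setOf_eq, e]
  have haM : a ∈ normalizer (M : Set X) := hHM (hKH haK)
  -- the basic equation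
  have heq : ∀ m ∈ M, (a * ((x * m * x⁻¹) * m⁻¹) * a⁻¹) * (x * a * x⁻¹ * ((x⁻¹ * m * x) * m⁻¹) * (x * a * x⁻¹)⁻¹) =
      (a * ((x⁻¹ * m * x) * m⁻¹) * a⁻¹) * (x⁻¹ * a * x * ((x * m * x⁻¹) * m⁻¹) * (x⁻¹ * a * x)⁻¹) := by
    intro m hm
    set u := (x * m * x⁻¹) * m⁻¹ with hu
    set v := (x⁻¹ * m * x) * m⁻¹ with hv
    have hu' : u ∈ M := mul_mem ((mem_normalizer_iff.1 hxM m).1 hm) (inv_mem hm)
    have hv' : v ∈ M := mul_mem ((mem_normalizer_iff''.1 hxM m).1 hm) (inv_mem hm)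
    set a1 := x * a * x⁻¹ with ha1
    set a2 := x⁻¹ * a * x with ha2
    have ha1' : a1 ∈ K := (mem_normalizer_iff.1 hxK a).1 haK
    have ha2' : a2 ∈ K := (mem_normalizer_iff''.1 hxK a).1 haK
    set h' := m * a with hh'
    have hh'H : h' ∈ H := mul_mem (hMH hm) (hKH haK)
    set K2 := twist x h' with hK2
    obtain ⟨j, hj⟩ : ∃ j : ℕ, x ^ j = x⁻¹ :=
      Submonoid.mem_powers_iff _ _ |>.1 (mem_powers_iff_mem_zpowers.2 (inv_mem (mem_zpowers x)))
    have hgen : ∀ y ∈ zpowers x, ⁅h'⁻¹, y⁆ ∈ K2 := fun y hy => by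
      obtain ⟨i, rfl⟩ := Submonoid.mem_powers_iff _ _ |>.1 (mem_powers_iff_mem_zpowers.2 hy)
      exact subset_closure ⟨i, rfl⟩
    have hK2sup : M ⊔ K2 = H := by
      refine le_antisymm (sup_le hMH (twist_le_self hxH hh'H)) (hMK ▸ sup_le le_sup_left ?_)
      conv_lhs => rw [hKa, twist]
      rw [closure_le]
      rintro _ ⟨i, rfl⟩
      have hmi : x ^ i * m * (x ^ i)⁻¹ ∈ M := (mem_normalizer_iff.1 (pow_mem hxM i) m).1 hm
      rw [show ⁅a⁻¹, x ^ i⁆ = (a⁻¹ * ((x ^ i * m * (x ^ i)⁻¹)⁻¹ * m) * a⁻¹⁻¹) * ⁅h'⁻¹, x ^ i⁆ by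
        rw [hh']; simp only [commutatorElement_def]; group]
      refine mul_mem (mem_sup_left ?_) (mem_sup_right (hgen _ (pow_mem (mem_zpowers x) i)))
      exact (mem_normalizer_iff.1 (inv_mem haM) _).1 (mul_mem (inv_mem hmi) hm)
    have hK2bot : M ⊓ K2 = ⊥ := (hnormal K2 hK2sup (mem_normalizer_twist x h')).resolve_right fun e =>
      hnot ((inf_le_inf_right _ (inf_eq_left.1 e)).trans (le_fixGen hh'H))
    exact conj_equation hM hxM hm haK hxK (fun g hg => hHM (hKH hg)) hKcomm hK2bot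
  -- `a` leaves `W` invariant
  have haW : a ∈ normalizer (W : Set X) := mem_normalizer_commutator_of_equation hp2 hx hMcop hM hxM haM heq
  -- so `W` is invariant
  have hKW : K ≤ normalizer (W : Set X) := by
    rw [hKa, twist, closure_le]
    rintro _ ⟨i, rfl⟩
    rw [commutatorElement_def, inv_inv]
    exact mul_mem (mul_mem (mul_mem (inv_mem haW) (pow_mem hxW i)) haW) (inv_mem (pow_mem hxW i))
  rcases hmin W hW (hMK ▸ sup_le (le_normalizer_of_abelian hM hW) hKW) hxW with hWb | hWt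
  · have hMC : ∀ m ∈ M, ∀ y ∈ zpowers x, y * m = m * y := fun m hm y hy =>
      (commutatorElement_eq_one_iff_mul_comm.1 (mem_bot.1 (hWb ▸ commutator_mem_commutator hm hy))).symm
    have hKM : K ≤ centralizer (M : Set X) := by
      rw [hKa, twist, closure_le]
      rintro _ ⟨i, rfl⟩
      refine mem_centralizer_iff.2 fun m hm => ?_
      have e1 : x ^ i * m = m * x ^ i := hMC m hm _ (pow_mem (mem_zpowers x) i)
      have e2 : x ^ i * (a * m * a⁻¹) = a * m * a⁻¹ * x ^ i :=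
        hMC _ ((mem_normalizer_iff.1 haM m).1 hm) _ (pow_mem (mem_zpowers x) i)
      rw [commutatorElement_def, inv_inv]
      calc m * (a⁻¹ * x ^ i * a * (x ^ i)⁻¹)
          = a⁻¹ * ((a * m * a⁻¹) * x ^ i) * a * (x ^ i)⁻¹ := by group
        _ = a⁻¹ * x ^ i * a * ((x ^ i)⁻¹ * (x ^ i * m) * (x ^ i)⁻¹) := by rw [← e2]; group
        _ = _ := by rw [e1]; group
    have hKb : K = ⊥ := le_bot_iff.1 (hKC ▸ le_inf le_rfl hKM)
    rw [hKb, sup_bot_eq] at hMK
    refine hnc (commutator_eq_bot_iff_le_centralizer.2 fun m hm => mem_centralizer_iff.2 fun y hy => ?_)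
    exact congrArg Subtype.val (hM.is_comm.comm ⟨y, hMK.symm ▸ hy⟩ ⟨m, hm⟩)
  · exact hnot ((inf_le_inf_right _ hWt.ge).trans (hWC.le.trans bot_le))

end

theorem exists_min_subgroup {P : Subgroup X → Prop} (h : ∃ L, P L) :
    ∃ L, P L ∧ ∀ L', P L' → L' ≤ L → L' = L := by
  obtain ⟨L₀, hL₀⟩ := h
  obtain ⟨L, hL, hmin⟩ := Set.exists_min_image {L | P L} (fun L : Subgroup X => Nat.card L) (Set.toFinite _) ⟨L₀, hL₀⟩
  exact ⟨L, hL, fun L' hL' hle => eq_of_le_of_card_ge hle (hmin L' hL')⟩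

omit [Finite X] in
theorem bilin_left {H M : Subgroup X} (hHM : ∀ m ∈ M, ∀ g ∈ H, m * g = g * m) {a b c : X} (ha : a ∈ H)
    (h : ⁅b, c⁆ ∈ M) : ⁅a * b, c⁆ = ⁅b, c⁆ * ⁅a, c⁆ := by
  calc ⁅a * b, c⁆ = a * ⁅b, c⁆ * a⁻¹ * ⁅a, c⁆ := by simp only [commutatorElement_def]; group
    _ = _ := by rw [← hHM _ h a ha, mul_inv_cancel_right]

omit [Finite X] in
theorem bilin_right {H M : Subgroup X} (hHM : ∀ m ∈ M, ∀ g ∈ H, m * g = g * m) {a b c : X} (hb : b ∈ H)
    (h : ⁅a, c⁆ ∈ M) : ⁅a, b * c⁆ = ⁅a, b⁆ * ⁅a, c⁆ := by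
  calc ⁅a, b * c⁆ = ⁅a, b⁆ * (b * ⁅a, c⁆ * b⁻¹) := by simp only [commutatorElement_def]; group
    _ = _ := by rw [← hHM _ h b hb, mul_inv_cancel_right]

section
include hp2 hx hxH hsol hcop hfull ih

/-- Modulo a central derived subgroup every element is a commutator with a generator of `P`. -/
theorem exists_commutator_rep {M : Subgroup X} (hM : M = ⁅H, H⁆) (hcen : ∀ m ∈ M, ∀ g ∈ H, m * g = g * m)
    {y : X} (hy : zpowers y = zpowers x) {v : X} (hv : v ∈ H) :
    ∃ h ∈ H, v * ⁅h⁻¹, y⁆⁻¹ ∈ M := by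
  have hyH : y ∈ normalizer (H : Set X) := zpowers_le.2 hxH (hy ▸ mem_zpowers y)
  have hc : ∀ h ∈ H, ⁅h⁻¹, y⁆ ∈ H := fun h hh =>
    le_normalizer_iff_commutator_le_left.1 (zpowers_le.2 hyH) (commutator_mem_commutator (inv_mem hh) (mem_zpowers y))
  have hMH : M ≤ H := hM ▸ commutator_le_self H
  let T : Subgroup X :=
    { carrier := {v | v ∈ H ∧ ∃ h ∈ H, v * ⁅h⁻¹, y⁆⁻¹ ∈ M}
      one_mem' := ⟨one_mem H, 1, one_mem H, by simp⟩
      mul_mem' := fun {a b} ha hb => by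
        obtain ⟨haH, h1, hh1, e1⟩ := ha
        obtain ⟨hbH, h2, hh2, e2⟩ := hb
        refine ⟨mul_mem haH hbH, h1 * h2, mul_mem hh1 hh2, ?_⟩
        have key : a * b * ⁅(h1 * h2)⁻¹, y⁆⁻¹ =
            (a * ⁅h1⁻¹, y⁆⁻¹) * (b * ⁅h2⁻¹, y⁆⁻¹) * ⁅h2⁻¹, ⁅h1⁻¹, y⁆⁆⁻¹ := by
          have e : ⁅h1⁻¹, y⁆ * (b * ⁅h2⁻¹, y⁆⁻¹) = (b * ⁅h2⁻¹, y⁆⁻¹) * ⁅h1⁻¹, y⁆ := (hcen _ e2 _ (hc h1 hh1)).symm
          calc a * b * ⁅(h1 * h2)⁻¹, y⁆⁻¹
              = (a * ⁅h1⁻¹, y⁆⁻¹) * (⁅h1⁻¹, y⁆ * (b * ⁅h2⁻¹, y⁆⁻¹)) * (h2⁻¹ * ⁅h1⁻¹, y⁆ * h2)⁻¹ := by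
                simp only [commutatorElement_def]; group
            _ = _ := by rw [e]; simp only [commutatorElement_def]; group
        rw [key]
        exact mul_mem (mul_mem e1 e2) (inv_mem (hM ▸ commutator_mem_commutator (inv_mem hh2) (hc h1 hh1)))
      inv_mem' := fun {a} ha => by
        obtain ⟨haH, h, hh, e1⟩ := ha
        refine ⟨inv_mem haH, h⁻¹, inv_mem hh, ?_⟩
        have e : ⁅h⁻¹, y⁆⁻¹ * (a * ⁅h⁻¹, y⁆⁻¹)⁻¹ = (a * ⁅h⁻¹, y⁆⁻¹)⁻¹ * ⁅h⁻¹, y⁆⁻¹ :=
          (hcen _ (inv_mem e1) _ (inv_mem (hc h hh))).symm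
        have key : a⁻¹ * ⁅h⁻¹⁻¹, y⁆⁻¹ = (a * ⁅h⁻¹, y⁆⁻¹)⁻¹ * ⁅h, ⁅h⁻¹, y⁆⁻¹⁆⁻¹ := by
          calc a⁻¹ * ⁅h⁻¹⁻¹, y⁆⁻¹ = (⁅h⁻¹, y⁆⁻¹ * (a * ⁅h⁻¹, y⁆⁻¹)⁻¹) * ⁅h⁻¹⁻¹, y⁆⁻¹ := by group
            _ = _ := by rw [e]; simp only [commutatorElement_def]; group
        rw [key]
        exact mul_mem (inv_mem e1) (inv_mem (hM ▸ commutator_mem_commutator hh (inv_mem (hc h hh)))) }
  suffices hHT : H ≤ T from (hHT hv).2
  have hbase : ∀ h ∈ H, ⁅h⁻¹, y⁆ ∈ T := fun h hh => ⟨hc h hh, h, hh, by rw [mul_inv_cancel]; exact one_mem M⟩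
  have hpow : ∀ i : ℕ, ∀ h ∈ H, ⁅h⁻¹, y ^ i⁆ ∈ T := by
    intro i
    induction i with
    | zero => intro h _; simp
    | succ i ih' =>
      intro h hh
      have hk : ⁅h⁻¹, y ^ i⁆ ∈ H := (ih' h hh).1
      rw [show ⁅h⁻¹, y ^ (i + 1)⁆ = ⁅h⁻¹, y⁆ * (⁅h⁻¹, y ^ i⁆ * ⁅⁅h⁻¹, y ^ i⁆⁻¹, y⁆) by
        simp only [commutatorElement_def, pow_succ']; group]
      exact mul_mem (hbase h hh) (mul_mem (ih' h hh) (hbase _ hk))
  conv_lhs => rw [← hfull, ← hy]
  refine commutator_le.2 fun g hg a ha => ?_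
  obtain ⟨i, rfl⟩ := Submonoid.mem_powers_iff _ _ |>.1 (mem_powers_iff_mem_zpowers.2 ha)
  have := hpow i g⁻¹ (inv_mem hg)
  rwa [inv_inv] at this

/-- Class two: the derived subgroup is good. -/
theorem commutator_le_goodPart_of_classTwo (hcen : ∀ m ∈ ⁅H, H⁆, ∀ g ∈ H, m * g = g * m) :
    ⁅H, H⁆ ≤ goodPart H ⁅H, H⁆ x := by
  set M := ⁅H, H⁆ with hM
  set G0 := goodPart H M x with hG0
  have hxM : x ∈ normalizer (M : Set X) :=
    OddLocal.le_normalizer_commutator (zpowers_le.2 hxH) (zpowers_le.2 hxH) (mem_zpowers x)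
  have cM : ∀ a ∈ H, ∀ b ∈ H, ⁅a, b⁆ ∈ M := fun a ha b hb => commutator_mem_commutator ha hb
  have conjH : ∀ a ∈ H, x * a * x⁻¹ ∈ H := fun a ha => (mem_normalizer_iff.1 hxH a).1 ha
  have conjH' : ∀ a ∈ H, x⁻¹ * a * x ∈ H := fun a ha => (mem_normalizer_iff''.1 hxH a).1 ha
  have hdiag : ∀ v ∈ H, ⁅v, x * v * x⁻¹⁆ ∈ G0 := by
    intro v hv
    obtain ⟨h, hh, ht⟩ := exists_commutator_rep hp2 hx hxH hsol hcop hfull ih rfl hcen rfl hv
    set c := ⁅h⁻¹, x⁆ with hcdef
    set t := v * c⁻¹ with htdef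
    have hck : c ∈ twist x h := subset_closure ⟨1, by rw [pow_one]⟩
    have hcK : x * c * x⁻¹ ∈ twist x h := (mem_normalizer_iff.1 (mem_normalizer_twist x h) c).1 hck
    have hcH : c ∈ H := twist_le_self hxH hh hck
    have htH : t ∈ H := commutator_le_self H ht
    have hxt : x * t * x⁻¹ ∈ M := (mem_normalizer_iff.1 hxM t).1 ht
    have e1 : ∀ b ∈ H, ⁅t, b⁆ = 1 := fun b hb => commutatorElement_eq_one_iff_mul_comm.2 (hcen t ht b hb)
    have e2 : ∀ a ∈ H, ⁅a, x * t * x⁻¹⁆ = 1 := fun a ha =>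
      commutatorElement_eq_one_iff_mul_comm.2 (hcen _ hxt a ha).symm
    have hev : v = t * c := by rw [htdef]; group
    have hxv : x * (t * c) * x⁻¹ = (x * c * x⁻¹) * (x * t * x⁻¹) := by
      rw [← hcen _ hxt _ (conjH c hcH)]; group
    rw [hev, bilin_left hcen htH (cM c hcH _ (conjH _ (mul_mem htH hcH))),
      e1 _ (conjH _ (mul_mem htH hcH)), mul_one, hxv,
      bilin_right hcen (conjH c hcH) (cM c hcH _ (commutator_le_self H hxt)), e2 c hcH, mul_one]
    refine le_goodPart (M := M) (V := twist x h ⊓ M) hx hcop (commutator_le_self H) inf_le_right ?_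
      ((inf_le_inf_right _ inf_le_left).trans (le_fixGen hh)) (mem_inf.2 ⟨?_, cM c hcH _ (conjH c hcH)⟩)
    · exact mem_normalizer_iff.2 fun y => and_congr (mem_normalizer_iff.1 (mem_normalizer_twist x h) y)
        (mem_normalizer_iff.1 hxM y)
    · rw [commutatorElement_def]
      exact mul_mem (mul_mem (mul_mem hck hcK) (inv_mem hck)) (inv_mem hcK)
  have hMcomm : ∀ a ∈ M, ∀ b ∈ M, a * b = b * a := fun a ha b hb => hcen a ha b (commutator_le_self H hb)
  have hskew : ∀ v ∈ H, ∀ w ∈ H, ⁅v, x * w * x⁻¹⁆ * ⁅v, x⁻¹ * w * x⁆⁻¹ ∈ G0 := by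
    intro v hv w hw
    set V := x * v * x⁻¹ with hV
    set W := x * w * x⁻¹ with hW
    have hVH : V ∈ H := conjH v hv
    have hWH : W ∈ H := conjH w hw
    have h1 := hdiag (v * w) (mul_mem hv hw)
    rw [show x * (v * w) * x⁻¹ = V * W by rw [hV, hW]; group,
      bilin_left hcen hv (cM w hw _ (mul_mem hVH hWH)), bilin_right hcen hVH (cM w hw _ hWH),
      bilin_right hcen hVH (cM v hv _ hWH)] at h1
    have h2 : ⁅w, V⁆ * ⁅v, W⁆ ∈ G0 := by
      have hww : ⁅w, W⁆ ∈ G0 := hdiag w hw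
      have hvv : ⁅v, V⁆ ∈ G0 := hdiag v hv
      have e : ⁅w, V⁆ * ⁅w, W⁆ * (⁅v, V⁆ * ⁅v, W⁆) = ⁅w, W⁆ * ⁅v, V⁆ * (⁅w, V⁆ * ⁅v, W⁆) := by
        rw [hMcomm _ (cM w hw _ hVH) _ (cM w hw _ hWH)]
        simp only [mul_assoc]
        congr 1
        rw [← mul_assoc, hMcomm _ (cM w hw _ hVH) _ (cM v hv _ hVH), mul_assoc]
      rw [e] at h1
      have h' := mul_mem (inv_mem (mul_mem hww hvv)) h1
      rwa [inv_mul_cancel_left] at h'
    have h3 : x * ⁅v, x⁻¹ * w * x⁆ * x⁻¹ = ⁅w, V⁆⁻¹ := by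
      rw [hV]; simp only [commutatorElement_def]; group
    have h4 : ⁅v, x⁻¹ * w * x⁆ * (x * ⁅v, x⁻¹ * w * x⁆ * x⁻¹)⁻¹ ∈ G0 :=
      conj_div_mem_goodPart (cM v hv _ (conjH' w hw))
    rw [h3, inv_inv] at h4
    have h5 := mul_mem (inv_mem h4) h2
    rw [mul_inv_rev, show ⁅w, V⁆⁻¹ * ⁅v, x⁻¹ * w * x⁆⁻¹ * (⁅w, V⁆ * ⁅v, W⁆) =
        ⁅w, V⁆⁻¹ * (⁅v, x⁻¹ * w * x⁆⁻¹ * ⁅w, V⁆) * ⁅v, W⁆ by group,
      hMcomm _ (inv_mem (cM v hv _ (conjH' w hw))) _ (cM w hw _ hVH), inv_mul_cancel_left,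
      hMcomm _ (inv_mem (cM v hv _ (conjH' w hw))) _ (cM v hv _ hWH)] at h5
    exact h5
  have hgen2 : zpowers (x * x) = zpowers x := by
    refine le_antisymm (zpowers_le.2 (mul_mem (mem_zpowers x) (mem_zpowers x))) (zpowers_le.2 ?_)
    obtain ⟨k, hk⟩ := ((Fact.out : p.Prime).odd_of_ne_two hp2)
    have e : x = (x * x) ^ (k + 1) := by
      rw [← sq, ← pow_mul, show 2 * (k + 1) = p + 1 by omega, pow_succ, hx, one_mul]
    have := pow_mem (mem_zpowers (x * x)) (k + 1)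
    rwa [← e] at this
  rw [hM]
  refine commutator_le.2 fun v hv u hu => ?_
  obtain ⟨h, hh, ht⟩ := exists_commutator_rep hp2 hx hxH hsol hcop hfull ih rfl hcen hgen2 hu
  set c := ⁅h⁻¹, x * x⁆ with hcdef
  set t := u * c⁻¹ with htdef
  have hcH : c ∈ H := by
    rw [show c = h⁻¹ * (x * (x * h * x⁻¹) * x⁻¹) by rw [hcdef, commutatorElement_def]; group]
    exact mul_mem (inv_mem hh) (conjH _ (conjH h hh))
  have htH : t ∈ H := commutator_le_self H ht
  have hu' : ⁅v, u⁆ = ⁅v, c⁆ := by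
    rw [show u = t * c by rw [htdef]; group, bilin_right hcen htH (cM v hv c hcH),
      (commutatorElement_eq_one_iff_mul_comm.2 (hcen t ht v hv).symm), one_mul]
  have h1 := hskew v hv (x * h * x⁻¹) (conjH h hh)
  rw [show x⁻¹ * (x * h * x⁻¹) * x = h by group] at h1
  set A := x * (x * h * x⁻¹) * x⁻¹ with hA
  have hAH : A ∈ H := conjH _ (conjH h hh)
  have h2 : ⁅v, h * c * h⁻¹⁆ = ⁅v, c⁆ := by
    rw [show h * c * h⁻¹ = ⁅h, c⁆ * c by rw [commutatorElement_def]; group,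
      bilin_right hcen (commutator_le_self H (cM h hh c hcH)) (cM v hv c hcH),
      (commutatorElement_eq_one_iff_mul_comm.2 (hcen _ (cM h hh c hcH) v hv).symm), one_mul]
  have h3 : ⁅v, h * c⁆ = ⁅v, A⁆ := by
    rw [hA, hcdef]; simp only [commutatorElement_def]; group
  rw [hu']
  rw [← h3, bilin_right hcen hh (cM v hv c hcH), hMcomm _ (cM v hv h hh) _ (cM v hv c hcH),
    mul_inv_cancel_right] at h1
  exact h1

theorem fixed_le_of_nilpotent (hnil : Group.IsNilpotent H) :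
    H ⊓ centralizer (zpowers x : Set X) ≤ fixGen H x := by
  have hHH : H ≤ normalizer (H : Set X) := le_normalizer
  have finish : ∀ M : Subgroup X, M ≤ H → H ≤ normalizer (M : Set X) → x ∈ normalizer (M : Set X) →
      IsMulCommutative M → M ≠ ⊥ → M ≤ goodPart H M x → H ⊓ centralizer (zpowers x : Set X) ≤ fixGen H x :=
    fun M hMH hHM hxM hM hne hg => (quotient_step hx hxH hsol hcop hfull ih hMH hHM hxM hne).trans
      (sup_le le_rfl (fixed_le_of_le_goodPart hx hxH hcop hMH hM hxM hg))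
  set D1 := ⁅H, H⁆ with hD1
  have hD1H : D1 ≤ H := commutator_le_self H
  have hHD1 : H ≤ normalizer (D1 : Set X) := PGroup.left_le_normalizer_commutator H H
  have hxD1 : x ∈ normalizer (D1 : Set X) :=
    OddLocal.le_normalizer_commutator (zpowers_le.2 hxH) (zpowers_le.2 hxH) (mem_zpowers x)
  by_cases h0 : D1 = ⊥
  · have hab : IsMulCommutative H := ⟨⟨fun a b => Subtype.ext (commutatorElement_eq_one_iff_mul_comm.1
      (mem_bot.1 (h0 ▸ commutator_mem_commutator a.2 b.2)))⟩⟩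
    have h1 := commutator_inf_centralizer_eq_bot hab (zpowers_le.2 hxH) (coprime_zpowers hx hcop)
    rw [hfull] at h1
    rw [h1]; exact bot_le
  by_cases h1 : ⁅D1, H⁆ = ⊥
  · have hcen : ∀ m ∈ D1, ∀ g ∈ H, m * g = g * m := fun m hm g hg =>
      commutatorElement_eq_one_iff_mul_comm.1 (mem_bot.1 (h1 ▸ commutator_mem_commutator hm hg))
    exact finish D1 hD1H hHD1 hxD1 ⟨⟨fun a b => Subtype.ext (hcen a a.2 b (hD1H b.2))⟩⟩ h0
      (commutator_le_goodPart_of_classTwo hp2 hx hxH hsol hcop hfull ih hcen)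
  · obtain ⟨Y, ⟨hYD, hHY, hxY, hYne⟩, hYmin⟩ := exists_min_subgroup
      (P := fun L : Subgroup X => L ≤ D1 ∧ H ≤ normalizer (L : Set X) ∧ x ∈ normalizer (L : Set X) ∧ ⁅L, H⁆ ≠ ⊥)
      ⟨D1, le_rfl, hHD1, hxD1, h1⟩
    set M := ⁅Y, H⁆ with hMdef
    have hMY : M ≤ Y := le_normalizer_iff_commutator_le_left.1 hHY
    have hYH : Y ≤ H := hYD.trans hD1H
    have hHM : H ≤ normalizer (M : Set X) := PGroup.right_le_normalizer_commutator Y H
    have hxM : x ∈ normalizer (M : Set X) :=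
      OddLocal.le_normalizer_commutator (zpowers_le.2 hxY) (zpowers_le.2 hxH) (mem_zpowers x)
    have hlt : M ≠ Y := by
      intro e
      obtain ⟨n, hn⟩ := (Subgroup.isNilpotent_iff_lowerCentralSeries H).1 hnil
      have h2 : Y ≤ Subgroup.lowerCentralSeries H n := by
        clear hn
        induction n with
        | zero => exact hYH
        | succ n ih' => exact e.symm.le.trans (commutator_mono ih' le_rfl)
      rw [hn] at h2
      exact hYne (le_bot_iff.1 ((hMY.trans h2)))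
    have hMH : ⁅M, H⁆ = ⊥ := by
      by_contra hc
      exact hlt (hYmin M ⟨hMY.trans hYD, hHM, hxM, hc⟩ hMY)
    have hcen : ∀ m ∈ M, ∀ g ∈ H, m * g = g * m := fun m hm g hg =>
      commutatorElement_eq_one_iff_mul_comm.1 (mem_bot.1 (hMH ▸ commutator_mem_commutator hm hg))
    have hYM : ∀ y ∈ Y, ∀ k ∈ H, ⁅y, k⁆ ∈ M := fun y hy k hk => commutator_mem_commutator hy hk
    let S : Subgroup X :=
      { carrier := {k | k ∈ H ∧ ∀ y ∈ Y, ⁅y, k⁆ ∈ goodPart H M x}
        one_mem' := ⟨one_mem H, fun y _ => by rw [commutatorElement_one_right]; exact one_mem _⟩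
        mul_mem' := fun {a b} ha hb => ⟨mul_mem ha.1 hb.1, fun y hy => by
          rw [bilin_right hcen ha.1 (hYM y hy b hb.1)]
          exact mul_mem (ha.2 y hy) (hb.2 y hy)⟩
        inv_mem' := fun {a} ha => ⟨inv_mem ha.1, fun y hy => by
          have e := bilin_right hcen ha.1 (hYM y hy _ (inv_mem ha.1))
          rw [mul_inv_cancel, commutatorElement_one_right] at e
          rw [eq_inv_of_mul_eq_one_right e.symm]
          exact inv_mem (ha.2 y hy)⟩ }
    by_cases hex : ∀ h ∈ H, twist x h ≤ S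
    · refine finish M (hMY.trans hYH) hHM hxM
        ⟨⟨fun a b => Subtype.ext (hcen a a.2 b ((hMY.trans hYH) b.2))⟩⟩ hYne (commutator_le.2 fun y hy k hk => ?_)
      exact (iSup₂_le hex ((commutator_zpowers_le_iSup_twist H x) (hfull.symm ▸ hk)) : k ∈ S).2 y hy
    · push Not at hex
      obtain ⟨h, hh, hK⟩ := hex
      set K := twist x h with hKdef
      have hKH : K ≤ H := twist_le_self hxH hh
      have hxK : x ∈ normalizer (K : Set X) := mem_normalizer_twist x h
      set L := Y ⊔ K with hLdef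
      have hLH : L ≤ H := sup_le hYH hKH
      by_cases hL : L = H
      · -- then `K = H`
        have e : K.subgroupOf H ⊔ commutator H = ⊤ := by
          apply Subgroup.map_injective H.subtype_injective
          rw [Subgroup.map_sup, subgroupOf_map_subtype, inf_eq_left.2 hKH, map_subtype_commutator,
            ← MonoidHom.range_eq_map, range_subtype]
          exact le_antisymm (sup_le hKH hD1H) (hL.symm.le.trans (sup_le (hYD.trans le_sup_right) le_sup_left))
        have hKe : K = H := le_antisymm hKH (subgroupOf_eq_top.1 (OddLocal.eq_top_of_sup_commutator_eq_top hnil e))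
        exact (inf_le_inf_right _ hKe.ge).trans (le_fixGen hh)
      · exfalso
        have hxL : x ∈ normalizer (L : Set X) :=
          Comp.le_normalizer_sup (zpowers_le.2 hxY) (zpowers_le.2 hxK) (mem_zpowers x)
        set Q := ⁅L, zpowers x⁆ with hQ
        have hKQ : K ≤ Q := (commutator_twist hx hxH hcop hh).symm.le.trans (commutator_mono le_sup_right le_rfl)
        have hV : ⁅Y, K⁆ ≤ Q := commutator_le.2 fun m hm l hl => by
          rw [commutatorElement_def]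
          exact mul_mem ((mem_normalizer_iff.1 (PGroup.left_le_normalizer_commutator L (zpowers x) (mem_sup_left hm)) l).1 (hKQ hl))
            (inv_mem (hKQ hl))
        have h2 := le_goodPart (M := M) hx hcop (hMY.trans hYH) (commutator_mono le_rfl hKH)
          (OddLocal.le_normalizer_commutator (zpowers_le.2 hxY) (zpowers_le.2 hxK) (mem_zpowers x))
          ((inf_le_inf_right _ hV).trans (sub_le hx hsol hcop ih hLH hxL hL))
        exact hK fun k hk => ⟨hKH hk, fun y hy => h2 (commutator_mem_commutator hy hk)⟩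

theorem fixed_le_of_central {M : Subgroup X} (hMH : M ≤ H) (hHM : H ≤ normalizer (M : Set X))
    (hxM : x ∈ normalizer (M : Set X))
    (hmin : ∀ L : Subgroup X, L ≤ M → H ≤ normalizer (L : Set X) → x ∈ normalizer (L : Set X) →
      L = ⊥ ∨ L = M)
    (hcen : ⁅M, H⁆ = ⊥) (hnil : ¬ Group.IsNilpotent H) (hne : M ≠ ⊥) :
    M ⊓ centralizer (zpowers x : Set X) ≤ fixGen H x := by
  classical
  set C := centralizer (zpowers x : Set X) with hC
  set D := fixGen H x with hD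
  by_cases hMC : M ⊓ C = ⊥
  · rw [hMC]; exact bot_le
  intro c₀ hc₀
  by_contra hc₀D
  -- an element of prime order
  obtain ⟨q, hq, hqd⟩ := Nat.exists_prime_and_dvd (n := Nat.card ↥(M ⊓ C)) fun e => hMC (Subgroup.card_eq_one.1 e)
  have := Fact.mk hq
  obtain ⟨⟨z, hz⟩, hzq⟩ := exists_prime_orderOf_dvd_card' q hqd
  rw [Subgroup.orderOf_mk] at hzq
  have hzH : z ∈ H := hMH hz.1
  have hzcomm : ∀ g ∈ H, z * g = g * z := fun g hg =>
    commutatorElement_eq_one_iff_mul_comm.1 (mem_bot.1 (hcen ▸ commutator_mem_commutator hz.1 hg))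
  have hzx : z ∈ C := hz.2
  have hcentz : ∀ g : X, g * z = z * g → g ∈ normalizer (zpowers z : Set X) := fun g hg =>
    centralizer_le_normalizer _ (mem_centralizer_iff.2 fun y hy => by
      obtain ⟨i, rfl⟩ := mem_zpowers_iff.1 hy
      have hgz : Commute g z := hg
      exact (hgz.zpow_right i).eq.symm)
  have hzM : zpowers z = M := (hmin _ (zpowers_le.2 hz.1) (fun g hg => hcentz g (hzcomm g hg).symm)
    (hcentz x (mem_centralizer_iff.1 hzx x (mem_zpowers x)))).resolve_left fun e => by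
      rw [zpowers_eq_bot] at e
      rw [e, orderOf_one] at hzq
      exact hq.one_lt.ne hzq
  have hzD : z ∉ D := fun h => hc₀D ((zpowers_le.2 h) (hzM.symm ▸ hc₀.1))
  have hCH : H ⊓ C ≤ D ⊔ (M ⊓ C) := quotient_step hx hxH hsol hcop hfull ih hMH hHM hxM hne
  have hzpow : IsPGroup q (zpowers z) := IsPGroup.of_card (n := 1) (by rw [Nat.card_zpowers, hzq, pow_one])
  obtain ⟨P0, hzP0, hxP0⟩ := exists_invariant_sylow_ge (zpowers_le.2 hxH) (coprime_zpowers hx hcop)
    (Or.inl (isSolvable_zpowers x)) hzpow (zpowers_le.2 hzH)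
    (zpowers_le.2 (hcentz x (mem_centralizer_iff.1 hzx x (mem_zpowers x))))
  set S := (P0 : Subgroup H).map H.subtype with hS
  have hSH : S ≤ H := map_subtype_le _
  have hxS : x ∈ normalizer (S : Set X) := hxP0 (mem_zpowers x)
  have hzS : z ∈ S := hzP0 (mem_zpowers z)
  have hSne : S ≠ H := by
    intro e
    apply hnil
    have hp1 : IsPGroup q S := P0.2.map H.subtype
    rw [e] at hp1
    exact hp1.isNilpotent
  set Y := ⁅S, zpowers x⁆ with hY
  have hYS : Y ≤ S := le_normalizer_iff_commutator_le_left.1 (zpowers_le.2 hxS)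
  have hYD : Y ⊓ C ≤ D := sub_le hx hsol hcop ih hSH hxS hSne
  set E := S ⊓ D with hE
  have hEC : E ≤ C := inf_le_right.trans ((fixGen_le hxH).trans inf_le_right)
  have hxE : x ∈ normalizer (E : Set X) := centralizer_le_normalizer _ (mem_centralizer_iff.2 fun e he =>
    (mem_centralizer_iff.1 (hEC he) x (mem_zpowers x)).symm)
  have hSY : S ≤ normalizer (Y : Set X) := PGroup.left_le_normalizer_commutator S _
  set U := (Y ⊔ E) ⊔ zpowers x with hU
  have hxYE : zpowers x ≤ normalizer ((Y ⊔ E : Subgroup X) : Set X) :=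
    Comp.le_normalizer_sup (PGroup.right_le_normalizer_commutator S _) (zpowers_le.2 hxE)
  -- `z` is not in `U`
  have hzU : z ∉ U := by
    intro h
    obtain ⟨n, hn, a, ha, hna⟩ := (mem_sup_of_le_normalizer hxYE).1 h
    obtain ⟨y, hy, e, he, rfl⟩ := (mem_sup_of_le_normalizer (inf_le_left.trans hSY)).1 hn
    have haH : a ∈ zpowers x ⊓ H := mem_inf.2 ⟨ha, by
      rw [show a = (y * e)⁻¹ * z by rw [← hna]; group]
      exact mul_mem (inv_mem (mul_mem (hSH (hYS hy)) (hSH (inf_le_left (b := D) he)))) hzH⟩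
    rw [inf_eq_bot_of_coprime (coprime_zpowers hx hcop), mem_bot] at haH
    rw [haH, mul_one] at hna
    have hyC : y ∈ C := by
      rw [show y = z * e⁻¹ by rw [← hna]; group]
      exact mul_mem hzx (inv_mem (hEC he))
    exact hzD (hna ▸ mul_mem (hYD (mem_inf.2 ⟨hy, hyC⟩)) he.2)
  -- `S P = U ⟨z⟩`
  have hzU' : ∀ g ∈ H ⊔ zpowers x, z * g = g * z := fun g hg => by
    have : H ⊔ zpowers x ≤ centralizer ({z} : Set X) := sup_le
      (fun g hg => mem_centralizer_singleton_iff.2 (hzcomm g hg).symm)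
      (zpowers_le.2 (mem_centralizer_singleton_iff.2 (mem_centralizer_iff.1 hzx x (mem_zpowers x))))
    exact (mem_centralizer_singleton_iff.1 (this hg)).symm
  have hUH : U ≤ H ⊔ zpowers x := sup_le_sup_right (sup_le (hYS.trans hSH) (inf_le_left.trans hSH)) _
  have hzNU : zpowers z ≤ normalizer (U : Set X) := zpowers_le.2 (centralizer_le_normalizer _
    (mem_centralizer_iff.2 fun u hu => (hzU' u (hUH hu)).symm))
  have hSPU : S ⊔ zpowers x ≤ U ⊔ zpowers z := by
    refine sup_le (fun s hs => ?_) (le_sup_right.trans le_sup_left)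
    obtain ⟨y, hy, c, hc, rfl⟩ := exists_mul_eq' (zpowers_le.2 hxS)
      (coprime_zpowers hx (hcop.coprime_dvd_left (card_dvd_of_le hSH))) (Or.inl (isSolvable_zpowers x)) hs
    refine mul_mem (mem_sup_left (mem_sup_left (mem_sup_left hy))) ?_
    have hMn : M ⊓ C ≤ normalizer (D : Set X) := fun m hm => mem_normalizer_iff.2 fun d =>
      ⟨conj_mem_fixGen (hMH hm.1) hm.2, fun hd => by
        have := conj_mem_fixGen (inv_mem (hMH hm.1)) (inv_mem hm.2) hd
        simpa [mul_assoc] using this⟩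
    obtain ⟨d, hd, m, hm, hdm⟩ := (mem_sup_of_le_normalizer hMn).1 (hCH (mem_inf.2 ⟨hSH hc.1, hc.2⟩))
    have hmz : m ∈ zpowers z := hzM.symm ▸ hm.1
    have hdS : d ∈ S := by
      rw [show d = c * m⁻¹ by rw [← hdm]; group]
      exact mul_mem hc.1 (inv_mem (zpowers_le.2 hzS hmz))
    rw [← hdm]
    exact mul_mem (mem_sup_left (mem_sup_left (mem_sup_right ⟨hdS, hd⟩))) (mem_sup_right hmz)
  have hcommU : ∀ a ∈ S ⊔ zpowers x, ∀ b ∈ S ⊔ zpowers x, ⁅a, b⁆ ∈ U := by
    intro a ha b hb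
    obtain ⟨u, hu, s, hs, rfl⟩ := (mem_sup_of_le_normalizer hzNU).1 (hSPU ha)
    obtain ⟨u', hu', s', hs', rfl⟩ := (mem_sup_of_le_normalizer hzNU).1 (hSPU hb)
    obtain ⟨i, rfl⟩ := mem_zpowers_iff.1 hs
    obtain ⟨j, rfl⟩ := mem_zpowers_iff.1 hs'
    have d1 : Commute z u' := hzU' u' (hUH hu')
    have d2 : Commute z u := hzU' u (hUH hu)
    have c1 : Commute (z ^ i) u' := d1.zpow_left i
    have c2 : Commute (z ^ j) u := d2.zpow_left j
    have c3 : Commute (z ^ i) (z ^ j) := (Commute.refl z).zpow_zpow i j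
    have e : ⁅u * z ^ i, u' * z ^ j⁆ = ⁅u, u'⁆ := by
      rw [commutatorElement_def, commutatorElement_def]
      calc u * z ^ i * (u' * z ^ j) * (u * z ^ i)⁻¹ * (u' * z ^ j)⁻¹
          = u * (z ^ i * u') * (z ^ j * (z ^ i)⁻¹) * u⁻¹ * (z ^ j)⁻¹ * u'⁻¹ := by group
        _ = u * u' * (z ^ i * z ^ j * (z ^ i)⁻¹) * u⁻¹ * (z ^ j)⁻¹ * u'⁻¹ := by rw [c1.eq]; group
        _ = u * u' * (z ^ j * u⁻¹) * (z ^ j)⁻¹ * u'⁻¹ := by rw [c3.eq]; group
        _ = _ := by rw [c2.inv_right.eq]; group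
    rw [e, commutatorElement_def]
    exact mul_mem (mul_mem (mul_mem hu hu') (inv_mem hu)) (inv_mem hu')
  -- transfer
  set Y0 := H ⊔ zpowers x with hY0
  set SP := (S ⊔ zpowers x).subgroupOf Y0 with hSP
  let U' : Subgroup SP := (U.subgroupOf Y0).subgroupOf SP
  have hc' : ∀ a b : SP, ⁅a, b⁆ ∈ U' := fun a b => hcommU _ a.2 _ b.2
  let z' : Y0 := ⟨z, mem_sup_left hzH⟩
  have hzc : z' ∈ center Y0 := mem_center_iff.2 fun g => Subtype.ext (hzU' g g.2).symm
  have hzcomm' : z' ∈ commutator Y0 := by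
    have h1 : H ≤ (commutator Y0).map Y0.subtype := by
      rw [map_subtype_commutator]
      conv_lhs => rw [← hfull]
      exact commutator_mono le_sup_left le_sup_right
    obtain ⟨w, hw, hwz⟩ := h1 hzH
    exact (Subtype.ext hwz : w = z') ▸ hw
  have hkey := pow_index_mem_of_central SP U' hc' hzc hzcomm'
  have hzU1 : z ^ SP.index ∈ U := by obtain ⟨h, h'⟩ := hkey; exact h'
  have hindex : ¬ q ∣ SP.index := by
    have e1 : Nat.card SP * SP.index = Nat.card Y0 := card_mul_index SP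
    have hb : zpowers x ⊓ H = ⊥ := inf_eq_bot_of_coprime (coprime_zpowers hx hcop)
    rw [Nat.card_congr (subgroupOfEquivOfLe (sup_le_sup_right hSH (zpowers x))).toEquiv,
      card_sup_of_inf_eq_bot (zpowers_le.2 hxS) (le_bot_iff.1 ((inf_le_inf_left _ hSH).trans hb.le)),
      show Nat.card Y0 = Nat.card ↥(H ⊔ zpowers x) from rfl, card_sup_of_inf_eq_bot (zpowers_le.2 hxH) hb, hS, card_map_of_injective H.subtype_injective,
      ← card_mul_index (P0 : Subgroup H)] at e1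
    have e2 : SP.index = (P0 : Subgroup H).index := by
      refine Nat.eq_of_mul_eq_mul_left (Nat.mul_pos (Nat.card_pos (α := (P0 : Subgroup H))) (Nat.card_pos (α := zpowers x))) ?_
      rw [e1]; ring
    exact e2 ▸ P0.not_dvd_index
  have hmem : z ∈ U := by
    obtain ⟨a, ha⟩ := (exists_pow_eq_self_of_coprime (n := SP.index) (x := z)
      (by rw [hzq]; exact ((Nat.Prime.coprime_iff_not_dvd hq).2 hindex).symm))
    rw [← ha]; exact pow_mem hzU1 a
  exact hzU hmem

theorem fixedGenerated_step : H ⊓ centralizer (zpowers x : Set X) ≤ fixGen H x := by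
  by_cases hnil : Group.IsNilpotent H
  · exact fixed_le_of_nilpotent hp2 hx hxH hsol hcop hfull ih hnil
  have hH : H ≠ ⊥ := by
    rintro rfl; exact hnil Group.isNilpotent_of_subsingleton
  obtain ⟨M, ⟨hMH, hHM, hxM, hne⟩, hmin'⟩ := exists_min_subgroup
    (P := fun L : Subgroup X => L ≤ H ∧ H ≤ normalizer (L : Set X) ∧ x ∈ normalizer (L : Set X) ∧ L ≠ ⊥)
    ⟨H, le_rfl, le_normalizer, hxH, hH⟩
  have hmin : ∀ L : Subgroup X, L ≤ M → H ≤ normalizer (L : Set X) → x ∈ normalizer (L : Set X) →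
      L = ⊥ ∨ L = M := fun L hL h1 h2 => or_iff_not_imp_left.2 fun h => hmin' L ⟨hL.trans hMH, h1, h2, h⟩ hL
  have hM : IsMulCommutative M := by
    rcases hmin ⁅M, M⁆ (commutator_le_self M) (OddLocal.le_normalizer_commutator hHM hHM)
      (OddLocal.le_normalizer_commutator (zpowers_le.2 hxM) (zpowers_le.2 hxM) (mem_zpowers x)) with e | e
    · exact ⟨⟨fun a b => Subtype.ext (commutatorElement_eq_one_iff_mul_comm.1
        (mem_bot.1 (e ▸ commutator_mem_commutator a.2 b.2)))⟩⟩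
    · have : Group.IsSolvable M := isSolvable_of_le hsol hMH
      have : Nontrivial M := (Subgroup.nontrivial_iff_ne_bot M).2 hne
      refine absurd ?_ (Group.IsSolvable.commutator_lt_top_of_nontrivial M).ne
      apply Subgroup.map_injective M.subtype_injective
      rw [map_subtype_commutator, e, ← MonoidHom.range_eq_map, range_subtype]
  refine (quotient_step hx hxH hsol hcop hfull ih hMH hHM hxM hne).trans (sup_le le_rfl ?_)
  by_cases hcen : ⁅M, H⁆ = ⊥
  · exact fixed_le_of_central hp2 hx hxH hsol hcop hfull ih hMH hHM hxM hmin hcen hnil hne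
  · exact fixed_le_of_noncentral hp2 hx hxH hsol hcop hfull ih hMH hHM hxM hM hne hmin hcen

end

theorem below_all (hp2 : p ≠ 2) : ∀ n : ℕ, Below.{u} p n := by
  intro n
  induction n with
  | zero => intro Y _ _ H x h; omega
  | succ n ihn =>
    intro Y _ _ H x hlt hx hxH hsol hcop
    have ih : Below.{u} p (Nat.card H) := fun Z _ _ L y hL => ihn Z L y (by omega)
    by_cases hfull : ⁅H, zpowers x⁆ = H
    · unfold FixedGenerated
      rw [hfull]
      exact fixedGenerated_step hp2 hx hxH hsol hcop hfull ih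
    · have hle := le_normalizer_iff_commutator_le_left.1 (zpowers_le.2 hxH)
      have h1 := sub_le hx hsol hcop ih hle (PGroup.right_le_normalizer_commutator H _ (mem_zpowers x)) hfull
      rw [commutator_commutator_eq (zpowers_le.2 hxH) (coprime_zpowers hx hcop) (Or.inl (isSolvable_zpowers x))] at h1
      exact h1

theorem fixedGenerated (hp2 : p ≠ 2) (hx : x ^ p = 1) {H : Subgroup X} (hxH : x ∈ normalizer (H : Set X))
    (hsol : Group.IsSolvable H) (hcop : (Nat.card H).Coprime p) : FixedGenerated H x :=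
  below_all hp2 (Nat.card H + 1) X H x (Nat.lt_succ_self _) hx hxH hsol hcop

end CfsgLib.Coprime
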