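import Mathlib.Algebra.Ring.GeomSum
import Mathlib.Data.ZMod.Basic
import Mathlib.Tactic

/-!
The divisibility of geometric sums `1 + r + ⋯ + r^(j-1)` for `r ≡ 1` modulo an odd prime `p`.
-/

set_option autoImplicit false

namespace CfsgLib.Coprime

/-- `1 + r + ⋯ + r^(j-1)`. -/
def phi (r j : ℕ) : ℕ := ∑ l ∈ Finset.range j, r ^ l

theorem phi_zero (r : ℕ) : phi r 0 = 0 := by simp [phi]

theorem phi_one (r : ℕ) : phi r 1 = 1 := by simp [phi]

theorem phi_succ (r j : ℕ) : phi r (j + 1) = phi r j + r ^ j := Finset.sum_range_succ _ _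

theorem phi_add (r i j : ℕ) : phi r (i + j) = phi r i + r ^ i * phi r j := by
  simp only [phi, Finset.sum_range_add, Finset.mul_sum, pow_add]

theorem pow_eq_phi (d j : ℕ) : (d + 1) ^ j = 1 + d * phi (d + 1) j := by
  induction j with
  | zero => simp [phi_zero]
  | succ j ih =>
    rw [phi_succ, pow_succ, mul_add d, ← add_assoc, ← ih]
    ring

theorem phi_mul (r i j : ℕ) : phi r (i * j) = phi r i * phi (r ^ i) j := by
  induction j with
  | zero => simp [phi_zero]
  | succ j ih =>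
    rw [Nat.mul_succ, phi_add, ih, phi_succ (r ^ i) j, ← pow_mul]
    ring

variable {p : ℕ} [Fact p.Prime]

theorem natCast_pow_one {r : ℕ} (hr : (r : ZMod p) = 1) (j : ℕ) : ((r ^ j : ℕ) : ZMod p) = 1 := by
  rw [Nat.cast_pow, hr, one_pow]

theorem natCast_phi {r : ℕ} (hr : (r : ZMod p) = 1) (j : ℕ) : (phi r j : ZMod p) = j := by
  simp [phi, hr]

/-- For `p` odd, `1 + r + ⋯ + r^(p-1) ≡ p` modulo `p²`. -/
theorem exists_phi_prime (hp : p ≠ 2) {r : ℕ} (hr : (r : ZMod p) = 1) :
    ∃ u : ℕ, phi r p = p * u ∧ ¬ p ∣ u := by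
  obtain ⟨c, hc⟩ : ∃ c, r = c * p + 1 := by
    refine ⟨r / p, ?_⟩
    have h : r % p = 1 := by
      have := ZMod.val_natCast p r
      rw [hr, ZMod.val_one] at this
      exact this.symm
    have := Nat.div_add_mod r p
    rw [h] at this
    rw [mul_comm]; omega
  subst hc
  have hlin : ∀ l : ℕ, ∃ t, (c * p + 1) ^ l = 1 + l * (c * p) + t * (p * p) := by
    intro l
    induction l with
    | zero => exact ⟨0, by simp⟩
    | succ l ih =>
      obtain ⟨t, ht⟩ := ih
      exact ⟨l * c * c + t * (c * p + 1), by rw [pow_succ, ht]; ring⟩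
  choose t ht using hlin
  have hodd : Odd p := (Fact.out : p.Prime).odd_of_ne_two hp
  obtain ⟨m, hm⟩ := hodd
  have hsum : (∑ l ∈ Finset.range p, l) = p * m := by
    have h := Finset.sum_range_id_mul_two p
    have e : p - 1 = 2 * m := by omega
    rw [e] at h
    refine Nat.eq_of_mul_eq_mul_right (m := 2) (by norm_num) ?_
    rw [h]; ring
  refine ⟨1 + p * (m * c + ∑ l ∈ Finset.range p, t l), ?_, fun h => ?_⟩
  · unfold phi
    simp only [ht, Finset.sum_add_distrib, Finset.sum_const, Finset.card_range, smul_eq_mul, mul_one,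
      ← Finset.sum_mul, hsum]
    ring
  · rw [← Nat.dvd_add_iff_left (dvd_mul_right _ _), Nat.dvd_one] at h
    exact (Fact.out : p.Prime).ne_one h

/-- `p^s` divides `1 + r + ⋯ + r^(j-1)` exactly when it divides `j`. -/
theorem pow_dvd_phi_iff (hp : p ≠ 2) {r : ℕ} (hr : (r : ZMod p) = 1) (s j : ℕ) :
    p ^ s ∣ phi r j ↔ p ^ s ∣ j := by
  have hpr := (Fact.out : p.Prime)
  induction s generalizing r j with
  | zero => simp
  | succ s ih =>
    by_cases hj : p ∣ j
    · obtain ⟨j, rfl⟩ := hj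
      obtain ⟨u, hu, hpu⟩ := exists_phi_prime hp hr
      rw [phi_mul, hu, pow_succ', mul_assoc, Nat.mul_dvd_mul_iff_left hpr.pos,
        Nat.mul_dvd_mul_iff_left hpr.pos]
      refine Iff.trans ?_ (ih (natCast_pow_one hr p) j)
      exact ⟨fun h => ((Nat.Coprime.pow_left s (hpr.coprime_iff_not_dvd.mpr hpu)).dvd_of_dvd_mul_left h),
        fun h => dvd_mul_of_dvd_right h _⟩
    · constructor
      · intro h
        refine absurd ?_ hj
        rw [← ZMod.natCast_eq_zero_iff, ← natCast_phi hr j, ZMod.natCast_eq_zero_iff]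
        exact (dvd_pow_self p (Nat.succ_ne_zero s)).trans h
      · intro h
        exact absurd ((dvd_pow_self p (Nat.succ_ne_zero s)).trans h) hj

/-- `phi r` induces an injection, hence a bijection, of `ℤ/p^s`. -/
theorem phi_cast_injective (hp : p ≠ 2) {r : ℕ} (hr : (r : ZMod p) = 1) (s : ℕ) {i j : ℕ}
    (h : (phi r i : ZMod (p ^ s)) = (phi r j : ZMod (p ^ s))) : (i : ZMod (p ^ s)) = j := by
  wlog hij : i ≤ j generalizing i j
  · exact (this h.symm (le_of_not_ge hij)).symm
  obtain ⟨k, rfl⟩ := Nat.exists_eq_add_of_le hij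
  rw [phi_add, Nat.cast_add, Nat.cast_mul, left_eq_add] at h
  have hu : IsUnit ((r ^ i : ℕ) : ZMod (p ^ s)) := by
    rw [ZMod.isUnit_iff_coprime]
    refine Nat.Coprime.pow i s ?_
    refine ((Fact.out : p.Prime).coprime_iff_not_dvd.mpr fun hd => ?_).symm
    rw [← ZMod.natCast_eq_zero_iff, hr] at hd
    exact one_ne_zero hd
  rw [hu.mul_right_eq_zero, ZMod.natCast_eq_zero_iff, pow_dvd_phi_iff hp hr] at h
  rw [Nat.cast_add, (ZMod.natCast_eq_zero_iff _ _).mpr h, add_zero]

theorem exists_phi_eq (hp : p ≠ 2) {r : ℕ} (hr : (r : ZMod p) = 1) (s : ℕ) (z : ZMod (p ^ s)) :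
    ∃ j : ℕ, (phi r j : ZMod (p ^ s)) = z := by
  have hinj : Function.Injective (fun w : ZMod (p ^ s) => (phi r w.val : ZMod (p ^ s))) := fun a b h => by
    have := phi_cast_injective hp hr s h
    rwa [ZMod.natCast_zmod_val, ZMod.natCast_zmod_val] at this
  obtain ⟨w, hw⟩ := Finite.injective_iff_surjective.mp hinj z
  exact ⟨w.val, hw⟩

end CfsgLib.Coprime
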