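import Cfsg.Prelude.Def_HallClasses
import Cfsg.Agent.Lib.Geom.DicksonBorel
import Cfsg.Agent.Lib.Geom.DicksonCases
import Cfsg.Agent.Lib.Geom.RedundantPSL
import Mathlib.NumberTheory.LSeries.PrimesInAP
set_option autoImplicit false

/-!
For which sets of primes does every finite group have Hall subgroups.
-/

namespace CfsgLib.Coprime

open Subgroup CfsgLib.Geom.Moebius

theorem exists_prime_congr {m k : ℕ} (hm : m ≠ 0) (hk : k ≠ 0) (hmk : m.Coprime k) :
    ∃ l : ℕ, l.Prime ∧ 5 ≤ l ∧ m ∣ l - 1 ∧ k ∣ l + 1 := by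
  obtain ⟨a, ha1, ha2⟩ := Nat.chineseRemainder hmk 1 (k - 1)
  have hac : a.Coprime (m * k) := by
    refine Nat.Coprime.mul_right ?_ ?_
    · rw [Nat.Coprime, Nat.ModEq.gcd_eq ha1, Nat.gcd_one_left]
    · rw [Nat.Coprime, Nat.ModEq.gcd_eq ha2]
      rcases k with _ | k
      · exact absurd rfl hk
      · simp
  obtain ⟨l, hl, hlp, hla⟩ := Nat.forall_exists_prime_gt_and_modEq 5 (Nat.mul_ne_zero hm hk) hac
  refine ⟨l, hlp, hl.le, ?_, ?_⟩
  · have h : l ≡ 1 [MOD m] := (hla.of_dvd (dvd_mul_right m k)).trans ha1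
    exact (Nat.modEq_iff_dvd' hlp.one_le).1 h.symm
  · have h : l ≡ k - 1 [MOD k] := (hla.of_dvd (dvd_mul_left k m)).trans ha2
    refine Nat.modEq_zero_iff_dvd.1 ((h.add_right 1).trans ?_)
    rw [Nat.sub_add_cancel (Nat.one_le_iff_ne_zero.2 hk)]
    exact Nat.modEq_zero_iff_dvd.2 dvd_rfl

/-- The subgroups of `PSL(2, l)` met in the argument. -/
theorem psl_no_hall (π : Set ℕ) {l p q r : ℕ} [Fact l.Prime] (hp : p.Prime) (hq : q.Prime) (hq2 : q ≠ 2)
    (hpπ : p ∈ π) (hqπ : q ∈ π) (hrp : r.Prime) (hrπ : r ∉ π) (hl5 : 5 ≤ l)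
    (hl1 : (if p = 2 then 4 else p) ∣ l - 1) (hl2 : q ^ 2 ∣ l + 1) (hlr : r ∣ l - 1) :
    ¬ Cfsg.IsEPiGroup π (Matrix.ProjectiveSpecialLinearGroup (Fin 2) (ZMod l)) := by
  rintro ⟨H, hH1, hH2⟩
  set G := Matrix.ProjectiveSpecialLinearGroup (Fin 2) (ZMod l)
  have hcard : Fintype.card (ZMod l) = l := ZMod.card l
  have hlp : l.Prime := Fact.out
  have hl2' : ¬ 2 ∣ l := fun h => by
    rcases (Nat.dvd_prime hlp).1 h with e | e <;> omega
  have hd : Nat.gcd 2 (l - 1) = 2 := Nat.gcd_eq_left (by omega)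
  have hN : 2 * Nat.card G = l * ((l + 1) * (l - 1)) := by
    have := card_psl_two_gcd (F := ZMod l)
    rwa [hcard, hd] at this
  -- `π`-parts are in `H`
  have hfull : ∀ s : ℕ, s.Prime → s ∈ π → ∀ k : ℕ, s ^ k ∣ Nat.card G → s ^ k ∣ Nat.card H := by
    intro s hs hsπ k hk
    have hcop : (s ^ k).Coprime H.index := Nat.Coprime.pow_left _ ((Nat.Prime.coprime_iff_not_dvd hs).2 (hH2 s hs hsπ))
    refine hcop.dvd_of_dvd_mul_right ?_
    rwa [card_mul_index H]
  have hqodd : (q ^ 2).Coprime 2 := ((Nat.coprime_primes hq Nat.prime_two).2 hq2).pow_left 2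
  have hq2H : q ^ 2 ∣ Nat.card H := hfull q hq hqπ 2 (hqodd.dvd_of_dvd_mul_left (by
    rw [hN]; exact Dvd.dvd.mul_left (Dvd.dvd.mul_right hl2 _) _))
  have hqn1 : ¬ q ∣ l - 1 := by
    intro h
    have h1 : q ∣ (l + 1) - (l - 1) := Nat.dvd_sub ((dvd_pow_self q two_ne_zero).trans hl2) h
    rw [show (l + 1) - (l - 1) = 2 by omega] at h1
    exact hq2 ((Nat.prime_dvd_prime_iff_eq hq Nat.prime_two).1 h1)
  have hql : ¬ q ∣ l := by
    intro h
    have h1 : q ∣ (l + 1) - l := Nat.dvd_sub ((dvd_pow_self q two_ne_zero).trans hl2) h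
    rw [show (l + 1) - l = 1 by omega] at h1
    exact hq.one_lt.ne' (Nat.dvd_one.1 h1)
  have h4G : 2 ∣ Nat.card G := by
    have e1 : 4 ∣ (l + 1) * (l - 1) := by
      have := Nat.mul_dvd_mul (show 2 ∣ l + 1 by omega) (show 2 ∣ l - 1 by omega)
      simpa using this
    have h8 : 4 ∣ 2 * Nat.card G := hN ▸ Dvd.dvd.mul_left e1 _
    omega
  have hpH : (if p = 2 then 4 else p) ∣ Nat.card H := by
    split_ifs with h2
    · subst h2
      have h4 : 4 ∣ l - 1 := by simpa using hl1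
      have h8' : 8 ∣ (l + 1) * (l - 1) := by
        have := Nat.mul_dvd_mul (show 2 ∣ l + 1 by omega) h4
        simpa using this
      have h8 : 8 ∣ 2 * Nat.card G := hN ▸ Dvd.dvd.mul_left h8' _
      exact hfull 2 Nat.prime_two hpπ 2 (show 4 ∣ Nat.card G by omega)
    · have hp' : p ∣ l - 1 := by simpa [h2] using hl1
      have hpodd : p.Coprime 2 := (Nat.coprime_primes hp Nat.prime_two).2 h2
      have h1 : p ^ 1 ∣ Nat.card G := (hpodd.pow_left 1).dvd_of_dvd_mul_left (by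
        rw [hN, pow_one]; exact Dvd.dvd.mul_left (Dvd.dvd.mul_left hp' _) _)
      simpa using hfull p hp hpπ 1 h1
  -- a torus cannot hold both parts
  have htorus : ∀ k : ℕ, TorusDvd (ZMod l) k → q ∣ k → ¬ p ∣ k := fun k hk hqk hpk => by
    rw [TorusDvd, hcard, hd] at hk
    rcases hk with hk | hk
    · have hk' : 2 * k ∣ l + 1 := by
        have : (l + 1) / 2 * 2 = l + 1 := Nat.div_mul_cancel (by omega)
        rw [← this, mul_comm]; exact Nat.mul_dvd_mul_right hk 2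
      split_ifs at hl1 with h2
      · subst h2
        have := (Nat.mul_dvd_mul_left 2 hpk).trans hk'
        omega
      · have h3 : p ∣ (l + 1) - (l - 1) := Nat.dvd_sub (hpk.trans ((dvd_mul_left k 2).trans hk')) hl1
        rw [show (l + 1) - (l - 1) = 2 by omega] at h3
        exact h2 ((Nat.prime_dvd_prime_iff_eq hp Nat.prime_two).1 h3)
    · exact hqn1 ((hqk.trans hk).trans (Nat.div_dvd_of_dvd (by omega)))
  have hq1 : q ∣ Nat.card H := (dvd_pow_self q two_ne_zero).trans hq2H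
  rcases dickson H with ⟨k, hk, _, hc⟩ | ⟨P, hP⟩ | ⟨n, _, hk, _, hc⟩ | ⟨_, hc⟩ | ⟨_, hc⟩ | ⟨_, hc⟩ |
    ⟨K, u, _, hK, _, hc⟩ | ⟨K, u, _, hK, _, hc⟩
  · rw [hc] at hq1 hpH
    refine htorus k hk hq1 ?_
    split_ifs at hpH with h2
    · exact h2 ▸ (show 2 ∣ 4 by norm_num).trans hpH
    · exact hpH
  · -- point stabilizer
    let _ : MulAction G (Line (ZMod l)) :=
      MulAction.compHom _ (Matrix.ProjectiveSpecialLinearGroup.toPGL (n := Fin 2) (R := ZMod l))
    have : MulAction.IsPretransitive G (Line (ZMod l)) := ⟨fun a b => by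
      obtain ⟨g, hg⟩ := exists_psl_to a
      obtain ⟨g', hg'⟩ := exists_psl_to b
      refine ⟨g' * g⁻¹, ?_⟩
      show Matrix.ProjectiveSpecialLinearGroup.toPGL (g' * g⁻¹) • a = b
      rw [map_mul, map_inv, mul_smul, ← hg, inv_smul_smul, hg']⟩
    have hle : H ≤ MulAction.stabilizer G P := fun x hx => hP x hx
    have hidx : (MulAction.stabilizer G P).index = l + 1 := by
      rw [MulAction.index_stabilizer_of_transitive, Projectivization.card_of_finrank_two (ZMod l) (Fin 2 → ZMod l) (Module.finrank_fin_fun _),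
        Nat.card_eq_fintype_card, hcard]
    have h1 : q * (l + 1) ∣ Nat.card G := by
      rw [← card_mul_index (MulAction.stabilizer G P), hidx]
      exact Nat.mul_dvd_mul_right (hq1.trans (card_dvd_of_le hle)) _
    have h2 : q * (l + 1) ∣ (l * (l - 1)) * (l + 1) := by
      rw [show l * (l - 1) * (l + 1) = l * ((l + 1) * (l - 1)) by ring, ← hN]
      exact h1.trans (dvd_mul_left _ _)
    rcases hq.dvd_mul.1 (Nat.dvd_of_mul_dvd_mul_right (by omega) h2) with h | h
    · exact hql h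
    · exact hqn1 h
  · rw [hc] at hq1 hpH
    refine htorus n hk ((Nat.Coprime.dvd_of_dvd_mul_left ((Nat.coprime_primes hq Nat.prime_two).2 hq2) hq1)) ?_
    split_ifs at hpH with h2
    · subst h2; omega
    · exact ((Nat.coprime_primes hp Nat.prime_two).2 h2).dvd_of_dvd_mul_left hpH
  iterate 3
    · rw [hc] at hq2H
      have h60 : q ^ 2 ∣ 60 * 2 := hq2H.trans (by norm_num)
      have hle : q ≤ 10 := by
        have := Nat.le_of_dvd (by norm_num) h60
        nlinarith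
      interval_cases q <;> first | omega | (norm_num at hq) | (norm_num at h60)
  all_goals
    obtain ⟨m, hm, hum⟩ := subfield_card_pow K hK
    rw [hcard] at hum
    obtain rfl : u = l := ((Nat.Prime.pow_eq_iff hlp).1 hum).1
    have hbig : Nat.card G ≤ Nat.card H := by
      nlinarith [Nat.card_pos (α := H)]
    have htop : H = ⊤ := eq_top_of_le_card H hbig
    subst htop
    rw [card_top] at hH1
    refine hrπ (hH1 r hrp ?_)
    by_cases hr2 : r = 2
    · rw [hr2]; exact h4G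
    · refine ((Nat.coprime_primes hrp Nat.prime_two).2 hr2).dvd_of_dvd_mul_left ?_
      rw [hN]; exact Dvd.dvd.mul_left (Dvd.dvd.mul_left hlr _) _

/-- The condition on `π`. -/
def SmallOrFull (π : Set ℕ) : Prop :=
  (∀ p q : ℕ, p.Prime → q.Prime → p ∈ π → q ∈ π → p = q) ∨ ∀ p : ℕ, p.Prime → p ∈ π

theorem smallOrFull_of_forall_ePi (π : Set ℕ)
    (h : ∀ (G : Type) [Group G] [Finite G], Cfsg.IsEPiGroup π G) : SmallOrFull π := by
  by_contra hc
  rw [SmallOrFull, not_or] at hc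
  push Not at hc
  obtain ⟨⟨a, b, ha, hb, haπ, hbπ, hab⟩, r, hr, hrπ⟩ := hc
  obtain ⟨p, q, hp, hq, hpπ, hqπ, hq2, hpq⟩ : ∃ p q : ℕ, p.Prime ∧ q.Prime ∧ p ∈ π ∧ q ∈ π ∧ q ≠ 2 ∧ p ≠ q := by
    by_cases h2 : b = 2
    · exact ⟨b, a, hb, ha, hbπ, haπ, fun e => hab (e.trans h2.symm), hab.symm⟩
    · exact ⟨a, b, ha, hb, haπ, hbπ, h2, hab⟩
  have hrp : r ≠ p := fun e => hrπ (e ▸ hpπ)
  have hrq : r ≠ q := fun e => hrπ (e ▸ hqπ)
  have hm : ((if p = 2 then 4 else p) * r).Coprime (q ^ 2) := by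
    refine (Nat.Coprime.mul_left ?_ ((Nat.coprime_primes hr hq).2 hrq)).pow_right 2
    split_ifs with h2
    · exact (((Nat.coprime_primes Nat.prime_two hq).2 hq2.symm).pow_left 2 : (2 ^ 2).Coprime q)
    · exact (Nat.coprime_primes hp hq).2 hpq
  obtain ⟨l, hl, hl5, hl1, hl2⟩ := exists_prime_congr
    (m := (if p = 2 then 4 else p) * r) (k := q ^ 2)
    (Nat.mul_ne_zero (by split_ifs <;> first | omega | exact hp.ne_zero) hr.ne_zero) (pow_ne_zero _ hq.ne_zero) hm
  have := Fact.mk hl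
  exact psl_no_hall π hp hq hq2 hpπ hqπ hr hrπ hl5 ((dvd_mul_right _ r).trans hl1) hl2
    ((dvd_mul_left r _).trans hl1) (h _)

theorem isEPiGroup_of_dPi {G : Type*} [Group G] [Finite G] {π : Set ℕ} (h : Cfsg.IsDPiGroup π G) :
    Cfsg.IsEPiGroup π G := by
  obtain ⟨H, -, hH⟩ := Finite.exists_le_maximal (p := fun K : Subgroup G => Cfsg.IsPiSubgroup π K) (a := ⊥)
    (fun s hs hd => absurd (Nat.dvd_one.1 (card_bot (G := G) ▸ hd)) hs.ne_one)
  refine ⟨H, hH.prop, fun s hs hsπ hd => ?_⟩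
  have := Fact.mk hs
  obtain ⟨S⟩ := (inferInstance : Nonempty (Sylow s G))
  obtain ⟨K, hSK, hK⟩ := Finite.exists_le_maximal (p := fun K : Subgroup G => Cfsg.IsPiSubgroup π K)
    (a := (S : Subgroup G)) (fun t ht htd => by
      obtain ⟨k, hk⟩ := IsPGroup.iff_card.1 S.2
      rw [hk] at htd
      exact (Nat.prime_dvd_prime_iff_eq ht hs).1 (ht.dvd_of_dvd_pow htd) ▸ hsπ)
  obtain ⟨g, hg⟩ := h K H hK hH
  have hidx : H.index = K.index := by
    rw [hg]; exact index_map_equiv K (MulAut.conj g)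
  exact S.not_dvd_index ((hidx ▸ hd).trans (index_dvd_of_le hSK))

theorem isDPiGroup_of_smallOrFull {π : Set ℕ} (h : SmallOrFull π) (G : Type*) [Group G] [Finite G] :
    Cfsg.IsDPiGroup π G := by
  intro H K hH hK
  rcases h with h | h
  · by_cases hex : ∃ p : ℕ, p.Prime ∧ p ∈ π
    · obtain ⟨p, hp, hpπ⟩ := hex
      have := Fact.mk hp
      have key : ∀ L : Subgroup G, Cfsg.IsPiSubgroup π L ↔ IsPGroup p L := fun L => by
        constructor
        · intro hL
          refine IsPGroup.of_card (Nat.eq_prime_pow_of_unique_prime_dvd (Nat.card_pos (α := L)).ne'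
            fun {d} hd hdd => h d p hd hp (hL d hd hdd) hpπ)
        · intro hL t ht htd
          obtain ⟨k, hk⟩ := IsPGroup.iff_card.1 hL
          rw [hk] at htd
          exact (Nat.prime_dvd_prime_iff_eq ht hp).1 (ht.dvd_of_dvd_pow htd) ▸ hpπ
      have toSylow : ∀ L : Subgroup G, Maximal (Cfsg.IsPiSubgroup π) L → ∃ S : Sylow p G, (S : Subgroup G) = L := by
        intro L hL
        exact ⟨⟨L, (key L).1 hL.prop, fun {Q} hQ hLQ => le_antisymm (hL.2 ((key Q).2 hQ) hLQ) hLQ⟩, rfl⟩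
      obtain ⟨S, rfl⟩ := toSylow H hH
      obtain ⟨T, rfl⟩ := toSylow K hK
      obtain ⟨g, hg⟩ := MulAction.exists_smul_eq G S T
      exact ⟨g, by rw [← hg]; rfl⟩
    · push Not at hex
      have key : ∀ L : Subgroup G, Cfsg.IsPiSubgroup π L → L = ⊥ := fun L hL => by
        by_contra hne
        obtain ⟨s, hs, hd⟩ := Nat.exists_prime_and_dvd (n := Nat.card L) fun e => hne (card_eq_one.1 e)
        exact hex s hs (hL s hs hd)
      exact ⟨1, by rw [key K hK.prop, key H hH.prop, Subgroup.map_bot]⟩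
  · have key : ∀ L : Subgroup G, Maximal (Cfsg.IsPiSubgroup π) L → L = ⊤ := fun L hL =>
      top_le_iff.1 (hL.2 (fun s hs _ => h s hs) le_top)
    exact ⟨1, by rw [key H hH, key K hK, map_top_of_surjective _ (MulAut.conj (1:G)).surjective]⟩

end CfsgLib.Coprime
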