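import Cfsg.Prelude.Def_Transfer
import Cfsg.Agent.Lib.Comp.OrderFormula
import Cfsg.Agent.Lib.Solvable.Nilpotent
import Mathlib.GroupTheory.IndexNormal
import Mathlib.GroupTheory.PGroup
import Mathlib.Tactic

/-!
`p`-groups with a distinguished subgroup of index `p`.
-/

set_option autoImplicit false

open Subgroup
open scoped commutatorElement

namespace CfsgLib.Coprime

variable {p : ℕ} [Fact p.Prime] {S : Type*} [Group S] [Finite S]

/-- A subgroup of index `p` of a `p`-group is normal. -/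
theorem normal_of_index_prime (hS : IsPGroup p S) {H : Subgroup S} (hH : H.index = p) : H.Normal := by
  obtain ⟨k, hk⟩ := IsPGroup.iff_card.mp hS
  have hk0 : k ≠ 0 := fun h0 => by
    have := H.index_dvd_card
    rw [hH, hk, h0, pow_zero, Nat.dvd_one] at this
    exact (Fact.out : p.Prime).ne_one this
  refine Subgroup.normal_of_index_eq_minFac_card ?_
  rw [hk, Nat.Prime.pow_minFac Fact.out hk0, hH]

omit [Finite S] in
theorem sup_zpowers_eq_top {H : Subgroup S} (hH : H.index = p) {x : S} (hx : x ∉ H) :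
    H ⊔ zpowers x = ⊤ := by
  have h1 : (H ⊔ zpowers x).index ∣ H.index := index_dvd_of_le le_sup_left
  rw [hH] at h1
  rcases (Nat.dvd_prime Fact.out).mp h1 with h | h
  · exact Subgroup.index_eq_one.mp h
  · refine absurd ?_ hx
    have h2 := Subgroup.relIndex_mul_index (le_sup_left : H ≤ H ⊔ zpowers x)
    rw [h, hH] at h2
    have h3 : H.relIndex (H ⊔ zpowers x) = 1 :=
      Nat.eq_of_mul_eq_mul_right (Fact.out : p.Prime).pos (by rw [h2, one_mul])
    exact (Subgroup.relIndex_eq_one.mp h3) (Subgroup.mem_sup_right (mem_zpowers x))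

theorem pow_mem_of_index (hS : IsPGroup p S) {H : Subgroup S} (hH : H.index = p) (x : S) :
    x ^ p ∈ H := by
  have := normal_of_index_prime hS hH
  rw [← QuotientGroup.eq_one_iff, QuotientGroup.mk_pow, ← hH, Subgroup.index_eq_card]
  exact pow_card_eq_one'

theorem commutator_le_of_index (hS : IsPGroup p S) {H : Subgroup S} (hH : H.index = p) :
    commutator S ≤ H := by
  have := normal_of_index_prime hS hH
  have : IsCyclic (S ⧸ H) := isCyclic_of_prime_card (by rw [← Subgroup.index_eq_card, hH])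
  rw [_root_.commutator_def, Subgroup.commutator_le]
  intro a _ b _
  rw [← QuotientGroup.eq_one_iff, ← QuotientGroup.mk'_apply, map_commutatorElement,
    commutatorElement_eq_one_iff_mul_comm]
  obtain ⟨g, hg⟩ := IsCyclic.exists_generator (α := S ⧸ H)
  obtain ⟨i, hi⟩ := hg (QuotientGroup.mk' H a)
  obtain ⟨j, hj⟩ := hg (QuotientGroup.mk' H b)
  rw [← hi, ← hj]
  exact (Commute.zpow_zpow_self g i j).eq

/-- An abelian subgroup of index `p` together with an outside element: the centre lies inside, and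
`|A| = |Z(S)| |S'|`. -/
theorem card_eq_center_mul_commutator (hS : IsPGroup p S) (hna : ¬ IsMulCommutative S)
    {A : Subgroup S} (hA : IsMulCommutative A) (hAi : A.index = p) :
    center S ≤ A ∧ Nat.card A = Nat.card (center S) * Nat.card (commutator S) := by
  have hAn := normal_of_index_prime hS hAi
  have hcomm : ∀ a ∈ A, ∀ b ∈ A, a * b = b * a := fun a ha b hb =>
    congrArg Subtype.val (hA.is_comm.comm ⟨a, ha⟩ ⟨b, hb⟩)
  have hZA : center S ≤ A := by
    by_contra hle
    obtain ⟨z, hz, hzA⟩ := SetLike.not_le_iff_exists.mp hle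
    have htop := sup_zpowers_eq_top hAi hzA
    refine hna ⟨⟨fun u v => ?_⟩⟩
    have h1 : ∀ w : S, ∃ a ∈ A, ∃ i : ℤ, a * z ^ i = w := fun w => by
      obtain ⟨a, ha, b, hb, hab⟩ := Subgroup.mem_sup_of_normal_left.mp (htop ▸ mem_top w : w ∈ A ⊔ zpowers z)
      obtain ⟨i, rfl⟩ := mem_zpowers_iff.mp hb
      exact ⟨a, ha, i, hab⟩
    obtain ⟨a, ha, i, rfl⟩ := h1 u
    obtain ⟨b, hb, j, rfl⟩ := h1 v
    have hzc : ∀ (k : ℤ) (w : S), Commute (z ^ k) w := fun k w =>
      (Subgroup.mem_center_iff.mp ((center S).zpow_mem hz k) w).symm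
    exact (((Commute.mul_right (hcomm a ha b hb) (hzc j a).symm).mul_left (hzc i _))).eq
  refine ⟨hZA, ?_⟩
  obtain ⟨x, hx⟩ : ∃ x, x ∉ A := by
    by_contra h
    push Not at h
    rw [(Subgroup.eq_top_iff' A).mpr h, Subgroup.index_top] at hAi
    exact (Fact.out : p.Prime).ne_one hAi.symm
  have hmem : ∀ a ∈ A, ⁅a, x⁆ ∈ A := fun a ha => by
    rw [commutatorElement_def, show a * x * a⁻¹ * x⁻¹ = a * (x * a⁻¹ * x⁻¹) by group]
    exact A.mul_mem ha (hAn.conj_mem _ (A.inv_mem ha) x)
  let φ : A →* S := MonoidHom.mk' (fun a => ⁅(a : S), x⁆) fun a b => by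
    show ⁅(a : S) * b, x⁆ = ⁅(a : S), x⁆ * ⁅(b : S), x⁆
    rw [hcomm _ (hmem a a.2) _ (hmem b b.2),
      show ⁅(a : S) * b, x⁆ = (a : S) * ⁅(b : S), x⁆ * (a : S)⁻¹ * ⁅(a : S), x⁆ by
        simp only [commutatorElement_def]; group,
      hcomm _ a.2 _ (hmem b b.2), mul_inv_cancel_right]
  have hgen : ∀ w : S, ∃ a ∈ A, ∃ i : ℤ, a * x ^ i = w := fun w => by
    obtain ⟨a, ha, b, hb, hab⟩ := Subgroup.mem_sup_of_normal_left.mp
      (sup_zpowers_eq_top hAi hx ▸ mem_top w : w ∈ A ⊔ zpowers x)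
    obtain ⟨i, rfl⟩ := mem_zpowers_iff.mp hb
    exact ⟨a, ha, i, hab⟩
  have hker : φ.ker = (center S).subgroupOf A := by
    ext a
    rw [MonoidHom.mem_ker, Subgroup.mem_subgroupOf, Subgroup.mem_center_iff]
    show ⁅(a : S), x⁆ = 1 ↔ _
    rw [commutatorElement_eq_one_iff_mul_comm]
    refine ⟨fun h w => ?_, fun h => (h x).symm⟩
    obtain ⟨b, hb, i, rfl⟩ := hgen w
    exact ((Commute.mul_left (hcomm b hb a a.2) ((show Commute x a from h.symm).zpow_left i))).eq
  -- the image is the derived subgroup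
  have hIA : φ.range ≤ A := by
    rintro _ ⟨a, rfl⟩
    exact hmem a a.2
  have hIn : φ.range.Normal := by
    refine ⟨fun y hy w => ?_⟩
    obtain ⟨b, hb, i, rfl⟩ := hgen w
    obtain ⟨a, rfl⟩ := hy
    refine ⟨⟨x ^ i * a * (x ^ i)⁻¹, hAn.conj_mem a a.2 _⟩, ?_⟩
    have h1 : ⁅x ^ i * (a : S) * (x ^ i)⁻¹, x⁆ = x ^ i * ⁅(a : S), x⁆ * (x ^ i)⁻¹ := by
      have h2 := map_commutatorElement (MulAut.conj (x ^ i)).toMonoidHom (a : S) x
      simp only [MulEquiv.coe_toMonoidHom, MulAut.conj_apply] at h2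
      rw [h2, show x ^ i * x * (x ^ i)⁻¹ = x by group]
    show ⁅x ^ i * (a : S) * (x ^ i)⁻¹, x⁆ = b * x ^ i * ⁅(a : S), x⁆ * (b * x ^ i)⁻¹
    rw [h1, show b * x ^ i * ⁅(a : S), x⁆ * (b * x ^ i)⁻¹ = b * (x ^ i * ⁅(a : S), x⁆ * (x ^ i)⁻¹) * b⁻¹ by group,
      hcomm b hb _ (hAn.conj_mem _ (hmem a a.2) _), mul_inv_cancel_right]
  have hI : φ.range = commutator S := by
    apply le_antisymm
    · rintro _ ⟨a, rfl⟩
      exact commutator_mem_commutator (mem_top _) (mem_top _)
    · rw [_root_.commutator_def, Subgroup.commutator_le]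
      intro u _ v _
      rw [← QuotientGroup.eq_one_iff, ← QuotientGroup.mk'_apply, map_commutatorElement,
        commutatorElement_eq_one_iff_mul_comm]
      set π := QuotientGroup.mk' φ.range
      have hax : ∀ a ∈ A, Commute (π a) (π x) := fun a ha => by
        rw [← commutatorElement_eq_one_iff_commute, ← map_commutatorElement]
        exact (QuotientGroup.eq_one_iff _).mpr ⟨⟨a, ha⟩, rfl⟩
      obtain ⟨a, ha, i, rfl⟩ := hgen u
      obtain ⟨b, hb, j, rfl⟩ := hgen v
      rw [map_mul π a, map_mul π b, map_zpow, map_zpow]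
      exact ((((show Commute (π a) (π b) by
          show π a * π b = π b * π a
          rw [← map_mul, ← map_mul, hcomm a ha b hb]).mul_right ((hax a ha).zpow_right j))).mul_left
        ((((hax b hb).zpow_right i).symm).mul_right (Commute.zpow_zpow_self _ i j))).eq
  have h := φ.ker.card_mul_index
  rw [Subgroup.index_ker, hI, hker, Nat.card_congr (subgroupOfEquivOfLe hZA).toEquiv] at h
  exact h.symm

omit [Fact p.Prime] in
/-- A group whose centre has index dividing a prime is abelian. -/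
theorem comm_of_index_center_dvd_prime {q : ℕ} (hq : q.Prime) (h : (center S).index ∣ q) :
    IsMulCommutative S := by
  have : IsCyclic (S ⧸ center S) := by
    rcases (Nat.dvd_prime hq).mp h with h1 | h1
    · have : Subsingleton (S ⧸ center S) := (Nat.card_eq_one_iff_unique.mp (by rw [← index_eq_card, h1])).1
      exact isCyclic_of_subsingleton
    · have : Fact q.Prime := ⟨hq⟩
      exact isCyclic_of_prime_card (p := q) (by rw [← index_eq_card, h1])
  exact isMulCommutative_of_isCyclic_quotient_center_self S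

end CfsgLib.Coprime
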