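import Cfsg.Agent.Lib.Coprime.InvariantMaximalOrbit
import Cfsg.Agent.Lib.Comp.NilMax
import Cfsg.Agent.Lib.StructC.CoprimeSchmidt

/-!
# A maximal invariant subgroup which is nilpotent with Sylow `2`-subgroup of class at most two

Solvability of groups of odd order is a hypothesis.
-/

set_option autoImplicit false

namespace CfsgLib.Coprime.InvMax

open Subgroup CfsgLib.StructC.CoprimeSchmidt

universe u v

variable {G : Type u} [Group G] [Finite G] {A : Type v} [Group A] [Finite A]

/-- The action on an invariant subgroup. -/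
def restrictAct (φ : A →* MulAut G) {H : Subgroup G} (h : Invariant φ H) : A →* MulAut ↥H where
  toFun a :=
    { toFun := fun x => ⟨φ a x, h a x x.2⟩
      invFun := fun x => ⟨φ a⁻¹ x, h a⁻¹ x x.2⟩
      left_inv := fun x => Subtype.ext (by simp)
      right_inv := fun x => Subtype.ext (by simp)
      map_mul' := fun x y => Subtype.ext (by simp) }
  map_one' := MulEquiv.ext fun x => Subtype.ext (by simp)
  map_mul' a b := MulEquiv.ext fun x => Subtype.ext (by simp)

theorem restrictAct_apply (φ : A →* MulAut G) {H : Subgroup G} (h : Invariant φ H) (a : A) (x : H) :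
    ((restrictAct φ h a x : H) : G) = φ a x := rfl

theorem invariant_normalCore {φ : A →* MulAut G} {M : Subgroup G} (hM : Invariant φ M) :
    Invariant φ M.normalCore := by
  intro a x hx
  haveI : (M.normalCore.map (φ a).toMonoidHom).Normal :=
    Subgroup.Normal.map inferInstance _ (φ a).surjective
  have h : M.normalCore.map (φ a).toMonoidHom ≤ M.normalCore :=
    normal_le_normalCore.2 ((map_mono M.normalCore_le).trans (hM.map_eq a).le)
  exact h ⟨x, hx, rfl⟩

/-- Maximality among invariant subgroups. -/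
def IsMaxInvariant (φ : A →* MulAut G) (M : Subgroup G) : Prop :=
  M ≠ ⊤ ∧ ∀ H : Subgroup G, M ≤ H → H ≠ ⊤ → Invariant φ H → H = M

variable {φ : A →* MulAut G} {M : Subgroup G}

theorem normalizer_eq_of_invariant (hmax : IsMaxInvariant φ M) (hcore : M.normalCore = ⊥)
    {X : Subgroup G} (hX : Invariant φ X) (hXM : X ≤ M) (hX1 : X ≠ ⊥)
    (hMX : M ≤ normalizer (X : Set G)) : normalizer (X : Set G) = M := by
  refine hmax.2 _ hMX (fun h => hX1 ?_) (invariant_normalizer hX)
  haveI := normalizer_eq_top_iff.1 h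
  exact le_bot_iff.1 ((normal_le_normalCore.2 hXM).trans hcore.le)

theorem exists_sylow_normalizer (hMi : Invariant φ M) (hmax : IsMaxInvariant φ M)
    (hnil : Group.IsNilpotent M) (hcore : M.normalCore = ⊥) {p : ℕ} [Fact p.Prime]
    (hpM : p ∣ Nat.card M) :
    ∃ P : Sylow p G, (P : Subgroup G) ≤ M ∧ (P : Subgroup G) ≠ ⊥ ∧ Invariant φ (P : Subgroup G) ∧
      normalizer ((P : Subgroup G) : Set G) = M := by
  have := hnil
  let S : Sylow p M := default
  have hSn : (S : Subgroup M).Normal :=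
    Sylow.normal_of_normalizerCondition Group.normalizerCondition_of_isNilpotent S
  set X : Subgroup G := (S : Subgroup M).map M.subtype with hXdef
  have hXM : X ≤ M := map_subtype_le _
  have hX : X ≠ ⊥ := fun h =>
    S.ne_bot_of_dvd_card hpM ((map_eq_bot_iff_of_injective _ M.subtype_injective).1 h)
  have hMX : M ≤ normalizer (X : Set G) := by
    intro m hm
    rw [mem_normalizer_iff_map_conj_eq]
    have h := mem_normalizer_iff_map_conj_eq.1
      ((normalizer_eq_top_iff.2 hSn).ge (mem_top (⟨m, hm⟩ : M)))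
    replace h := congrArg (Subgroup.map M.subtype) h
    rw [hXdef, map_map]
    rw [map_map] at h
    exact h
  -- the `p`-elements of `M` lie in `X`
  have hmem : ∀ y ∈ M, ∀ k : ℕ, y ^ p ^ k = 1 → y ∈ X := by
    intro y hy k hk
    obtain ⟨j, -, hj⟩ := (Nat.dvd_prime_pow (Fact.out : p.Prime)).1 (orderOf_dvd_of_pow_eq_one hk)
    have hp1 : IsPGroup p ((zpowers y).subgroupOf M) :=
      (IsPGroup.of_card (n := j) (by rw [Nat.card_zpowers, hj])).comap_subtype
    obtain ⟨T, hT⟩ := hp1.exists_le_sylow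
    have := Sylow.unique_of_normal S hSn
    rw [Subsingleton.elim T S] at hT
    exact ⟨⟨y, hy⟩, hT (mem_zpowers y), rfl⟩
  have hXp : IsPGroup p X := S.isPGroup'.map _
  have hXi : Invariant φ X := by
    intro a x hx
    obtain ⟨k, hk⟩ := hXp ⟨x, hx⟩
    have hk' : x ^ p ^ k = 1 := congrArg Subtype.val hk
    exact hmem _ (hMi a x (hXM hx)) k (by rw [← map_pow, hk', map_one])
  have hNX := normalizer_eq_of_invariant hmax hcore hXi hXM hX hMX
  obtain ⟨P, hP⟩ := hXp.exists_le_sylow
  have hPX : (P : Subgroup G) = X := by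
    refine le_antisymm ?_ hP
    haveI := P.isPGroup'.isNilpotent
    have hself : normalizer ((X.subgroupOf (P : Subgroup G)) : Set (P : Subgroup G)) =
        X.subgroupOf (P : Subgroup G) := by
      refine le_antisymm (fun y hy => ?_) le_normalizer
      have hyM : (y : G) ∈ M := by
        rw [← hNX, mem_normalizer_iff]
        intro n
        rw [mem_normalizer_iff] at hy
        constructor
        · intro hn
          exact (hy ⟨n, hP hn⟩).1 hn
        · intro hn
          have h1 : n ∈ (P : Subgroup G) := by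
            have := (P : Subgroup G).mul_mem ((P : Subgroup G).mul_mem ((P : Subgroup G).inv_mem y.2)
              (hP hn)) y.2
            simpa [mul_assoc] using this
          exact (hy ⟨n, h1⟩).2 hn
      obtain ⟨k, hk⟩ := P.2 y
      exact hmem y hyM k (congrArg Subtype.val hk)
    exact subgroupOf_eq_top.1
      (normalizerCondition_iff_only_full_group_self_normalizing.1
        Group.normalizerCondition_of_isNilpotent _ hself)
  exact ⟨P, hPX ▸ hXM, hPX ▸ hX, hPX ▸ hXi, by rw [hPX, hNX]⟩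

/-- Odd primes: Glauberman–Thompson. -/
theorem complement_odd (hMi : Invariant φ M) (hmax : IsMaxInvariant φ M)
    (hnil : Group.IsNilpotent M) (hcore : M.normalCore = ⊥) {p : ℕ} [Fact p.Prime] (hp2 : p ≠ 2)
    (hpM : p ∣ Nat.card M) : Cfsg.HasNormalPComplement p G := by
  obtain ⟨P, hPM, hP, hPi, hNP⟩ := exists_sylow_normalizer hMi hmax hnil hcore hpM
  have hZi : Invariant φ (Cfsg.centerThompsonOf p (P : Subgroup G)) := invariant_of_map_eq fun a => by
    rw [OddLocal.centerThompsonOf_map _ (fun x _ h => (φ a).injective (h.trans (map_one (φ a)).symm)),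
      hPi.map_eq a]
  have hN : normalizer (Cfsg.centerThompsonOf p (P : Subgroup G) : Set G) = M :=
    normalizer_eq_of_invariant hmax hcore hZi ((OddLocal.centerThompsonOf_le _).trans hPM)
      (Char.centerThompsonOf_ne_bot P.isPGroup' hP)
      (hNP.ge.trans (OddLocal.normalizer_le_normalizer_centerThompsonOf _))
  refine Complement.hasNormalPComplement_of_centerThompson hp2 P ?_
  rw [hN]
  exact Complement.hasNormalPComplement_of_isNilpotent hnil

/-- The commutators of `2`-elements of `M` commute with its `2`-elements. -/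
def TwoClass (M : Subgroup G) : Prop :=
  ∀ x ∈ M, ∀ y ∈ M, ∀ z ∈ M, (∃ k : ℕ, x ^ 2 ^ k = 1) → (∃ k : ℕ, y ^ 2 ^ k = 1) →
    (∃ k : ℕ, z ^ 2 ^ k = 1) → z * (x * y * x⁻¹ * y⁻¹) = x * y * x⁻¹ * y⁻¹ * z

theorem complement_two (hA : Odd (Nat.card A)) (hMi : Invariant φ M) (hmax : IsMaxInvariant φ M)
    (hnil : Group.IsNilpotent M) (hcore : M.normalCore = ⊥) (hcl : TwoClass M)
    (h2M : 2 ∣ Nat.card M) : Cfsg.HasNormalPComplement 2 G := by
  haveI : Fact (Nat.Prime 2) := ⟨Nat.prime_two⟩
  obtain ⟨P, hPM, -, hPi, hNP⟩ := exists_sylow_normalizer hMi hmax hnil hcore h2M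
  have key : ∀ Q : Sylow 2 G, ∃ g : G, (Q : Subgroup G) = (P : Subgroup G).map (MulAut.conj g).toMonoidHom := by
    intro Q
    obtain ⟨g, rfl⟩ := MulAction.exists_smul_eq G P Q
    exact ⟨g, rfl⟩
  have hclG : CommCentral G := by
    intro Q x hx y hy z hz
    obtain ⟨g, e⟩ := key Q
    rw [e] at hx hy hz
    obtain ⟨x', hx', rfl⟩ := hx
    obtain ⟨y', hy', rfl⟩ := hy
    obtain ⟨z', hz', rfl⟩ := hz
    simp only [← map_mul, ← map_inv]
    rw [hcl x' (hPM hx') y' (hPM hy') z' (hPM hz') (exists_pow_two_pow P.2 hx')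
      (exists_pow_two_pow P.2 hy') (exists_pow_two_pow P.2 hz')]
  have hgood : NormGood G := by
    intro Q g hg hgo
    obtain ⟨a, e⟩ := key Q
    rw [e, ← map_equiv_normalizer_eq, hNP] at hg
    obtain ⟨g', hg', rfl⟩ := hg
    refine mem_centralizer_iff.2 fun q hq => ?_
    rw [e] at hq
    obtain ⟨q', hq', rfl⟩ := hq
    rw [← map_mul, ← map_mul]
    refine congrArg _ (OddLocal.commute_of_mem_nilpotent hnil (hPM hq') hg' ?_)
    obtain ⟨k, hk⟩ := exists_pow_two_pow P.2 hq'
    have ho : orderOf g' = orderOf ((MulAut.conj a).toMonoidHom g') :=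
      (orderOf_injective _ (MulAut.conj a).injective g').symm
    exact Nat.Coprime.coprime_dvd_left (orderOf_dvd_of_pow_eq_one hk)
      ((Nat.coprime_two_left.2 (ho ▸ hgo)).pow_left k)
  refine hasNormalTwoComplement_of_invariant_maximal hclG hgood φ hA (fun a => hPi.map_eq a)
    (fun H hH hle hne => (hmax.2 H (hNP ▸ hle) hne (invariant_of_map_eq hH)).trans hNP.symm)
    fun X hX hXp => ?_
  haveI := hX
  have h1 : X ≤ M := (Solvable.normal_pgroup_le_sylow hXp P).trans hPM
  exact le_bot_iff.1 ((normal_le_normalCore.2 h1).trans hcore.le)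

/-- Complements for all prime divisors of `M` and a solvable actor give solvability. -/
theorem isSolvable_of_complements (hA : Group.IsSolvable A)
    (hcop : (Nat.card A).Coprime (Nat.card G)) (hMi : Invariant φ M) (hmax : IsMaxInvariant φ M)
    (hnil : Group.IsNilpotent M) (hcore : M.normalCore = ⊥)
    (hcompl : ∀ p : ℕ, p.Prime → p ∣ Nat.card M → Cfsg.HasNormalPComplement p G) :
    Group.IsSolvable G := by
  have := hnil
  have hMsol : Group.IsSolvable M := inferInstance
  let K : Subgroup G := sInf {R | ∃ p : ℕ, p.Prime ∧ p ∣ Nat.card M ∧ R = Cfsg.pResidual p G}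
  have hKn : K.Normal := by
    refine ⟨fun n hn g => ?_⟩
    simp only [K, mem_sInf, Set.mem_ofPred_eq, forall_exists_index, and_imp] at hn ⊢
    intro R p hp hpM hR
    have := Transfer.pResidual_normal (G := G) (p := p)
    have h := hn R p hp hpM hR
    subst hR
    exact this.conj_mem n h g
  have hKi : Invariant φ K := by
    intro a x hx
    simp only [K, mem_sInf, Set.mem_ofPred_eq, forall_exists_index, and_imp] at hx ⊢
    intro R p hp hpM hR
    have h := hx R p hp hpM hR
    subst hR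
    exact invariant_pResidual φ p a x h
  have hKc : (Nat.card M).Coprime (Nat.card K) := by
    refine Nat.coprime_of_dvd fun p hp hpM hpK => ?_
    haveI := Fact.mk hp
    have h := Transfer.hasNormalPComplement_iff_coprime_pResidual.1 (hcompl p hp hpM)
    have hle : K ≤ Cfsg.pResidual p G := sInf_le ⟨p, hp, hpM, rfl⟩
    exact hp.ne_one (Nat.eq_one_of_dvd_coprimes h (hpK.trans (card_dvd_of_le hle)) dvd_rfl)
  -- some prime `q` divides the index of `M` but not its order
  obtain ⟨q, hq, hqG, hqM⟩ : ∃ q : ℕ, q.Prime ∧ q ∣ Nat.card G ∧ ¬ q ∣ Nat.card M := by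
    by_contra h
    push Not at h
    have hidx : M.index ≠ 1 := fun h => hmax.1 (index_eq_one.1 h)
    obtain ⟨r, hr, hri⟩ := Nat.exists_prime_and_dvd hidx
    haveI := Fact.mk hr
    have hrM := h r hr (hri.trans M.index_dvd_card)
    obtain ⟨P, hPM, -, -, -⟩ := exists_sylow_normalizer hMi hmax hnil hcore hrM
    exact P.not_dvd_index (hri.trans (index_dvd_of_le hPM))
  haveI := Fact.mk hq
  obtain ⟨x, hx⟩ := exists_prime_orderOf_dvd_card' (G := G) q hqG
  have hxK : x ∈ K := by
    simp only [K, mem_sInf, Set.mem_ofPred_eq, forall_exists_index, and_imp]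
    rintro R p hp hpM rfl
    haveI := Fact.mk hp
    refine Transfer.mem_pResidual_of_coprime ?_
    rw [hx]
    exact (Nat.coprime_primes hq hp).2 (fun e => hqM (e ▸ hpM))
  have hqK : q ∣ Nat.card K := hx ▸ K.orderOf_dvd_natCard hxK
  -- `M ⋊ A` acts on `K`
  let ψ := restrictAct φ hMi
  let θM : ↥M →* MulAut ↥K := (MulAut.conjNormal (H := K)).comp M.subtype
  let θA : A →* MulAut ↥K := restrictAct φ hKi
  let θ : (↥M ⋊[ψ] A) →* MulAut ↥K := SemidirectProduct.lift θM θA fun a => by
    refine MonoidHom.ext fun m => MulEquiv.ext fun k => Subtype.ext ?_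
    show (φ a m : G) * k * (φ a m : G)⁻¹ = φ a ((m : G) * ((θA a).symm k : ↥K) * (m : G)⁻¹)
    have e : φ a (((θA a).symm k : ↥K) : G) = k := by
      rw [← restrictAct_apply φ hKi a]; exact congrArg Subtype.val ((θA a).apply_symm_apply k)
    rw [map_mul, map_mul, map_inv, e]
  haveI : Finite (↥M ⋊[ψ] A) := Finite.of_equiv _ SemidirectProduct.equivProd.symm
  have hBsol : Group.IsSolvable (↥M ⋊[ψ] A) :=
    Group.isSolvable_of_ker_le_range (SemidirectProduct.inl : ↥M →* ↥M ⋊[ψ] A)
      SemidirectProduct.rightHom SemidirectProduct.range_inl_eq_ker_rightHom.ge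
  have hBcop : (Nat.card (↥M ⋊[ψ] A)).Coprime (Nat.card K) := by
    rw [Nat.card_congr SemidirectProduct.equivProd, Nat.card_prod]
    exact hKc.mul_left (hcop.coprime_dvd_right (card_subgroup_dvd_card K))
  obtain ⟨Q, hQ⟩ := CfsgLib.StructC.CoprimeSchmidt.exists_invariant_sylow θ hBcop (Or.inl hBsol) q
  set X : Subgroup G := (Q : Subgroup K).map K.subtype with hXdef
  have hXp : IsPGroup q X := Q.isPGroup'.map _
  have hXne : X ≠ ⊥ := fun h =>
    Q.ne_bot_of_dvd_card hqK ((map_eq_bot_iff_of_injective _ K.subtype_injective).1 h)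
  have hXM : ¬ X ≤ M := fun h => hqM <| by
    obtain ⟨k, hk⟩ := IsPGroup.iff_card.1 hXp
    have : k ≠ 0 := fun e => hXne (card_eq_one.1 (by rw [hk, e, pow_zero]))
    exact ((dvd_pow_self q this).trans (by rw [hk])).trans (card_dvd_of_le h)
  have hXi : Invariant φ X := by
    rintro a _ ⟨k, hk, rfl⟩
    have h : θ (SemidirectProduct.inr a) k ∈ (Q : Subgroup K) := hQ _ k hk
    rw [show θ (SemidirectProduct.inr a) = θA a from SemidirectProduct.lift_inr _ _ _ a] at h
    exact ⟨_, h, rfl⟩
  have hMX : M ≤ normalizer (X : Set G) := by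
    intro m hm
    rw [mem_normalizer_iff_map_conj_eq]
    refine eq_of_le_of_card_ge ?_ (card_map_of_injective (MulAut.conj m).injective).ge
    rintro _ ⟨_, ⟨k, hk, rfl⟩, rfl⟩
    have h : θ (SemidirectProduct.inl (⟨m, hm⟩ : M)) k ∈ (Q : Subgroup K) := hQ _ k hk
    rw [show θ (SemidirectProduct.inl (⟨m, hm⟩ : M)) = θM ⟨m, hm⟩ from
      SemidirectProduct.lift_inl _ _ _ _] at h
    exact ⟨_, h, rfl⟩
  have hsup : M ⊔ X = ⊤ := by
    by_contra h
    refine hXM ((hmax.2 _ le_sup_left h (invariant_of_map_eq fun a => ?_)) ▸ le_sup_right)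
    rw [Subgroup.map_sup, hMi.map_eq, hXi.map_eq]
  have hXn : X.Normal := normalizer_eq_top_iff.1 (eq_top_iff.2 (hsup ▸ sup_le hMX le_normalizer))
  haveI := hXp.isNilpotent
  have hsurj : Function.Surjective ((QuotientGroup.mk' X).comp M.subtype) := by
    rw [← MonoidHom.range_eq_top, MonoidHom.range_comp, range_subtype]
    have h := Subgroup.map_sup M X (QuotientGroup.mk' X)
    rw [hsup, map_top_of_surjective _ (QuotientGroup.mk'_surjective X),
      (map_eq_bot_iff X).2 (QuotientGroup.ker_mk' X).ge, sup_bot_eq] at h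
    exact h.symm
  haveI := Group.isSolvable_of_surjective hsurj
  exact Group.isSolvable_of_ker_le_range (X.subtype) (QuotientGroup.mk' X)
    (by rw [QuotientGroup.ker_mk', range_subtype])

theorem exists_twoLift {N : Subgroup G} [N.Normal] {x : G} (hx : x ∈ M) {k : ℕ}
    (hk : (x : G ⧸ N) ^ 2 ^ k = 1) :
    ∃ x' ∈ M, (∃ j : ℕ, x' ^ 2 ^ j = 1) ∧ (x' : G ⧸ N) = x := by
  have hx0 : orderOf x ≠ 0 := (orderOf_pos x).ne'
  obtain ⟨a, ha⟩ : ∃ a, a = (orderOf x).factorization 2 := ⟨_, rfl⟩
  obtain ⟨r, hr⟩ : ∃ r, r = orderOf x / 2 ^ a := ⟨_, rfl⟩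
  have hr2 : ¬ 2 ∣ r := by rw [hr, ha]; exact Nat.not_dvd_ordCompl Nat.prime_two hx0
  have he : r * 2 ^ a = orderOf x := by
    rw [hr, ha, mul_comm]; exact Nat.ordProj_mul_ordCompl_eq_self _ 2
  obtain ⟨j, hj⟩ := exists_pow_eq_self_of_coprime (x := (x : G ⧸ N)) (n := r)
    (((Nat.prime_two.coprime_iff_not_dvd.2 hr2).symm.pow_right k).coprime_dvd_right
      (orderOf_dvd_of_pow_eq_one hk))
  refine ⟨(x ^ r) ^ j, pow_mem (pow_mem hx r) j, ⟨a, ?_⟩, by
    rw [QuotientGroup.mk_pow, QuotientGroup.mk_pow, hj]⟩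
  rw [← pow_mul, ← pow_mul, show r * (j * 2 ^ a) = r * 2 ^ a * j by ring, he, pow_mul,
    pow_orderOf_eq_one, one_pow]

/-- A group with a nilpotent maximal invariant subgroup, Sylow `2`-subgroup of class at most two,
is solvable. -/
theorem isSolvable_of_invariant_nilpotent_maximal
    (hFT : ∀ (X : Type u) [Group X] [Finite X], Odd (Nat.card X) → Group.IsSolvable X)
    (hFT' : ∀ (X : Type v) [Group X] [Finite X], Odd (Nat.card X) → Group.IsSolvable X)
    (φ : A →* MulAut G) (hcop : (Nat.card A).Coprime (Nat.card G)) (M : Subgroup G)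
    (hMi : Invariant φ M) (hmax : IsMaxInvariant φ M) (hnil : Group.IsNilpotent M)
    (hcl : TwoClass M) : Group.IsSolvable G := by
  by_cases hev : 2 ∣ Nat.card G
  swap
  · exact hFT G (Nat.odd_iff.2 (Nat.two_dvd_ne_zero.1 hev))
  have hAo : Odd (Nat.card A) := Nat.coprime_two_right.1 (hcop.coprime_dvd_right hev)
  have hAsol := hFT' A hAo
  refine Comp.isSolvable_of_quotient_core (M := M) hnil ?_
  set N := M.normalCore with hN
  have hNi : Invariant φ N := invariant_normalCore hMi
  set π := QuotientGroup.mk' N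
  set φ' := quotAut hNi
  have hMi' : Invariant φ' (M.map π) := by
    rintro a _ ⟨m, hm, rfl⟩
    exact ⟨φ a m, hMi a m hm, rfl⟩
  have hcomap : (M.map π).comap π = M := by
    rw [comap_map_eq, QuotientGroup.ker_mk', sup_of_le_left M.normalCore_le]
  have hmax' : IsMaxInvariant φ' (M.map π) := by
    refine ⟨fun h => hmax.1 (by rw [← hcomap, h, comap_top]), fun H hle hne hH => ?_⟩
    have h1 : H.comap π = M := hmax.2 _ (hcomap.symm.le.trans (comap_mono hle))
      (fun h => hne (by rw [← map_comap_eq_self_of_surjective (QuotientGroup.mk'_surjective N) H, h,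
        map_top_of_surjective π (QuotientGroup.mk'_surjective N)]))
      (fun a x hx => hH a (π x) hx)
    rw [← map_comap_eq_self_of_surjective (QuotientGroup.mk'_surjective N) H, h1]
  have hnil' := OddLocal.isNilpotent_map π hnil
  have hcore' := Comp.normalCore_map_core M
  have hcl' : TwoClass (M.map π) := by
    rintro _ ⟨x, hx, rfl⟩ _ ⟨y, hy, rfl⟩ _ ⟨z, hz, rfl⟩ ⟨i, hi⟩ ⟨j, hj⟩ ⟨l, hl⟩
    obtain ⟨x', hx', hx2, ex⟩ := exists_twoLift (N := N) hx hi
    obtain ⟨y', hy', hy2, ey⟩ := exists_twoLift (N := N) hy hj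
    obtain ⟨z', hz', hz2, ez⟩ := exists_twoLift (N := N) hz hl
    simp only [π, QuotientGroup.mk'_apply, ← ex, ← ey, ← ez, ← QuotientGroup.mk_mul,
      ← QuotientGroup.mk_inv]
    rw [hcl x' hx' y' hy' z' hz' hx2 hy2 hz2]
  have hcop' : (Nat.card A).Coprime (Nat.card (G ⧸ N)) :=
    hcop.coprime_dvd_right N.card_quotient_dvd_card
  refine isSolvable_of_complements hAsol hcop' hMi' hmax' hnil' hcore' fun p hp hpM => ?_
  haveI := Fact.mk hp
  rcases eq_or_ne p 2 with rfl | hp2
  · exact complement_two hAo hMi' hmax' hnil' hcore' hcl' hpM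
  · exact complement_odd hMi' hmax' hnil' hcore' hp2 hpM

end CfsgLib.Coprime.InvMax
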