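import Cfsg.Agent.Lib.Coprime.InvariantMaximalTwo

/-!
# The orbit argument: class two Sylow `2`-subgroups with nilpotent maximal invariant normalizer
-/

set_option autoImplicit false

namespace CfsgLib.Coprime.InvMax

open Subgroup

universe u v

variable {G : Type u} [Group G] [Finite G]

theorem Bad.map {D : Subgroup G} (h : Bad D) (e : G ≃* G) : Bad (D.map e.toMonoidHom) := by
  obtain ⟨hp, g, hg, hgo, hgC⟩ := h
  refine ⟨hp.map _, e g, ?_, by rwa [e.orderOf_eq g], fun hC => hgC ?_⟩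
  · rw [← map_equiv_normalizer_eq]
    exact mem_map_of_mem _ hg
  · refine mem_centralizer_iff.2 fun d hd => e.injective ?_
    simpa using mem_centralizer_iff.1 hC (e d) (mem_map_of_mem _ hd)

theorem MaxBad.map {D : Subgroup G} (h : MaxBad D) (e : G ≃* G) : MaxBad (D.map e.toMonoidHom) :=
  ⟨h.1.map e, fun R hR => (h.2 R hR).trans_eq (card_map_of_injective e.injective).symm⟩

theorem card_sup_mul_inf_of_le_normalizer {K A : Subgroup G} (h : A ≤ normalizer (K : Set G)) :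
    Nat.card (K ⊔ A : Subgroup G) * Nat.card (K ⊓ A : Subgroup G) = Nat.card A * Nat.card K := by
  have h1 : K.relIndex (K ⊔ A) = K.relIndex A := by
    haveI : (K.subgroupOf (normalizer (K : Set G))).Normal := normal_in_normalizer
    rw [← relIndex_subgroupOf (sup_le le_normalizer h), ← relIndex_subgroupOf h,
      subgroupOf_sup le_normalizer h, relIndex_sup_left]
  have h2 : Nat.card (K ⊔ A : Subgroup G) = Nat.card K * K.relIndex A := by
    rw [← h1, ← relIndex_bot_left, ← relIndex_bot_left, relIndex_mul_relIndex ⊥ K _ bot_le le_sup_left]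
  have h3 : Nat.card A = Nat.card (K ⊓ A : Subgroup G) * K.relIndex A := by
    rw [← inf_relIndex_right K A, ← relIndex_bot_left, ← relIndex_bot_left,
      relIndex_mul_relIndex ⊥ (K ⊓ A) _ bot_le inf_le_right]
  rw [h2, h3]; ring

theorem card_eq_of_maxBad {D D' : Subgroup G} (h : MaxBad D) (h' : MaxBad D') :
    Nat.card D = Nat.card D' :=
  le_antisymm (h'.2 D h.1) (h.2 D' h'.1)

/-- Some involution in the centre of `D` is outside `D'`. -/
def Adj (D D' : Subgroup G) : Prop :=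
  ∃ v ∈ zc D, v * v = 1 ∧ v ∉ D'

theorem Adj.map {D D' : Subgroup G} (h : Adj D D') (e : G ≃* G) :
    Adj (D.map e.toMonoidHom) (D'.map e.toMonoidHom) := by
  obtain ⟨v, ⟨hvD, hvC⟩, hv2, hv'⟩ := h
  refine ⟨e v, ⟨mem_map_of_mem _ hvD, ?_⟩, by rw [← map_mul, hv2, map_one],
    fun h => hv' ((mem_map_iff_mem e.injective).1 h)⟩
  refine mem_centralizer_iff.2 ?_
  rintro _ ⟨d, hd, rfl⟩
  show e d * e v = e v * e d
  rw [← map_mul, ← map_mul, mem_centralizer_iff.1 hvC d hd]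

variable (hcl : CommCentral G) (hN : NormGood G) {P : Sylow 2 G} {D D' D'' : Subgroup G}

include hcl in
theorem le_normalizer_maxBad (hD : MaxBad D) (hP : D ≤ (P : Subgroup G)) :
    (P : Subgroup G) ≤ normalizer (D : Set G) :=
  le_normalizer_of_comm hD hcl hP le_rfl hP

include hcl hN in
/-- If `v` is an involution of `Z(D)` outside `D'`, then `P = V' D` for the module `V'` of `D'`
attached to `v`. -/
theorem exchange (hD : MaxBad D) (hD' : MaxBad D') (hP : D ≤ (P : Subgroup G))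
    (hP' : D' ≤ (P : Subgroup G)) {v : G} (hv : v ∈ zc D) (hv2 : v * v = 1) (hvD' : v ∉ D') :
    ∃ (V : Subgroup G) (g : G), g ∈ normalizer (D' : Set G) ∧ V ≤ zc D' ∧ (∀ x ∈ V, x * x = 1) ∧
      (∀ d ∈ D', g * d * g⁻¹ * d⁻¹ ∈ V) ∧ (∀ x ∈ V, g * x = x * g → x = 1) ∧
      (∀ x ∈ V, v * x * v⁻¹ ∈ V) ∧
      (∀ x ∈ (P : Subgroup G), ∃ w ∈ V, ∃ d ∈ D, w * d = x) ∧
      (∀ x ∈ V, x * v = v * x → x ∈ D) := by
  obtain ⟨V, g, hg, -, -, hVz, hV2, hgd, hfix, hvV, hcount⟩ := exists_datum hD' hcl hN hP'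
    (hP hv.1) hvD' (by rw [hv2]; exact one_mem _)
  have hVP : V ≤ (P : Subgroup G) := fun x hx => hP' (hVz hx).1
  have hVn : V ≤ normalizer (D : Set G) := hVP.trans (le_normalizer_maxBad hcl hD hP)
  have hle : D ⊓ V ≤ V ⊓ centralizer ({v} : Set G) := fun x hx =>
    ⟨hx.2, mem_centralizer_singleton_iff.2 (mem_centralizer_iff.1 hv.2 x hx.1)⟩
  rw [← card_eq_of_maxBad hD hD'] at hcount
  have hprod : Nat.card (D ⊔ V : Subgroup G) * Nat.card (D ⊓ V : Subgroup G) =
      Nat.card V * Nat.card D := card_sup_mul_inf_of_le_normalizer hVn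
  have hsup : D ⊔ V ≤ (P : Subgroup G) := sup_le hP hVP
  have hc1 := Nat.card_pos (α := (D ⊓ V : Subgroup G))
  have hc2 := card_dvd_of_le hle
  have hc3 : Nat.card (D ⊓ V : Subgroup G) ≤
      Nat.card (V ⊓ centralizer ({v} : Set G) : Subgroup G) := Nat.le_of_dvd Nat.card_pos hc2
  have hPle : Nat.card (P : Subgroup G) ≤ Nat.card (D ⊔ V : Subgroup G) := by
    refine Nat.le_of_mul_le_mul_right ?_ hc1
    rw [hprod]
    exact (Nat.mul_le_mul_left _ hc3).trans hcount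
  have heq : D ⊔ V = (P : Subgroup G) := eq_of_le_of_card_ge hsup hPle
  refine ⟨V, g, hg, hVz, hV2, hgd, hfix, hvV, fun x hx => ?_, fun x hx hc => ?_⟩
  · rw [← heq, sup_comm, ← SetLike.mem_coe, coe_mul_of_left_le_normalizer_right V D hVn] at hx
    exact Set.mem_mul.1 hx
  · have hle2 : Nat.card (V ⊓ centralizer ({v} : Set G) : Subgroup G) ≤
        Nat.card (D ⊓ V : Subgroup G) := by
      refine Nat.le_of_mul_le_mul_left ?_ (Nat.card_pos (α := (P : Subgroup G)))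
      refine hcount.trans ?_
      rw [← hprod, heq]
    have h := (eq_of_le_of_card_ge hle hle2).symm.le ⟨hx, mem_centralizer_singleton_iff.2 hc⟩
    exact h.1

include hcl hN in
theorem Adj.symm (hD : MaxBad D) (hD' : MaxBad D') (hP : D ≤ (P : Subgroup G))
    (hP' : D' ≤ (P : Subgroup G)) (h : Adj D D') : Adj D' D := by
  obtain ⟨v, hv, hv2, hvD'⟩ := h
  obtain ⟨V, g, -, hVz, hV2, -, -, -, hcov, -⟩ := exchange hcl hN hD hD' hP hP' hv hv2 hvD'
  by_contra hcon
  have hVD : V ≤ D := fun x hx => by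
    by_contra hxD
    exact hcon ⟨x, hVz hx, hV2 x hx, hxD⟩
  have hPD : (P : Subgroup G) ≤ D := fun x hx => by
    obtain ⟨w, hw, d, hd, rfl⟩ := hcov x hx
    exact mul_mem (hVD hw) hd
  have h1 := card_eq_of_maxBad hD hD'
  rw [le_antisymm hP hPD] at h1
  exact hvD' ((eq_of_le_of_card_ge hP' h1.le).symm.le (hP hv.1))

theorem sq_fixed {g d w : G} (hw : w * w = 1) (hwd : d * w = w * d) (h : g * d * g⁻¹ = w * d) :
    g * (d * d) = d * d * g := by
  refine mul_inv_eq_iff_eq_mul.1 ?_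
  calc g * (d * d) * g⁻¹ = (g * d * g⁻¹) * (g * d * g⁻¹) := by group
    _ = w * (d * w) * d := by rw [h]; group
    _ = (w * w) * (d * d) := by rw [hwd]; group
    _ = d * d := by rw [hw, one_mul]

theorem comm_fixed {g a b wa wb : G} (ha : Commute wa a) (hab : Commute wa b) (hba : Commute wb a)
    (hb : Commute wb b) (hw : Commute wa wb) (h1 : g * a * g⁻¹ = wa * a)
    (h2 : g * b * g⁻¹ = wb * b) : g * (a * b * a⁻¹ * b⁻¹) = a * b * a⁻¹ * b⁻¹ * g := by
  refine mul_inv_eq_iff_eq_mul.1 ?_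
  calc g * (a * b * a⁻¹ * b⁻¹) * g⁻¹ =
        (g * a * g⁻¹) * (g * b * g⁻¹) * (g * a * g⁻¹)⁻¹ * (g * b * g⁻¹)⁻¹ := by group
    _ = wa * (a * wb) * b * a⁻¹ * (wa⁻¹ * b⁻¹) * wb⁻¹ := by rw [h1, h2]; group
    _ = wa * wb * (a * b * a⁻¹ * b⁻¹) * (wa⁻¹ * wb⁻¹) := by
        rw [← hba.eq, hab.inv_inv.eq]; group
    _ = (a * b * a⁻¹ * b⁻¹) * (wa * wb * (wa⁻¹ * wb⁻¹)) := by
        rw [((((ha.mul_left hba).mul_right (hab.mul_left hb)).mul_right
          (ha.mul_left hba).inv_right).mul_right (hab.mul_left hb).inv_right).eq, mul_assoc]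
    _ = a * b * a⁻¹ * b⁻¹ := by
        rw [hw.eq, mul_assoc wb wa, mul_inv_cancel_left, mul_inv_cancel, mul_one]

include hcl hN in
/-- The second neighbour of `D` coincides with the first one. -/
theorem adj_unique (hD : MaxBad D) (hD' : MaxBad D') (hD'' : MaxBad D'')
    (hP : D ≤ (P : Subgroup G)) (hP' : D' ≤ (P : Subgroup G)) (hP'' : D'' ≤ (P : Subgroup G))
    (h1 : Adj D D') (h2 : Adj D D'') : D'' = D' := by
  -- an involution `v'` of `Z(D')` outside `D` and the module of `D` attached to it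
  obtain ⟨v', hv', hv'2, hv'D⟩ := Adj.symm hcl hN hD hD' hP hP' h1
  obtain ⟨V, g, hg, hVz, hV2, hgd, hfix, hv'V, hcov, hCV⟩ :=
    exchange hcl hN hD' hD hP' hP hv' hv'2 hv'D
  -- an involution of `Z(D'')` in the coset `v' D`
  obtain ⟨u, hu, hu2, huD''⟩ := h2
  obtain ⟨V'', g'', -, hV''z, hV''2, -, -, -, hcov'', -⟩ :=
    exchange hcl hN hD hD'' hP hP'' hu hu2 huD''
  obtain ⟨e, he, d₀, hd₀, he0⟩ := hcov'' v' (hP' hv'.1)
  obtain ⟨v, hv, c, hc, hvc⟩ := hcov d₀⁻¹ (hP (inv_mem hd₀))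
  have hvD : v ∈ D := (hVz hv).1
  have hcD : c ∈ D := by
    have : c = v⁻¹ * d₀⁻¹ := by rw [← hvc, inv_mul_cancel_left]
    rw [this]; exact mul_mem (inv_mem hvD) (inv_mem hd₀)
  have hee : e = v' * (v * c) := by rw [hvc, ← he0, mul_inv_cancel_right]
  have hcv : c * v = v * c := mem_centralizer_iff.1 (hVz hv).2 c hcD
  have hcv' : c * v' = v' * c := mem_centralizer_iff.1 hv'.2 c hc
  have hsq : v' * v * v'⁻¹ * v⁻¹ = (c * c)⁻¹ := by
    have hv'inv : v'⁻¹ = v' := inv_eq_of_mul_eq_one_left hv'2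
    have hvinv : v⁻¹ = v := inv_eq_of_mul_eq_one_left (hV2 v hv)
    rw [hv'inv, hvinv, eq_inv_iff_mul_eq_one]
    calc v' * v * v' * v * (c * c) = v' * v * (v' * (v * c)) * c := by group
      _ = v' * v * (v' * (c * v)) * c := by rw [hcv]
      _ = v' * v * ((c * v') * v) * c := by rw [hcv']; group
      _ = v' * (v * c) * (v' * (v * c)) := by group
      _ = 1 := by rw [← hee]; exact hV''2 e he
  have hcomm : v' * v = v * v' := by
    have hmem : v' * v * v'⁻¹ * v⁻¹ ∈ V := mul_mem (hv'V v hv) (inv_mem hv)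
    have h := hfix _ hmem (by
      rw [hsq]
      exact (Commute.inv_right (sq_fixed (w := g * c * g⁻¹ * c⁻¹) (hV2 _ (hgd c hcD))
        (mem_centralizer_iff.1 (hVz (hgd c hcD)).2 c hcD) (by group))).eq)
    rw [mul_inv_eq_one, mul_inv_eq_iff_eq_mul] at h
    exact h
  have hvD' : v ∈ D' := hCV v hv hcomm.symm
  set c₀ := v * c
  have hc₀ : c₀ ∈ D := mul_mem hvD hcD
  have hc₀' : c₀ ∈ D' := mul_mem hvD' hc
  -- `D''` centralizes `e` and is therefore contained in `D'`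
  refine eq_of_le_of_card_ge (fun x hx => ?_) (card_eq_of_maxBad hD' hD'').le
  obtain ⟨v₁, hv₁, d', hd', rfl⟩ := hcov x (hP'' hx)
  have hex : (v₁ * d') * e = e * (v₁ * d') := mem_centralizer_iff.1 (hV''z he).2 _ hx
  by_contra hxD'
  have hv₁D' : v₁ ∉ D' := fun h => hxD' (mul_mem h hd')
  obtain ⟨W, k, hk, hWz, hW2, hkd, hkfix, hv₁W, hcovW, -⟩ :=
    exchange hcl hN hD hD' hP hP' (hVz hv₁) (hV2 v₁ hv₁) hv₁D'
  obtain ⟨w₁, hw₁, c₂, hc₂, hwc⟩ := hcovW v' (hP' hv'.1)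
  have hc₂' : c₂ ∈ D' := by
    have : c₂ = w₁⁻¹ * v' := by rw [← hwc, inv_mul_cancel_left]
    rw [this]; exact mul_mem (inv_mem (hWz hw₁).1) hv'.1
  have hv₁C : ∀ y ∈ D, y * v₁ = v₁ * y := fun y hy => mem_centralizer_iff.1 (hVz hv₁).2 y hy
  have hv'C : ∀ y ∈ D', y * v' = v' * y := fun y hy => mem_centralizer_iff.1 hv'.2 y hy
  -- the commutator equation
  have heq : v₁ * v' * v₁⁻¹ * v'⁻¹ = c₀ * d' * c₀⁻¹ * d'⁻¹ := by
    rw [mul_inv_eq_iff_eq_mul, mul_inv_eq_iff_eq_mul]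
    rw [hee] at hex
    have hA : v₁ * v' * (d' * c₀) = v' * v₁ * (c₀ * d') := by
      calc v₁ * v' * (d' * c₀) = v₁ * (d' * v') * c₀ := by rw [hv'C d' hd']; group
        _ = v₁ * d' * (v' * c₀) := by group
        _ = v' * c₀ * (v₁ * d') := hex
        _ = v' * (v₁ * c₀) * d' := by rw [← hv₁C c₀ hc₀]; group
        _ = v' * v₁ * (c₀ * d') := by group
    have hP1 : Commute (c₀ * d' * c₀⁻¹ * d'⁻¹) (v' * v₁) := by
      refine Commute.mul_right ?_ ?_
      · exact (hv'C _ (mul_mem (mul_mem (mul_mem hc₀' hd') (inv_mem hc₀')) (inv_mem hd')))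
      · exact (hcl P _ (hP' hc₀') _ (hP' hd') _ (hP (hVz hv₁).1)).symm
    calc v₁ * v' = v₁ * v' * (d' * c₀) * (d' * c₀)⁻¹ := by group
      _ = v' * v₁ * (c₀ * d' * c₀⁻¹ * d'⁻¹) := by rw [hA]; group
      _ = c₀ * d' * c₀⁻¹ * d'⁻¹ * (v' * v₁) := hP1.eq.symm
      _ = _ := by group
  have hmemW : v₁ * v' * v₁⁻¹ * v'⁻¹ ∈ W := by
    have e1 : v₁ * v' * v₁⁻¹ * v'⁻¹ = (v₁ * w₁ * v₁⁻¹) * w₁⁻¹ := by
      rw [← hwc]
      calc v₁ * (w₁ * c₂) * v₁⁻¹ * (w₁ * c₂)⁻¹ =
            (v₁ * w₁ * v₁⁻¹) * (v₁ * c₂) * v₁⁻¹ * c₂⁻¹ * w₁⁻¹ := by group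
        _ = (v₁ * w₁ * v₁⁻¹) * (c₂ * v₁) * v₁⁻¹ * c₂⁻¹ * w₁⁻¹ := by rw [hv₁C c₂ hc₂]
        _ = (v₁ * w₁ * v₁⁻¹) * w₁⁻¹ := by group
    rw [e1]; exact mul_mem (hv₁W w₁ hw₁) (inv_mem hw₁)
  have h1 := hkfix _ hmemW (by
    rw [heq]
    have hz : ∀ {y}, y ∈ D' → ∀ {z}, z ∈ D' → Commute (k * y * k⁻¹ * y⁻¹) z := fun hy _ hz =>
      (mem_centralizer_iff.1 (hWz (hkd _ hy)).2 _ hz).symm
    exact comm_fixed (hz hc₀' hc₀') (hz hc₀' hd') (hz hd' hc₀') (hz hd' hd')
      (hz hc₀' (hWz (hkd _ hd')).1) (by group) (by group))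
  rw [mul_inv_eq_one, mul_inv_eq_iff_eq_mul] at h1
  exact hv₁D' (hCV v₁ hv₁ h1)

theorem mem_of_two_element {n : G} (hn : n ∈ normalizer ((P : Subgroup G) : Set G)) {k : ℕ}
    (hk : n ^ 2 ^ k = 1) : n ∈ (P : Subgroup G) := by
  haveI : Fact (Nat.Prime 2) := ⟨Nat.prime_two⟩
  obtain ⟨j, -, hj⟩ := (Nat.dvd_prime_pow Nat.prime_two).1 (orderOf_dvd_of_pow_eq_one hk)
  have hp : IsPGroup 2 (zpowers n) := IsPGroup.of_card (n := j) (by rw [Nat.card_zpowers, hj])
  have h : (P : Subgroup G) ⊔ zpowers n = (P : Subgroup G) :=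
    P.is_maximal' ((sup_comm _ _ : zpowers n ⊔ (P : Subgroup G) = _) ▸
      hp.to_sup_of_normal_right' P.2 (zpowers_le.2 hn)) le_sup_left
  exact h.le (mem_sup_right (mem_zpowers n))

include hN in
theorem normalizer_le_sup :
    normalizer ((P : Subgroup G) : Set G) ≤
      (P : Subgroup G) ⊔ centralizer ((P : Subgroup G) : Set G) := by
  intro n hn
  obtain ⟨m, hm⟩ : ∃ m : ℕ, orderOf n = m := ⟨_, rfl⟩
  have hm0 : m ≠ 0 := hm ▸ (orderOf_pos n).ne'
  set a := m.factorization 2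
  set r := m / 2 ^ a
  have hmr : m = 2 ^ a * r := (Nat.ordProj_mul_ordCompl_eq_self m 2).symm
  have hr : ¬ 2 ∣ r := Nat.not_dvd_ordCompl Nat.prime_two hm0
  have hcop : (2 ^ a).Coprime r :=
    Nat.Coprime.pow_left a (Nat.prime_two.coprime_iff_not_dvd.2 hr)
  have e : n ^ (((2 ^ a : ℕ) : ℤ) * (2 ^ a).gcdA r + (r : ℤ) * (2 ^ a).gcdB r) = n := by
    rw [← Nat.gcd_eq_gcd_ab, hcop]
    simp
  rw [zpow_add, zpow_mul, zpow_mul, zpow_natCast, zpow_natCast] at e
  rw [← e]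
  refine mul_mem (zpow_mem (mem_sup_right (hN P _ (pow_mem hn _) ?_)) _)
    (zpow_mem (mem_sup_left (mem_of_two_element (pow_mem hn _) (k := a) ?_)) _)
  · have h : orderOf (n ^ 2 ^ a) ∣ r := orderOf_dvd_of_pow_eq_one (by
      rw [← pow_mul, ← hmr, ← hm, pow_orderOf_eq_one])
    exact (Nat.odd_iff.2 (Nat.two_dvd_ne_zero.1 hr)).of_dvd_nat h
  · rw [← pow_mul, mul_comm r, ← hmr, ← hm, pow_orderOf_eq_one]

variable {A : Type v} [Group A] [Finite A]

include hcl hN in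
/-- The normal `2`-complement. -/
theorem hasNormalTwoComplement_of_invariant_maximal (φ : A →* MulAut G) (hA : Odd (Nat.card A))
    (hPinv : ∀ a, (P : Subgroup G).map (φ a).toMonoidHom = (P : Subgroup G))
    (hmax : ∀ H : Subgroup G, (∀ a, H.map (φ a).toMonoidHom = H) →
      normalizer ((P : Subgroup G) : Set G) ≤ H → H ≠ ⊤ →
        H = normalizer ((P : Subgroup G) : Set G))
    (hO : ∀ X : Subgroup G, X.Normal → IsPGroup 2 X → X = ⊥) :
    Cfsg.HasNormalPComplement 2 G := by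
  classical
  haveI : Fact (Nat.Prime 2) := ⟨Nat.prime_two⟩
  refine Transfer.hasNormalPComplement_iff_frobenius.2 fun D₀ hD₀ g₀ hg₀ hgp => ?_
  by_contra hgC
  -- a bad subgroup of largest order in `P`
  obtain ⟨D₁, hD₁, hmaxD⟩ : ∃ D, Bad D ∧ ∀ R : Subgroup G, Bad R → Nat.card R ≤ Nat.card D :=
    Set.Finite.exists_maximalFor (fun D : Subgroup G => Nat.card D) {D | Bad D} (Set.toFinite _)
      ⟨D₀, hD₀, g₀, hg₀, Nat.coprime_two_left.1 hgp.symm, hgC⟩ |>.elim fun D h =>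
        ⟨D, h.1, fun R hR => (le_total _ _).elim id fun hle => h.2 hR hle⟩
  obtain ⟨S, hS⟩ := hD₁.1.exists_le_sylow
  obtain ⟨g₁, hg₁⟩ := MulAction.exists_smul_eq G S P
  set D := D₁.map (MulAut.conj g₁).toMonoidHom with hDdef
  have hD : MaxBad D := MaxBad.map ⟨hD₁, hmaxD⟩ (MulAut.conj g₁)
  have hP : D ≤ (P : Subgroup G) := hg₁ ▸ map_mono hS
  set o : A → Subgroup G := fun a => D.map (φ a).toMonoidHom with ho
  have hoD : ∀ a, MaxBad (o a) := fun a => hD.map (φ a)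
  have hoP : ∀ a, o a ≤ (P : Subgroup G) := fun a => (hPinv a).le.trans' (map_mono hP)
  have hmul : ∀ a b, (o b).map (φ a).toMonoidHom = o (a * b) := fun a b => by
    show (D.map (φ b).toMonoidHom).map (φ a).toMonoidHom = D.map (φ (a * b)).toMonoidHom
    rw [map_map, map_mul]; rfl
  have ho1 : o 1 = D := by
    show D.map (φ 1).toMonoidHom = D
    rw [map_one]; exact map_id D
  -- no member of the orbit is adjacent to `D`
  have hnoAdj : ∀ a, ¬ Adj D (o a) := by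
    intro a ha
    have h1 : Adj (o a) (o (a * a)) := by
      have := ha.map (φ a)
      rwa [hmul] at this
    have h2 : Adj (o a) D := Adj.symm hcl hN hD (hoD a) hP (hoP a) ha
    have hsq : o (a * a) = D :=
      adj_unique hcl hN (hoD a) hD (hoD _) (hoP a) hP (hoP _) h2 h1
    have hpow : ∀ i : ℕ, o ((a * a) ^ i) = D := by
      intro i
      induction i with
      | zero => rw [pow_zero, ho1]
      | succ i ih => rw [pow_succ', ← hmul, ih]; exact hsq
    obtain ⟨j, hj⟩ := hA.of_dvd_nat (orderOf_dvd_natCard a)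
    have haD : o a = D := by
      have e : (a * a) ^ (j + 1) = a := by
        rw [← pow_two, ← pow_mul, show 2 * (j + 1) = orderOf a + 1 by omega, pow_succ,
          pow_orderOf_eq_one, one_mul]
      rw [← e]; exact hpow _
    rw [haD] at ha
    obtain ⟨v, hv, -, hvD⟩ := ha
    exact hvD hv.1
  -- a module of `D`
  have hDne : ¬ (P : Subgroup G) ≤ D := by
    intro h
    obtain ⟨g, hg, hgo, hgc⟩ := hD.1.2
    rw [le_antisymm hP h] at hg hgc
    exact hgc (hN P g hg hgo)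
  obtain ⟨x, hx, hxD⟩ := SetLike.not_le_iff_exists.1 hDne
  obtain ⟨k, hk⟩ := exists_pow_two_pow P.2 hx
  have hex : ∃ i, x ^ 2 ^ i ∈ D := ⟨k, by rw [hk]; exact one_mem _⟩
  set i₀ := Nat.find hex with hi₀
  have hi0 : i₀ ≠ 0 := fun h => hxD (by simpa [← hi₀, h] using Nat.find_spec hex)
  obtain ⟨i, hi⟩ := Nat.exists_eq_succ_of_ne_zero hi0
  set t := x ^ 2 ^ i with ht
  have htD : t ∉ D := Nat.find_min hex (by omega)
  have htt : t * t ∈ D := by
    rw [ht, ← pow_add, ← two_mul, ← pow_succ', show i + 1 = i₀ by omega]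
    exact Nat.find_spec hex
  obtain ⟨V, g, hg, hgo, hgc, hVz, hV2, hgd, -, -, -⟩ :=
    exists_datum hD hcl hN hP (pow_mem hx _) htD htt
  -- the intersection of the orbit
  set W := ⨅ a, o a with hW
  have hWD : W ≤ D := (iInf_le o 1).trans ho1.le
  have hVW : V ≤ W := le_iInf fun a v hv => by
    by_contra h
    exact hnoAdj a ⟨v, hVz hv, hV2 v hv, h⟩
  have hWinv : ∀ a, W.map (φ a).toMonoidHom = W := by
    intro a
    refine eq_of_le_of_card_ge (le_iInf fun b => ?_) (card_map_of_injective (φ a).injective).ge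
    have h := map_mono (f := (φ a).toMonoidHom) (iInf_le o (a⁻¹ * b))
    rwa [hmul, mul_inv_cancel_left] at h
  have hWN : normalizer ((P : Subgroup G) : Set G) ≤ normalizer (W : Set G) := by
    have key : ∀ a, normalizer ((P : Subgroup G) : Set G) ≤ normalizer (o a : Set G) := fun a =>
      (normalizer_le_sup hN).trans (sup_le (le_normalizer_maxBad hcl (hoD a) (hoP a))
        ((centralizer_le (SetLike.coe_subset_coe.2 (hoP a))).trans (centralizer_le_normalizer _)))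
    intro n hn
    rw [mem_normalizer_iff]
    intro y
    simp only [hW, mem_iInf]
    exact forall_congr' fun a => mem_normalizer_iff.1 (key a hn) y
  have hgW : g ∈ normalizer (W : Set G) := by
    rw [mem_normalizer_iff_map_conj_eq]
    refine eq_of_le_of_card_ge ?_ (card_map_of_injective (MulAut.conj g).injective).ge
    rintro _ ⟨w, hw, rfl⟩
    show g * w * g⁻¹ ∈ W
    have := mul_mem (hVW (hgd w (hWD hw))) hw
    rwa [inv_mul_cancel_right] at this
  have hWne : W ≠ ⊥ := by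
    intro h
    haveI : Nontrivial (P : Subgroup G) := by
      rw [nontrivial_iff_ne_bot]
      exact fun hb => hxD (by rw [(mem_bot.1 (hb ▸ hx) : x = 1)]; exact one_mem _)
    haveI := P.2.center_nontrivial
    obtain ⟨z, hz⟩ := exists_ne (1 : center (P : Subgroup G))
    have hzW : ((z : (P : Subgroup G)) : G) ∈ W := by
      rw [hW, mem_iInf]
      exact fun a => mem_of_mem_centralizer (hoD a) (z : (P : Subgroup G)).2
        (mem_centralizer_iff.2 fun d hd =>
          congrArg Subtype.val (mem_center_iff.1 z.2 ⟨d, hoP a hd⟩))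
    rw [h, Subgroup.mem_bot] at hzW
    exact hz (Subtype.ext (Subtype.ext hzW))
  by_cases htop : normalizer (W : Set G) = ⊤
  · exact hWne (hO W (normalizer_eq_top_iff.1 htop) (hD.1.1.to_le hWD))
  · have hinv : ∀ a, (normalizer (W : Set G) : Subgroup G).map (φ a).toMonoidHom =
        normalizer (W : Set G) := fun a => by
      rw [map_equiv_normalizer_eq, hWinv a]
    rw [hmax _ hinv hWN htop] at hgW
    exact hgc (centralizer_le (SetLike.coe_subset_coe.2 hP) (hN P g hgW hgo))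

end CfsgLib.Coprime.InvMax
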