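import Mathlib

/-!
# A group of automorphisms of an abelian `2`-group with trivially intersecting Sylow `2`-subgroups
acting quadratically

If `τ`, `μ` are involutions in two distinct Sylow `2`-subgroups, then `y = τ * μ` has odd order,
`V = [Z, y]` is elementary abelian, `y` has no fixed points on `V`, and
`|P| * |C_V(τ)| ≤ |V|` for the Sylow subgroup `P` of `τ`.
-/

set_option autoImplicit false

namespace CfsgLib.Coprime.InvMax

open Subgroup

universe u

variable {Z : Type u} [CommGroup Z]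

/-- The endomorphism `z ↦ y z / z`. -/
def delta (y : MulAut Z) : Z →* Z where
  toFun z := y z / z
  map_one' := by simp
  map_mul' a b := by rw [map_mul, mul_div_mul_comm]

theorem delta_apply (y : MulAut Z) (z : Z) : delta y z = y z / z := rfl

theorem mem_ker_delta {y : MulAut Z} {z : Z} : z ∈ (delta y).ker ↔ y z = z := by
  rw [MonoidHom.mem_ker, delta_apply, div_eq_one]

variable {Q : Subgroup (MulAut Z)}

/-- Distinct Sylow `2`-subgroups intersect trivially. -/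
def SylowTI (Q : Subgroup (MulAut Z)) : Prop :=
  ∀ T₁ T₂ : Sylow 2 Q, T₁ ≠ T₂ → ∀ x ∈ (T₁ : Subgroup Q), x ∈ (T₂ : Subgroup Q) → x = 1

/-- The Sylow `2`-subgroups act quadratically. -/
def SylowQuad (Q : Subgroup (MulAut Z)) : Prop :=
  ∀ T : Sylow 2 Q, ∀ a ∈ (T : Subgroup Q), ∀ b ∈ (T : Subgroup Q), ∀ z : Z,
    a.1 (delta b.1 z) = delta b.1 z

theorem odd_orderOf_mul [Finite Q] (hTI : SylowTI Q) {P S : Sylow 2 Q} (hPS : P ≠ S) {τ μ : Q}
    (hτ : τ ∈ (P : Subgroup Q)) (hμ : μ ∈ (S : Subgroup Q)) (hτ2 : orderOf τ = 2)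
    (hμ2 : orderOf μ = 2) : Odd (orderOf (τ * μ)) := by
  by_contra hodd
  rw [Nat.not_odd_iff_even] at hodd
  obtain ⟨k, hk⟩ := hodd
  set y := τ * μ with hy
  have hy0 := orderOf_pos y
  set w := y ^ k with hw
  have hw1 : w ≠ 1 := fun h => by
    have := Nat.le_of_dvd (by omega) (orderOf_dvd_of_pow_eq_one h)
    omega
  have hw2 : w * w = 1 := by rw [hw, ← pow_add, ← hk, pow_orderOf_eq_one]
  have sqτ : τ * τ = 1 := by rw [← pow_two, ← hτ2, pow_orderOf_eq_one]
  have sqμ : μ * μ = 1 := by rw [← pow_two, ← hμ2, pow_orderOf_eq_one]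
  have hinvτ : τ⁻¹ = τ := inv_eq_of_mul_eq_one_left sqτ
  have hinvμ : μ⁻¹ = μ := inv_eq_of_mul_eq_one_left sqμ
  have hyinv : y⁻¹ = μ * τ := by rw [hy, mul_inv_rev, hinvτ, hinvμ]
  have hcτ : τ * w = w * τ := by
    have h1 : τ * y * τ⁻¹ = y⁻¹ := by rw [hyinv, hinvτ, hy, ← mul_assoc, sqτ, one_mul]
    have h2 : τ * w * τ⁻¹ = w := by
      rw [hw, ← conj_pow, h1, inv_pow, inv_eq_iff_mul_eq_one]
      exact hw2
    exact mul_inv_eq_iff_eq_mul.1 h2
  have hcμ : μ * w = w * μ := by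
    have h1 : μ * y * μ⁻¹ = y⁻¹ := by rw [hyinv, hinvμ, hy, mul_assoc, mul_assoc, sqμ, mul_one]
    have h2 : μ * w * μ⁻¹ = w := by
      rw [hw, ← conj_pow, h1, inv_pow, inv_eq_iff_mul_eq_one]
      exact hw2
    exact mul_inv_eq_iff_eq_mul.1 h2
  have key : ∀ (R : Sylow 2 Q) (σ : Q), σ ∈ (R : Subgroup Q) → σ ≠ 1 → σ * σ = 1 →
      σ * w = w * σ → w ∈ (R : Subgroup Q) := by
    intro R σ hσ hσ1 sq hc
    have hp : ∀ a : Q, a * a = 1 → IsPGroup 2 (zpowers a) := fun a ha => by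
      have h : orderOf a ∣ 2 ^ 1 := orderOf_dvd_of_pow_eq_one (by rw [pow_one, pow_two, ha])
      obtain ⟨j, -, hj⟩ := (Nat.dvd_prime_pow Nat.prime_two).1 h
      exact IsPGroup.of_card (n := j) (by rw [Nat.card_zpowers, hj])
    have hn : zpowers σ ≤ normalizer (zpowers w : Set Q) := by
      refine le_trans ?_ (centralizer_le_normalizer _)
      rw [zpowers_le, mem_centralizer_iff]
      rintro a ⟨i, rfl⟩
      exact ((show Commute σ w from hc).zpow_right i).symm.eq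
    obtain ⟨T, hT⟩ := ((hp σ sq).to_sup_of_normal_right' (hp w hw2) hn).exists_le_sylow
    have : T = R := by
      by_contra h
      exact hσ1 (hTI T R h σ (hT (mem_sup_left (mem_zpowers σ))) hσ)
    exact this ▸ hT (mem_sup_right (mem_zpowers w))
  exact hw1 (hTI P S hPS w
    (key P τ hτ (fun h => by rw [h, orderOf_one] at hτ2; omega) sqτ hcτ)
    (key S μ hμ (fun h => by rw [h, orderOf_one] at hμ2; omega) sqμ hcμ))

/-- A subgroup containing a Sylow subgroup and a nontrivial element of another one contains the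
second one. -/
theorem sylow_le_of_mem [Finite Q] (hTI : SylowTI Q) {P S : Sylow 2 Q} {K : Subgroup Q}
    (hSK : (S : Subgroup Q) ≤ K) {t : Q} (ht : t ∈ (P : Subgroup Q)) (ht1 : t ≠ 1) (htK : t ∈ K) :
    (P : Subgroup Q) ≤ K := by
  haveI : Fact (Nat.Prime 2) := ⟨Nat.prime_two⟩
  have hp : IsPGroup 2 ((zpowers t).subgroupOf K) :=
    (P.2.to_le (zpowers_le.2 ht)).comap_subtype
  obtain ⟨T, hT⟩ := hp.exists_le_sylow
  obtain ⟨k, hk⟩ := MulAction.exists_smul_eq K (S.subtype hSK) T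
  have htT : t ∈ ((k : Q) • S : Sylow 2 Q) := by
    have h1 : (⟨t, htK⟩ : K) ∈ (k • S.subtype hSK : Sylow 2 K) := hk ▸ hT (mem_zpowers t)
    rw [Sylow.smul_subtype] at h1
    exact h1
  have : ((k : Q) • S : Sylow 2 Q) = P := by
    by_contra h
    exact ht1 (hTI _ _ h t htT ht)
  rw [← this]
  exact Sylow.smul_le hSK k

theorem pow_apply_of_translate {y : MulAut Z} {w v : Z} (hv : y v = v) (hw : y w = w * v) :
    ∀ i : ℕ, (y ^ i) w = w * v ^ i := by
  intro i
  induction i with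
  | zero => simp
  | succ i ih => rw [pow_succ', MulAut.mul_apply, ih, map_mul, hw, map_pow, hv, pow_succ', mul_assoc]

variable [Finite Z]

/-- The main lemma. -/
theorem exists_quadratic_module (hZ : IsPGroup 2 Z) (hTI : SylowTI Q) (hquad : SylowQuad Q)
    {P S : Sylow 2 Q} (hPS : P ≠ S) {τ μ : Q} (hτ : τ ∈ (P : Subgroup Q))
    (hμ : μ ∈ (S : Subgroup Q)) (hτ2 : orderOf τ = 2) (hμ2 : orderOf μ = 2) :
    (∀ v ∈ (delta (τ * μ : Q).1).range, v * v = 1) ∧
    (∀ v ∈ (delta (τ * μ : Q).1).range, (τ * μ : Q).1 v = v → v = 1) ∧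
    (∀ v ∈ (delta (τ * μ : Q).1).range, τ.1 v ∈ (delta (τ * μ : Q).1).range) ∧
    Nat.card (P : Subgroup Q) *
        Nat.card ↥((delta (τ * μ : Q).1).range ⊓ (delta τ.1).ker) ≤
      Nat.card ↥(delta (τ * μ : Q).1).range := by
  haveI : Finite Q := Finite.of_injective (fun q : Q => (q.1 : Z → Z))
    fun a b h => Subtype.ext (MulEquiv.ext (congrFun h))
  set y : Q := τ * μ with hy
  set V : Subgroup Z := (delta y.1).range with hV
  have hmodd := odd_orderOf_mul hTI hPS hτ hμ hτ2 hμ2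
  set m := orderOf y with hm
  have hym : y.1 ^ m = 1 := by rw [← SubmonoidClass.coe_pow, pow_orderOf_eq_one]; rfl
  have hapy : ∀ z, y.1 z = τ.1 (μ.1 z) := fun z => rfl
  have sqτ : ∀ z, τ.1 (τ.1 z) = z := fun z => by
    have h : τ * τ = 1 := by rw [← pow_two, ← hτ2, pow_orderOf_eq_one]
    have h' := congrArg (fun q : Q => q.1 z) h
    simpa using h'
  have sqμ : ∀ z, μ.1 (μ.1 z) = z := fun z => by
    have h : μ * μ = 1 := by rw [← pow_two, ← hμ2, pow_orderOf_eq_one]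
    have h' := congrArg (fun q : Q => q.1 z) h
    simpa using h'
  have qτ : ∀ z, τ.1 (delta τ.1 z) = delta τ.1 z := hquad P τ hτ τ hτ
  have qμ : ∀ z, μ.1 (delta μ.1 z) = delta μ.1 z := hquad S μ hμ μ hμ
  have inv2 : ∀ (σ : Q), (∀ z, σ.1 (σ.1 z) = z) → (∀ z, σ.1 (delta σ.1 z) = delta σ.1 z) →
      ∀ z, delta σ.1 z * delta σ.1 z = 1 := by
    intro σ sq q z
    have h : σ.1 z = z * delta σ.1 z := by rw [delta_apply, mul_div_cancel]
    have h2 := congrArg σ.1 h
    rw [sq, map_mul, q, h, mul_assoc] at h2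
    exact mul_eq_left.1 h2.symm
  -- exponent two
  have hV2 : ∀ v ∈ V, v * v = 1 := by
    rintro _ ⟨z, rfl⟩
    have h : delta y.1 z = τ.1 (delta μ.1 z) * delta τ.1 z := by
      rw [delta_apply, delta_apply, delta_apply, hapy, map_div, div_mul_div_cancel]
    rw [h, mul_mul_mul_comm, ← map_mul, inv2 μ sqμ qμ, inv2 τ sqτ qτ, map_one, one_mul]
  -- no fixed points
  have hfix : ∀ v ∈ V, y.1 v = v → v = 1 := by
    rintro v hv hyv
    obtain ⟨w, hw⟩ := id hv
    have h1 : y.1 w = w * v := by rw [← hw, delta_apply, mul_div_cancel]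
    have h2 := pow_apply_of_translate hyv h1 m
    rw [hym, MulAut.one_apply] at h2
    obtain ⟨j, hj⟩ := hmodd
    have h4 : v ^ m = 1 := mul_eq_left.1 h2.symm
    rw [hj, pow_succ, pow_mul, pow_two, hV2 v hv, one_pow, one_mul] at h4
    exact h4
  -- `τ` and `μ` normalize `V`
  have hτV : ∀ v ∈ V, τ.1 v ∈ V := by
    rintro _ ⟨z, rfl⟩
    have h : τ.1 (delta y.1 z) = μ.1 (τ.1 (τ.1 z)) * 1 / τ.1 z := by
      rw [delta_apply, hapy, map_div, sqτ, sqτ, mul_one]
    refine ⟨(μ.1 (τ.1 (τ.1 z)))⁻¹, ?_⟩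
    rw [h, delta_apply, mul_one, map_inv, hapy, sqμ, sqτ, sqτ, inv_div_inv]
  have hyV : ∀ v ∈ V, y.1 v ∈ V := by
    rintro _ ⟨z, rfl⟩
    exact ⟨y.1 z, by rw [delta_apply, delta_apply, map_div]⟩
  have hμV : ∀ v ∈ V, μ.1 v ∈ V := fun v hv => by
    have := hτV _ (hyV v hv)
    rwa [hapy, sqτ] at this
  -- disjoint fixed points
  set Cτ := V ⊓ (delta τ.1).ker with hCτ
  set Cμ := V ⊓ (delta μ.1).ker with hCμ
  have hprod : Nat.card Cτ * Nat.card Cμ ≤ Nat.card V := by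
    rw [← Nat.card_prod]
    refine Nat.card_le_card_of_injective
      (fun x : Cτ × Cμ => (⟨x.1.1 * x.2.1, V.mul_mem x.1.2.1 x.2.2.1⟩ : V)) ?_
    rintro ⟨a, b⟩ ⟨a', b'⟩ h
    have h' : (a : Z) * b = a' * b' := congrArg Subtype.val h
    have e : (a : Z) / a' = b' / b := by rw [div_eq_div_iff_mul_eq_mul, h', mul_comm]
    have hd : (a : Z) / a' = 1 := by
      refine hfix _ (V.div_mem a.2.1 a'.2.1) ?_
      have hμd : μ.1 ((a : Z) / a') = a / a' := by
        rw [e]; exact mem_ker_delta.1 (div_mem b'.2.2 b.2.2)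
      rw [hapy, hμd]
      exact mem_ker_delta.1 (div_mem a.2.2 a'.2.2)
    have ha : (a : Z) = a' := div_eq_one.1 hd
    exact Prod.ext (Subtype.ext ha) (Subtype.ext (mul_left_cancel (ha ▸ h' :)))
  refine ⟨hV2, hfix, hτV, ?_⟩
  suffices hP : Nat.card (P : Subgroup Q) ≤ Nat.card Cμ from
    le_trans (by rw [mul_comm]; exact Nat.mul_le_mul_left _ hP) hprod
  -- a fixed point of `S` not fixed by `P`
  have hy1 : y ≠ 1 := fun h => by
    have hμτ : μ = τ⁻¹ := eq_inv_of_mul_eq_one_right h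
    refine (fun h1 : τ ≠ 1 => h1 (hTI P S hPS τ hτ ?_)) (fun h1 => by rw [h1, orderOf_one] at hτ2; omega)
    exact (Subgroup.inv_mem_iff _).1 (hμτ ▸ hμ)
  obtain ⟨z', hz'S, x₀, hx₀, hz'P⟩ : ∃ z', (∀ s ∈ (S : Subgroup Q), s.1 z' = z') ∧
      ∃ x₀ ∈ (P : Subgroup Q), x₀.1 z' ≠ z' := by
    by_contra hcon
    push Not at hcon
    refine hy1 (Subtype.ext (MulEquiv.ext fun z => ?_))
    have hμfix : ∀ v ∈ V, μ.1 v = v := fun v hv => by
      have hd : delta μ.1 v ∈ V := V.div_mem (hμV v hv) hv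
      have hS : ∀ s ∈ (S : Subgroup Q), s.1 (delta μ.1 v) = delta μ.1 v :=
        fun s hs => hquad S s hs μ hμ v
      refine mem_ker_delta.1 (MonoidHom.mem_ker.2 (hfix _ hd ?_))
      rw [hapy, hS μ hμ, hcon _ hS τ hτ]
    have hv : ∀ v ∈ V, v = 1 := fun v hv => by
      have hyv : y.1 v = τ.1 v := by rw [hapy, hμfix v hv]
      have h2 : ∀ i, (y.1 ^ (2 * i)) v = v := fun i => by
        induction i with
        | zero => simp
        | succ i ih =>
          rw [mul_add, pow_add, MulAut.mul_apply, mul_one, pow_two, MulAut.mul_apply, hyv, hapy,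
            hμfix _ (hτV v hv), sqτ, ih]
      obtain ⟨j, hj⟩ := hmodd
      refine hfix v hv ?_
      have h3 : (y.1 ^ (m + 1)) v = v := by
        rw [hj, show 2 * j + 1 + 1 = 2 * (j + 1) by ring]; exact h2 _
      rwa [pow_succ', hym, mul_one] at h3
    exact div_eq_one.1 (hv _ ⟨z, rfl⟩)
  -- the homomorphism `P → C_V(μ)`
  have hmul : ∀ a ∈ (P : Subgroup Q), ∀ b ∈ (P : Subgroup Q), ∀ z,
      delta (a * b).1 z = delta a.1 z * delta b.1 z := by
    intro a ha b hb z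
    have h : delta (a * b).1 z = a.1 (delta b.1 z) * delta a.1 z := by
      rw [delta_apply, delta_apply, delta_apply, Subgroup.coe_mul, MulAut.mul_apply, map_div,
        div_mul_div_cancel]
    rw [h, hquad P a ha b hb, mul_comm]
  have hmem : ∀ x ∈ (P : Subgroup Q), delta μ.1 (delta x.1 z') ∈ Cμ := by
    intro x hx
    refine ⟨?_, mem_ker_delta.2 (qμ _)⟩
    set e := delta x.1 z'
    have hτe : τ.1 e = e := hquad P τ hτ x hx z'
    have : delta μ.1 e = τ.1 (delta y.1 e) := by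
      rw [delta_apply, delta_apply, map_div, hapy, sqτ, hτe]
    rw [this]
    exact hτV _ ⟨e, rfl⟩
  let f : ↥(P : Subgroup Q) →* ↥Cμ := MonoidHom.mk'
    (fun x => ⟨delta μ.1 (delta x.1.1 z'), hmem _ x.2⟩) fun a b => Subtype.ext (by
      show delta μ.1 (delta (a.1 * b.1).1 z') = _
      rw [hmul _ a.2 _ b.2, map_mul]; rfl)
  refine Nat.card_le_card_of_injective f ((injective_iff_map_eq_one f).2 fun x hx => ?_)
  by_contra hx1
  set e := delta x.1.1 z' with he
  have hμe : μ.1 e = e := mem_ker_delta.1 (congrArg Subtype.val hx)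
  have hμ1 : μ ≠ 1 := fun h => by rw [h, orderOf_one] at hμ2; omega
  have hτ1 : τ ≠ 1 := fun h => by rw [h, orderOf_one] at hτ2; omega
  have hxne : x.1 ≠ 1 := fun h => hx1 (Subtype.ext h)
  -- `P` and `S` fix `e`
  let St : Z → Subgroup Q := fun z =>
    { carrier := {q | q.1 z = z}
      one_mem' := rfl
      mul_mem' := fun {a b} ha hb => by
        show a.1 (b.1 z) = z
        rw [show b.1 z = z from hb]; exact ha
      inv_mem' := fun {a} ha => by
        show (a⁻¹).1 z = z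
        rw [Subgroup.coe_inv, MulAut.inv_def, MulEquiv.symm_apply_eq]; exact (Eq.symm ha) }
  have hPe : (P : Subgroup Q) ≤ St e := fun q hq => hquad P q hq x.1 x.2 z'
  have hSe : (S : Subgroup Q) ≤ St e := sylow_le_of_mem hTI hPe hμ hμ1 hμe
  -- the subgroup translating `z'` by a power of `e`
  let K : Subgroup Q :=
    { carrier := {q | q.1 e = e ∧ ∃ i : ℤ, q.1 z' = z' * e ^ i}
      one_mem' := ⟨rfl, 0, by simp⟩
      mul_mem' := by
        rintro a b ⟨ha, i, hai⟩ ⟨hb, j, hbj⟩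
        refine ⟨by show a.1 (b.1 e) = e; rw [hb, ha], i + j, ?_⟩
        show a.1 (b.1 z') = _
        rw [hbj, map_mul, map_zpow, ha, hai, zpow_add, mul_assoc]
      inv_mem' := by
        rintro a ⟨ha, i, hai⟩
        have ha' : (a⁻¹).1 e = e := by
          rw [Subgroup.coe_inv, MulAut.inv_def, MulEquiv.symm_apply_eq]; exact ha.symm
        refine ⟨ha', -i, ?_⟩
        rw [Subgroup.coe_inv, MulAut.inv_def, MulEquiv.symm_apply_eq, map_mul, map_zpow, ha, hai,
          zpow_neg, mul_inv_cancel_right] }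
  have hSK : (S : Subgroup Q) ≤ K := fun s hs => ⟨hSe hs, 0, by rw [hz'S s hs, zpow_zero, mul_one]⟩
  have hxK : x.1 ∈ K := ⟨hPe x.2, 1, by rw [zpow_one, he, delta_apply, mul_div_cancel]⟩
  have hPK := sylow_le_of_mem hTI hSK x.2 hxne hxK
  obtain ⟨hye, i, hyi⟩ := K.mul_mem (hPK hτ) (hSK hμ)
  have h2 := pow_apply_of_translate (y := y.1) (v := e ^ i) (by rw [map_zpow]; exact congrArg (· ^ i) hye) hyi m
  rw [hym, MulAut.one_apply] at h2
  have h4 : (e ^ i) ^ m = 1 := mul_eq_left.1 h2.symm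
  obtain ⟨j, hj⟩ := hZ (e ^ i)
  have hei : e ^ i = 1 := orderOf_eq_one_iff.1 (Nat.eq_one_of_dvd_coprimes
    (((Nat.coprime_two_left).2 hmodd).pow_left j) (orderOf_dvd_of_pow_eq_one hj)
    (orderOf_dvd_of_pow_eq_one h4))
  have hyz : y.1 z' = z' := by rw [hei, mul_one] at hyi; exact hyi
  have hτz : τ.1 z' = z' := by rw [hapy, hz'S μ hμ] at hyz; exact hyz
  exact hz'P (sylow_le_of_mem hTI (K := St z') (fun s hs => hz'S s hs) hτ hτ1 hτz hx₀)

end CfsgLib.Coprime.InvMax
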