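import Cfsg.Agent.Lib.Coprime.InvariantMaximalTI
import Cfsg.Agent.Lib.Transfer.Frobenius
import Cfsg.Agent.Lib.Comp.Normalize

/-!
# A `2`-group of class two with nilpotent normalizer, maximal among the invariant subgroups under
an automorphism group of odd order

`hasNormalTwoComplement_of_invariant_maximal`: if a Sylow `2`-subgroup `P` of class at most two is
invariant under a group `A` of odd order, odd elements of `N(P)` centralize `P`, `N(P)` is maximal
among the invariant subgroups and `O₂(G) = 1`, then `G` has a normal `2`-complement.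

Take a `2`-subgroup `D` of largest order having a non-centralizing odd element in its normalizer.
Each other such `D'` in the orbit not containing all involutions of `Z(D)` is unique and the
relation is symmetric, impossible in an orbit of odd length; so some nontrivial invariant subgroup
between `[D, g]` and `D` is normalized by `g`.
-/

set_option autoImplicit false

namespace CfsgLib.Coprime.InvMax

open Subgroup

universe u

variable {G : Type u} [Group G] [Finite G]

/-- A `2`-subgroup with a non-centralizing element of odd order in its normalizer. -/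
def Bad (D : Subgroup G) : Prop :=
  IsPGroup 2 D ∧ ∃ g ∈ normalizer (D : Set G), Odd (orderOf g) ∧ g ∉ centralizer (D : Set G)

/-- A bad subgroup of largest order. -/
def MaxBad (D : Subgroup G) : Prop :=
  Bad D ∧ ∀ R : Subgroup G, Bad R → Nat.card R ≤ Nat.card D

/-- The Sylow `2`-subgroups have class at most two. -/
def CommCentral (G : Type u) [Group G] : Prop :=
  ∀ P : Sylow 2 G, ∀ x ∈ (P : Subgroup G), ∀ y ∈ (P : Subgroup G), ∀ z ∈ (P : Subgroup G),
    z * (x * y * x⁻¹ * y⁻¹) = x * y * x⁻¹ * y⁻¹ * z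

/-- Odd elements normalizing a Sylow `2`-subgroup centralize it. -/
def NormGood (G : Type u) [Group G] : Prop :=
  ∀ P : Sylow 2 G, ∀ g ∈ normalizer ((P : Subgroup G) : Set G), Odd (orderOf g) →
    g ∈ centralizer ((P : Subgroup G) : Set G)

theorem card_map_mul_inf_ker' {A B : Type*} [Group A] [Group B] (f : A →* B) (K : Subgroup A) :
    Nat.card (K.map f) * Nat.card (f.ker ⊓ K : Subgroup A) = Nat.card K := by
  rw [← relIndex_ker (K := K) f, ← inf_relIndex_right f.ker K, mul_comm, ← relIndex_bot_left,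
    relIndex_mul_relIndex ⊥ (f.ker ⊓ K) K bot_le inf_le_right, relIndex_bot_left]

theorem exists_odd_pow (x : G) : ∃ a : ℕ, Odd (orderOf (x ^ 2 ^ a)) := by
  refine ⟨(orderOf x).factorization 2, ?_⟩
  rw [orderOf_pow_of_dvd (by positivity) (Nat.ordProj_dvd _ _)]
  exact Nat.odd_iff.2 (Nat.two_dvd_ne_zero.1
    (Nat.not_dvd_ordCompl Nat.prime_two (orderOf_pos x).ne'))

theorem mem_of_odd_of_pow_mem {K : Subgroup G} {g : G} (hg : Odd (orderOf g)) {a : ℕ}
    (h : g ^ 2 ^ a ∈ K) : g ∈ K := by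
  obtain ⟨j, hj⟩ := exists_pow_eq_self_of_coprime (x := g) (n := 2 ^ a)
    ((Nat.coprime_two_left.2 hg).pow_left a)
  exact hj ▸ pow_mem h j

theorem pow_mem_of_mul {K : Subgroup G} {g k : G} (hg : g ∈ normalizer (K : Set G)) (hk : k ∈ K)
    (i : ℕ) (h : (k * g) ^ i ∈ K) : g ^ i ∈ K := by
  have key : ∀ i : ℕ, (k * g) ^ i * (g ^ i)⁻¹ ∈ K := by
    intro i
    induction i with
    | zero => simp
    | succ i ih =>
      have e : (k * g) ^ (i + 1) * (g ^ (i + 1))⁻¹ =
          k * (g * ((k * g) ^ i * (g ^ i)⁻¹) * g⁻¹) := by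
        rw [pow_succ', pow_succ']; group
      rw [e]
      exact K.mul_mem hk ((mem_normalizer_iff.1 hg _).1 ih)
  have := K.mul_mem (K.inv_mem (key i)) h
  simpa [mul_assoc] using this

theorem eq_one_of_odd_of_two {x : G} {m k : ℕ} (hm : Odd m) (h1 : x ^ m = 1) (h2 : x ^ 2 ^ k = 1) :
    x = 1 :=
  orderOf_eq_one_iff.1 (Nat.eq_one_of_dvd_coprimes ((Nat.coprime_two_left.2 hm).pow_left k)
    (orderOf_dvd_of_pow_eq_one h2) (orderOf_dvd_of_pow_eq_one h1))

theorem exists_pow_two_pow {S : Subgroup G} (hS : IsPGroup 2 S) {x : G} (hx : x ∈ S) :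
    ∃ k : ℕ, x ^ 2 ^ k = 1 :=
  (hS ⟨x, hx⟩).imp fun _ h => congrArg Subtype.val h

variable {D : Subgroup G}

/-- A subgroup normalized by `N(D)`, containing `C(D)` but not all odd elements of `N(D)`, has all
its `2`-elements in `D`. -/
theorem two_mem (hD : MaxBad D) {K : Subgroup G} (hK : K ≤ normalizer (D : Set G))
    (hKn : normalizer (D : Set G) ≤ normalizer (K : Set G))
    (hC : centralizer (D : Set G) ≤ K) {g : G} (hg : g ∈ normalizer (D : Set G))
    (hgo : Odd (orderOf g)) (hgK : g ∉ K) {x : G} (hx : x ∈ K) {k : ℕ} (hxk : x ^ 2 ^ k = 1) :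
    x ∈ D := by
  haveI : Fact (Nat.Prime 2) := ⟨Nat.prime_two⟩
  set L := normalizer (D : Set G) with hL
  haveI hKnor : (K.subgroupOf L).Normal := (normal_subgroupOf_iff_le_normalizer hK).2 hKn
  have hxp : IsPGroup 2 (zpowers x) := by
    obtain ⟨j, -, hj⟩ := (Nat.dvd_prime_pow Nat.prime_two).1 (orderOf_dvd_of_pow_eq_one hxk)
    exact IsPGroup.of_card (n := j) (by rw [Nat.card_zpowers, hj])
  obtain ⟨T, hT⟩ := ((hxp.comap_subtype (K := L)).comap_subtype
    (K := K.subgroupOf L)).exists_le_sylow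
  set T' : Subgroup G := ((T : Subgroup _).map (K.subgroupOf L).subtype).map L.subtype with hT'
  have hxT : x ∈ T' := mem_map_of_mem L.subtype (x := (⟨x, hK hx⟩ : L))
    (mem_map_of_mem (K.subgroupOf L).subtype (x := (⟨⟨x, hK hx⟩, hx⟩ : K.subgroupOf L))
      (hT (show x ∈ zpowers x from mem_zpowers x)))
  have hTK : T' ≤ K := by
    rintro _ ⟨_, ⟨z, _, rfl⟩, rfl⟩
    exact z.2
  have hTp : IsPGroup 2 T' := (T.isPGroup'.map _).map _
  -- Frattini argument
  have hfr : normalizer (((T : Subgroup _).map (K.subgroupOf L).subtype : Subgroup L) : Set L) ⊔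
      K.subgroupOf L = ⊤ := T.normalizer_sup_eq_top
  have hmem : (⟨g, hg⟩ : L) ∈ normalizer
      (((T : Subgroup _).map (K.subgroupOf L).subtype : Subgroup L) : Set L) ⊔ K.subgroupOf L :=
    hfr ▸ mem_top _
  rw [← SetLike.mem_coe, mul_normal] at hmem
  obtain ⟨m, hm, c, hc, hmc⟩ := hmem
  have hmc' : (m : G) * (c : G) = g := congrArg Subtype.val hmc
  have hmT : (m : G) ∈ normalizer (T' : Set G) := by
    rw [hT', mem_normalizer_iff_map_conj_eq, map_map]
    have h := congrArg (Subgroup.map L.subtype) (mem_normalizer_iff_map_conj_eq.1 hm)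
    rw [map_map] at h
    exact h
  have hmD : (m : G) ∈ normalizer (D : Set G) := m.2
  obtain ⟨a, ha⟩ := exists_odd_pow (m : G)
  by_cases hmC : (m : G) ^ 2 ^ a ∈ centralizer (D : Set G)
  · exfalso
    refine hgK (mem_of_odd_of_pow_mem hgo (a := a) ?_)
    have e : (g * (c : G)⁻¹ * g⁻¹) * g = (m : G) := by rw [← hmc']; group
    exact pow_mem_of_mul (hKn hg) ((mem_normalizer_iff.1 (hKn hg) _).1
      (K.inv_mem (show (c : G) ∈ K from hc))) _ (by rw [e]; exact hC hmC)
  set R := T' ⊔ D with hR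
  have hRp : IsPGroup 2 R :=
    hTp.to_sup_of_normal_right' hD.1.1 (hTK.trans hK)
  have hmR : (m : G) ^ 2 ^ a ∈ normalizer (R : Set G) := by
    refine pow_mem ?_ _
    rw [mem_normalizer_iff_map_conj_eq, hR, Subgroup.map_sup, mem_normalizer_iff_map_conj_eq.1 hmT,
      mem_normalizer_iff_map_conj_eq.1 hmD]
  have hbad : Bad R := ⟨hRp, _, hmR, ha,
    fun h => hmC (centralizer_le (SetLike.coe_subset_coe.2 le_sup_right) h)⟩
  have hRD : D = R := eq_of_le_of_card_ge le_sup_right (hD.2 R hbad)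
  rw [hRD]
  exact mem_sup_left hxT

theorem mem_of_mem_centralizer (hD : MaxBad D) {P : Sylow 2 G} {x : G}
    (hx : x ∈ (P : Subgroup G)) (hxC : x ∈ centralizer (D : Set G)) : x ∈ D := by
  obtain ⟨k, hk⟩ := exists_pow_two_pow P.2 hx
  obtain ⟨g, hg, hgo, hgC⟩ := hD.1.2
  exact two_mem hD (centralizer_le_normalizer _) (CfsgLib.Comp.normalizer_le_normalizer_centralizer _) le_rfl
    hg hgo hgC hxC hk

/-- The centre of `D`. -/
def zc (D : Subgroup G) : Subgroup G := D ⊓ centralizer (D : Set G)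

instance (D : Subgroup G) : CommGroup ↥(zc D) :=
  { (inferInstance : Group ↥(zc D)) with
    mul_comm := fun a b => Subtype.ext (mem_centralizer_iff.1 b.2.2 a a.2.1) }

theorem comm_mem (hD : MaxBad D) (hcl : CommCentral G) {P : Sylow 2 G}
    (hDP : D ≤ (P : Subgroup G)) {x y : G} (hx : x ∈ (P : Subgroup G))
    (hy : y ∈ (P : Subgroup G)) : x * y * x⁻¹ * y⁻¹ ∈ zc D := by
  have hc : x * y * x⁻¹ * y⁻¹ ∈ centralizer (D : Set G) :=
    mem_centralizer_iff.2 fun d hd => hcl P x hx y hy d (hDP hd)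
  exact ⟨mem_of_mem_centralizer hD
    (mul_mem (mul_mem (mul_mem hx hy) (inv_mem hx)) (inv_mem hy)) hc, hc⟩

theorem le_normalizer_of_comm (hD : MaxBad D) (hcl : CommCentral G) {P : Sylow 2 G}
    (hDP : D ≤ (P : Subgroup G)) {R : Subgroup G} (hDR : D ≤ R) (hRP : R ≤ (P : Subgroup G)) :
    (P : Subgroup G) ≤ normalizer (R : Set G) := by
  have key : ∀ s ∈ (P : Subgroup G), ∀ r ∈ R, s * r * s⁻¹ ∈ R := by
    intro s hs r hr
    have h := R.mul_mem (hDR (comm_mem hD hcl hDP hs (hRP hr)).1) hr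
    simpa [mul_assoc] using h
  intro s hs
  rw [mem_normalizer_iff]
  exact fun r => ⟨key s hs r, fun h => by simpa [mul_assoc] using key s⁻¹ (inv_mem hs) _ h⟩

theorem le_normalizer_zc : normalizer (D : Set G) ≤ normalizer (zc D : Set G) := by
  intro g hg
  rw [mem_normalizer_iff]
  intro x
  show x ∈ D ∧ x ∈ centralizer (D : Set G) ↔ _ ∧ _
  exact and_congr (mem_normalizer_iff.1 hg x)
    (mem_normalizer_iff.1 (CfsgLib.Comp.normalizer_le_normalizer_centralizer _ hg) x)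

/-- The elements of `N(D)` acting trivially on `D / Z(D)`. -/
def lOne (D : Subgroup G) : Subgroup G where
  carrier := {g | g ∈ normalizer (D : Set G) ∧ ∀ d ∈ D, g * d * g⁻¹ * d⁻¹ ∈ zc D}
  one_mem' := ⟨one_mem _, fun d _ => by simp⟩
  mul_mem' := by
    rintro a b ⟨ha, ha'⟩ ⟨hb, hb'⟩
    refine ⟨mul_mem ha hb, fun d hd => ?_⟩
    have e : a * b * d * (a * b)⁻¹ * d⁻¹ =
        (a * (b * d * b⁻¹ * d⁻¹) * a⁻¹) * (a * d * a⁻¹ * d⁻¹) := by group
    rw [e]
    exact mul_mem ((mem_normalizer_iff.1 (le_normalizer_zc ha) _).1 (hb' d hd)) (ha' d hd)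
  inv_mem' := by
    rintro a ⟨ha, ha'⟩
    refine ⟨inv_mem ha, fun d hd => ?_⟩
    have hd' : a⁻¹ * d * a ∈ D := by
      simpa using (mem_normalizer_iff.1 (inv_mem ha) d).1 hd
    have h := inv_mem (ha' _ hd')
    have e : a⁻¹ * d * a⁻¹⁻¹ * d⁻¹ =
        (a * (a⁻¹ * d * a) * a⁻¹ * (a⁻¹ * d * a)⁻¹)⁻¹ := by group
    rw [e]
    exact h

theorem lOne_le : lOne D ≤ normalizer (D : Set G) := fun _ h => h.1

theorem sylow_le_lOne (hD : MaxBad D) (hcl : CommCentral G) {S : Sylow 2 G}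
    (hDS : D ≤ (S : Subgroup G)) : (S : Subgroup G) ≤ lOne D := fun _ hs =>
  ⟨le_normalizer_of_comm hD hcl hDS le_rfl hDS hs, fun _ hd => comm_mem hD hcl hDS hs (hDS hd)⟩

/-- The action on the centre of `D`. -/
noncomputable def act (D : Subgroup G) : ↥(lOne D) →* MulAut ↥(zc D) :=
  (zc D).normalizerMonoidHom.comp (inclusion (lOne_le.trans le_normalizer_zc))

theorem act_apply (g : lOne D) (z : zc D) :
    ((act D g z : zc D) : G) = (g : G) * z * (g : G)⁻¹ := rfl

theorem delta_act (g : lOne D) (z : zc D) :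
    ((delta (act D g) z : zc D) : G) = (g : G) * z * (g : G)⁻¹ * (z : G)⁻¹ := by
  rw [delta_apply, div_eq_mul_inv, coe_mul, act_apply]; rfl

/-- The elements acting trivially on `D / Z(D)` and on `Z(D)`. -/
def kerAct (D : Subgroup G) : Subgroup G := lOne D ⊓ centralizer (zc D : Set G)

theorem mem_kerAct {g : lOne D} : (g : G) ∈ kerAct D ↔ act D g = 1 := by
  constructor
  · intro h
    refine MulEquiv.ext fun z => Subtype.ext ?_
    rw [act_apply, ← mem_centralizer_iff.1 h.2 z z.2, mul_inv_cancel_right]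
    rfl
  · intro h
    refine ⟨g.2, mem_centralizer_iff.2 fun z hz => ?_⟩
    have := congrArg (fun σ : MulAut ↥(zc D) => ((σ ⟨z, hz⟩ : zc D) : G)) h
    exact (mul_inv_eq_iff_eq_mul.1 this).symm

theorem normalizer_le_normalizer_lOne :
    normalizer (D : Set G) ≤ normalizer (lOne D : Set G) := by
  have key : ∀ g ∈ normalizer (D : Set G), ∀ a ∈ lOne D, g * a * g⁻¹ ∈ lOne D := by
    rintro g hg a ⟨ha, ha'⟩
    refine ⟨mul_mem (mul_mem hg ha) (inv_mem hg), fun d hd => ?_⟩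
    have hd' : g⁻¹ * d * g ∈ D := by simpa using (mem_normalizer_iff.1 (inv_mem hg) d).1 hd
    have e : g * a * g⁻¹ * d * (g * a * g⁻¹)⁻¹ * d⁻¹ =
        g * (a * (g⁻¹ * d * g) * a⁻¹ * (g⁻¹ * d * g)⁻¹) * g⁻¹ := by group
    rw [e]
    exact (mem_normalizer_iff.1 (le_normalizer_zc hg) _).1 (ha' _ hd')
  intro g hg
  rw [mem_normalizer_iff]
  exact fun a => ⟨key g hg a, fun h => by simpa [mul_assoc] using key g⁻¹ (inv_mem hg) _ h⟩

theorem normalizer_le_normalizer_kerAct :
    normalizer (D : Set G) ≤ normalizer (kerAct D : Set G) := by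
  intro g hg
  rw [mem_normalizer_iff]
  intro x
  show x ∈ lOne D ∧ x ∈ centralizer (zc D : Set G) ↔ _ ∧ _
  exact and_congr (mem_normalizer_iff.1 (normalizer_le_normalizer_lOne hg) x)
    (mem_normalizer_iff.1 (CfsgLib.Comp.normalizer_le_normalizer_centralizer _ (le_normalizer_zc hg)) x)

theorem centralizer_le_kerAct : centralizer (D : Set G) ≤ kerAct D := fun g hg =>
  ⟨⟨centralizer_le_normalizer _ hg, fun d hd => by
      rw [← mem_centralizer_iff.1 hg d hd, mul_inv_cancel_right, mul_inv_cancel]; exact one_mem _⟩,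
    centralizer_le (fun _ h => h.1) hg⟩

theorem mem_centralizer_of_odd (hD : IsPGroup 2 D) {g : G} (hg : g ∈ kerAct D)
    (hgo : Odd (orderOf g)) : g ∈ centralizer (D : Set G) := by
  refine mem_centralizer_iff.2 fun d hd => ?_
  set z := g * d * g⁻¹ * d⁻¹ with hz
  have hzm : z ∈ zc D := hg.1.2 d hd
  have hgz : g * z * g⁻¹ = z := by
    rw [← mem_centralizer_iff.1 hg.2 z hzm, mul_inv_cancel_right]
  have key : ∀ i : ℕ, g ^ i * d * (g ^ i)⁻¹ = z ^ i * d := by
    intro i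
    induction i with
    | zero => simp
    | succ i ih =>
      calc g ^ (i + 1) * d * (g ^ (i + 1))⁻¹ = g * (g ^ i * d * (g ^ i)⁻¹) * g⁻¹ := by
            rw [pow_succ']; group
        _ = g * (z ^ i * d) * g⁻¹ := by rw [ih]
        _ = (g * z * g⁻¹) ^ i * (g * d * g⁻¹) := by rw [conj_pow]; group
        _ = z ^ (i + 1) * d := by
            have e2 : g * d * g⁻¹ = z * d := by simp [z]
            rw [hgz, e2, ← mul_assoc, ← pow_succ]
  have h := key (orderOf g)
  rw [pow_orderOf_eq_one, one_mul, inv_one, mul_one] at h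
  obtain ⟨k, hk⟩ := exists_pow_two_pow hD hzm.1
  have hz1 : z = 1 := eq_one_of_odd_of_two hgo (mul_eq_right.1 h.symm) hk
  rw [hz, mul_inv_eq_one, mul_inv_eq_iff_eq_mul] at hz1
  exact hz1.symm

theorem two_mem_kerAct (hD : MaxBad D) {x : G} (hx : x ∈ kerAct D) {S : Sylow 2 G}
    (hxS : x ∈ (S : Subgroup G)) : x ∈ D := by
  obtain ⟨k, hk⟩ := exists_pow_two_pow S.2 hxS
  obtain ⟨g, hg, hgo, hgC⟩ := hD.1.2
  exact two_mem hD (K := kerAct D) (fun y h => (Subgroup.mem_inf.1 h).1.1)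
    normalizer_le_normalizer_kerAct centralizer_le_kerAct hg hgo
    (fun h => hgC (mem_centralizer_of_odd hD.1.1 h hgo)) hx hk

theorem le_kerAct (hD : MaxBad D) (hcl : CommCentral G) {P : Sylow 2 G}
    (hDP : D ≤ (P : Subgroup G)) : D ≤ kerAct D := fun d hd =>
  ⟨sylow_le_lOne hD hcl hDP (hDP hd), mem_centralizer_iff.2 fun z hz =>
    (mem_centralizer_iff.1 hz.2 d hd).symm⟩

/-- Sylow subgroups meeting in more than `D` are conjugate under `C(D)`. -/
theorem exists_conj_of_inter (hD : MaxBad D) (hcl : CommCentral G) {S₁ S₂ : Sylow 2 G}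
    (h1 : D ≤ (S₁ : Subgroup G)) (h2 : D ≤ (S₂ : Subgroup G)) {b : G}
    (hb1 : b ∈ (S₁ : Subgroup G)) (hb2 : b ∈ (S₂ : Subgroup G)) (hb : b ∉ D) :
    ∃ c ∈ centralizer (D : Set G), c • S₁ = S₂ := by
  haveI : Fact (Nat.Prime 2) := ⟨Nat.prime_two⟩
  set R := (S₁ : Subgroup G) ⊓ (S₂ : Subgroup G) with hR
  have hDR : D ≤ R := le_inf h1 h2
  have hgood : ∀ n ∈ normalizer (R : Set G), Odd (orderOf n) → n ∈ centralizer (R : Set G) := by
    intro n hn hno
    by_contra h
    have hle := hD.2 R ⟨S₁.2.to_le inf_le_left, n, hn, hno, h⟩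
    exact hb ((eq_of_le_of_card_ge hDR hle).symm.le ⟨hb1, hb2⟩)
  set N := normalizer (R : Set G)
  have hN1 : (S₁ : Subgroup G) ≤ N := le_normalizer_of_comm hD hcl h1 hDR inf_le_left
  have hN2 : (S₂ : Subgroup G) ≤ N := le_normalizer_of_comm hD hcl h2 hDR inf_le_right
  set C := (centralizer (R : Set G)).subgroupOf N
  haveI : C.Normal := (normal_subgroupOf_iff_le_normalizer (centralizer_le_normalizer _)).2
    (CfsgLib.Comp.normalizer_le_normalizer_centralizer _)
  have hQ : IsPGroup 2 (↥N ⧸ C) := by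
    intro q
    obtain ⟨n, rfl⟩ := QuotientGroup.mk'_surjective C q
    obtain ⟨a, ha⟩ := exists_odd_pow (n : G)
    refine ⟨a, ?_⟩
    rw [← map_pow, QuotientGroup.mk'_apply, QuotientGroup.eq_one_iff, mem_subgroupOf,
      SubmonoidClass.coe_pow]
    exact hgood _ (pow_mem n.2 _) ha
  obtain ⟨n, hn⟩ := MulAction.exists_smul_eq N (S₁.subtype hN1) (S₂.subtype hN2)
  have htop : (((S₁.subtype hN1).mapSurjective (QuotientGroup.mk'_surjective C) : Sylow 2 (↥N ⧸ C)) :
      Subgroup (↥N ⧸ C)) = ⊤ :=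
    (Sylow.is_maximal' _ (hQ.to_subgroup _) le_top).symm
  have hmem : QuotientGroup.mk' C n ∈
      (((S₁.subtype hN1).mapSurjective (QuotientGroup.mk'_surjective C) : Sylow 2 (↥N ⧸ C)) :
      Subgroup (↥N ⧸ C)) := htop ▸ mem_top _
  obtain ⟨s, hs, hse⟩ := hmem
  set c := n * s⁻¹
  have hcC : c ∈ C := by
    rw [← QuotientGroup.eq_one_iff, ← QuotientGroup.mk'_apply, map_mul, map_inv, hse,
      mul_inv_cancel]
  have hcs : c • S₁.subtype hN1 = S₂.subtype hN2 := by
    have h : s • S₁.subtype hN1 = S₁.subtype hN1 :=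
      Sylow.smul_eq_iff_mem_normalizer.2 (le_normalizer hs)
    rw [← hn]
    conv_rhs => rw [show n = c * s by simp [c], mul_smul, h]
  refine ⟨c, centralizer_le (SetLike.coe_subset_coe.2 hDR) hcC, ?_⟩
  rw [Sylow.smul_subtype] at hcs
  exact Sylow.subtype_injective hcs

theorem le_smul (h : G) (hh : h ∈ normalizer (D : Set G)) {S : Sylow 2 G}
    (hDS : D ≤ (S : Subgroup G)) : D ≤ (h • S : Sylow 2 G) := by
  intro d hd
  have hd' : h⁻¹ * d * h ∈ D := by simpa using (mem_normalizer_iff.1 (inv_mem hh) d).1 hd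
  exact ⟨h⁻¹ * d * h, hDS hd', by simp [MulAut.conj_apply, mul_assoc]⟩

theorem conj_mem_smul {h x : G} {S : Sylow 2 G} (hx : x ∈ (S : Subgroup G)) :
    h * x * h⁻¹ ∈ ((h • S : Sylow 2 G) : Subgroup G) := ⟨x, hx, rfl⟩

/-- The elements of `K ⊔ X` for `X` normalizing `K`. -/
theorem exists_mul_of_mem_sup {K X : Subgroup G} (hXK : X ≤ normalizer (K : Set G)) {u : G}
    (hu : u ∈ K ⊔ X) : ∃ k ∈ K, ∃ x ∈ X, k * x = u := by
  rw [← SetLike.mem_coe, coe_mul_of_right_le_normalizer_left K X hXK] at hu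
  exact Set.mem_mul.1 hu

variable (hD : MaxBad D) (hcl : CommCentral G)

/-- The image of a Sylow subgroup in the automorphisms of `Z(D)`. -/
noncomputable def img (S : Sylow 2 G) (hS : D ≤ (S : Subgroup G)) : Sylow 2 (act D).range :=
  (S.subtype (sylow_le_lOne hD hcl hS)).mapSurjective (act D).rangeRestrict_surjective

theorem act_mem_img {S : Sylow 2 G} (hS : D ≤ (S : Subgroup G)) (a : lOne D)
    (ha : (a : G) ∈ (S : Subgroup G)) :
    (act D).rangeRestrict a ∈ (img hD hcl S hS : Subgroup (act D).range) := ⟨a, ha, rfl⟩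

theorem exists_lift {S : Sylow 2 G} (hS : D ≤ (S : Subgroup G)) {x : (act D).range}
    (hx : x ∈ (img hD hcl S hS : Subgroup (act D).range)) :
    ∃ a : lOne D, (a : G) ∈ (S : Subgroup G) ∧ act D a = x.1 := by
  obtain ⟨a, ha, rfl⟩ := hx
  exact ⟨a, ha, rfl⟩

include hD hcl in
theorem exists_sylow_img {P : Sylow 2 G} (hP : D ≤ (P : Subgroup G)) (T : Sylow 2 (act D).range) :
    ∃ (S : Sylow 2 G) (hS : D ≤ (S : Subgroup G)), img hD hcl S hS = T := by
  haveI : Fact (Nat.Prime 2) := ⟨Nat.prime_two⟩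
  haveI : Finite (act D).range := Finite.of_surjective _ (act D).rangeRestrict_surjective
  obtain ⟨q, hq⟩ := MulAction.exists_smul_eq (act D).range (img hD hcl P hP) T
  obtain ⟨l, rfl⟩ := (act D).rangeRestrict_surjective q
  have hS := le_smul (l : G) (lOne_le l.2) hP
  refine ⟨_, hS, ?_⟩
  have hle : ((img hD hcl _ hS) : Subgroup (act D).range) ≤ (T : Subgroup _) := by
    rw [← hq]
    rintro _ ⟨a, ha, rfl⟩
    obtain ⟨p, hp, hpe⟩ : (a : G) ∈ (((l : G) • P : Sylow 2 G) : Subgroup G) := ha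
    have e : a = l * ⟨p, sylow_le_lOne hD hcl hP hp⟩ * l⁻¹ := Subtype.ext (by
      rw [← hpe]; rfl)
    refine ⟨(act D).rangeRestrict ⟨p, sylow_le_lOne hD hcl hP hp⟩, act_mem_img hD hcl hP _ hp, ?_⟩
    rw [e, map_mul, map_mul, map_inv]
    rfl
  exact (Sylow.ext ((img hD hcl _ hS).is_maximal' T.2 hle)).symm

include hD hcl in
/-- The images of the Sylow subgroups intersect trivially. -/
theorem sylowTI {P : Sylow 2 G} (hP : D ≤ (P : Subgroup G)) : SylowTI (act D).range := by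
  haveI : Fact (Nat.Prime 2) := ⟨Nat.prime_two⟩
  intro T₁ T₂ hne x hx1 hx2
  by_contra hx
  obtain ⟨S₁, h1, rfl⟩ := exists_sylow_img hD hcl hP T₁
  obtain ⟨S₂, h2, rfl⟩ := exists_sylow_img hD hcl hP T₂
  obtain ⟨a, ha, hax⟩ := exists_lift hD hcl h1 hx1
  obtain ⟨b, hb, hbx⟩ := exists_lift hD hcl h2 hx2
  have haD : (a : G) ∉ D := fun h =>
    hx (Subtype.ext (hax ▸ mem_kerAct.1 (le_kerAct hD hcl hP h)))
  have hbD : (b : G) ∉ D := fun h =>
    hx (Subtype.ext (hbx ▸ mem_kerAct.1 (le_kerAct hD hcl hP h)))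
  set H := kerAct D with hH
  have hba : (b : G) * (a : G)⁻¹ ∈ H := by
    have : act D (b * a⁻¹) = 1 := by rw [map_mul, map_inv, hax, hbx, mul_inv_cancel]
    exact mem_kerAct.2 this
  set A := zpowers (a : G)
  have hAn : A ≤ normalizer (H : Set G) :=
    zpowers_le.2 (normalizer_le_normalizer_kerAct a.2.1)
  set U := H ⊔ A
  have hbU : (b : G) ∈ U := by
    have := mul_mem (mem_sup_left hba : (b : G) * (a : G)⁻¹ ∈ U) (mem_sup_right (mem_zpowers _))
    rwa [inv_mul_cancel_right] at this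
  have hAS : A ≤ (S₁ : Subgroup G) := zpowers_le.2 ha
  obtain ⟨Ta, hTa⟩ := ((S₁.2.to_le hAS).comap_subtype (K := U)).exists_le_sylow
  obtain ⟨Tb, hTb⟩ := ((S₂.2.to_le (zpowers_le.2 hb)).comap_subtype (K := U)).exists_le_sylow
  have hTaS : ∀ w : U, w ∈ (Ta : Subgroup U) → (w : G) ∈ (S₁ : Subgroup G) := by
    intro w hw
    obtain ⟨h', hh', α, hα, e⟩ := exists_mul_of_mem_sup hAn w.2
    have hαT : (⟨α, mem_sup_right hα⟩ : U) ∈ (Ta : Subgroup U) := hTa hα
    have hh'T : (⟨h', mem_sup_left hh'⟩ : U) ∈ (Ta : Subgroup U) := by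
      have : (⟨h', mem_sup_left hh'⟩ : U) = w * (⟨α, mem_sup_right hα⟩ : U)⁻¹ :=
        Subtype.ext (by rw [coe_mul, ← e]; simp)
      rw [this]; exact mul_mem hw (inv_mem hαT)
    obtain ⟨S', hS'⟩ := (Ta.isPGroup'.map U.subtype).exists_le_sylow
    have : h' ∈ D := two_mem_kerAct hD hh' (hS' (mem_map_of_mem U.subtype hh'T))
    rw [← e]; exact mul_mem (h1 this) (hAS hα)
  obtain ⟨u, hu⟩ := MulAction.exists_smul_eq U Ta Tb
  have hbT : (⟨(b : G), hbU⟩ : U) ∈ ((u • Ta : Sylow 2 U) : Subgroup U) :=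
    hu.symm ▸ hTb (mem_zpowers (b : G))
  obtain ⟨w, hw, hwb⟩ := hbT
  obtain ⟨h', hh', α, hα, e⟩ := exists_mul_of_mem_sup hAn u.2
  have hbS : (b : G) ∈ ((h' • S₁ : Sylow 2 G) : Subgroup G) := by
    have h3 : (u : G) * (w : G) * (u : G)⁻¹ = b := congrArg Subtype.val hwb
    have h4 : (b : G) = h' * (α * (w : G) * α⁻¹) * h'⁻¹ := by rw [← h3, ← e]; group
    rw [h4]
    exact conj_mem_smul (mul_mem (mul_mem (hAS hα) (hTaS w hw)) (inv_mem (hAS hα)))
  obtain ⟨c, hc, hcS⟩ := exists_conj_of_inter hD hcl (le_smul h' hh'.1.1 h1) h2 hbS hb hbD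
  rw [← mul_smul] at hcS
  set k := c * h'
  have hk : k ∈ H := mul_mem (centralizer_le_kerAct hc) hh'
  apply hne
  refine (Sylow.ext ((img hD hcl S₁ h1).is_maximal' (img hD hcl S₂ h2).2 ?_)).symm
  rintro _ ⟨a', ha', rfl⟩
  have hk1 : (act D) ⟨k, hk.1⟩ = 1 := mem_kerAct.1 hk
  refine ⟨⟨k, hk.1⟩ * a' * ⟨k, hk.1⟩⁻¹, ?_, Subtype.ext ?_⟩
  · show k * (a' : G) * k⁻¹ ∈ (S₂ : Subgroup G)
    exact hcS ▸ conj_mem_smul ha'
  · show act D (⟨k, hk.1⟩ * a' * ⟨k, hk.1⟩⁻¹) = act D a'
    rw [map_mul, map_mul, map_inv, hk1, one_mul, inv_one, mul_one]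

include hD hcl in
theorem sylowQuad {P : Sylow 2 G} (hP : D ≤ (P : Subgroup G)) : SylowQuad (act D).range := by
  intro T a ha b hb z
  obtain ⟨S, hS, rfl⟩ := exists_sylow_img hD hcl hP T
  obtain ⟨a', ha', hae⟩ := exists_lift hD hcl hS ha
  obtain ⟨b', hb', hbe⟩ := exists_lift hD hcl hS hb
  refine Subtype.ext ?_
  rw [← hae, ← hbe, act_apply, delta_act,
    hcl S _ hb' _ (hS z.2.1) _ ha', mul_inv_cancel_right]

include hD hcl in
theorem exists_other (hN : NormGood G) {P : Sylow 2 G} (hP : D ≤ (P : Subgroup G)) :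
    ∃ (S : Sylow 2 G) (hS : D ≤ (S : Subgroup G)), img hD hcl S hS ≠ img hD hcl P hP := by
  haveI : Fact (Nat.Prime 2) := ⟨Nat.prime_two⟩
  by_contra hcon
  push Not at hcon
  obtain ⟨g, hg, hgo, hgC⟩ := hD.1.2
  set H := kerAct D
  have hgP := le_smul g hg hP
  have heq := hcon _ hgP
  have hPn : (P : Subgroup G) ≤ normalizer (H : Set G) := fun p hp =>
    normalizer_le_normalizer_kerAct (sylow_le_lOne hD hcl hP hp).1
  have hU : ((g • P : Sylow 2 G) : Subgroup G) ≤ H ⊔ (P : Subgroup G) := by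
    intro e he
    have hm := act_mem_img hD hcl hgP ⟨e, sylow_le_lOne hD hcl hgP he⟩ he
    rw [heq] at hm
    obtain ⟨p, hp, hpe⟩ := exists_lift hD hcl hP hm
    have h : act D (⟨e, sylow_le_lOne hD hcl hgP he⟩ * p⁻¹) = 1 := by
      rw [map_mul, map_inv, hpe]; exact mul_inv_cancel _
    have := mul_mem (mem_sup_left (mem_kerAct.2 h) : _ ∈ H ⊔ (P : Subgroup G)) (mem_sup_right hp)
    simpa using this
  obtain ⟨u, hu⟩ := MulAction.exists_smul_eq (H ⊔ (P : Subgroup G) : Subgroup G)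
    (P.subtype le_sup_right) ((g • P).subtype hU)
  rw [Sylow.smul_subtype] at hu
  have hu' : (u : G) • P = g • P := Sylow.subtype_injective hu
  obtain ⟨h, hh, p, hp, e⟩ := exists_mul_of_mem_sup hPn u.2
  rw [← e, mul_smul, Sylow.smul_eq_iff_mem_normalizer.2 (le_normalizer hp)] at hu'
  have hm : h⁻¹ * g ∈ normalizer ((P : Subgroup G) : Set G) := by
    refine Sylow.smul_eq_iff_mem_normalizer.1 ?_
    rw [mul_smul, ← hu', inv_smul_smul]
  obtain ⟨a, ha⟩ := exists_odd_pow (h⁻¹ * g)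
  have hC : (h⁻¹ * g) ^ 2 ^ a ∈ H := centralizer_le_kerAct
    (centralizer_le (SetLike.coe_subset_coe.2 hP) (hN P _ (pow_mem hm _) ha))
  exact hgC (mem_centralizer_of_odd hD.1.1 (mem_of_odd_of_pow_mem hgo
    (pow_mem_of_mul (normalizer_le_normalizer_kerAct hg) (inv_mem hh) _ hC)) hgo)

include hD hcl in
/-- The elementary abelian module attached to an involution of `P / D`. -/
theorem exists_datum (hN : NormGood G) {P : Sylow 2 G} (hP : D ≤ (P : Subgroup G)) {t : G}
    (ht : t ∈ (P : Subgroup G)) (htD : t ∉ D) (htt : t * t ∈ D) :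
    ∃ (V : Subgroup G) (g : G), g ∈ normalizer (D : Set G) ∧ Odd (orderOf g) ∧
      g ∉ centralizer (D : Set G) ∧ V ≤ zc D ∧ (∀ v ∈ V, v * v = 1) ∧
      (∀ d ∈ D, g * d * g⁻¹ * d⁻¹ ∈ V) ∧ (∀ v ∈ V, g * v = v * g → v = 1) ∧
      (∀ v ∈ V, t * v * t⁻¹ ∈ V) ∧
      Nat.card (P : Subgroup G) * Nat.card ↥(V ⊓ centralizer ({t} : Set G)) ≤
        Nat.card V * Nat.card D := by
  haveI : Fact (Nat.Prime 2) := ⟨Nat.prime_two⟩
  haveI : Finite (act D).range := Finite.of_surjective _ (act D).rangeRestrict_surjective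
  set t' : lOne D := ⟨t, sylow_le_lOne hD hcl hP ht⟩ with ht'
  set τ := (act D).rangeRestrict t' with hτ
  have hτm := act_mem_img hD hcl hP t' ht
  have hτ1 : τ ≠ 1 := fun h => htD
    (two_mem_kerAct hD (mem_kerAct.2 (congrArg Subtype.val h) : (t' : G) ∈ _) ht)
  have hτ2 : orderOf τ = 2 := orderOf_eq_prime (by
    rw [hτ, ← map_pow]
    exact Subtype.ext (mem_kerAct.1 (le_kerAct hD hcl hP
      (by rw [SubmonoidClass.coe_pow, pow_two]; exact htt) : ((t' ^ 2 : lOne D) : G) ∈ _))) hτ1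
  obtain ⟨S, hS, hne⟩ := exists_other hD hcl hN hP
  obtain ⟨μ, hμm, hμ2⟩ : ∃ μ ∈ (img hD hcl S hS : Subgroup (act D).range), orderOf μ = 2 := by
    have h2 : 2 ∣ Nat.card (img hD hcl S hS : Subgroup (act D).range) := by
      rw [Nat.card_congr ((img hD hcl S hS).equiv (img hD hcl P hP)).toEquiv]
      have h := Subgroup.orderOf_dvd_natCard _ hτm
      rwa [show orderOf ((act D).rangeRestrict t') = 2 from hτ2] at h
    obtain ⟨μ, hμ⟩ := exists_prime_orderOf_dvd_card' 2 h2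
    exact ⟨μ, μ.2, by rw [Subgroup.orderOf_coe]; exact hμ⟩
  have hZ : IsPGroup 2 (zc D) := hD.1.1.to_le inf_le_left
  obtain ⟨hV2, hfix, hτV, hcount⟩ := exists_quadratic_module hZ (sylowTI hD hcl hP)
    (sylowQuad hD hcl hP) hne.symm hτm hμm hτ2 hμ2
  obtain ⟨s, hs, hse⟩ := exists_lift hD hcl hS hμm
  set y := τ * μ with hy
  have hyo := odd_orderOf_mul (sylowTI hD hcl hP) hne.symm hτm hμm hτ2 hμ2
  -- an element of odd order lifting `y`
  set b := t' * s with hb
  have hby : (act D).rangeRestrict b = y := Subtype.ext (by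
    show act D (t' * s) = _
    rw [map_mul, hse]; rfl)
  obtain ⟨a, ha⟩ := exists_odd_pow (b : G)
  obtain ⟨j, hj⟩ := exists_pow_eq_self_of_coprime (x := y) (n := 2 ^ a)
    ((Nat.coprime_two_left.2 hyo).pow_left a)
  set g := (b ^ 2 ^ a) ^ j with hg
  have hgy : act D g = y.1 := by
    have : (act D).rangeRestrict g = y := by rw [hg, map_pow, map_pow, hby, hj]
    exact congrArg Subtype.val this
  have hgo : Odd (orderOf (g : G)) := by
    refine Odd.of_dvd_nat ha ?_
    rw [hg, SubmonoidClass.coe_pow, SubmonoidClass.coe_pow]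
    exact orderOf_pow_dvd j
  set V := ((delta y.1).range).map (zc D).subtype with hV
  have hmV : ∀ {z : zc D}, (z : G) ∈ V → z ∈ (delta y.1).range := fun h =>
    (mem_map_iff_mem (zc D).subtype_injective).1 h
  have hδV : ∀ z : zc D, (g : G) * z * (g : G)⁻¹ * (z : G)⁻¹ ∈ V := fun z =>
    ⟨delta y.1 z, ⟨z, rfl⟩, by rw [← hgy]; exact delta_act g z⟩
  refine ⟨V, g, g.2.1, hgo, fun hC => ?_, map_subtype_le _, ?_, fun d hd => ?_, ?_, ?_, ?_⟩
  · have h1 : y = 1 := Subtype.ext (hgy.symm.trans (mem_kerAct.1 (centralizer_le_kerAct hC)))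
    have hμτ : μ = τ⁻¹ := eq_inv_of_mul_eq_one_right h1
    exact hτ1 (sylowTI hD hcl hP _ _ hne.symm τ hτm ((Subgroup.inv_mem_iff _).1 (hμτ ▸ hμm)))
  · rintro _ ⟨v, hv, rfl⟩
    exact congrArg Subtype.val (hV2 v hv)
  · -- `[D, g] ≤ V`
    set z := (g : G) * d * (g : G)⁻¹ * d⁻¹ with hz
    have hzm : z ∈ zc D := g.2.2 d hd
    have key : ∀ i : ℕ, ((g : G) ^ i * d * ((g : G) ^ i)⁻¹ * d⁻¹) * (z ^ i)⁻¹ ∈ V := by
      intro i
      induction i with
      | zero => simp
      | succ i ih =>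
        set ci := (g : G) ^ i * d * ((g : G) ^ i)⁻¹ * d⁻¹
        have hci : ci ∈ zc D := by
          rw [show ci = (((g ^ i : lOne D) : G)) * d * (((g ^ i : lOne D) : G))⁻¹ * d⁻¹ by
            rw [SubmonoidClass.coe_pow]]
          exact (g ^ i).2.2 d hd
        have e : ((g : G) ^ (i + 1) * d * ((g : G) ^ (i + 1))⁻¹ * d⁻¹) * (z ^ (i + 1))⁻¹ =
            ((g : G) * ci * (g : G)⁻¹ * ci⁻¹) * (ci * (z ^ i)⁻¹) := by
          have hcz : Commute z (z ^ i)⁻¹ := ((Commute.refl z).pow_right i).inv_right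
          have e1 : (g : G) ^ (i + 1) * d * ((g : G) ^ (i + 1))⁻¹ * d⁻¹ =
              ((g : G) * ci * (g : G)⁻¹) * z := by
            rw [pow_succ' (g : G)]; simp only [ci, hz]; group
          calc _ = ((g : G) * ci * (g : G)⁻¹) * (z * (z ^ (i + 1))⁻¹) := by rw [e1, mul_assoc]
            _ = ((g : G) * ci * (g : G)⁻¹) * (z ^ i)⁻¹ := by
                rw [pow_succ z i, mul_inv_rev, mul_inv_cancel_left]
            _ = _ := by group
        rw [e]
        exact mul_mem (hδV ⟨ci, hci⟩) ih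
    have hm := key (orderOf (g : G))
    rw [pow_orderOf_eq_one, one_mul, inv_one, mul_one, mul_inv_cancel, one_mul] at hm
    obtain ⟨k, hk⟩ := exists_pow_two_pow hD.1.1 hzm.1
    obtain ⟨l, hl⟩ := exists_pow_eq_self_of_coprime (x := z) (n := orderOf (g : G))
      (((Nat.coprime_two_left.2 hgo).symm.pow_right k).coprime_dvd_right
        (orderOf_dvd_of_pow_eq_one hk))
    exact hl ▸ pow_mem ((inv_mem_iff).1 hm) l
  · rintro _ ⟨v, hv, rfl⟩ hc
    refine congrArg Subtype.val (hfix v hv (Subtype.ext ?_))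
    show ((y.1 v : zc D) : G) = v
    rw [← hgy, act_apply]
    exact mul_inv_eq_iff_eq_mul.2 hc
  · rintro _ ⟨v, hv, rfl⟩
    exact ⟨τ.1 v, hτV v hv, act_apply t' v⟩
  · have hcardV : Nat.card V = Nat.card (delta y.1).range :=
      card_map_of_injective (zc D).subtype_injective
    have hinf : V ⊓ centralizer ({t} : Set G) =
        ((delta y.1).range ⊓ (delta τ.1).ker).map (zc D).subtype := by
      ext w
      constructor
      · rintro ⟨⟨v, hv, rfl⟩, hc⟩
        refine ⟨v, ⟨hv, mem_ker_delta.2 (Subtype.ext ?_)⟩, rfl⟩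
        show ((act D t' v : zc D) : G) = v
        rw [act_apply]
        exact mul_inv_eq_iff_eq_mul.2 (mem_centralizer_singleton_iff.1 hc).symm
      · rintro ⟨v, ⟨hv, hk⟩, rfl⟩
        refine ⟨⟨v, hv, rfl⟩, mem_centralizer_singleton_iff.2 ?_⟩
        have h := congrArg Subtype.val (mem_ker_delta.1 hk)
        rw [show ((τ.1 v : zc D) : G) = t * v * t⁻¹ from act_apply t' v] at h
        exact (mul_inv_eq_iff_eq_mul.1 h).symm
    rw [hinf, card_map_of_injective (zc D).subtype_injective, hcardV]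
    have hPcard : Nat.card (P : Subgroup G) =
        Nat.card (img hD hcl P hP : Subgroup (act D).range) * Nat.card D := by
      set Q : Subgroup (lOne D) := (P.subtype (sylow_le_lOne hD hcl hP) : Sylow 2 (lOne D)).toSubgroup
      have h1 : Nat.card Q = Nat.card (P : Subgroup G) :=
        Nat.card_congr (subgroupOfEquivOfLe (sylow_le_lOne hD hcl hP)).toEquiv
      have h2 : (act D).rangeRestrict.ker ⊓ Q = D.subgroupOf (lOne D) := by
        ext a
        constructor
        · rintro ⟨ha, haQ⟩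
          exact two_mem_kerAct hD (mem_kerAct.2 (congrArg Subtype.val ha)) haQ
        · intro ha
          exact ⟨Subtype.ext (mem_kerAct.1 (le_kerAct hD hcl hP ha)), hP ha⟩
      have h3 := card_map_mul_inf_ker' (act D).rangeRestrict Q
      rw [h2, h1, Nat.card_congr (subgroupOfEquivOfLe
        ((le_kerAct hD hcl hP).trans inf_le_left)).toEquiv] at h3
      exact h3.symm
    rw [hPcard, mul_right_comm]
    exact Nat.mul_le_mul_right _ hcount

end CfsgLib.Coprime.InvMax
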