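import Cfsg.Agent.Lib.PLocal.SubnormalJoin
import Cfsg.Agent.Lib.Coprime.Sylow
set_option autoImplicit false

/-!
Subnormal subgroups inside a subgroup `M`.
-/

namespace CfsgLib.Coprime

open Subgroup

variable {G : Type*} [Group G] [Finite G]

/-- The closure of a subnormal subgroup under conjugation by `M` is subnormal. -/
theorem exists_subnormal_closure {M L : Subgroup G} (hL : L.IsSubnormal) (hLM : L ≤ M) :
    ∃ K : Subgroup G, K.IsSubnormal ∧ L ≤ K ∧ K ≤ M ∧ M ≤ normalizer (K : Set G) := by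
  classical
  have := Fintype.ofFinite G
  let s : Finset G := Finset.univ.filter (· ∈ M)
  let K : Subgroup G := s.sup fun m => L.map (MulAut.conj m).toMonoidHom
  refine ⟨K, ?_, ?_, ?_, ?_⟩
  · exact Finset.sup_induction IsSubnormal.bot (fun a ha b hb => CfsgLib.PLocal.isSubnormal_sup ha hb)
      (fun m _ => CfsgLib.Comp.isSubnormal_map_conj hL m)
  · have h1 : L.map (MulAut.conj (1 : G)).toMonoidHom ≤ K :=
      Finset.le_sup (f := fun m => L.map (MulAut.conj m).toMonoidHom)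
        (Finset.mem_filter.mpr ⟨Finset.mem_univ 1, one_mem M⟩)
    intro x hx
    exact h1 ⟨x, hx, by simp⟩
  · refine Finset.sup_le fun m hm => ?_
    rintro _ ⟨x, hx, rfl⟩
    exact mul_mem (mul_mem (Finset.mem_filter.mp hm).2 (hLM hx)) (inv_mem (Finset.mem_filter.mp hm).2)
  · have key : ∀ m ∈ M, K.map (MulAut.conj m).toMonoidHom ≤ K := by
      intro m hm
      refine map_le_iff_le_comap.mpr (Finset.sup_le fun k hk => map_le_iff_le_comap.mp ?_)
      rw [map_conj_conj]
      exact Finset.le_sup (f := fun m => L.map (MulAut.conj m).toMonoidHom)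
        (Finset.mem_filter.mpr ⟨Finset.mem_univ _, mul_mem hm (Finset.mem_filter.mp hk).2⟩)
    intro m hm
    rw [mem_normalizer_iff_map_conj]
    exact eq_of_le_of_card_ge (key m hm) (card_map_conj m K).ge

/-- A subnormal subgroup of `M` lies in a subgroup of `M` normalized by `M`, whose normalizer is
not contained in `M`, unless `M = ⊤`. -/
theorem exists_normalizer_not_le {M L : Subgroup G} (hM : M ≠ ⊤) (hL : L.IsSubnormal) (hLM : L ≤ M) :
    ∃ K : Subgroup G, L ≤ K ∧ K ≤ M ∧ M ≤ normalizer (K : Set G) ∧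
      ¬ normalizer (K : Set G) ≤ M := by
  let S : Set (Subgroup G) :=
    {K | K.IsSubnormal ∧ L ≤ K ∧ K ≤ M ∧ M ≤ normalizer (K : Set G)}
  obtain ⟨K, hK⟩ := (Set.toFinite S).exists_maximal (exists_subnormal_closure hL hLM)
  obtain ⟨hKs, hLK, hKM, hMK⟩ := hK.prop
  refine ⟨K, hLK, hKM, hMK, fun hle => ?_⟩
  have hne : K ≠ ⊤ := fun h => hM (eq_top_iff.mpr (h ▸ hKM))
  rcases IsSubnormal.iff_eq_top_or_exists.mp hKs with h | ⟨K₁, hlt, hK₁, hn⟩
  · exact hne h
  · have hK₁M : K₁ ≤ M := ((normal_subgroupOf_iff_le_normalizer hlt.le).mp hn).trans hle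
    obtain ⟨K₂, h2, hle₂, hK₂M, hMK₂⟩ := exists_subnormal_closure hK₁ hK₁M
    exact hlt.not_ge (hle₂.trans (hK.le_of_ge ⟨h2, hLK.trans (hlt.le.trans hle₂), hK₂M, hMK₂⟩
      (hlt.le.trans hle₂)))

end CfsgLib.Coprime
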