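import Cfsg.Agent.Lib.Solvable.Zipper
import Cfsg.Agent.Lib.Coprime.SubnormalMax
set_option autoImplicit false

/-!
A zipper lemma allowing one exceptional maximal subgroup.

If `L` generates `G` as a normal subgroup, lies in the maximal subgroup `M` and is subnormal in
every other maximal subgroup containing it, then `M` is the only maximal subgroup containing `L`.
-/

namespace CfsgLib.Coprime

open Subgroup

variable {G : Type*} [Group G] [Finite G]

/-- Conjugate of a subgroup. -/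
abbrev zcj (g : G) (H : Subgroup G) : Subgroup G := H.map (MulAut.conj g).toMonoidHom

omit [Finite G] in
theorem zcj_mul (g h : G) (H : Subgroup G) : zcj g (zcj h H) = zcj (g * h) H :=
  map_conj_conj g h H

omit [Finite G] in
theorem zcj_le_cancel {h a b : G} {L M : Subgroup G}
    (hle : zcj (h * b) L ≤ zcj (h * a) M) : zcj b L ≤ zcj a M := by
  rw [← zcj_mul, ← zcj_mul] at hle
  exact (map_le_map_iff_of_injective (MulAut.conj h).injective).1 hle

omit [Finite G] in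
theorem zcj_one (H : Subgroup G) : zcj 1 H = H := by
  ext x; simp

omit [Finite G] in
theorem isCoatom_zcj {M : Subgroup G} (hM : IsCoatom M) (g : G) : IsCoatom (zcj g M) :=
  ((MulAut.conj g).mapSubgroup.isCoatom_iff M).2 hM

omit [Finite G] in
theorem eq_top_of_normal_of_zcj_le {L : Subgroup G} (hL : normalClosure (L : Set G) = ⊤) {g : G}
    {N : Subgroup G} [N.Normal] (h : zcj g L ≤ N) : N = ⊤ := by
  rw [eq_top_iff, ← hL]
  refine normalClosure_le_normal fun x hx => ?_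
  have h1 : g * x * g⁻¹ ∈ N := h ⟨x, hx, by simp⟩
  have h2 := Normal.conj_mem inferInstance _ h1 g⁻¹
  simpa [mul_assoc] using h2

omit [Finite G] in
theorem not_isSubnormal_of_zcj_le {L : Subgroup G} (hL : normalClosure (L : Set G) = ⊤) {g : G}
    {T : Subgroup G} (hT : T ≠ ⊤) (h : zcj g L ≤ T) : ¬ T.IsSubnormal := fun hs => by
  rcases hs.lt_normal with h' | ⟨N, hN, hTN, hlt⟩
  · exact hT h'
  · exact hlt.ne (eq_top_of_normal_of_zcj_le hL (h.trans hTN))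

omit [Finite G] in
/-- The hypothesis passes to conjugates. -/
theorem zcj_subgroupOf_isSubnormal {L M : Subgroup G}
    (hKP : ∀ H : Subgroup G, IsCoatom H → L ≤ H → H ≠ M → (L.subgroupOf H).IsSubnormal)
    {g : G} {H : Subgroup G} (hH : IsCoatom H) (hle : zcj g L ≤ H) (hne : zcj g M ≠ H) :
    ((zcj g L).subgroupOf H).IsSubnormal := by
  have h1 : L ≤ zcj g⁻¹ H := by
    intro x hx
    exact ⟨g * x * g⁻¹, hle ⟨x, hx, by simp⟩, by simp [mul_assoc]⟩
  have h2 : zcj g⁻¹ H ≠ M := fun he => hne (by rw [← he, zcj_mul, mul_inv_cancel, zcj_one])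
  have h3 := hKP _ (isCoatom_zcj hH _) h1 h2
  let ψ : H →* zcj g⁻¹ H :=
    MonoidHom.codRestrict ((MulAut.conj g⁻¹).toMonoidHom.comp H.subtype) _
      (fun x => ⟨x, x.2, rfl⟩)
  have h4 : (L.subgroupOf (zcj g⁻¹ H)).comap ψ = (zcj g L).subgroupOf H := by
    ext x
    simp only [mem_comap, mem_subgroupOf]
    constructor
    · intro hx
      exact ⟨_, hx, by simp [ψ, mul_assoc]⟩
    · rintro ⟨y, hy, hyx⟩
      have : ((ψ x : zcj g⁻¹ H) : G) = y := by
        simp [ψ, ← hyx, mul_assoc]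
      rw [this]; exact hy
  exact h4 ▸ h3.comap ψ

/-- The subgroup generated by the conjugates indexed by a set. -/
noncomputable def zjoin (L : Subgroup G) (S : Set G) : Subgroup G :=
  (Set.toFinite S).toFinset.sup fun g => zcj g L

theorem zjoin_le_iff {L U : Subgroup G} {S : Set G} :
    zjoin L S ≤ U ↔ ∀ g ∈ S, zcj g L ≤ U := by
  simp [zjoin, Finset.sup_le_iff]

theorem le_zjoin {L : Subgroup G} {S : Set G} {g : G} (hg : g ∈ S) : zcj g L ≤ zjoin L S :=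
  zjoin_le_iff.1 le_rfl g hg

theorem zjoin_subgroupOf_isSubnormal {L : Subgroup G} {S : Set G} {H : Subgroup G}
    (hle : ∀ g ∈ S, zcj g L ≤ H) (hsn : ∀ g ∈ S, ((zcj g L).subgroupOf H).IsSubnormal) :
    ((zjoin L S).subgroupOf H).IsSubnormal := by
  have := Finset.sup_induction (p := fun U : Subgroup G => U ≤ H ∧ (U.subgroupOf H).IsSubnormal)
    (s := (Set.toFinite S).toFinset) (f := fun g => zcj g L)
    ⟨bot_le, by rw [bot_subgroupOf]; exact IsSubnormal.bot⟩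
    (fun a ha b hb => ⟨sup_le ha.1 hb.1,
      by rw [subgroupOf_sup ha.1 hb.1]; exact CfsgLib.PLocal.isSubnormal_sup ha.2 hb.2⟩)
    (fun g hg => ⟨hle g ((Set.toFinite S).mem_toFinset.1 hg),
      hsn g ((Set.toFinite S).mem_toFinset.1 hg)⟩)
  exact this.2

/-- Indices of the non-good members. -/
def zbad (L M : Subgroup G) (S : Set G) : Set G := {g ∈ S | ¬ zjoin L S ≤ zcj g M}

theorem zbad_mono {L M : Subgroup G} {S T : Set G} (h : S ⊆ T) : zbad L M S ⊆ zbad L M T :=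
  fun _ hg => ⟨h hg.1, fun hle => hg.2 (le_trans (zjoin_le_iff.2 fun _ ha => le_zjoin (h ha)) hle)⟩

section Main

variable {L M : Subgroup G}
  (hL : normalClosure (L : Set G) = ⊤)
  (hKP : ∀ H : Subgroup G, IsCoatom H → L ≤ H → H ≠ M → (L.subgroupOf H).IsSubnormal)

include hL hKP in
/-- Some member is good. -/
theorem exists_zgood {S : Set G} (hS : S.Nonempty) {P Q : Subgroup G}
    (hP : IsCoatom P) (hQ : IsCoatom Q) (hPQ : P ≠ Q) (hSP : zjoin L S ≤ P) (hSQ : zjoin L S ≤ Q) :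
    ∃ g ∈ S, zjoin L S ≤ zcj g M := by
  by_contra! hno
  have hsn : ∀ H : Subgroup G, zjoin L S ≤ H → H ≠ ⊤ → ((zjoin L S).subgroupOf H).IsSubnormal := by
    intro H hH hne
    obtain ⟨C, hC, hHC⟩ := (eq_top_or_exists_le_coatom H).resolve_left hne
    have h1 : ((zjoin L S).subgroupOf C).IsSubnormal := by
      refine zjoin_subgroupOf_isSubnormal (fun g hg => (le_zjoin hg).trans (hH.trans hHC))
        fun g hg => zcj_subgroupOf_isSubnormal hKP hC ((le_zjoin hg).trans (hH.trans hHC)) ?_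
      intro he
      exact hno g hg (he ▸ hH.trans hHC)
    exact h1.comap (Subgroup.inclusion hHC)
  obtain ⟨g, hg⟩ := hS
  obtain ⟨C, -, -, huniq⟩ := CfsgLib.Solvable.exists_unique_coatom_of_subnormal hsn
    (not_isSubnormal_of_zcj_le hL (fun h => hP.1 (top_le_iff.1 (h ▸ hSP))) (le_zjoin hg))
  exact hPQ ((huniq P hP hSP).trans (huniq Q hQ hSQ).symm)

include hL hKP in
/-- The descent. -/
theorem zdescent {P Q : Subgroup G} (hP : IsCoatom P) (hQ : IsCoatom Q) (hPQ : P ≠ Q)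
    {tA tB : G} :
    ∀ (n : ℕ) (S A B : Set G), S.ncard = n → S.Nonempty → zjoin L S ≤ P → zjoin L S ≤ Q →
      A ⊆ S → B ⊆ S → zbad L M S ⊆ A → zbad L M S ⊆ B → S ⊆ A ∪ B →
      (∀ a ∈ A, tA * a ∈ A) → (∀ b ∈ B, tB * b ∈ B) →
      (∀ a ∈ A, a ∈ zbad L M S ∨ tA * a ∈ zbad L M S) →
      (∀ b ∈ B, b ∈ zbad L M S ∨ tB * b ∈ zbad L M S) → False := by
  intro n
  induction n using Nat.strong_induction_on with
  | _ n ih => ?_
  intro S A B hn hne hSP hSQ hAS hBS hSA hSB hcov hA hB oA oB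
  have hsub : zbad L M S ⊆ S := fun x hx => hx.1
  have hne' : (zbad L M S).Nonempty := by
    obtain ⟨s, hs⟩ := hne
    rcases hcov hs with h | h
    · rcases oA s h with h' | h' <;> exact ⟨_, h'⟩
    · rcases oB s h with h' | h' <;> exact ⟨_, h'⟩
  have hlt : (zbad L M S).ncard < n := by
    obtain ⟨g, hg, hgood⟩ := exists_zgood hL hKP hne hP hQ hPQ hSP hSQ
    rw [← hn]
    exact Set.ncard_lt_ncard ⟨hsub, fun h => (h hg).2 hgood⟩ (Set.toFinite S)
  have hle : ∀ {U : Subgroup G}, zjoin L S ≤ U → zjoin L (zbad L M S) ≤ U := fun h =>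
    le_trans (zjoin_le_iff.2 fun _ ha => le_zjoin (hsub ha)) h
  -- invariance of the new sets
  have inv : ∀ (X : Set G) (t : G), (∀ a ∈ X, t * a ∈ X) →
      ∀ a ∈ zbad L M X, t * a ∈ zbad L M X := by
    intro X t hX a ha
    refine ⟨hX a ha.1, fun h => ha.2 (zjoin_le_iff.2 fun b hb => ?_)⟩
    exact zcj_le_cancel ((le_zjoin (hX b hb)).trans h)
  -- each orbit of the new sets meets the next step
  have orb : ∀ (X : Set G) (t : G), (∀ a ∈ X, t * a ∈ X) → X ⊆ S →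
      (∀ a ∈ X, a ∈ zbad L M S ∨ t * a ∈ zbad L M S) →
      ∀ a ∈ zbad L M X, a ∈ zbad L M (zbad L M S) ∨ t * a ∈ zbad L M (zbad L M S) := by
    intro X t hX hXS o a ha
    by_contra! hno
    have g1 : zjoin L (zbad L M S) ≤ zcj a M := by
      by_contra h; exact hno.1 ⟨zbad_mono hXS ha, h⟩
    have g2 : zjoin L (zbad L M S) ≤ zcj (t * a) M := by
      by_contra h; exact hno.2 ⟨zbad_mono hXS (inv X t hX a ha), h⟩
    refine ha.2 (zjoin_le_iff.2 fun b hb => ?_)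
    rcases o b hb with h | h
    · exact (le_zjoin h).trans g1
    · exact zcj_le_cancel ((le_zjoin h).trans g2)
  refine ih _ hlt _ (zbad L M A) (zbad L M B) rfl hne' (hle hSP) (hle hSQ)
    (zbad_mono hAS) (zbad_mono hBS) (zbad_mono hSA) (zbad_mono hSB) ?_
    (inv A tA hA) (inv B tB hB) (orb A tA hA hAS oA) (orb B tB hB hBS oB)
  intro z hz
  by_contra! hno
  simp only [Set.mem_union, not_or] at hno
  refine hz.2 (zjoin_le_iff.2 fun s hs => ?_)
  rcases hcov hs with h | h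
  · refine (le_zjoin h).trans ?_
    by_contra h'; exact hno.1 ⟨hSA hz, h'⟩
  · refine (le_zjoin h).trans ?_
    by_contra h'; exact hno.2 ⟨hSB hz, h'⟩

include hKP in
/-- The starting data for one side. -/
theorem exists_zside (hM : IsCoatom M) {W P Ns : Subgroup G}
    (hWmax : ∀ P Q : Subgroup G, IsCoatom P → IsCoatom Q → P ≠ Q → W ≤ P → W ≤ Q →
      ∀ g, zcj g L ≤ P → zcj g L ≤ Q → zcj g L ≤ W)
    (hWgen : ∀ U : Subgroup G, (∀ g, zcj g L ≤ W → zcj g L ≤ U) → W ≤ U)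
    (hP : IsCoatom P) (hWP : W ≤ P) (hNs : IsCoatom Ns) (hWN : normalizer (W : Set G) ≤ Ns)
    (hne : Ns ≠ P) :
    ∃ t : G, (∀ a ∈ {g | zcj g L ≤ W ∧ zcj g M ≠ P}, t * a ∈ {g | zcj g L ≤ W ∧ zcj g M ≠ P}) ∧
      ∀ a ∈ {g | zcj g L ≤ W ∧ zcj g M ≠ P},
        a ∈ zbad L M {g | zcj g L ≤ W} ∨ t * a ∈ zbad L M {g | zcj g L ≤ W} := by
  set T := {g : G | zcj g L ≤ W ∧ zcj g M ≠ P}
  have hWNs : W ≤ Ns := le_normalizer.trans hWN
  have hJ : zjoin L T ≤ W := zjoin_le_iff.2 fun g hg => hg.1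
  have hsn : ((zjoin L T).subgroupOf P).IsSubnormal :=
    zjoin_subgroupOf_isSubnormal (fun g hg => hg.1.trans hWP)
      fun g hg => zcj_subgroupOf_isSubnormal hKP hP (hg.1.trans hWP) hg.2
  have hD : Ns.subgroupOf P ≠ ⊤ := fun h => by
    rw [subgroupOf_eq_top] at h
    exact hne ((hP.le_iff.1 h).resolve_left hNs.1)
  obtain ⟨K, hJK, hKN, -, hnle⟩ := exists_normalizer_not_le hD hsn
    (comap_mono (hJ.trans hWNs))
  obtain ⟨k, hk, hkN⟩ := SetLike.not_le_iff_exists.1 hnle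
  have hkW : (k : G) ∉ normalizer (W : Set G) := fun h => hkN (hWN h)
  have hKeq : ∀ x : P, x ∈ K → k⁻¹ * x * k ∈ K := fun x hx =>
    (mem_normalizer_iff''.1 hk x).1 hx
  have hkP : zcj (k : G) P = P := map_conj_of_mem_normalizer (le_normalizer k.2)
  have hmem : ∀ a ∈ T, zcj ((k : G)⁻¹ * a) L ≤ W := by
    intro a ha
    have h1 : zcj ((k : G)⁻¹ * a) L ≤ K.map P.subtype := by
      rw [← zcj_mul]
      rintro _ ⟨x, hx, rfl⟩
      have hxP : x ∈ P := (ha.1.trans hWP) hx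
      have hxK : (⟨x, hxP⟩ : P) ∈ K := hJK ((le_zjoin (L := L) ha) hx : x ∈ zjoin L T)
      exact ⟨_, hKeq _ hxK, by simp⟩
    refine hWmax P Ns hP hNs hne.symm hWP hWNs _ (h1.trans (map_subtype_le K)) (h1.trans ?_)
    rintro _ ⟨x, hx, rfl⟩
    exact hKN hx
  refine ⟨(k : G)⁻¹, fun a ha => ⟨hmem a ha, fun he => ha.2 ?_⟩, fun a ha => ?_⟩
  · have := congrArg (zcj (k : G)) he
    rwa [zcj_mul, mul_inv_cancel_left, hkP] at this
  · by_contra! hno
    have g1 : W ≤ zcj a M := by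
      refine hWgen _ fun g hg => (le_zjoin (S := {g | zcj g L ≤ W}) hg).trans ?_
      by_contra h; exact hno.1 ⟨ha.1, h⟩
    have g2 : W ≤ zcj ((k : G)⁻¹ * a) M := by
      refine hWgen _ fun g hg => (le_zjoin (S := {g | zcj g L ≤ W}) hg).trans ?_
      by_contra h; exact hno.2 ⟨hmem a ha, h⟩
    have g3 : zcj (k : G) W ≤ zcj a M := by
      refine le_trans (map_mono g2) (le_of_eq ?_)
      exact (zcj_mul _ _ M).trans (by rw [mul_inv_cancel_left])
    have g4 : zcj (k : G) W ≤ P := (map_mono hWP).trans hkP.le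
    refine hkW ?_
    rw [mem_normalizer_iff_map_conj]
    refine eq_of_le_of_card_ge ?_ (card_map_conj _ W).ge
    refine map_le_iff_le_comap.2 (hWgen _ fun g hg => map_le_iff_le_comap.1 ?_)
    refine (zcj_mul (k : G) g L).le.trans (hWmax P (zcj a M) hP (isCoatom_zcj hM a) ha.2.symm hWP g1
      _ ?_ ?_)
    · exact (zcj_mul (k : G) g L).ge.trans ((map_mono hg).trans g4)
    · exact (zcj_mul (k : G) g L).ge.trans ((map_mono hg).trans g3)

include hL hKP in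
/-- Zipper lemma with one exception. -/
theorem coatom_eq_of_exception (hM : IsCoatom M) (hLM : L ≤ M) {K : Subgroup G}
    (hK : IsCoatom K) (hLK : L ≤ K) : K = M := by
  by_contra hKM
  let 𝒲 : Set (Subgroup G) := {U | ∃ P Q : Subgroup G, IsCoatom P ∧ IsCoatom Q ∧ P ≠ Q ∧
    (∃ g, zcj g L ≤ P ⊓ Q) ∧ U = zjoin L {g | zcj g L ≤ P ⊓ Q}}
  obtain ⟨W, hW⟩ := (Set.toFinite 𝒲).exists_maximal
    ⟨_, K, M, hK, hM, hKM, ⟨1, by rw [zcj_one]; exact le_inf hLK hLM⟩, rfl⟩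
  obtain ⟨P₀, Q₀, hP₀, hQ₀, hne₀, ⟨g₀, hg₀⟩, rfl⟩ := hW.prop
  set W := zjoin L {g | zcj g L ≤ P₀ ⊓ Q₀}
  have hWP₀ : W ≤ P₀ := zjoin_le_iff.2 fun g hg => le_trans hg inf_le_left
  have hWQ₀ : W ≤ Q₀ := zjoin_le_iff.2 fun g hg => le_trans hg inf_le_right
  have hg₀W : zcj g₀ L ≤ W := le_zjoin (S := {g | zcj g L ≤ P₀ ⊓ Q₀}) hg₀
  have hWmax : ∀ P Q : Subgroup G, IsCoatom P → IsCoatom Q → P ≠ Q → W ≤ P → W ≤ Q →
      ∀ g, zcj g L ≤ P → zcj g L ≤ Q → zcj g L ≤ W := by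
    intro P Q hP hQ hne h1 h2 g g1 g2
    have hle : W ≤ zjoin L {g | zcj g L ≤ P ⊓ Q} := zjoin_le_iff.2 fun x hx =>
      le_zjoin (S := {g | zcj g L ≤ P ⊓ Q}) (le_inf ((le_zjoin hx).trans h1) ((le_zjoin hx).trans h2))
    have hge := hW.le_of_ge ⟨P, Q, hP, hQ, hne, ⟨g₀, le_inf (hg₀W.trans h1) (hg₀W.trans h2)⟩, rfl⟩ hle
    exact (le_zjoin (S := {g | zcj g L ≤ P ⊓ Q}) (le_inf g1 g2)).trans hge
  have hWgen : ∀ U : Subgroup G, (∀ g, zcj g L ≤ W → zcj g L ≤ U) → W ≤ U := fun U hU =>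
    zjoin_le_iff.2 fun g hg => hU g (le_zjoin hg)
  have hNne : normalizer (W : Set G) ≠ ⊤ := fun h => by
    have := normalizer_eq_top_iff.1 h
    exact hP₀.1 (top_le_iff.1 ((eq_top_of_normal_of_zcj_le hL hg₀W) ▸ hWP₀))
  obtain ⟨Ns, hNs, hWN⟩ := (eq_top_or_exists_le_coatom _).resolve_left hNne
  have hWNs : W ≤ Ns := le_normalizer.trans hWN
  -- two sides
  obtain ⟨P, Q, hP, hQ, hPQ, hWP, hWQ, N₁, hN₁, hW₁, hne₁, N₂, hN₂, hW₂, hne₂⟩ :
      ∃ P Q : Subgroup G, IsCoatom P ∧ IsCoatom Q ∧ P ≠ Q ∧ W ≤ P ∧ W ≤ Q ∧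
        ∃ N₁, IsCoatom N₁ ∧ normalizer (W : Set G) ≤ N₁ ∧ N₁ ≠ P ∧
        ∃ N₂, IsCoatom N₂ ∧ normalizer (W : Set G) ≤ N₂ ∧ N₂ ≠ Q := by
    obtain ⟨H, hH, hWH, hHN⟩ : ∃ H, IsCoatom H ∧ W ≤ H ∧ H ≠ Ns := by
      by_cases h : P₀ = Ns
      · exact ⟨Q₀, hQ₀, hWQ₀, fun h' => hne₀ (h.trans h'.symm)⟩
      · exact ⟨P₀, hP₀, hWP₀, h⟩
    by_cases hNH : normalizer (W : Set G) ≤ H
    · exact ⟨H, Ns, hH, hNs, hHN, hWH, hWNs, Ns, hNs, hWN, hHN.symm, H, hH, hNH, hHN⟩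
    obtain ⟨n, hn, hnH⟩ := SetLike.not_le_iff_exists.1 hNH
    have hWn : zcj n W = W := map_conj_of_mem_normalizer hn
    refine ⟨H, zcj n H, hH, isCoatom_zcj hH n, fun he => hnH ?_, hWH, hWn.ge.trans (map_mono hWH),
      Ns, hNs, hWN, hHN.symm, Ns, hNs, hWN, fun he => hHN ?_⟩
    · have h1 : n ∈ normalizer (H : Set G) := mem_normalizer_iff_map_conj.2 he.symm
      rcases hH.le_iff.1 (le_normalizer (H := H)) with h | h
      · have := normalizer_eq_top_iff.1 h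
        exact absurd (eq_top_of_normal_of_zcj_le hL (hg₀W.trans hWH)) hH.1
      · rwa [h] at h1
    · refine map_injective (MulAut.conj n).injective (he.symm.trans ?_)
      exact (map_conj_of_mem_normalizer (le_normalizer (hWN hn))).symm
  obtain ⟨tA, hA, oA⟩ := exists_zside hKP hM hWmax hWgen hP hWP hN₁ hW₁ hne₁
  obtain ⟨tB, hB, oB⟩ := exists_zside hKP hM hWmax hWgen hQ hWQ hN₂ hW₂ hne₂
  have hS : zjoin L {g | zcj g L ≤ W} ≤ W := zjoin_le_iff.2 fun g hg => hg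
  refine zdescent hL hKP hP hQ hPQ _ {g | zcj g L ≤ W} _ _ rfl ⟨g₀, hg₀W⟩ (hS.trans hWP)
    (hS.trans hWQ) (fun g hg => hg.1) (fun g hg => hg.1) ?_ ?_ ?_ hA hB oA oB
  · exact fun g hg => ⟨hg.1, fun he => hg.2 (he ▸ hS.trans hWP)⟩
  · exact fun g hg => ⟨hg.1, fun he => hg.2 (he ▸ hS.trans hWQ)⟩
  · intro g hg
    by_cases h : zcj g M = P
    · exact Or.inr ⟨hg, fun h' => hPQ (h.symm.trans h')⟩
    · exact Or.inl ⟨hg, h⟩

end Main

end CfsgLib.Coprime
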