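import Cfsg.Agent.Lib.Coprime.InvolBounded
import Cfsg.Agent.S3927
import Mathlib

/-!
# The order of `G = [G, α]` is bounded by the number of odd order elements inverted by `α`
-/

set_option autoImplicit false

namespace CfsgLib.InvolBounded

open Subgroup
open scoped commutatorElement

variable {G : Type*} [Group G] {α : MulAut G}

/-- The twisted commutators generate. -/
def Gen (α : MulAut G) : Prop :=
  Subgroup.closure (Set.range (fun c : G => c * (α c)⁻¹)) = ⊤

theorem iterate_succ_tw (hα : α ^ 2 = 1) (i : ℕ) (g : G) :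
    (tw α)^[i + 1] g = tw α g ^ 2 ^ i := by
  induction i with
  | zero => simp
  | succ i ih =>
    rw [Function.iterate_succ', Function.comp_apply, ih]
    show tw α g ^ 2 ^ i * (α (tw α g ^ 2 ^ i))⁻¹ = _
    rw [map_pow, apply_tw hα, inv_pow, inv_inv, ← pow_add, pow_succ]
    congr 1
    omega

theorem odd_orderOf_pow_two_pow [Finite G] (x : G) : Odd (orderOf (x ^ 2 ^ Nat.card G)) := by
  obtain ⟨a, t, ht, he⟩ := Nat.exists_eq_pow_mul_and_not_dvd (orderOf_pos x).ne' 2 (by norm_num)
  have ha : a ≤ Nat.card G := by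
    have h1 : 2 ^ a ∣ orderOf x := he ▸ Dvd.intro t rfl
    have h2 := Nat.le_of_dvd Nat.card_pos (h1.trans (orderOf_dvd_natCard x))
    exact (Nat.lt_two_pow_self).le.trans h2
  refine Odd.of_dvd_nat (n := t) ?_ (orderOf_dvd_of_pow_eq_one ?_)
  · exact Nat.odd_iff.2 (Nat.two_dvd_ne_zero.1 ht)
  · rw [← pow_mul, ← orderOf_dvd_iff_pow_eq_one, he]
    exact Nat.mul_dvd_mul_right (pow_dvd_pow 2 ha) t

theorem iterate_mem [Finite G] (hα : α ^ 2 = 1) (g : G) :
    Odd (orderOf ((tw α)^[Nat.card G + 1] g)) ∧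
      α ((tw α)^[Nat.card G + 1] g) = ((tw α)^[Nat.card G + 1] g)⁻¹ := by
  rw [iterate_succ_tw hα]
  exact ⟨odd_orderOf_pow_two_pow _, by rw [map_pow, apply_tw hα, inv_pow]⟩

/-- The inverted elements of odd order generate. -/
theorem closure_inverted [Finite G] (hα : α ^ 2 = 1) (hgen : Gen α) :
    Subgroup.closure {g : G | Odd (orderOf g) ∧ α g = g⁻¹} = ⊤ := by
  refine eq_top_iff.2 ((Cfsg.Agent.S3927.result α hgen (Nat.card G + 1) le_add_self).ge.trans
    (closure_mono ?_))
  rintro _ ⟨g, rfl⟩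
  exact iterate_mem hα g

theorem gen_quotient {H : Type*} [Group H] {β : MulAut H} (q : G →* H) (hq : Function.Surjective q)
    (hβ : ∀ g, β (q g) = q (α g)) (hgen : Gen α) : Gen β := by
  unfold Gen at hgen ⊢
  rw [eq_top_iff, ← MonoidHom.range_eq_top.2 hq, MonoidHom.range_eq_map, ← hgen,
    MonoidHom.map_closure, Subgroup.closure_le]
  rintro _ ⟨_, ⟨g, rfl⟩, rfl⟩
  refine subset_closure ⟨q g, ?_⟩
  simp [hβ]

/-- Quotients have no more inverted elements of odd order. -/
theorem invCard_quotient_le [Finite G] (hα : α ^ 2 = 1) {H : Type*} [Group H] {β : MulAut H}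
    (q : G →* H) (hq : Function.Surjective q) (hβ : ∀ g, β (q g) = q (α g)) :
    invCard β ≤ invCard α := by
  classical
  have hex : ∀ x : {h : H // Odd (orderOf h) ∧ β h = h⁻¹},
      ∃ g : G, q ((tw α)^[Nat.card G + 1] g) = x.1 := by
    rintro ⟨x, hodd, hinv⟩
    obtain ⟨k, hk⟩ := exists_pow_eq_self_of_coprime (x := x)
      (n := 2 ^ (Nat.card G + 1)) ((Nat.coprime_two_left.2 hodd).pow_left _)
    obtain ⟨g, hg⟩ := hq (x ^ k)
    refine ⟨g, ?_⟩
    rw [iterate_succ_tw hα, map_pow]
    have h1 : q (tw α g) = (x ^ k) ^ 2 := by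
      rw [tw, map_mul, map_inv, ← hβ, hg, map_pow, hinv, inv_pow, inv_inv, sq]
    rw [h1]
    refine Eq.trans ?_ hk
    rw [← pow_mul, ← pow_mul, ← pow_mul]
    congr 1
    ring
  refine Nat.card_le_card_of_injective
    (fun x => (⟨_, iterate_mem hα (hex x).choose⟩ : {g : G // Odd (orderOf g) ∧ α g = g⁻¹}))
    fun x y e => Subtype.ext ?_
  rw [← (hex x).choose_spec, ← (hex y).choose_spec]
  exact congrArg q (congrArg (fun z : {g : G // Odd (orderOf g) ∧ α g = g⁻¹} => z.1) e)

theorem invCard_pos [Finite G] : 0 < invCard α := by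
  have : Nonempty {g : G // Odd (orderOf g) ∧ α g = g⁻¹} := ⟨⟨1, by simp⟩⟩
  exact Nat.card_pos

/-- The abelianization consists of images of inverted elements of odd order. -/
theorem index_commutator_le [Finite G] (hα : α ^ 2 = 1) (hgen : Gen α) :
    (commutator G).index ≤ invCard α := by
  classical
  rw [Subgroup.index_eq_card]
  have hcl := closure_inverted hα hgen
  let q : G →* Abelianization G := Abelianization.of
  have hq : Function.Surjective q := QuotientGroup.mk_surjective
  let β : MulAut (Abelianization G) := α.abelianizationCongr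
  have hβ : ∀ g, β (q g) = q (α g) := fun g => rfl
  have hall : ∀ a : Abelianization G, Odd (orderOf a) ∧ β a = a⁻¹ := by
    intro a
    obtain ⟨g, rfl⟩ := hq a
    have hg : g ∈ Subgroup.closure {g : G | Odd (orderOf g) ∧ α g = g⁻¹} := by
      rw [hcl]; exact mem_top g
    induction hg using Subgroup.closure_induction with
    | mem x hx => exact ⟨hx.1.of_dvd_nat (orderOf_map_dvd q x), by rw [hβ, hx.2, map_inv]⟩
    | one => simp
    | mul x y _ _ hx hy =>
      refine ⟨?_, by rw [map_mul, map_mul, hx.2, hy.2, mul_inv]⟩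
      rw [map_mul]
      exact (hx.1.mul hy.1).of_dvd_nat
        ((Commute.all _ _).orderOf_mul_dvd_mul_orderOf)
    | inv x _ hx => exact ⟨by rw [map_inv, orderOf_inv]; exact hx.1, by rw [map_inv, map_inv, hx.2]⟩
  refine le_trans ?_ (invCard_quotient_le hα q hq hβ)
  exact Nat.card_le_card_of_injective (fun a => ⟨a, hall a⟩)
    fun a b e => congrArg Subtype.val e

/-- Schur's bound, made monotone. -/
def schurBound (n : ℕ) : ℕ := (Finset.range (n * n + 1)).sup Subgroup.cardCommutatorBound

/-- A bounded index of the centre bounds the order. -/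
theorem card_le_of_index_center [Finite G] (hα : α ^ 2 = 1) (hgen : Gen α) {b : ℕ}
    (hb : (Subgroup.center G).index ≤ b) : Nat.card G ≤ schurBound b * invCard α := by
  classical
  rw [← (commutator G).card_mul_index]
  refine Nat.mul_le_mul ((card_commutator_le_of_finite_commutatorSet G).trans
    (Finset.le_sup (f := cardCommutatorBound) (Finset.mem_range.2 ?_))) (index_commutator_le hα hgen)
  refine Nat.lt_succ_of_le (le_trans ?_ (Nat.mul_le_mul hb hb))
  rw [Subgroup.index_eq_card, ← Nat.card_prod]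
  have hex : ∀ w : commutatorSet G, ∃ p : G × G, ⁅p.1, p.2⁆ = (w : G) := by
    rintro ⟨_, a, b', rfl⟩; exact ⟨(a, b'), rfl⟩
  refine Nat.card_le_card_of_injective
    (fun w => ((((hex w).choose.1 : G) : G ⧸ Subgroup.center G),
      (((hex w).choose.2 : G) : G ⧸ Subgroup.center G))) fun w w' e => Subtype.ext ?_
  rw [← (hex w).choose_spec, ← (hex w').choose_spec]
  obtain ⟨e1, e2⟩ := Prod.mk.injEq .. ▸ e
  rw [QuotientGroup.eq] at e1 e2
  obtain ⟨z, hz, hze⟩ : ∃ z ∈ Subgroup.center G, (hex w').choose.1 = (hex w).choose.1 * z :=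
    ⟨_, e1, by group⟩
  obtain ⟨y, hy, hye⟩ : ∃ z ∈ Subgroup.center G, (hex w').choose.2 = (hex w).choose.2 * z :=
    ⟨_, e2, by group⟩
  rw [hze, hye]
  set A := (hex w).choose.1
  set B := (hex w).choose.2
  have hz' := fun t => Subgroup.mem_center_iff.1 hz t
  have hy' := fun t => Subgroup.mem_center_iff.1 hy t
  simp only [commutatorElement_def, mul_inv_rev]
  calc A * B * A⁻¹ * B⁻¹ = A * B * (z * z⁻¹) * A⁻¹ * (y * y⁻¹) * B⁻¹ := by group
    _ = A * (B * z) * z⁻¹ * A⁻¹ * y * y⁻¹ * B⁻¹ := by group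
    _ = A * (z * B) * z⁻¹ * A⁻¹ * y * y⁻¹ * B⁻¹ := by rw [hz' B]
    _ = A * z * B * ((z⁻¹ * A⁻¹) * y) * y⁻¹ * B⁻¹ := by group
    _ = A * z * B * (y * (z⁻¹ * A⁻¹)) * y⁻¹ * B⁻¹ := by rw [hy' (z⁻¹ * A⁻¹)]
    _ = _ := by group

/-- An abelian invariant normal subgroup of bounded index gives a bound on the order. -/
theorem card_le_of_comm_normal [Finite G] (hα : α ^ 2 = 1) (hgen : Gen α) {c m b : ℕ}
    (hc : fixCard α ≤ c) (hm : invCard α ≤ m) (N : Subgroup G) [N.Normal]
    (hN : ∀ x ∈ N, α x ∈ N) (hcomm : ∀ x ∈ N, ∀ y ∈ N, x * y = y * x) (hb : N.index ≤ b) :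
    Nat.card G ≤ schurBound (b * (c.factorial + 1) ^ (b * m)) * m := by
  classical
  have hcl := closure_inverted hα hgen
  set e := c.factorial with he
  -- powers with exponent `e` are central
  let F : Subgroup G := MonoidHom.eqLocus α.toMonoidHom (MonoidHom.id G)
  have hinvpow : ∀ x ∈ N, α (x ^ e) = (x ^ e)⁻¹ := by
    intro x hx
    have hax : α (x * α x) = x * α x := by
      rw [map_mul, apply_apply hα]; exact hcomm _ (hN x hx) _ hx
    have hxe : (x * α x) ^ e = 1 := by
      apply orderOf_dvd_iff_pow_eq_one.1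
      refine Nat.dvd_factorial (orderOf_pos _) (le_trans ?_ hc)
      have h1 : orderOf (x * α x) ∣ Nat.card F := by
        have h0 := orderOf_dvd_natCard (⟨x * α x, hax⟩ : F)
        rwa [← Subgroup.orderOf_coe] at h0
      exact (Nat.le_of_dvd Nat.card_pos h1).trans_eq
        (Nat.card_congr (Equiv.subtypeEquivRight fun g => Iff.rfl))
    rw [map_pow]
    refine eq_inv_of_mul_eq_one_right ?_
    rw [← (show Commute x (α x) from hcomm x hx _ (hN x hx)).mul_pow]
    exact hxe
  have hcentral : ∀ x ∈ N, x ^ e ∈ Subgroup.center G := by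
    intro x hx
    have hinv := hinvpow x hx
    set y := x ^ e with hy
    have hins : {g : G | Odd (orderOf g) ∧ α g = g⁻¹} ⊆ Subgroup.centralizer ({y} : Set G) := by
      rintro u ⟨hu, huinv⟩
      have h1 := hinvpow (u * x * u⁻¹) (Subgroup.Normal.conj_mem inferInstance x hx u)
      rw [conj_pow, ← hy, map_mul, map_mul, map_inv, huinv, hinv] at h1
      simp only [mul_inv_rev, inv_inv, ← mul_assoc] at h1
      -- `u ^ 2` centralizes `y`
      have h2 : Commute (u ^ 2) y⁻¹ := by
        show u ^ 2 * y⁻¹ = y⁻¹ * u ^ 2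
        rw [sq]
        calc u * u * y⁻¹ = u * (u * y⁻¹ * u⁻¹) * u := by group
          _ = u * (u⁻¹ * y⁻¹ * u) * u := by rw [h1]
          _ = y⁻¹ * (u * u) := by group
      obtain ⟨k, hk⟩ := exists_pow_eq_self_of_coprime (x := u) (n := 2) (Nat.coprime_two_left.2 hu)
      have h3 := h2.inv_right.pow_left k
      rw [inv_inv, hk] at h3
      rw [SetLike.mem_coe, mem_centralizer_singleton_iff]
      exact h3.eq
    rw [Subgroup.mem_center_iff]
    intro g
    have hg : g ∈ Subgroup.centralizer ({y} : Set G) := by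
      have := (Subgroup.closure_le _).2 hins
      rw [hcl] at this
      exact this (mem_top g)
    exact mem_centralizer_singleton_iff.1 hg
  -- the rank of `N`
  letI := Fintype.ofFinite G
  have hrankG : Group.rank G ≤ m := by
    refine (Group.rank_le (S := (Finset.univ.filter fun g : G =>
      Odd (orderOf g) ∧ α g = g⁻¹)) ?_).trans (le_trans (le_of_eq ?_) hm)
    · rw [← hcl]; congr 1; ext; simp
    · unfold invCard
      rw [Nat.card_eq_fintype_card, Fintype.card_subtype]
  have hrankN : Group.rank N ≤ b * m :=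
    (rank_le_index_mul_rank N).trans (Nat.mul_le_mul hb hrankG)
  let Z := (Subgroup.center G).subgroupOf N
  letI : CommGroup N := { (inferInstance : Group N) with
    mul_comm := fun a a' => Subtype.ext (hcomm a a.2 a' a'.2) }
  have hQ : Nat.card (N ⧸ Z) ≤ (e + 1) ^ (b * m) := by
    have hdvd := card_dvd_exponent_pow_rank' (N ⧸ Z) (n := e) fun q => by
      obtain ⟨x, rfl⟩ := QuotientGroup.mk_surjective q
      rw [← QuotientGroup.mk_pow, QuotientGroup.eq_one_iff]
      exact hcentral x x.2
    have hr : Group.rank (N ⧸ Z) ≤ b * m :=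
      (Group.rank_le_of_surjective (QuotientGroup.mk' Z) (QuotientGroup.mk'_surjective Z)).trans hrankN
    refine (Nat.le_of_dvd (pow_pos (Nat.factorial_pos c) _) hdvd).trans ?_
    exact (Nat.pow_le_pow_left (Nat.le_succ e) _).trans
      (Nat.pow_le_pow_right (Nat.succ_pos e) hr)
  have hidx : (Subgroup.center G).index ≤ b * (e + 1) ^ (b * m) := by
    refine le_trans (Nat.le_of_dvd (Nat.pos_of_ne_zero Subgroup.index_ne_zero_of_finite)
      (Subgroup.index_dvd_of_le (inf_le_left : Subgroup.center G ⊓ N ≤ Subgroup.center G))) ?_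
    rw [← Subgroup.relIndex_mul_index (inf_le_right : Subgroup.center G ⊓ N ≤ N), mul_comm,
      Subgroup.inf_relIndex_right]
    exact Nat.mul_le_mul hb hQ
  exact (card_le_of_index_center hα hgen hidx).trans (Nat.mul_le_mul_left _ hm)

universe u

/-- The chain of derived subgroups of the solvable radical. -/
def radSeries (G : Type u) [Group G] : ℕ → Subgroup G
  | 0 => rad G
  | i + 1 => ⁅radSeries G i, radSeries G i⁆

theorem radSeries_characteristic (G : Type u) [Group G] [Finite G] :
    ∀ i, (radSeries G i).Characteristic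
  | 0 => Subgroup.characteristic_iff_map_le.2 fun φ => by
      rintro _ ⟨x, hx, rfl⟩
      exact rad_map φ hx
  | i + 1 => by
      haveI := radSeries_characteristic G i
      exact Subgroup.commutator_characteristic _ _

theorem radSeries_eq_map (G : Type u) [Group G] [Finite G] :
    ∀ i, radSeries G i = (derivedSeries (rad G) i).map (rad G).subtype
  | 0 => by rw [derivedSeries_zero, ← MonoidHom.range_eq_map, Subgroup.range_subtype]; rfl
  | i + 1 => by
      rw [derivedSeries_succ, map_commutator, ← radSeries_eq_map G i]; rfl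

/-- The bound in terms of both counts. -/
theorem exists_bound_gen (c m : ℕ) : ∃ B, ∀ (G : Type u) [Group G] [Finite G] (α : MulAut G),
    α ^ 2 = 1 → Gen α → fixCard α ≤ c → invCard α ≤ m → Nat.card G ≤ B := by
  obtain ⟨B₀, hB₀⟩ := exists_bound_index_rad.{u} c
  have key : ∀ i, ∃ b, ∀ (G : Type u) [Group G] [Finite G] (α : MulAut G),
      α ^ 2 = 1 → Gen α → fixCard α ≤ c → invCard α ≤ m → (radSeries G i).index ≤ b := by
    intro i
    induction i with
    | zero => exact ⟨B₀, fun G _ _ α hα _ hc _ => hB₀ G α hα hc⟩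
    | succ i ih =>
      obtain ⟨b, hb⟩ := ih
      refine ⟨schurBound (b * (c.factorial + 1) ^ (b * m)) * m, fun G _ _ α hα hgen hc hm => ?_⟩
      haveI := radSeries_characteristic G i
      haveI := radSeries_characteristic G (i + 1)
      set S := radSeries G (i + 1) with hS
      set T := radSeries G i with hT
      have hSα := CfsgLib.Alperin.mem_of_characteristic S α
      let q := QuotientGroup.mk' S
      let β : MulAut (G ⧸ S) :=
        QuotientGroup.congr S S α (CfsgLib.Complement.map_eq_of_invariant α _ hSα)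
      have hβ : ∀ g : G, β (q g) = q (α g) := fun g => rfl
      have hβ2 : β ^ 2 = 1 := MulEquiv.ext fun x => by
        obtain ⟨g, rfl⟩ := QuotientGroup.mk'_surjective S x
        rw [sq, MulAut.mul_apply, hβ, hβ, apply_apply hα]; rfl
      haveI : (T.map q).Normal := Subgroup.Normal.map inferInstance q (QuotientGroup.mk'_surjective S)
      rw [Subgroup.index_eq_card]
      refine card_le_of_comm_normal hβ2 (gen_quotient q (QuotientGroup.mk'_surjective S) hβ hgen)
        ((CfsgLib.Alperin.card_fixed_quotient_le α S β hβ).trans hc)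
        ((invCard_quotient_le hα q (QuotientGroup.mk'_surjective S) hβ).trans hm) (T.map q) ?_ ?_ ?_
      · rintro _ ⟨g, hg, rfl⟩
        exact ⟨α g, CfsgLib.Alperin.mem_of_characteristic T α g hg, (hβ g).symm⟩
      · rintro _ ⟨g, hg, rfl⟩ _ ⟨h, hh, rfl⟩
        rw [← commutatorElement_eq_one_iff_mul_comm, ← map_commutatorElement]
        exact (QuotientGroup.eq_one_iff _).2 (Subgroup.commutator_mem_commutator hg hh)
      · exact (Nat.le_of_dvd (Nat.pos_of_ne_zero Subgroup.index_ne_zero_of_finite)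
          (Subgroup.index_map_dvd T (QuotientGroup.mk'_surjective S))).trans
          (hb G α hα hgen hc hm)
  obtain ⟨b, hb⟩ := key (lengthBound c m)
  refine ⟨b, fun G _ _ α hα hgen hc hm => ?_⟩
  have h := hb G α hα hgen hc hm
  haveI := (rad_spec (G := G)).2
  have hinv : ∀ x ∈ rad G, α x ∈ rad G := fun x hx => rad_map α hx
  rw [radSeries_eq_map, derivedSeries_lengthBound
    (α := CfsgLib.Complement.restrictAut α (rad G) hinv) ?_ ?_
      ((invCard_restrict_le _ hinv).trans hm), Subgroup.map_bot, Subgroup.index_bot] at h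
  · exact h
  · exact MulEquiv.ext fun d => Subtype.ext (by
      rw [CfsgLib.Complement.restrictAut_pow, hα]; rfl)
  · refine le_trans ?_ hc
    exact Nat.card_le_card_of_injective
      (fun x : {g : rad G // CfsgLib.Complement.restrictAut α (rad G) hinv g = g} =>
        (⟨(x.1 : G), congrArg Subtype.val x.2⟩ : {g : G // α g = g}))
      fun x y e => Subtype.ext (Subtype.ext (congrArg (Subtype.val (p := fun g : G => α g = g)) e))

/-- In the central quotient the fixed points are bounded. -/
theorem fixCard_center_quotient_le [Finite G] (hα : α ^ 2 = 1) (hgen : Gen α) {m : ℕ}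
    (hm : invCard α ≤ m) (β : MulAut (G ⧸ Subgroup.center G))
    (hβ : ∀ g : G, β (QuotientGroup.mk' (Subgroup.center G) g) =
      QuotientGroup.mk' (Subgroup.center G) (α g)) :
    fixCard β ≤ m ^ m * m ^ m := by
  classical
  let I := {g : G // Odd (orderOf g) ∧ α g = g⁻¹}
  let J := {g : G ⧸ Subgroup.center G // Odd (orderOf g) ∧ β g = g⁻¹}
  let q := QuotientGroup.mk' (Subgroup.center G)
  have hq : Function.Surjective q := QuotientGroup.mk'_surjective _
  have hcl := closure_inverted hα hgen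
  let Fx := {x : G ⧸ Subgroup.center G // β x = x}
  let act : Fx → (J → J) := fun k v => ⟨k.1 * v.1 * k.1⁻¹, by
    rw [(SemiconjBy.conj_mk k.1 v.1).orderOf_eq _ |>.symm]; exact v.2.1, by
    rw [map_mul, map_mul, map_inv, k.2, v.2.2]; group⟩
  have hJ : Nat.card J ≤ m := (invCard_quotient_le hα q hq hβ).trans hm
  have hkey : ∀ k : Fx, act k = id → ∀ u : I, ∀ z : G, q z = k.1 →
      u.1 * z * u.1⁻¹ * z⁻¹ ∈ Subgroup.center G ∧
        (Odd (orderOf (u.1 * z * u.1⁻¹ * z⁻¹)) ∧
          α (u.1 * z * u.1⁻¹ * z⁻¹) = (u.1 * z * u.1⁻¹ * z⁻¹)⁻¹) := by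
    intro k hk u z hz
    have hqu : Odd (orderOf (q u.1)) ∧ β (q u.1) = (q u.1)⁻¹ :=
      ⟨u.2.1.of_dvd_nat (orderOf_map_dvd q u.1), by rw [hβ, u.2.2, map_inv]⟩
    have h1 : k.1 * q u.1 * k.1⁻¹ = q u.1 :=
      congrArg Subtype.val (congrFun hk ⟨q u.1, hqu⟩)
    have hw : u.1 * z * u.1⁻¹ * z⁻¹ ∈ Subgroup.center G := by
      refine (QuotientGroup.eq_one_iff _).1 ?_
      show q _ = 1
      rw [map_mul, map_mul, map_mul, map_inv, map_inv, hz]
      calc q u.1 * k.1 * (q u.1)⁻¹ * k.1⁻¹
          = q u.1 * (k.1 * q u.1 * k.1⁻¹)⁻¹ := by group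
        _ = 1 := by rw [h1, mul_inv_cancel]
    set w := u.1 * z * u.1⁻¹ * z⁻¹ with hwdef
    have hwc := fun t => Subgroup.mem_center_iff.1 hw t
    have hcj : MulAut.conj u.1 z = w * z := by rw [MulAut.conj_apply, hwdef]; group
    have hpow : ∀ n : ℕ, u.1 ^ n * z = w ^ n * z * u.1 ^ n := by
      intro n
      induction n with
      | zero => simp
      | succ n ih =>
        have hc' : u.1 * w ^ n = w ^ n * u.1 := ((show Commute u.1 w from hwc u.1).pow_right n).eq
        calc u.1 ^ (n + 1) * z = u.1 * (u.1 ^ n * z) := by rw [pow_succ', mul_assoc]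
          _ = u.1 * w ^ n * z * u.1 ^ n := by rw [ih]; group
          _ = w ^ n * (u.1 * z * u.1⁻¹) * u.1 * u.1 ^ n := by rw [hc']; group
          _ = w ^ n * (w * z) * (u.1 * u.1 ^ n) := by rw [← MulAut.conj_apply, hcj, mul_assoc _ u.1]
          _ = w ^ (n + 1) * z * u.1 ^ (n + 1) := by rw [pow_succ w, pow_succ' u.1]; group
    refine ⟨hw, u.2.1.of_dvd_nat (orderOf_dvd_of_pow_eq_one ?_), ?_⟩
    · have h2 := hpow (orderOf u.1)
      rw [pow_orderOf_eq_one, one_mul, mul_one] at h2
      exact mul_eq_right.1 h2.symm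
    · obtain ⟨t, ht, htz⟩ : ∃ t ∈ Subgroup.center G, α z = z * t := by
        refine ⟨z⁻¹ * α z, (QuotientGroup.eq_one_iff _).1 ?_, by group⟩
        show q _ = 1
        rw [map_mul, map_inv, ← hβ, hz, k.2, inv_mul_cancel]
      have htc := fun s => Subgroup.mem_center_iff.1 ht s
      rw [hwdef]
      rw [map_mul, map_mul, map_mul, map_inv, map_inv, u.2.2, htz, inv_inv]
      rw [← hwdef]
      calc u.1⁻¹ * (z * t) * u.1 * (z * t)⁻¹
          = u.1⁻¹ * z * (t * u.1) * t⁻¹ * z⁻¹ := by group
        _ = u.1⁻¹ * z * (u.1 * t) * t⁻¹ * z⁻¹ := by rw [htc u.1]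
        _ = u.1⁻¹ * z * u.1 * z⁻¹ := by group
        _ = u.1⁻¹ * (z * u.1 * z⁻¹ * u.1⁻¹) * u.1 := by group
        _ = u.1⁻¹ * w⁻¹ * u.1 := by rw [hwdef]; group
        _ = w⁻¹ := by rw [mul_assoc, ← ((show Commute u.1 w from hwc u.1).inv_right).eq]; group
  let ker := {k : Fx // act k = id}
  have hker : Nat.card ker ≤ m ^ m := by
    refine (Nat.card_le_card_of_injective
      (fun (k : ker) (u : I) =>
        (⟨_, (hkey k.1 k.2 u _ (Function.surjInv_eq hq k.1.1)).2⟩ : I)) ?_).trans ?_
    · intro k k' e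
      refine Subtype.ext (Subtype.ext ?_)
      set z := Function.surjInv hq k.1.1
      set z' := Function.surjInv hq k'.1.1
      have hz : q z = k.1.1 := Function.surjInv_eq hq _
      have hz' : q z' = k'.1.1 := Function.surjInv_eq hq _
      rw [← hz, ← hz']
      refine QuotientGroup.eq.2 ?_
      have hall : {g : G | Odd (orderOf g) ∧ α g = g⁻¹} ⊆
          Subgroup.centralizer ({z⁻¹ * z'} : Set G) := by
        intro u hu
        have h1 : u * z * u⁻¹ * z⁻¹ = u * z' * u⁻¹ * z'⁻¹ :=
          congrArg Subtype.val (congrFun e ⟨u, hu⟩)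
        have hc1 := Subgroup.mem_center_iff.1 (hkey k.1 k.2 ⟨u, hu⟩ z hz).1
        simp only at hc1
        rw [SetLike.mem_coe, mem_centralizer_singleton_iff]
        set w := u * z * u⁻¹ * z⁻¹ with hw
        have a1 : u * z = w * z * u := by rw [hw]; group
        have a2 : u * z' = w * z' * u := by rw [h1]; group
        calc u * (z⁻¹ * z') = (u * z⁻¹ * u⁻¹) * (u * z') := by group
          _ = (u * z * u⁻¹)⁻¹ * (u * z') := by group
          _ = z⁻¹ * w⁻¹ * (w * z' * u) := by rw [a2, a1]; group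
          _ = z⁻¹ * z' * u := by group
      rw [Subgroup.mem_center_iff]
      intro g
      have hg : g ∈ Subgroup.centralizer ({z⁻¹ * z'} : Set G) := by
        have := (Subgroup.closure_le _).2 hall
        rw [hcl] at this
        exact this (mem_top g)
      exact mem_centralizer_singleton_iff.1 hg
    · rw [Nat.card_fun]
      exact (Nat.pow_le_pow_left hm _).trans
        (Nat.pow_le_pow_right (invCard_pos.trans_le hm) hm)
  -- fibres of the action
  have hinv : ∀ k : Fx, β k.1⁻¹ = k.1⁻¹ := fun k => by rw [map_inv, k.2]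
  have : Nonempty Fx := ⟨⟨1, map_one β⟩⟩
  let s := Function.invFun act
  have hs : ∀ k, act (s (act k)) = act k := fun k => Function.invFun_eq (f := act) ⟨k, rfl⟩
  have hmem : ∀ k : Fx, act ⟨(s (act k)).1⁻¹ * k.1, by rw [map_mul, hinv, k.2]⟩ = id := fun k => by
    funext v
    refine Subtype.ext ?_
    have h1 : (s (act k)).1 * v.1 * (s (act k)).1⁻¹ = k.1 * v.1 * k.1⁻¹ :=
      congrArg Subtype.val (congrFun (hs k) v)
    show (s (act k)).1⁻¹ * k.1 * v.1 * ((s (act k)).1⁻¹ * k.1)⁻¹ = v.1
    calc (s (act k)).1⁻¹ * k.1 * v.1 * ((s (act k)).1⁻¹ * k.1)⁻¹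
        = (s (act k)).1⁻¹ * (k.1 * v.1 * k.1⁻¹) * (s (act k)).1 := by group
      _ = v.1 := by rw [← h1]; group
  refine (Nat.card_le_card_of_injective (fun k : Fx => (act k, (⟨_, hmem k⟩ : ker)))
    fun k k' e => ?_).trans ?_
  · obtain ⟨e1, e2⟩ := Prod.mk.injEq .. ▸ e
    have e3 : (s (act k)).1⁻¹ * k.1 = (s (act k')).1⁻¹ * k'.1 :=
      congrArg (fun z : ker => z.1.1) e2
    rw [e1] at e3
    exact Subtype.ext (mul_left_cancel e3)
  · rw [Nat.card_prod, Nat.card_fun]
    exact Nat.mul_le_mul ((Nat.pow_le_pow_left hJ _).trans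
      (Nat.pow_le_pow_right (invCard_pos.trans_le hm) hJ)) hker

/-- The order of `G = [G, α]` is bounded in terms of the inverted elements of odd order. -/
theorem exists_bound (m : ℕ) : ∃ B, ∀ (G : Type u) [Group G] [Finite G] (α : MulAut G),
    α ^ 2 = 1 → Gen α → invCard α ≤ m → Nat.card G ≤ B := by
  obtain ⟨B, hB⟩ := exists_bound_gen.{u} (m ^ m * m ^ m) m
  refine ⟨schurBound B * m, fun G _ _ α hα hgen hm => ?_⟩
  refine (card_le_of_index_center hα hgen ?_).trans (Nat.mul_le_mul_left _ hm)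
  let q := QuotientGroup.mk' (Subgroup.center G)
  let β : MulAut (G ⧸ Subgroup.center G) := QuotientGroup.congr _ _ α
    (CfsgLib.Complement.map_eq_of_invariant α _
      (CfsgLib.Alperin.mem_of_characteristic (Subgroup.center G) α))
  have hβ : ∀ g : G, β (q g) = q (α g) := fun g => rfl
  rw [Subgroup.index_eq_card]
  refine hB _ β (MulEquiv.ext fun x => ?_)
    (gen_quotient q (QuotientGroup.mk'_surjective _) hβ hgen)
    (fixCard_center_quotient_le hα hgen hm β hβ)
    ((invCard_quotient_le hα q (QuotientGroup.mk'_surjective _) hβ).trans hm)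
  obtain ⟨g, rfl⟩ := QuotientGroup.mk'_surjective _ x
  rw [sq, MulAut.mul_apply, hβ, hβ, apply_apply hα]; rfl

end CfsgLib.InvolBounded
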