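import Cfsg.Agent.Lib.Alperin.Final
import Cfsg.Agent.Lib.Comp.Subnormal
import Mathlib

/-!
# Groups with an involutory automorphism with boundedly many fixed points

A Brauer–Fowler argument shows that the index of the solvable radical is bounded by a function of
the number of fixed points, and the derived length of the radical is bounded once the number of
inverted elements of odd order is bounded as well.
-/

set_option autoImplicit false

namespace CfsgLib.InvolBounded

open Subgroup

variable {G : Type*} [Group G]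

/-- The twisted commutator `g ↦ g * (α g)⁻¹`. -/
def tw (α : MulAut G) (g : G) : G := g * (α g)⁻¹

/-- The number of fixed points. -/
noncomputable def fixCard (α : MulAut G) : ℕ := Nat.card {g : G // α g = g}

/-- The number of inverted elements of odd order. -/
noncomputable def invCard (α : MulAut G) : ℕ :=
  Nat.card {g : G // Odd (orderOf g) ∧ α g = g⁻¹}

variable {α : MulAut G}

theorem apply_apply (hα : α ^ 2 = 1) (g : G) : α (α g) = g := by
  rw [← MulAut.mul_apply, ← sq, hα, MulAut.one_apply]

theorem apply_tw (hα : α ^ 2 = 1) (g : G) : α (tw α g) = (tw α g)⁻¹ := by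
  simp [tw, apply_apply hα]

theorem fixCard_pos [Finite G] : 0 < fixCard α := by
  have : Nonempty {g : G // α g = g} := ⟨⟨1, map_one α⟩⟩
  exact Nat.card_pos

/-- The fibres of the twisted commutator are no larger than the fixed subgroup. -/
theorem card_le_range_mul [Finite G] :
    Nat.card G ≤ Nat.card (Set.range (tw α)) * fixCard α := by
  classical
  have hfix : ∀ g h : G, tw α g = tw α h → α (h⁻¹ * g) = h⁻¹ * g := by
    intro g h e
    have e1 : α g * g⁻¹ = α h * h⁻¹ := by
      have := congrArg (·⁻¹) e
      simpa [tw] using this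
    rw [map_mul, map_inv, mul_inv_eq_iff_eq_mul.1 e1]
    group
  let s : Set.range (tw α) → G := fun x => x.2.choose
  have hs : ∀ g : G, tw α (s ⟨tw α g, g, rfl⟩) = tw α g := fun g =>
    (⟨g, rfl⟩ : ∃ y, tw α y = tw α g).choose_spec
  rw [fixCard, ← Nat.card_prod]
  refine Nat.card_le_card_of_injective
    (fun g : G => ((⟨tw α g, g, rfl⟩ : Set.range (tw α)),
      (⟨(s ⟨tw α g, g, rfl⟩)⁻¹ * g, hfix g _ (hs g).symm⟩ : {x : G // α x = x}))) fun g g' e => ?_
  obtain ⟨e1, e2⟩ := Prod.mk.injEq .. ▸ e
  have e2' := congrArg Subtype.val e2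
  simp only at e2'
  rw [e1] at e2'
  exact mul_left_cancel e2'

/-- A form of the Brauer–Fowler bound: some element other than `1` has a centralizer of index
bounded in terms of the number of fixed points of an involutory automorphism. -/
theorem exists_index_centralizer_le [Finite G] [Nontrivial G] (hα : α ^ 2 = 1) {c : ℕ}
    (hc : fixCard α ≤ c) :
    ∃ x : G, x ≠ 1 ∧ (Subgroup.centralizer ({x} : Set G)).index ≤ 2 * c ^ 2 := by
  classical
  have hc1 : 1 ≤ c := fixCard_pos.trans_le hc
  by_contra hcon
  push Not at hcon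
  letI := Fintype.ofFinite G
  let X : Finset G := Finset.univ.image (tw α)
  have hXmem : ∀ a ∈ X, α a = a⁻¹ := fun a ha => by
    obtain ⟨g, -, rfl⟩ := Finset.mem_image.1 ha
    exact apply_tw hα g
  have hXc : Nat.card G ≤ X.card * c := by
    refine card_le_range_mul.trans (Nat.mul_le_mul (le_of_eq ?_) hc)
    rw [Nat.card_eq_fintype_card, ← Set.toFinset_card]
    congr 1
    ext x
    simp [X]
  set B := 2 * c ^ 2 with hB
  have key : ∀ z ∈ (Finset.univ : Finset G),
      ((X ×ˢ X).filter fun q => q.1 * q.2⁻¹ = z).card * B ≤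
        Nat.card G + if z = 1 then X.card * B else 0 := by
    intro z _
    by_cases hz : z = 1
    · rw [if_pos hz]
      refine le_add_left (Nat.mul_le_mul_right _ ?_)
      refine Finset.card_le_card_of_injOn Prod.fst (fun q hq => ?_) fun q hq q' hq' e => ?_
      · exact (Finset.mem_product.1 (Finset.mem_filter.1 hq).1).1
      · have h1 := (Finset.mem_filter.1 hq).2
        have h2 := (Finset.mem_filter.1 hq').2
        rw [hz, mul_inv_eq_one] at h1 h2
        exact Prod.ext e (by rw [← h1, ← h2, e])
    · rw [if_neg hz, add_zero]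
      rcases ((X ×ˢ X).filter fun q => q.1 * q.2⁻¹ = z).eq_empty_or_nonempty with h0 | ⟨q₀, hq₀⟩
      · rw [h0, Finset.card_empty, zero_mul]; exact Nat.zero_le _
      have hinv : ∀ q ∈ (X ×ˢ X).filter (fun q => q.1 * q.2⁻¹ = z),
          α z = q.1⁻¹ * z⁻¹ * q.1 ∧ q.2 = z⁻¹ * q.1 := by
        intro q hq
        obtain ⟨hq1, hq2⟩ := Finset.mem_filter.1 hq
        obtain ⟨ha, hb⟩ := Finset.mem_product.1 hq1
        refine ⟨?_, by rw [← hq2]; group⟩
        rw [← hq2, map_mul, map_inv, hXmem _ ha, hXmem _ hb]
        group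
      have hle : ((X ×ˢ X).filter fun q => q.1 * q.2⁻¹ = z).card ≤
          Nat.card (Subgroup.centralizer ({z} : Set G)) := by
        rw [← Nat.card_eq_finsetCard]
        refine Nat.card_le_card_of_injective (fun q => ⟨q.1.1 * q₀.1⁻¹, ?_⟩) fun q q' e => ?_
        · rw [mem_centralizer_singleton_iff]
          have h1 := (hinv _ hq₀).1
          rw [(hinv _ q.2).1] at h1
          have h2 := congrArg (fun x => (q.1.1 * x * q₀.1⁻¹)⁻¹) h1
          simp only [mul_inv_rev, inv_inv, mul_assoc] at h2 ⊢
          simp only [mul_inv_cancel, mul_one, mul_inv_cancel_left, inv_mul_cancel_left] at h2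
          have h3 := congrArg (fun x => q.1.1 * q₀.1⁻¹ * (x)) h2
          simp only [mul_assoc, inv_mul_cancel_left, mul_inv_cancel_left] at h3
          calc q.1.1 * (q₀.1⁻¹ * z)
              = q.1.1 * (q₀.1⁻¹ * (z * (q₀.1 * q.1.1⁻¹))) * (q.1.1 * q₀.1⁻¹) := by group
            _ = z * (q.1.1 * q₀.1⁻¹) := congrArg (· * (q.1.1 * q₀.1⁻¹)) h3.symm
        · have e1 : q.1.1 = q'.1.1 := mul_right_cancel (congrArg Subtype.val e)
          exact Subtype.ext (Prod.ext e1 (by rw [(hinv _ q.2).2, (hinv _ q'.2).2, e1]))
      refine (Nat.mul_le_mul hle (hcon z hz).le).trans (le_of_eq ?_)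
      exact (Subgroup.centralizer ({z} : Set G)).card_mul_index
  have hsum := Finset.sum_le_sum key
  rw [← Finset.sum_mul, ← Finset.card_eq_sum_card_fiberwise (f := fun q : G × G => q.1 * q.2⁻¹)
      (s := X ×ˢ X) (fun _ _ => Finset.mem_coe.2 (Finset.mem_univ _)),
    Finset.card_product, Finset.sum_add_distrib, Finset.sum_const, Finset.sum_ite_eq',
    if_pos (Finset.mem_univ _), Finset.card_univ, ← Nat.card_eq_fintype_card, smul_eq_mul] at hsum
  have hGB : Nat.card G ≤ B := by
    have h1 : Nat.card G * Nat.card G ≤ X.card * X.card * c ^ 2 := by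
      calc Nat.card G * Nat.card G ≤ X.card * c * (X.card * c) := Nat.mul_le_mul hXc hXc
        _ = _ := by ring
    have h2 : X.card ≤ 2 := by
      by_contra h3
      nlinarith [hsum, h1, Nat.zero_le (X.card * c ^ 2)]
    calc Nat.card G ≤ X.card * c := hXc
      _ ≤ 2 * c := Nat.mul_le_mul_right _ h2
      _ ≤ B := Nat.mul_le_mul_left _ (Nat.le_self_pow (by omega) c)
  obtain ⟨x, hx⟩ := exists_ne (1 : G)
  exact absurd ((Subgroup.centralizer ({x} : Set G)).index_dvd_card.trans dvd_rfl |>
    Nat.le_of_dvd Nat.card_pos |>.trans hGB) (hcon x hx).not_ge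

/-- The group has no solvable normal subgroup other than the trivial one. -/
def RadFree (G : Type*) [Group G] : Prop :=
  ∀ N : Subgroup G, N.Normal → Group.IsSolvable N → N = ⊥

theorem RadFree.of_normal [Finite G] (h : RadFree G) (M : Subgroup G) [hM : M.Normal] :
    RadFree M := by
  intro S hS hsol
  have hsub : (S.map M.subtype).IsSubnormal :=
    hS.isSubnormal.trans' hM.isSubnormal
  haveI : Group.IsSolvable ↥(S.map M.subtype) :=
    Group.isSolvable_of_surjective
      (f := (S.equivMapOfInjective _ M.subtype_injective).toMonoidHom)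
      (S.equivMapOfInjective _ M.subtype_injective).surjective
  obtain ⟨N, hN, hle, hNs⟩ := CfsgLib.Comp.exists_normal_solvable_of_isSubnormal hsub inferInstance
  rw [h N hN hNs, le_bot_iff, map_eq_bot_iff_of_injective _ M.subtype_injective] at hle
  exact hle

theorem index_normalCore_le [Finite G] (A : Subgroup G) :
    A.normalCore.index ≤ A.index.factorial := by
  classical
  rw [Subgroup.normalCore_eq_ker, Subgroup.index_ker]
  refine (Nat.card_le_card_of_injective _ Subtype.val_injective).trans ?_
  have := Fintype.ofFinite (G ⧸ A)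
  rw [Nat.card_eq_fintype_card, Fintype.card_perm, ← Nat.card_eq_fintype_card,
    ← Subgroup.index_eq_card]

universe u

/-- A group with trivial solvable radical and an involutory automorphism with at most `c` fixed
points has bounded order. -/
theorem exists_bound_radFree (c : ℕ) : ∃ B, ∀ (G : Type u) [Group G] [Finite G] (α : MulAut G),
    α ^ 2 = 1 → fixCard α ≤ c → RadFree G → Nat.card G ≤ B := by
  induction c with
  | zero => exact ⟨0, fun G _ _ α _ h _ => absurd h (Nat.not_le.2 fixCard_pos)⟩
  | succ c ih =>
    obtain ⟨B, hB⟩ := ih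
    refine ⟨max 1 ((2 * (c + 1) ^ 2).factorial ^ 2 * max 1 B), fun G _ _ α hα hfix hrad => ?_⟩
    rcases subsingleton_or_nontrivial G with hG | hG
    · exact le_max_of_le_left (Finite.card_le_one_iff_subsingleton.2 hG)
    refine le_max_of_le_right ?_
    obtain ⟨x, hx, hxi⟩ := exists_index_centralizer_le hα hfix
    let M₀ := (Subgroup.centralizer ({x} : Set G)).normalCore
    let M := M₀ ⊓ M₀.comap α.toMonoidHom
    haveI : M₀.Normal := Subgroup.normalCore_normal _
    haveI : M.Normal := inferInstance
    have hMinv : ∀ y ∈ M, α y ∈ M := fun y hy =>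
      ⟨hy.2, show α (α y) ∈ M₀ by rw [apply_apply hα]; exact hy.1⟩
    have hidx : M.index ≤ (2 * (c + 1) ^ 2).factorial ^ 2 := by
      refine Subgroup.index_inf_le.trans ?_
      rw [Subgroup.index_comap_of_surjective _ α.surjective, sq]
      exact Nat.mul_le_mul ((index_normalCore_le _).trans (Nat.factorial_le hxi))
        ((index_normalCore_le _).trans (Nat.factorial_le hxi))
    let D := Subgroup.centralizer (M : Set G)
    haveI : D.Normal := inferInstance
    have hxD : x ∈ D := fun y hy =>
      mem_centralizer_singleton_iff.1 (Subgroup.normalCore_le _ hy.1)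
    have hDinv : ∀ y ∈ D, α y ∈ D := fun y hy z hz => by
      have := congrArg α (hy (α z) (hMinv z hz))
      simpa [apply_apply hα] using this
    have hMD : M ⊓ D = ⊥ := by
      refine hrad _ inferInstance ?_
      haveI : IsMulCommutative ↥(M ⊓ D) := ⟨⟨fun a b => Subtype.ext (b.2.2 a.1 a.2.1)⟩⟩
      exact isSolvable_of_comm fun a b => mul_comm' a b
    obtain ⟨y, hyD, hy1, hyfix⟩ : ∃ y ∈ D, y ≠ 1 ∧ α y = y := by
      by_contra hcon
      push Not at hcon
      have hDbot : D = ⊥ := by
        refine hrad D inferInstance (isSolvable_of_comm ?_)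
        let δ := CfsgLib.Complement.restrictAut α D hDinv
        have hfree : MonoidHom.FixedPointFree δ := fun d hd => Subtype.ext (by
          by_contra h1
          exact hcon d d.2 h1 (congrArg Subtype.val hd))
        exact fun a b => hfree.commute_all_of_involutive
          (fun d => Subtype.ext (apply_apply hα (d : G))) a b
      exact hx (Subgroup.mem_bot.1 (hDbot ▸ hxD))
    let β := CfsgLib.Complement.restrictAut α M hMinv
    have hβ : β ^ 2 = 1 := by
      ext d
      rw [CfsgLib.Complement.restrictAut_pow, hα]; rfl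
    have hβfix : fixCard β ≤ c := by
      suffices fixCard β + 1 ≤ fixCard α by omega
      unfold fixCard
      rw [← Finite.card_option]
      refine Nat.card_le_card_of_injective (fun o => match o with
        | none => (⟨y, hyfix⟩ : {g : G // α g = g})
        | some z => ⟨(z.1 : G), congrArg Subtype.val z.2⟩) ?_
      have hne : ∀ z : {g : M // β g = g}, (z.1 : G) ≠ y := fun z e => by
        have : y ∈ M ⊓ D := ⟨e ▸ z.1.2, hyD⟩
        rw [hMD, Subgroup.mem_bot] at this
        exact hy1 this
      intro a b e
      match a, b with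
      | none, none => rfl
      | none, some z => exact absurd (congrArg Subtype.val e).symm (hne z)
      | some z, none => exact absurd (congrArg Subtype.val e) (hne z)
      | some z, some w => exact congrArg some (Subtype.ext (Subtype.ext
          (congrArg (fun q : {g : G // α g = g} => q.1) e)))
    rw [← M.index_mul_card]
    exact Nat.mul_le_mul hidx ((hB M β hβ hβfix (hrad.of_normal M)).trans (Nat.le_max_right 1 B))

/-- The solvable radical. -/
def rad (G : Type*) [Group G] : Subgroup G := sSup {N : Subgroup G | N.Normal ∧ Group.IsSolvable N}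

theorem rad_spec [Finite G] : (rad G).Normal ∧ Group.IsSolvable ↥(rad G) :=
  CfsgLib.Solvable.sSup_induction_normal (P := fun N : Subgroup G => Group.IsSolvable N) inferInstance
    (fun _ _ _ hB h1 h2 => by
      have := hB
      exact CfsgLib.Comp.isSolvable_sup (CfsgLib.Comp.le_normalizer_of_normal' _ _) h1 h2)
    _ fun _ h => h

theorem rad_map [Finite G] (φ : MulAut G) {x : G} (hx : x ∈ rad G) : φ x ∈ rad G := by
  haveI := (rad_spec (G := G)).1
  haveI := (rad_spec (G := G)).2
  have hn : ((rad G).map φ.toMonoidHom).Normal :=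
    Subgroup.Normal.map inferInstance _ φ.surjective
  have hs : Group.IsSolvable ↥((rad G).map φ.toMonoidHom) :=
    Group.isSolvable_of_surjective
      (f := ((rad G).equivMapOfInjective φ.toMonoidHom φ.injective).toMonoidHom)
      ((rad G).equivMapOfInjective φ.toMonoidHom φ.injective).surjective
  have hle : (rad G).map φ.toMonoidHom ≤ rad G := le_sSup ⟨hn, hs⟩
  exact hle (mem_map_of_mem φ.toMonoidHom hx)

theorem radFree_quotient [Finite G] [(rad G).Normal] : RadFree (G ⧸ rad G) := by
  intro N hN hs
  haveI := (rad_spec (G := G)).2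
  let f := QuotientGroup.mk' (rad G)
  haveI := hN
  have hsol : Group.IsSolvable ↥(N.comap f) := by
    let f' : N.comap f →* N := (f.comp (N.comap f).subtype).codRestrict N fun x => x.2
    refine Group.isSolvable_of_ker_le_range
      (inclusion (show rad G ≤ N.comap f from fun x hx => by
        rw [mem_comap, show f x = 1 from (QuotientGroup.eq_one_iff x).2 hx]; exact one_mem N)) f' ?_
    rw [inclusion_range]
    intro x hx
    exact (QuotientGroup.eq_one_iff (x : G)).1 (congrArg Subtype.val hx)
  rw [eq_bot_iff]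
  intro q hq
  obtain ⟨g, rfl⟩ := QuotientGroup.mk'_surjective (rad G) q
  exact (QuotientGroup.eq_one_iff g).2
    (SetLike.le_def.1 (le_sSup (a := N.comap f) ⟨inferInstance, hsol⟩ : N.comap f ≤ rad G) hq)

/-- The index of the solvable radical is bounded in terms of the number of fixed points. -/
theorem exists_bound_index_rad (c : ℕ) : ∃ B, ∀ (G : Type u) [Group G] [Finite G] (α : MulAut G),
    α ^ 2 = 1 → fixCard α ≤ c → (rad G).index ≤ B := by
  obtain ⟨B, hB⟩ := exists_bound_radFree.{u} c
  refine ⟨B, fun G _ _ α hα hfix => ?_⟩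
  haveI := (rad_spec (G := G)).1
  have hinv : ∀ x ∈ rad G, α x ∈ rad G := fun x hx => rad_map α hx
  let β : MulAut (G ⧸ rad G) :=
    QuotientGroup.congr (rad G) (rad G) α (CfsgLib.Complement.map_eq_of_invariant α _ hinv)
  have hβ : ∀ g : G, β g = (α g : G) := fun g => rfl
  rw [Subgroup.index_eq_card]
  refine hB _ β (MulEquiv.ext fun q => ?_)
    ((CfsgLib.Alperin.card_fixed_quotient_le α (rad G) β hβ).trans hfix) radFree_quotient
  obtain ⟨g, rfl⟩ := QuotientGroup.mk_surjective q
  rw [sq, MulAut.mul_apply, hβ, hβ, apply_apply hα]; rfl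

/-- A group of odd order is covered by the inverted elements and the fixed points. -/
theorem card_le_invCard_mul_fixCard [Finite G] (hα : α ^ 2 = 1) (hodd : Odd (Nat.card G)) :
    Nat.card G ≤ invCard α * fixCard α := by
  refine card_le_range_mul.trans (Nat.mul_le_mul_right _ ?_)
  refine Nat.card_le_card_of_injective
    (fun x => (⟨x.1, hodd.of_dvd_nat (orderOf_dvd_natCard _), ?_⟩ :
      {g : G // Odd (orderOf g) ∧ α g = g⁻¹})) fun x y e => ?_
  · obtain ⟨g, hg⟩ := x.2
    rw [← hg]; exact apply_tw hα g
  · exact Subtype.ext (congrArg (fun z : {g : G // Odd (orderOf g) ∧ α g = g⁻¹} => z.1) e)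

theorem invCard_restrict_le [Finite G] (S : Subgroup G) (hS : ∀ x ∈ S, α x ∈ S) :
    invCard (CfsgLib.Complement.restrictAut α S hS) ≤ invCard α :=
  Nat.card_le_card_of_injective
    (fun x : {g : S // Odd (orderOf g) ∧ CfsgLib.Complement.restrictAut α S hS g = g⁻¹} =>
      (⟨(x.1 : G), by rw [Subgroup.orderOf_coe]; exact x.2.1, congrArg Subtype.val x.2.2⟩ :
        {g : G // Odd (orderOf g) ∧ α g = g⁻¹}))
    fun x y e => Subtype.ext (Subtype.ext
      (congrArg (fun z : {g : G // Odd (orderOf g) ∧ α g = g⁻¹} => z.1) e))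

/-- The bound on the derived length of the solvable radical. -/
def lengthBound (c m : ℕ) : ℕ :=
  (2 ^ (c * (2 * 1))).factorial + CfsgLib.Alperin.pBound 2 c + m * c

/-- A solvable group has derived length bounded in terms of the two counts. -/
theorem derivedSeries_lengthBound {G : Type u} [Group G] [Finite G] [Group.IsSolvable G]
    {α : MulAut G} (hα : α ^ 2 = 1) {c m : ℕ} (hc : fixCard α ≤ c) (hm : invCard α ≤ m) :
    derivedSeries G (lengthBound c m) = ⊥ := by
  haveI : Fact (Nat.Prime 2) := ⟨Nat.prime_two⟩
  have h : CfsgLib.Alperin.Small 2 c α :=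
    ⟨hα, hc.trans (Nat.lt_two_pow_self).le⟩
  set O := Cfsg.pPrimeCore 2 G with hO
  haveI : O.Characteristic := CfsgLib.Solvable.pPrimeCore_characteristic 2 G
  haveI : O.Normal := Subgroup.normal_of_characteristic O
  have hOα := CfsgLib.Alperin.mem_of_characteristic O α
  obtain ⟨β, hβ, -⟩ := h.exists_quotient O hOα
  have hU := CfsgLib.Alperin.derivedSeries_le_pCore 2 hβ
    (CfsgLib.Solvable.pPrimeCore_quotient_eq_bot 2)
  have hUc : (Cfsg.pCore 2 (G ⧸ O)).Characteristic := CfsgLib.Solvable.pCore_characteristic 2 _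
  have hq := CfsgLib.Alperin.derivedSeries_add_eq_bot _ hU
    (CfsgLib.Alperin.derivedSeries_eq_bot_of_isPGroup 2 (CfsgLib.Solvable.pCore_isPGroup 2)
      (hβ.restrict _ (CfsgLib.Alperin.mem_of_characteristic _ β)))
  refine CfsgLib.Alperin.derivedSeries_add_eq_bot O
    (CfsgLib.Alperin.derivedSeries_le_of_quotient O hq) ?_
  refine CfsgLib.Alperin.derivedSeries_eq_bot_of_card_le
    ((card_le_invCard_mul_fixCard (α := CfsgLib.Complement.restrictAut α O hOα) ?_ ?_).trans
      (Nat.mul_le_mul ((invCard_restrict_le O hOα).trans hm) ((?_ : _ ≤ fixCard α).trans hc)))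
  · exact MulEquiv.ext fun d => Subtype.ext (by
      rw [CfsgLib.Complement.restrictAut_pow, hα]; rfl)
  · rw [Nat.odd_iff, ← Nat.not_even_iff, even_iff_two_dvd]
    exact (Nat.prime_two.coprime_iff_not_dvd).1 (CfsgLib.Solvable.pPrimeCore_coprime 2).symm
  · exact Nat.card_le_card_of_injective
      (fun x : {g : O // CfsgLib.Complement.restrictAut α O hOα g = g} =>
        (⟨(x.1 : G), congrArg Subtype.val x.2⟩ : {g : G // α g = g}))
      fun x y e => Subtype.ext (Subtype.ext (congrArg (Subtype.val (p := fun g : G => α g = g)) e))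

end CfsgLib.InvolBounded
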