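import Cfsg.Agent.Lib.PLocal.KInfinityFour
import Cfsg.Agent.Lib.PLocal.QdFree

/-!
# The K-infinity subgroup of a `p`-subgroup above `O_p(G)`

Glauberman's arguments only use that the `p`-subgroup contains `O_p(G)`.
-/

namespace CfsgLib.Coprime.KInfAbove

open Subgroup CfsgLib.PLocal
open scoped commutatorElement

universe u

variable {p : ℕ} [hp : Fact p.Prime] {G : Type u} [Group G] [Finite G]

/-- If all terms of the K-sequence of `S` lie in `O_p(G)`, both K-infinity subgroups are normal. -/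
theorem kInf_normal_of_terms_le_above (S : Subgroup G) (hTS : Cfsg.pCore p G ≤ S)
    (h : ∀ n, (Cfsg.kSeqEven S n).map S.subtype ≤ Cfsg.pCore p G ∧
      (Cfsg.kSeqOdd S (n + 1)).map S.subtype ≤ Cfsg.pCore p G) :
    (Cfsg.inducedFunctor Cfsg.kInfLower S).Normal ∧
      (Cfsg.inducedFunctor Cfsg.kInfUpper S).Normal := by
  haveI := Cfsg.pCore_normal p G
  set T := Cfsg.pCore p G with hT
  set S' : Subgroup G := S with hS'
  have hr := map_kInf_of_range_ge (f := Subgroup.inclusion hTS) (Subgroup.inclusion_injective hTS)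
    (fun n => by
      rw [Subgroup.inclusion_range]
      exact ⟨fun x hx => (h n).1 (mem_map_of_mem _ hx), fun x hx => (h n).2 (mem_map_of_mem _ hx)⟩)
  have hnorm : ∀ W : ∀ (Q : Type u) [Group Q], Subgroup Q, Cfsg.IsCharPFunctor.{u} p W →
      (Cfsg.inducedFunctor (G := G) W T).Normal := by
    intro W hW
    refine normalizer_eq_top_iff.1 (eq_top_iff.2 fun g _ => mem_normalizer_iff_map_conj_eq.2 ?_)
    have h1 := ((induced_isConjugacyFunctor (G := G) hW) T (CfsgLib.Solvable.pCore_isPGroup p)).2.2 g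
    have hg : T.map (MulAut.conj g).toMonoidHom = T := mem_normalizer_iff_map_conj_eq.1
      (by rw [normalizer_eq_top]; exact mem_top g : g ∈ normalizer (T : Set G))
    rw [hg] at h1
    exact h1.symm
  have e : (S'.subtype).comp (Subgroup.inclusion hTS) = T.subtype := rfl
  constructor
  · have : Cfsg.inducedFunctor Cfsg.kInfLower S' = Cfsg.inducedFunctor (G := G) Cfsg.kInfLower T := by
      show (Cfsg.kInfLower S').map S'.subtype = (Cfsg.kInfLower T).map T.subtype
      rw [← hr.1, Subgroup.map_map, e]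
    rw [this]
    exact hnorm _ kInfLower_isCharPFunctor
  · have : Cfsg.inducedFunctor Cfsg.kInfUpper S' = Cfsg.inducedFunctor (G := G) Cfsg.kInfUpper T := by
      show (Cfsg.kInfUpper S').map S'.subtype = (Cfsg.kInfUpper T).map T.subtype
      rw [← hr.2, Subgroup.map_map, e]
    rw [this]
    exact hnorm _ kInfUpper_isCharPFunctor

theorem exists_cubic_element_above (S : Subgroup G) (hTS : Cfsg.pCore p G ≤ S) {A : Subgroup G} [A.Normal]
    (hAT : A ≤ Cfsg.pCore p G) (hA2 : ⁅A, A⁆ ≤ centralizer (A : Set G))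
    (hA3 : ⁅Cfsg.pCore p G, A⁆ ≤ centreIn A)
    (hA5 : ∀ φ : MulAut ↥(Cfsg.pCore p G), (orderOf φ).Coprime p →
      (∀ a : ↥(Cfsg.pCore p G), (a : G) ∈ A → φ a = a) → φ = 1)
    (hK : ¬ (Cfsg.inducedFunctor Cfsg.kInfLower S).Normal ∨
      ¬ (Cfsg.inducedFunctor Cfsg.kInfUpper S).Normal) :
    ∃ g : G, g ∈ S ∧ g ∉ Cfsg.pCore p G ∧
      Cfsg.iterCommutator A (zpowers g) 3 ≤ centreIn A ∧
      ⁅⁅centreIn A, zpowers g⁆, zpowers g⁆ = ⊥ ∧
      (centralizer ((Cfsg.pCore p G : Subgroup G) : Set G) ≤ Cfsg.pCore p G →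
        ∃ U V : Subgroup G, Cfsg.IsChiefFactor U V ∧ U ≤ A ∧
          ⁅⁅U, zpowers g⁆, zpowers g⁆ ≤ V ∧ ¬ ⁅U, zpowers g⁆ ≤ V) := by
  haveI := Cfsg.pCore_normal p G
  set T := Cfsg.pCore p G with hT
  set S' : Subgroup G := S with hS'
  set Z := centreIn A with hZ
  have hAS : A ≤ S' := hAT.trans hTS
  have hZA : Z ≤ A := inf_le_left
  have hZZ : ⁅Z, Z⁆ = ⊥ := commutator_eq_bot_iff_le_centralizer.2
    (inf_le_right.trans (centralizer_le (SetLike.coe_subset_coe.2 hZA)))
  -- assembling the conclusion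
  have fin : ∀ g : G, g ∈ S' → g ∉ T → Cfsg.iterCommutator A (zpowers g) 3 ≤ Z →
      ⁅⁅Z, zpowers g⁆, zpowers g⁆ = ⊥ →
      ((∀ U V, Cfsg.IsChiefFactor U V → U ≤ A → ⁅⁅U, zpowers g⁆, zpowers g⁆ ≤ V) ∨
        ∃ U V, Cfsg.IsChiefFactor U V ∧ U ≤ Z ∧ ¬ ⁅U, zpowers g⁆ ≤ V) →
      ∃ g : G, g ∈ S' ∧ g ∉ T ∧ Cfsg.iterCommutator A (zpowers g) 3 ≤ Z ∧
        ⁅⁅Z, zpowers g⁆, zpowers g⁆ = ⊥ ∧ (centralizer (T : Set G) ≤ T →
          ∃ U V : Subgroup G, Cfsg.IsChiefFactor U V ∧ U ≤ A ∧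
            ⁅⁅U, zpowers g⁆, zpowers g⁆ ≤ V ∧ ¬ ⁅U, zpowers g⁆ ≤ V) := by
    intro g hgS hgT h3 h2 hor
    refine ⟨g, hgS, hgT, h3, h2, fun hc => ?_⟩
    rcases hor with hq | ⟨U, V, hUV, hUZ, hne⟩
    · obtain ⟨U, V, hUV, hUA, hne⟩ := exists_moved_chief hAT hA5 hc hgT
      exact ⟨U, V, hUV, hUA, hq U V hUV hUA, hne⟩
    · exact ⟨U, V, hUV, hUZ.trans hZA,
        (commutator_mono (commutator_mono hUZ le_rfl) le_rfl).trans (h2.le.trans bot_le), hne⟩
  have hiter3 : ∀ {B : Subgroup G}, ⁅⁅A, B⁆, B⁆ ≤ Z → ∀ g ∈ B,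
      Cfsg.iterCommutator A (zpowers g) 3 ≤ Z := fun h g hg =>
    (commutator_mono ((commutator_mono (commutator_mono le_rfl (zpowers_le.2 hg))
      (zpowers_le.2 hg)).trans h) le_rfl).trans (commutator_le_left _ _)
  by_cases hlow : A ∈ Cfsg.kLowerStarFamily S'
  swap
  · have : ∃ A₁ ∈ Cfsg.classTwoSubgroups G, A₁ ≤ S' ∧ A ≤ normalizer (A₁ : Set G) ∧
        ⁅A, ⁅A₁, A₁⁆⁆ = ⊥ ∧ ⁅⁅Z, A₁⁆, A₁⁆ = ⊥ ∧ ¬ ⁅A, A₁⁆ ≤ Z := by
      by_contra hno
      push Not at hno
      exact hlow ⟨hA2, (normalizer_eq_top_iff.2 (inferInstance : A.Normal)).symm ▸ le_top, fun A₁ h1 h2 h3 h4 h5 => hno A₁ h1 h2 h3 h4 h5⟩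
    obtain ⟨A₁, h1, hA₁S, hAA₁, h4, h5, hne⟩ := this
    have hA₁T : ¬ A₁ ≤ T := fun h => hne
      ((commutator_mono le_rfl h).trans (by rw [commutator_comm]; exact hA3))
    obtain ⟨g, hg, hgT⟩ := Set.not_subset.1 hA₁T
    have hAA : ⁅A, A₁⁆ ≤ A₁ := by
      rw [commutator_comm]; exact le_normalizer_iff_commutator_le_left.1 hAA₁
    have hmodZ : ⁅⁅A, A₁⁆, A₁⁆ ≤ Z := le_inf
      ((commutator_mono (commutator_le_left A A₁) le_rfl).trans (commutator_le_left A A₁))
      ((commutator_mono hAA le_rfl).trans (by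
        rw [← commutator_eq_bot_iff_le_centralizer, commutator_comm]; exact h4))
    have hKA : zpowers g ≤ A₁ := zpowers_le.2 hg
    have h2 : ⁅⁅Z, zpowers g⁆, zpowers g⁆ = ⊥ :=
      le_bot_iff.1 ((commutator_mono (commutator_mono le_rfl hKA) hKA).trans h5.le)
    exact fin g (hA₁S hg) hgT (hiter3 hmodZ g hg) h2 (Or.inl fun U V hUV hUA =>
      quadratic_on_chief ((commutator_mono (commutator_mono le_rfl hKA) hKA).trans hmodZ) h2 hUV hUA)
  -- the terms of the K-sequence inside `G`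
  let e : ℕ → Subgroup G := fun n => (Cfsg.kSeqEven S' n).map S'.subtype
  let o : ℕ → Subgroup G := fun n => (Cfsg.kSeqOdd S' n).map S'.subtype
  have hoS : ∀ n, o n ≤ S' := fun n => map_subtype_le _
  have he : ∀ n, e n = sSup {B ∈ Cfsg.kLowerStarFamily (o n) | B ≤ S'} := fun n => by
    have := map_sSup_lower S'.subtype_injective (Cfsg.kSeqOdd S' n)
    rwa [Subgroup.range_subtype] at this
  have ho : ∀ n, o (n + 1) = sSup {B ∈ Cfsg.kUpperStarFamily (e n) | B ≤ S'} := fun n => by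
    have := map_sSup_upper S'.subtype_injective (sSup (Cfsg.kLowerStarFamily (Cfsg.kSeqOdd S' n)))
    rwa [Subgroup.range_subtype] at this
  have hAe : ∀ n, A ≤ e n := fun n => by
    rw [he n]; exact le_sSup ⟨kLowerStarFamily_anti (hoS n) hlow, hAS⟩
  have hex : ∃ n, ¬ (e n ≤ T ∧ o (n + 1) ≤ T) := by
    by_contra hno
    push Not at hno
    obtain ⟨hl, hu⟩ := kInf_normal_of_terms_le_above S hTS hno
    rcases hK with hK | hK
    · exact hK hl
    · exact hK hu
  classical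
  set n := Nat.find hex with hn
  have hmin : ∀ m < n, e m ≤ T ∧ o (m + 1) ≤ T := fun m hm => not_not.1 (Nat.find_min hex hm)
  by_cases hen : e n ≤ T
  · have hon : ¬ o (n + 1) ≤ T := fun h => Nat.find_spec hex ⟨hen, h⟩
    rw [ho n, sSup_le_iff] at hon
    push Not at hon
    obtain ⟨B, ⟨hB, hBS⟩, hBT⟩ := hon
    obtain ⟨g, hg, hgT⟩ := Set.not_subset.1 hBT
    have hquad : ⁅⁅A, B⁆, B⁆ = ⊥ := by
      rw [commutator_eq_bot_iff_le_centralizer, commutator_comm]
      exact ((commutator_mono le_rfl (hAe n)).trans hB.2).trans inf_le_right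
    have hKB : zpowers g ≤ B := zpowers_le.2 hg
    have hq : ⁅⁅A, zpowers g⁆, zpowers g⁆ ≤ ⊥ :=
      (commutator_mono (commutator_mono le_rfl hKB) hKB).trans hquad.le
    have h2 : ⁅⁅Z, zpowers g⁆, zpowers g⁆ = ⊥ :=
      le_bot_iff.1 ((commutator_mono (commutator_mono hZA le_rfl) le_rfl).trans hq)
    exact fin g (hBS hg) hgT (hiter3 (hquad.le.trans bot_le) g hg) h2 (Or.inl fun U V hUV hUA =>
      quadratic_on_chief (hq.trans bot_le) h2 hUV hUA)
  · rw [he n, sSup_le_iff] at hen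
    push Not at hen
    obtain ⟨B, ⟨hB, hBS⟩, hBT⟩ := hen
    have hAo : A ≤ o n := by
      rcases Nat.eq_zero_or_pos n with h0 | h0
      · rw [h0]
        exact hAS.trans (by simp [o, Cfsg.kSeqOdd, ← MonoidHom.range_eq_map])
      · obtain ⟨m, hm⟩ := Nat.exists_eq_succ_of_ne_zero h0.ne'
        rw [hm, ho m]
        refine le_sSup ⟨⟨hA2, ?_⟩, hAS⟩
        rw [commutator_comm]
        exact (commutator_mono (hmin m (hm ▸ Nat.lt_succ_self m)).1 le_rfl).trans hA3
    have hAB : ⁅A, B⁆ ≤ B := by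
      rw [commutator_comm]; exact le_normalizer_iff_commutator_le_left.1 (hAo.trans hB.2.1)
    have hZB : ⁅⁅Z, B⁆, B⁆ = ⊥ := by
      rw [commutator_eq_bot_iff_le_centralizer, commutator_comm]
      refine (hB.2.2 Z ?_ (hZA.trans hAo) ((normalizer_eq_top_iff.2 (inferInstance : Z.Normal)).symm ▸ le_top) ?_ ?_).trans inf_le_right
      · show ⁅Z, Z⁆ ≤ _
        rw [hZZ]; exact bot_le
      · rw [hZZ, commutator_bot_right]
      · exact le_bot_iff.1 ((commutator_mono (commutator_le_right _ _) le_rfl).trans hZZ.le)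
    have hcub : ⁅⁅⁅A, B⁆, B⁆, B⁆ = ⊥ := by
      refine le_bot_iff.1 ((commutator_mono (commutator_mono hAB le_rfl) le_rfl).trans ?_)
      exact (commutator_eq_bot_iff_le_centralizer.2 hB.1).le
    have h3 : ∀ g ∈ B, Cfsg.iterCommutator A (zpowers g) 3 ≤ Z := fun g hg =>
      ((commutator_mono (commutator_mono (commutator_mono le_rfl (zpowers_le.2 hg))
        (zpowers_le.2 hg)) (zpowers_le.2 hg)).trans hcub.le).trans bot_le
    have h2 : ∀ g ∈ B, ⁅⁅Z, zpowers g⁆, zpowers g⁆ = ⊥ := fun g hg => le_bot_iff.1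
      ((commutator_mono (commutator_mono le_rfl (zpowers_le.2 hg)) (zpowers_le.2 hg)).trans hZB.le)
    by_cases hZBT : centreIn B ≤ T
    · by_cases hker : B ≤ chiefKernel Z
      · obtain ⟨g, hg, hgT⟩ := Set.not_subset.1 hBT
        exact fin g (hBS hg) hgT (h3 g hg) (h2 g hg) (Or.inl fun U V hUV hUA =>
          quadratic_of_lower_member hAT hA2 hA3 hB hAo hZBT hker hUV hUA hg)
      · obtain ⟨g, hg, hgk⟩ := Set.not_subset.1 hker
        have hTp := CfsgLib.Solvable.pCore_isPGroup (G := G) p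
        have hgT : g ∉ T := fun h => hgk (le_chiefKernel (hTp.to_le (hZA.trans hAT)) hTp h)
        have hex2 : ∃ U V, Cfsg.IsChiefFactor U V ∧ U ≤ Z ∧ ¬ ⁅U, zpowers g⁆ ≤ V := by
          by_contra hno
          push Not at hno
          exact hgk (mem_chiefKernel.2 hno)
        exact fin g (hBS hg) hgT (h3 g hg) (h2 g hg) (Or.inr hex2)
    · obtain ⟨g, ⟨hg, hgc⟩, hgT⟩ := Set.not_subset.1 hZBT
      have hKB : zpowers g ≤ B := zpowers_le.2 hg
      have hq : ⁅⁅A, zpowers g⁆, zpowers g⁆ ≤ ⊥ := by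
        refine (commutator_mono ((commutator_mono le_rfl hKB).trans hAB) le_rfl).trans ?_
        rw [le_bot_iff, commutator_comm, commutator_eq_bot_iff_le_centralizer]
        exact zpowers_le.2 hgc
      exact fin g (hBS hg) hgT (h3 g hg) (h2 g hg) (Or.inl fun U V hUV hUA =>
        quadratic_on_chief (hq.trans bot_le) (h2 g hg) hUV hUA)


theorem exists_quartic_element_above (S : Subgroup G) (hTS : Cfsg.pCore p G ≤ S)
    (hK : ¬ (Cfsg.inducedFunctor Cfsg.kInfLower S).Normal ∨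
      ¬ (Cfsg.inducedFunctor Cfsg.kInfUpper S).Normal) :
    ∃ g : G, g ∈ S ∧ g ∉ Cfsg.pCore p G ∧
      (∀ U V : Subgroup G, Cfsg.IsChiefFactor U V → U ≤ Cfsg.pCore p G →
        Cfsg.iterCommutator U (zpowers g) 4 ≤ V) ∧
      ⁅⁅centreIn (Cfsg.pCore p G), zpowers g⁆, zpowers g⁆ = ⊥ ∧
      (centralizer ((Cfsg.pCore p G : Subgroup G) : Set G) ≤ Cfsg.pCore p G →
        ∃ (N : Subgroup G) (_ : N.Normal), ¬ Cfsg.IsNormalizerPStable p (G ⧸ N)) := by
  haveI := Cfsg.pCore_normal p G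
  set T := Cfsg.pCore p G with hT
  have hTp : IsPGroup p T := CfsgLib.Solvable.pCore_isPGroup p
  obtain ⟨H, hHc, hH1, hH2, hH3⟩ := CfsgLib.Transfer.exists_critical hTp
  set A := H.map T.subtype with hA
  have hAT : A ≤ T := map_subtype_le H
  haveI hAn : A.Normal := by haveI := hHc; infer_instance
  have htop : (⊤ : Subgroup T).map T.subtype = T := by
    rw [← MonoidHom.range_eq_map, range_subtype]
  have hcA : centreIn A = (centreIn H).map T.subtype := map_centreIn T.subtype_injective H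
  have hA3 : ⁅T, A⁆ ≤ centreIn A := by
    rw [hcA, commutator_comm, hA]
    conv_lhs => arg 2; rw [← htop]
    rw [← Subgroup.map_commutator]
    exact map_mono hH2
  have hA2 : ⁅A, A⁆ ≤ centralizer (A : Set G) :=
    ((commutator_mono hAT le_rfl).trans hA3).trans inf_le_right
  have hA4 : T ⊓ centralizer (A : Set G) ≤ A := by
    intro x hx
    refine mem_map_of_mem T.subtype (x := (⟨x, hx.1⟩ : T)) (hH3 (mem_centralizer_iff.2 fun h hh => ?_))
    exact Subtype.ext (mem_centralizer_iff.1 hx.2 _ (mem_map_of_mem T.subtype hh))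
  have hA5 : ∀ φ : MulAut T, (orderOf φ).Coprime p → (∀ a : T, (a : G) ∈ A → φ a = a) → φ = 1 :=
    fun φ hφ hfix => Cfsg.Agent.S0121.result hTp H hHc hH1 hH2 hH3 φ hφ
      fun x hx => hfix x (mem_map_of_mem T.subtype hx)
  obtain ⟨g, hgS, hgT, h3, h2, hc⟩ := exists_cubic_element_above S hTS hAT hA2 hA3 hA5 hK
  refine ⟨g, hgS, hgT, ?_, ?_, fun hcT => ?_⟩
  · have h2' : Cfsg.iterCommutator (centreIn A) (zpowers g) 3 = ⊥ := by
      show ⁅⁅⁅centreIn A, zpowers g⁆, zpowers g⁆, zpowers g⁆ = ⊥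
      rw [h2, commutator_bot_left]
    exact iterCommutator_le_of_critical hTp hAT hA3 hA4 g (i := 3) (j := 2) (by norm_num) (by norm_num)
      (fun U V hUV hU => iterCommutator_on_chief h3 h2' hUV hU)
      (fun U V hUV hU => ((iterCommutator_mono hU 2).trans h2.le).trans bot_le)
  · refine le_bot_iff.1 (le_trans (commutator_mono (commutator_mono ?_ le_rfl) le_rfl) h2.le)
    have hZA : centreIn T ≤ centralizer (A : Set G) :=
      inf_le_right.trans (centralizer_le (SetLike.coe_subset_coe.2 hAT))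
    exact le_inf ((le_inf inf_le_left hZA).trans hA4) hZA
  · obtain ⟨U, V, hUV, hUA, hq, hne⟩ := hc hcT
    haveI hVn : V.Normal := hUV.2.2.1
    refine ⟨V, hVn, ?_⟩
    set π := QuotientGroup.mk' V with hπ
    have hπs : Function.Surjective π := QuotientGroup.mk'_surjective V
    haveI : (U.map π).Normal := Normal.map hUV.2.1 π hπs
    refine not_normalizerPStable_of_quadratic (U := U.map π) ((hTp.to_le (hUA.trans hAT)).map π) ?_ ?_
      (g := π g) ?_ ?_
    · rw [Ne, Subgroup.map_eq_bot_iff, hπ, QuotientGroup.ker_mk']; exact hUV.1.not_ge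
    · intro N hN hNU
      have h1 : N.comap π ≤ U := by
        refine (comap_mono hNU).trans ?_
        rw [comap_map_eq, hπ, QuotientGroup.ker_mk', sup_eq_left.2 hUV.1.le]
      rcases hUV.2.2.2 _ (hN.comap π) (fun v hv => by
        rw [mem_comap, show π v = 1 from (QuotientGroup.eq_one_iff v).2 hv]; exact N.one_mem) h1 with h | h
      · exact Or.inl (by rw [← map_comap_eq_self_of_surjective hπs N, h, hπ, QuotientGroup.map_mk'_self])
      · exact Or.inr (by rw [← map_comap_eq_self_of_surjective hπs N, h])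
    · rw [← MonoidHom.map_zpowers, ← Subgroup.map_commutator, ← Subgroup.map_commutator,
        Subgroup.map_eq_bot_iff, hπ, QuotientGroup.ker_mk']
      exact hq
    · intro hcen
      refine hne (commutator_zpowers_le_iff.2 fun u hu => ?_)
      refine (QuotientGroup.eq_one_iff _).1 ?_
      show π ⁅u, g⁆ = 1
      rw [map_commutatorElement, commutatorElement_eq_one_iff_mul_comm]
      exact mem_centralizer_iff.1 hcen _ (mem_map_of_mem π hu)


/-- In a constrained group all of whose quotients are `p`-stable, the lower K-infinity subgroup of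
every subgroup above `O_p(G)` is normal. -/
theorem kInfLower_normal_above (hc : centralizer ((Cfsg.pCore p G : Subgroup G) : Set G) ≤ Cfsg.pCore p G)
    (hst : ∀ (N : Subgroup G) [N.Normal], Cfsg.IsNormalizerPStable p (G ⧸ N)) (S : Subgroup G)
    (hTS : Cfsg.pCore p G ≤ S) : (Cfsg.inducedFunctor Cfsg.kInfLower S).Normal := by
  by_contra hno
  obtain ⟨g, -, -, -, -, h⟩ := exists_quartic_element_above S hTS (Or.inl hno)
  obtain ⟨N, hN, hbad⟩ := h hc
  exact hbad (hst N)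

end CfsgLib.Coprime.KInfAbove
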