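import Cfsg.Agent.Lib.Coprime.MaxClassUniform
import Cfsg.Agent.Lib.Solvable.Nilpotent
import Mathlib.GroupTheory.Sylow
import Mathlib.GroupTheory.Transfer

/-!
# Fusion of uniform elements of a Sylow subgroup of maximal class

If a uniform element `s` of a maximal class Sylow subgroup `P` has a centralizer in `G` with
`p`-part bigger than `p ^ 2`, then `s` lies in every normal subgroup meeting `P` in enough of
its upper central series.
-/

set_option autoImplicit false
set_option linter.style.haveILetI false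

namespace CfsgLib.Coprime.MaxClassLocal

open Subgroup CfsgLib.Coprime.MaxClassUniform
open scoped commutatorElement

universe u

variable {p : ℕ} [hp : Fact p.Prime] {G : Type u} [Group G] [Finite G]

/-- The centre of the Sylow subgroup, as a subgroup of `G`. -/
def ZG (P : Sylow p G) : Subgroup G :=
  (center ↥(P : Subgroup G)).map (P : Subgroup G).subtype

/-- Its centralizer. -/
def CZ (P : Sylow p G) : Subgroup G := centralizer (ZG P : Set G)

omit [Finite G] in
theorem le_CZ (P : Sylow p G) : (P : Subgroup G) ≤ CZ P := by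
  intro x hx
  rw [CZ, mem_centralizer_iff]
  rintro _ ⟨z, hz, rfl⟩
  exact (congrArg Subtype.val (mem_center_iff.1 hz ⟨x, hx⟩)).symm

omit [Finite G] in
theorem ZG_le (P : Sylow p G) : ZG P ≤ (P : Subgroup G) := map_subtype_le _

instance normal_ZG_CZ (P : Sylow p G) : ((ZG P).subgroupOf (CZ P)).Normal := by
  refine ⟨fun x hx g => ?_⟩
  rw [mem_subgroupOf] at hx ⊢
  have h2 := (mem_centralizer_iff.1 g.2) (x : G) hx
  rw [coe_mul, coe_mul, coe_inv, ← h2, mul_inv_cancel_right]
  exact hx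

/-- `C_G(Z(P)) / Z(P)`. -/
abbrev Red (P : Sylow p G) : Type u := ↥(CZ P) ⧸ (ZG P).subgroupOf (CZ P)

/-- The image of `P` in `Red P`. -/
def redSylow (P : Sylow p G) : Sylow p (Red P) :=
  (P.subtype (le_CZ P)).mapSurjective
    (QuotientGroup.mk'_surjective ((ZG P).subgroupOf (CZ P)))

/-- The reduction map on `P`. -/
def red (P : Sylow p G) : ↥(P : Subgroup G) →* ↥((redSylow P : Sylow p (Red P)) : Subgroup (Red P)) :=
  ((QuotientGroup.mk' ((ZG P).subgroupOf (CZ P))).comp (inclusion (le_CZ P))).codRestrict _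
    fun x => by
      rw [redSylow, Sylow.coe_mapSurjective, Sylow.coe_subtype]
      exact ⟨inclusion (le_CZ P) x, mem_subgroupOf.2 x.2, rfl⟩

theorem red_surjective (P : Sylow p G) : Function.Surjective (red P) := by
  rintro ⟨y, hy⟩
  rw [redSylow, Sylow.coe_mapSurjective, Sylow.coe_subtype] at hy
  obtain ⟨x, hx, rfl⟩ := hy
  exact ⟨⟨(x : G), hx⟩, Subtype.ext rfl⟩

omit [Finite G] in
theorem mem_ZG_iff (P : Sylow p G) {x : ↥(P : Subgroup G)} :
    (x : G) ∈ ZG P ↔ x ∈ center ↥(P : Subgroup G) :=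
  ⟨fun ⟨_, hz, e⟩ => Subtype.ext e ▸ hz, fun hx => ⟨x, hx, rfl⟩⟩

theorem red_ker (P : Sylow p G) : (red P).ker = center ↥(P : Subgroup G) := by
  ext x
  rw [MonoidHom.mem_ker, ← mem_ZG_iff P]
  constructor
  · intro hx
    exact mem_subgroupOf.1
      ((QuotientGroup.eq_one_iff (inclusion (le_CZ P) x)).1 (congrArg Subtype.val hx))
  · intro hx
    exact Subtype.ext ((QuotientGroup.eq_one_iff _).2 (mem_subgroupOf.2 hx))

/-- The `p`-part of the centralizer of `s` is at least `p ^ 3`. -/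
def Big (P : Sylow p G) (s : ↥(P : Subgroup G)) : Prop :=
  p ^ 3 ∣ Nat.card (centralizer ({(s : G)} : Set G))

/-- A central element of `P` is conjugate to a noncentral element of the centralizer of `s`. -/
def Moves (P : Sylow p G) (s : ↥(P : Subgroup G)) : Prop :=
  ∃ z ∈ center ↥(P : Subgroup G), ∃ (g : G) (y : ↥(P : Subgroup G)),
    (y : G) = g * z * g⁻¹ ∧ y ∈ centralizer ({s} : Set ↥(P : Subgroup G)) ∧
      y ∉ center ↥(P : Subgroup G)

theorem le_of_card_prime_sq {X : Type*} [Group X] [Finite X] {C D : Subgroup X}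
    (hC : Nat.card C = p ^ 2) {Z : Subgroup X} (hZ : Nat.card Z = p) (hZC : Z ≤ C) (hZD : Z ≤ D)
    {y : X} (hyC : y ∈ C) (hyD : y ∈ D) (hyZ : y ∉ Z) : C ≤ D := by
  have hle : zpowers y ⊔ Z ≤ C := sup_le (zpowers_le.2 hyC) hZC
  have h1 := card_dvd_of_le hle
  have h2 : Nat.card Z < Nat.card (zpowers y ⊔ Z : Subgroup X) := by
    refine lt_of_le_of_ne (card_le_of_le le_sup_right) fun e => hyZ ?_
    rw [eq_of_le_of_card_ge (le_sup_right : Z ≤ zpowers y ⊔ Z) e.ge]
    exact mem_sup_left (mem_zpowers y)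
  rw [hC] at h1
  obtain ⟨c, hc, hce⟩ := (Nat.dvd_prime_pow hp.out).1 h1
  rw [hZ, hce] at h2
  have hc2 : c = 2 := by
    rcases (show c = 0 ∨ c = 1 ∨ c = 2 by omega) with rfl | rfl | rfl
    · rw [pow_zero] at h2; exact absurd h2 (by have := hp.out.one_lt; omega)
    · rw [pow_one] at h2; exact absurd h2 (lt_irrefl _)
    · rfl
  rw [← eq_of_le_of_card_ge hle (by rw [hC, hce, hc2])]
  exact sup_le (zpowers_le.2 hyD) hZD

theorem moves_mem {n : ℕ} {P : Sylow p G} (h : IsMC p n ↥(P : Subgroup G))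
    {s : ↥(P : Subgroup G)} (hs : IsGood n s) (hm : Moves P s) {M : Subgroup G} (hMn : M.Normal)
    (hZ : ZG P ≤ M) : (s : G) ∈ M := by
  obtain ⟨z, hz, g, y, hyz, hyC, hyZ⟩ := hm
  have hy : y ∈ M.subgroupOf (P : Subgroup G) := by
    rw [mem_subgroupOf, hyz]
    exact hMn.conj_mem _ (hZ ((mem_ZG_iff P).2 hz)) g
  exact le_of_card_prime_sq (hs.card_centralizer h) h.card_center (center_le_centralizer _)
    (fun w hw => mem_subgroupOf.2 (hZ ((mem_ZG_iff P).2 hw))) hyC hy hyZ
    (mem_centralizer_singleton_iff.2 rfl)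

theorem pow_three_dvd {X : Subgroup G} (hX : IsPGroup p X) (h : p ^ 2 < Nat.card X) :
    p ^ 3 ∣ Nat.card X := by
  obtain ⟨c, hc⟩ := hX.exists_card_eq
  rw [hc, Nat.pow_lt_pow_iff_right hp.out.one_lt] at h
  rw [hc]
  exact pow_dvd_pow p h

theorem exists_conj_le {E C V : Subgroup G} (hEC : E ≤ C) (hE : IsPGroup p E)
    (hmax : ∀ R : Subgroup G, IsPGroup p R → E ≤ R → R ≤ C → R = E) (hVC : V ≤ C)
    (hV : IsPGroup p V) : ∃ c ∈ C, ∀ v ∈ V, c * v * c⁻¹ ∈ E := by
  obtain ⟨S, hS⟩ := (hE.comap_of_injective C.subtype C.subtype_injective).exists_le_sylow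
  obtain ⟨T, hT⟩ := (hV.comap_of_injective C.subtype C.subtype_injective).exists_le_sylow
  obtain ⟨c, hc⟩ := MulAction.exists_smul_eq C T S
  have hSE : (S : Subgroup C).map C.subtype = E := by
    refine hmax _ (S.isPGroup'.map _) (fun e he => ⟨⟨e, hEC he⟩, hS he, rfl⟩) (map_subtype_le _)
  refine ⟨c, c.2, fun v hv => ?_⟩
  rw [← hSE]
  refine ⟨c * ⟨v, hVC hv⟩ * c⁻¹, ?_, rfl⟩
  rw [← hc]
  exact smul_mem_pointwise_smul _ (MulAut.conj c) _ (hT (show (⟨v, hVC hv⟩ : C) ∈ V.comap C.subtype from hv))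

theorem le_center_of_card_prime {X : Type*} [Group X] [Finite X] (hX : IsPGroup p X)
    (N : Subgroup X) [N.Normal] (hN : Nat.card N = p) : N ≤ center X := by
  haveI : Group.IsNilpotent X := hX.isNilpotent
  have hne : N ≠ ⊥ := fun h => hp.out.ne_one (by rw [← hN, h, card_bot])
  have h1 := CfsgLib.Solvable.normal_inf_center_ne_bot N hne
  refine inf_eq_left.1 (eq_of_le_of_card_ge inf_le_left ?_)
  rcases (Nat.dvd_prime hp.out).1 (hN ▸ card_dvd_of_le (inf_le_left : N ⊓ center X ≤ N)) with h | h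
  · exact absurd (Subgroup.card_eq_one.1 h) h1
  · rw [h, hN]

theorem card_ZG {n : ℕ} {P : Sylow p G} (h : IsMC p n ↥(P : Subgroup G)) :
    Nat.card (ZG P) = p := by
  rw [ZG, card_map_of_injective (P : Subgroup G).subtype_injective, h.card_center]

/-- The basic dichotomy for a uniform element with a big centralizer. -/
theorem step {n : ℕ} {P : Sylow p G} (h : IsMC p n ↥(P : Subgroup G))
    {s : ↥(P : Subgroup G)} (hs : IsGood n s) (hbig : Big P s) :
    Moves P s ∨ (4 ≤ n ∧ Big (redSylow P) (red P s)) := by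
  have := h.three_le
  set C := centralizer ({(s : G)} : Set G) with hC
  set CP := centralizer ({s} : Set ↥(P : Subgroup G)) with hCP
  set E := CP.map (P : Subgroup G).subtype with hE
  have hEcard : Nat.card E = p ^ 2 := by
    rw [hE, card_map_of_injective (P : Subgroup G).subtype_injective, hs.card_centralizer h]
  have hEC : E ≤ C := by
    rintro _ ⟨x, hx, rfl⟩
    exact mem_centralizer_singleton_iff.2 (congrArg Subtype.val (mem_centralizer_singleton_iff.1 hx))
  have hEP : E ≤ (P : Subgroup G) := map_subtype_le _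
  have hZE : ZG P ≤ E := map_mono (center_le_centralizer _)
  have hsE : (s : G) ∈ E := ⟨s, mem_centralizer_singleton_iff.2 rfl, rfl⟩
  have hEp : IsPGroup p E := IsPGroup.of_card hEcard
  obtain ⟨S, hS⟩ := (hEp.comap_of_injective C.subtype C.subtype_injective).exists_le_sylow
  set R := (S : Subgroup C).map C.subtype with hR
  have hRC : R ≤ C := map_subtype_le _
  have hRp : IsPGroup p R := S.isPGroup'.map _
  have hER : E ≤ R := fun e he => ⟨⟨e, hEC he⟩, hS he, rfl⟩
  have hRcard : p ^ 3 ≤ Nat.card R := by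
    rw [hR, card_map_of_injective C.subtype_injective, Sylow.card_eq_multiplicity]
    exact Nat.pow_le_pow_right hp.out.pos
      ((hp.out.pow_dvd_iff_le_factorization Nat.card_pos.ne').1 hbig)
  obtain ⟨q, hqR, hqE, hqN⟩ : ∃ q ∈ R, q ∉ E ∧ ∀ x ∈ E, q * x * q⁻¹ ∈ E := by
    haveI : Group.IsNilpotent R := hRp.isNilpotent
    have hne : E.subgroupOf R ≠ ⊤ := by
      rw [Ne, subgroupOf_eq_top]
      intro hle
      have h2 := card_le_of_le hle
      rw [hEcard] at h2
      exact absurd (hRcard.trans h2) (not_le.2 (Nat.pow_lt_pow_right hp.out.one_lt (by omega)))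
    have hlt : E.subgroupOf R < normalizer (E.subgroupOf R : Set R) :=
      Group.normalizerCondition_of_isNilpotent _ (lt_top_iff_ne_top.2 hne)
    obtain ⟨q, hqn, hq⟩ := SetLike.exists_of_lt hlt
    exact ⟨q, q.2, fun hc => hq (mem_subgroupOf.2 hc), fun x hx =>
      mem_subgroupOf.1 ((mem_normalizer_iff.1 hqn ⟨x, hER hx⟩).1 (mem_subgroupOf.2 hx))⟩
  by_cases hcase : ∀ z ∈ ZG P, q * z = z * q
  swap
  · -- `q` moves the centre
    left
    push Not at hcase
    obtain ⟨zG, hzG, hne⟩ := hcase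
    obtain ⟨y, hy, hye⟩ : q * zG * q⁻¹ ∈ E := hqN _ (hZE hzG)
    obtain ⟨z, hz, rfl⟩ := hzG
    refine ⟨z, hz, q, y, hye, hy, fun hyc => hne ?_⟩
    have hzy : q * (z : G) * q⁻¹ ∈ ZG P := ⟨y, hyc, hye⟩
    have hz1 : (z : G) ≠ 1 := by
      intro e
      refine hne ?_
      show q * (z : G) = (z : G) * q
      rw [e, mul_one, one_mul]
    have hgen : ZG P = zpowers (z : G) := by
      have hle : zpowers (z : G) ≤ ZG P := zpowers_le.2 ⟨z, hz, rfl⟩
      refine (eq_of_le_of_card_ge hle ?_).symm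
      rcases (Nat.dvd_prime hp.out).1 (card_ZG h ▸ card_dvd_of_le hle) with e | e
      · rw [Nat.card_zpowers, orderOf_eq_one_iff] at e
        exact absurd e hz1
      · rw [card_ZG h, e]
    have hqZ : ∀ x ∈ ZG P, q * x * q⁻¹ ∈ ZG P := by
      intro x hx
      rw [hgen] at hx
      obtain ⟨k, rfl⟩ := mem_zpowers_iff.1 hx
      rw [← conj_zpow]
      exact zpow_mem hzy k
    have hqn : q ∈ normalizer (ZG P : Set G) := by
      refine mem_normalizer_iff_map_conj_eq.2
        (eq_of_le_of_card_ge ?_ (card_map_of_injective (MulEquiv.injective _)).ge)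
      rintro _ ⟨x, hx, rfl⟩
      exact hqZ x hx
    set K := R ⊓ normalizer (ZG P : Set G)
    have hKp : IsPGroup p K := hRp.to_le inf_le_left
    have hZK : ZG P ≤ K := le_inf (hZE.trans hER) le_normalizer
    haveI : ((ZG P).subgroupOf K).Normal :=
      (normal_subgroupOf_iff_le_normalizer hZK).2 inf_le_right
    have hc := le_center_of_card_prime hKp ((ZG P).subgroupOf K)
      (by rw [Nat.card_congr (subgroupOfEquivOfLe hZK).toEquiv, card_ZG h])
      (show (⟨(z : G), hZK ⟨z, hz, rfl⟩⟩ : K) ∈ (ZG P).subgroupOf K from ⟨z, hz, rfl⟩)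
    exact congrArg Subtype.val (mem_center_iff.1 hc ⟨q, ⟨hqR, hqn⟩⟩)
  -- `q` centralizes the centre
  set Qs := R ⊓ CZ P with hQs
  have hQp : IsPGroup p Qs := hRp.to_le inf_le_left
  have hEQ : E ≤ Qs := le_inf hER (hEP.trans (le_CZ P))
  have hqQ : q ∈ Qs := ⟨hqR, mem_centralizer_iff.2 fun z hz => (hcase z hz).symm⟩
  have hQcard : p ^ 3 ≤ Nat.card Qs := by
    refine Nat.le_of_dvd Nat.card_pos (pow_three_dvd hQp ?_)
    rw [← hEcard]
    refine lt_of_le_of_ne (card_le_of_le hEQ) fun e => hqE ?_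
    rw [eq_of_le_of_card_ge hEQ e.ge]
    exact hqQ
  by_cases hn : n = 3
  · exfalso
    obtain ⟨T, hT⟩ := hQp.exists_le_sylow
    obtain ⟨g, hg⟩ := MulAction.exists_smul_eq G T P
    have hconj : ∀ x ∈ Qs, g * x * g⁻¹ ∈ (P : Subgroup G) := by
      intro x hx
      rw [← hg]
      exact smul_mem_pointwise_smul _ (MulAut.conj g) _ (hT hx)
    have hmap : Qs.map (MulAut.conj g).toMonoidHom = (P : Subgroup G) := by
      refine eq_of_le_of_card_ge (by rintro _ ⟨x, hx, rfl⟩; exact hconj x hx) ?_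
      rw [card_map_of_injective (MulEquiv.injective _), h.card_eq, hn]
      exact hQcard
    have hE1 : E.map (MulAut.conj g).toMonoidHom ≤ ZG P := by
      rintro _ ⟨e, he, rfl⟩
      refine ⟨⟨_, hconj e (hEQ he)⟩, mem_center_iff.2 fun x => ?_, rfl⟩
      obtain ⟨w, hw, hwe⟩ := hmap.ge x.2
      have hwe' : Commute w e := by
        obtain ⟨e', he', rfl⟩ := he
        have h3 : e' ∈ zpowers s ⊔ center ↥(P : Subgroup G) := by
          rw [← hs.centralizer_eq h]; exact he'
        obtain ⟨a, ha, b, hb, rfl⟩ := mem_sup_of_normal_right.1 h3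
        obtain ⟨k, rfl⟩ := mem_zpowers_iff.1 ha
        have h4 : Commute w (s : G) := mem_centralizer_singleton_iff.1 (hRC hw.1)
        have h5 : Commute w (b : G) := (mem_centralizer_iff.1 hw.2 _ ⟨b, hb, rfl⟩).symm
        simpa using (h4.zpow_right k).mul_right h5
      refine Subtype.ext ?_
      show (x : G) * (g * e * g⁻¹) = g * e * g⁻¹ * x
      rw [← hwe]
      exact (hwe'.map (MulAut.conj g).toMonoidHom).eq
    have h2 := card_le_of_le hE1
    rw [card_map_of_injective (MulEquiv.injective _), hEcard, card_ZG h] at h2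
    have := hp.out.two_le
    nlinarith
  right
  have hn4 : 4 ≤ n := by omega
  refine ⟨hn4, ?_⟩
  set N := (ZG P).subgroupOf (CZ P) with hN
  set C' := centralizer ({((red P s : ↥((redSylow P : Sylow p (Red P)) : Subgroup (Red P))) : Red P)} :
    Set (Red P)) with hC'
  have hredMC := h.of_surjective hn4 (red P) (red_surjective P) (red_ker P)
  have hreds := hs.map h hn4 (red P) (red_surjective P) (red_ker P)
  set CPb := centralizer ({red P s} : Set ↥((redSylow P : Sylow p (Red P)) : Subgroup (Red P))) with hCPb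
  set Eb := CPb.map ((redSylow P : Sylow p (Red P)) : Subgroup (Red P)).subtype with hEb
  have hEbcard : Nat.card Eb = p ^ 2 := by
    rw [hEb, card_map_of_injective (Subgroup.subtype_injective _), hreds.card_centralizer hredMC]
  have hEbC : Eb ≤ C' := by
    rintro _ ⟨x, hx, rfl⟩
    exact mem_centralizer_singleton_iff.2 (congrArg Subtype.val (mem_centralizer_singleton_iff.1 hx))
  by_contra hnb
  have hmax : ∀ R' : Subgroup (Red P), IsPGroup p R' → Eb ≤ R' → R' ≤ C' → R' = Eb := by
    intro R' hR' hle hleC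
    by_contra hne
    refine hnb ((pow_three_dvd hR' ?_).trans (card_dvd_of_le hleC))
    rw [← hEbcard]
    refine lt_of_le_of_ne (card_le_of_le hle) fun e => hne ?_
    exact (eq_of_le_of_card_ge hle e.ge).symm
  set V := (Qs.subgroupOf (CZ P)).map (QuotientGroup.mk' N) with hV
  have hVC : V ≤ C' := by
    rintro _ ⟨x, hx, rfl⟩
    refine mem_centralizer_singleton_iff.2 ?_
    show QuotientGroup.mk' N x * QuotientGroup.mk' N (inclusion (le_CZ P) s) =
      QuotientGroup.mk' N (inclusion (le_CZ P) s) * QuotientGroup.mk' N x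
    rw [← map_mul, ← map_mul]
    congr 1
    exact Subtype.ext (mem_centralizer_singleton_iff.1 (hRC (mem_subgroupOf.1 hx).1))
  have hVp : IsPGroup p V := (hQp.comap_of_injective (CZ P).subtype (CZ P).subtype_injective).map _
  obtain ⟨c, hcC, hc⟩ := exists_conj_le hEbC (IsPGroup.of_card hEbcard) hmax hVC hVp
  obtain ⟨c', rfl⟩ := QuotientGroup.mk'_surjective N c
  set E1 := CPb.comap (red P) with hE1
  have hE1card : Nat.card E1 = p ^ 3 := by
    have h2 := relIndex_ker E1 (red P)
    rw [hE1, map_comap_eq_self_of_surjective (red_surjective P), red_ker,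
      hreds.card_centralizer hredMC] at h2
    have h3 := relIndex_mul_relIndex ⊥ (center ↥(P : Subgroup G)) E1 bot_le
      (by rw [← red_ker]; exact ker_le_comap _ _)
    rw [relIndex_bot_left, relIndex_bot_left, h.card_center, hE1, h2] at h3
    rw [hE1, ← h3]
    ring
  have hT : Qs.map (MulAut.conj (c' : G)).toMonoidHom ≤ E1.map (P : Subgroup G).subtype := by
    rintro _ ⟨x, hx, rfl⟩
    obtain ⟨e', he', hee⟩ := hc _ (mem_map_of_mem (QuotientGroup.mk' N)
      (show (⟨x, hx.2⟩ : CZ P) ∈ Qs.subgroupOf (CZ P) from hx))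
    obtain ⟨e, rfl⟩ := red_surjective P e'
    have h2 : QuotientGroup.mk' N (inclusion (le_CZ P) e) =
        QuotientGroup.mk' N (c' * ⟨x, hx.2⟩ * c'⁻¹) := hee.trans (by rw [map_mul, map_mul, map_inv])
    have h3 : ((inclusion (le_CZ P) e)⁻¹ * (c' * ⟨x, hx.2⟩ * c'⁻¹) : CZ P).1 ∈ ZG P :=
      mem_subgroupOf.1 (QuotientGroup.eq.1 h2)
    obtain ⟨w, hw, hwe⟩ := h3
    refine ⟨e * w, mul_mem he' ?_, ?_⟩
    · rw [hE1, mem_comap, show red P w = 1 from MonoidHom.mem_ker.1 (by rw [red_ker]; exact hw)]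
      exact one_mem _
    · rw [map_mul, hwe]
      simp [mul_assoc]
  have hTeq := eq_of_le_of_card_ge hT (by
    rw [card_map_of_injective (P : Subgroup G).subtype_injective, hE1card,
      card_map_of_injective (MulEquiv.injective _)]
    exact hQcard)
  -- `c'` maps `s` to `s` times a central element
  obtain ⟨w, hw, hwe⟩ : ∃ w ∈ center ↥(P : Subgroup G), (c' : G) * s * (c' : G)⁻¹ = (s : G) * w := by
    have h2 : QuotientGroup.mk' N (inclusion (le_CZ P) s) =
        QuotientGroup.mk' N (c' * inclusion (le_CZ P) s * c'⁻¹) := by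
      rw [map_mul, map_mul, map_inv]
      have h4 : QuotientGroup.mk' N c' * QuotientGroup.mk' N (inclusion (le_CZ P) s) =
          QuotientGroup.mk' N (inclusion (le_CZ P) s) * QuotientGroup.mk' N c' :=
        mem_centralizer_singleton_iff.1 hcC
      rw [h4, mul_inv_cancel_right]
    obtain ⟨w, hw, hwe⟩ := mem_subgroupOf.1 (QuotientGroup.eq.1 h2)
    refine ⟨w, hw, ?_⟩
    rw [show (w : G) = (P : Subgroup G).subtype w from rfl, hwe]
    simp
  have hle : E1 ≤ CP := by
    intro e he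
    obtain ⟨x, hx, hxe⟩ := hTeq.ge ⟨e, he, rfl⟩
    have h2 : Commute (e : G) ((s : G) * w) := by
      rw [← hwe, show (e : G) = (P : Subgroup G).subtype e from rfl, ← hxe]
      exact (show Commute x (s : G) from mem_centralizer_singleton_iff.1 (hRC hx.1)).map
        (MulAut.conj (c' : G)).toMonoidHom
    have h3 : Commute e (s * w) := Subtype.ext h2.eq
    have h4 : Commute e w := mem_center_iff.1 hw e
    have h5 := h3.mul_right h4.inv_right
    rw [mul_inv_cancel_right] at h5
    exact mem_centralizer_singleton_iff.2 h5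
  have h2 := card_le_of_le hle
  rw [hE1card, hs.card_centralizer h, Nat.pow_le_pow_iff_right hp.out.one_lt] at h2
  omega

/-- Image in `Red P` of a normal subgroup. -/
def redSub (P : Sylow p G) (M : Subgroup G) : Subgroup (Red P) :=
  (M.subgroupOf (CZ P)).map (QuotientGroup.mk' _)

omit [Finite G] in
theorem redSub_normal (P : Sylow p G) {M : Subgroup G} (hM : M.Normal) : (redSub P M).Normal :=
  (hM.comap (CZ P).subtype).map _ (QuotientGroup.mk'_surjective _)

theorem red_mem_redSub (P : Sylow p G) {M : Subgroup G} {x : ↥(P : Subgroup G)} (hx : (x : G) ∈ M) :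
    ((red P x : ↥((redSylow P : Sylow p (Red P)) : Subgroup (Red P))) : Red P) ∈ redSub P M :=
  ⟨inclusion (le_CZ P) x, mem_subgroupOf.2 hx, rfl⟩

theorem mem_of_red_mem (P : Sylow p G) {M : Subgroup G} (hZ : ZG P ≤ M) {x : ↥(P : Subgroup G)}
    (hx : ((red P x : ↥((redSylow P : Sylow p (Red P)) : Subgroup (Red P))) : Red P) ∈ redSub P M) :
    (x : G) ∈ M := by
  obtain ⟨m, hm, he⟩ := hx
  have h2 : QuotientGroup.mk' ((ZG P).subgroupOf (CZ P)) m =
      QuotientGroup.mk' _ (inclusion (le_CZ P) x) := he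
  have h3 := mul_mem (mem_subgroupOf.1 hm) (hZ (mem_subgroupOf.1 (QuotientGroup.eq.1 h2)))
  simpa using h3

theorem ZG_le_of_LC_le {n : ℕ} {P : Sylow p G} (h : IsMC p n ↥(P : Subgroup G)) {i : ℕ}
    (hi : i ≤ n - 2) {M : Subgroup G}
    (hM : (LC ↥(P : Subgroup G) i).map (P : Subgroup G).subtype ≤ M) : ZG P ≤ M :=
  (map_mono (by rw [h.center_eq]; exact LC_le hi)).trans hM

theorem red_LC_le {P : Sylow p G} {i : ℕ} {M : Subgroup G}
    (hM : (LC ↥(P : Subgroup G) i).map (P : Subgroup G).subtype ≤ M) :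
    (LC ↥((redSylow P : Sylow p (Red P)) : Subgroup (Red P)) i).map
      ((redSylow P : Sylow p (Red P)) : Subgroup (Red P)).subtype ≤ redSub P M := by
  rw [← map_LC (red P) (red_surjective P)]
  rintro _ ⟨_, ⟨x, hx, rfl⟩, rfl⟩
  exact red_mem_redSub P (hM ⟨x, hx, rfl⟩)

private theorem mem_of_big_aux : ∀ (n : ℕ) {G : Type u} [Group G] [Finite G] (P : Sylow p G),
    IsMC p n ↥(P : Subgroup G) → ∀ s : ↥(P : Subgroup G), IsGood n s → Big P s →
      ∀ M : Subgroup G, M.Normal →
        (LC ↥(P : Subgroup G) 1).map (P : Subgroup G).subtype ≤ M → (s : G) ∈ M := by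
  intro n
  induction n using Nat.strong_induction_on with
  | _ n ih =>
    intro G _ _ P h s hs hbig M hMn hM
    have := h.three_le
    have hZ := ZG_le_of_LC_le h (i := 1) (by omega) hM
    rcases step h hs hbig with hm | ⟨hn4, hb⟩
    · exact moves_mem h hs hm hMn hZ
    · exact mem_of_red_mem P hZ (ih (n - 1) (by omega) (redSylow P)
        (h.of_surjective hn4 (red P) (red_surjective P) (red_ker P)) _
        (hs.map h hn4 (red P) (red_surjective P) (red_ker P)) hb _ (redSub_normal P hMn)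
        (red_LC_le hM))

/-- A uniform element with a big centralizer lies in every normal subgroup containing the second
centre of the Sylow subgroup (for order `p ^ 3`: the centre). -/
theorem mem_of_big {n : ℕ} {P : Sylow p G} (h : IsMC p n ↥(P : Subgroup G))
    {s : ↥(P : Subgroup G)} (hs : IsGood n s) (hbig : Big P s) {M : Subgroup G} (hMn : M.Normal)
    (hM : (LC ↥(P : Subgroup G) (max 1 (n - 3))).map (P : Subgroup G).subtype ≤ M) :
    (s : G) ∈ M := by
  have := h.three_le
  have hZ := ZG_le_of_LC_le h (i := max 1 (n - 3)) (by omega) hM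
  rcases step h hs hbig with hm | ⟨hn4, hb⟩
  · exact moves_mem h hs hm hMn hZ
  have h' := h.of_surjective hn4 (red P) (red_surjective P) (red_ker P)
  have hs' := hs.map h hn4 (red P) (red_surjective P) (red_ker P)
  refine mem_of_red_mem P hZ ?_
  rcases step h' hs' hb with hm | ⟨hn5, hb2⟩
  · refine moves_mem h' hs' hm (redSub_normal P hMn) ?_
    exact ZG_le_of_LC_le h' (i := max 1 (n - 3)) (by omega) (red_LC_le hM)
  exfalso
  -- the centralizer of the second centre
  set P1 := redSylow P with hP1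
  set Z2 := (LC ↥(P : Subgroup G) (n - 3)).map (P : Subgroup G).subtype with hZ2
  set H2 : Subgroup G := (((CZ P1).comap (QuotientGroup.mk' ((ZG P).subgroupOf (CZ P))))).map
    (CZ P).subtype with hH2
  have hnorm : ∀ g ∈ H2, ∀ x ∈ Z2, g * x * g⁻¹ ∈ Z2 := by
    rintro _ ⟨g, hg, rfl⟩ _ ⟨x, hx, rfl⟩
    have hx' : red P x ∈ center ↥(P1 : Subgroup (Red P)) := by
      rw [h'.center_eq, ← map_LC (red P) (red_surjective P), show n - 1 - 2 = n - 3 by omega]
      exact mem_map_of_mem _ hx
    have h2 : QuotientGroup.mk' ((ZG P).subgroupOf (CZ P)) (inclusion (le_CZ P) x) =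
        QuotientGroup.mk' _ (g * inclusion (le_CZ P) x * g⁻¹) := by
      rw [map_mul, map_mul, map_inv]
      have h4 : QuotientGroup.mk' ((ZG P).subgroupOf (CZ P)) (inclusion (le_CZ P) x) *
          QuotientGroup.mk' _ g = QuotientGroup.mk' _ g * QuotientGroup.mk' _ (inclusion (le_CZ P) x) :=
        mem_centralizer_iff.1 hg _ ⟨red P x, hx', rfl⟩
      rw [← h4, mul_inv_cancel_right]
    have h3 : ((inclusion (le_CZ P) x)⁻¹ * (g * inclusion (le_CZ P) x * g⁻¹) : CZ P).1 ∈ ZG P :=
      mem_subgroupOf.1 (QuotientGroup.eq.1 h2)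
    obtain ⟨w, hw, hwe⟩ := h3
    refine ⟨x * w, mul_mem hx ?_, ?_⟩
    · rw [h.center_eq] at hw
      exact LC_le (by omega) hw
    · rw [map_mul, hwe]
      simp [mul_assoc]
  set D : Subgroup (CZ P1) :=
    (redSub P (centralizer (Z2 : Set G))).subgroupOf (CZ P1) with hD
  have hDn : D.Normal := by
    refine ⟨fun d hd g => ?_⟩
    obtain ⟨g', hg'⟩ := QuotientGroup.mk'_surjective _ (g : Red P)
    obtain ⟨d', hd', hde⟩ := mem_subgroupOf.1 hd
    refine mem_subgroupOf.2 ⟨g' * d' * g'⁻¹, ?_, ?_⟩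
    · refine mem_subgroupOf.2 (mem_centralizer_iff.2 fun x hx => ?_)
      have hgH : (g' : G) ∈ H2 := ⟨g', by
        show QuotientGroup.mk' _ g' ∈ CZ P1
        rw [hg']; exact g.2, rfl⟩
      have h2 := mem_centralizer_iff.1 (mem_subgroupOf.1 hd') _
        (hnorm _ (inv_mem hgH) x hx)
      rw [inv_inv] at h2
      calc x * ((g' : G) * d' * (g' : G)⁻¹)
          = (g' : G) * ((g' : G)⁻¹ * x * g' * d') * (g' : G)⁻¹ := by simp [mul_assoc]
        _ = (g' : G) * (d' * ((g' : G)⁻¹ * x * g')) * (g' : G)⁻¹ := by rw [h2]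
        _ = (g' : G) * d' * (g' : G)⁻¹ * x := by simp [mul_assoc]
    · rw [map_mul, map_mul, map_inv, hg', hde]
      rfl
  have hZ2c : ∀ x ∈ LC ↥(P : Subgroup G) 1, (x : G) ∈ centralizer (Z2 : Set G) := by
    intro x hx
    refine mem_centralizer_iff.2 ?_
    rintro _ ⟨z, hz, rfl⟩
    have h2 := comm_LC hx hz (show n - 1 ≤ 1 + (n - 3) + 1 by omega)
    rw [h.LC_eq_bot le_rfl, mem_bot, commutatorElement_eq_one_iff_mul_comm] at h2
    exact (congrArg Subtype.val h2).symm
  have hL : (LC ↥((redSylow P1 : Sylow p (Red P1)) : Subgroup (Red P1)) 1).map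
      ((redSylow P1 : Sylow p (Red P1)) : Subgroup (Red P1)).subtype ≤
        D.map (QuotientGroup.mk' ((ZG P1).subgroupOf (CZ P1))) := by
    rw [← map_LC (red P1) (red_surjective P1), ← map_LC (red P) (red_surjective P)]
    rintro _ ⟨_, ⟨_, ⟨x, hx, rfl⟩, rfl⟩, rfl⟩
    exact ⟨inclusion (le_CZ P1) (red P x), mem_subgroupOf.2 (red_mem_redSub P (hZ2c x hx)), rfl⟩
  obtain ⟨d, hd, hde⟩ := mem_of_big_aux (n - 1 - 1) (redSylow P1)
    (h'.of_surjective hn5 (red P1) (red_surjective P1) (red_ker P1)) _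
    (hs'.map h' hn5 (red P1) (red_surjective P1) (red_ker P1)) hb2 _
    (hDn.map _ (QuotientGroup.mk'_surjective _)) hL
  have h2 : ((d⁻¹ * inclusion (le_CZ P1) (red P s) : CZ P1) : Red P) ∈ ZG P1 :=
    mem_subgroupOf.1 (QuotientGroup.eq.1 hde)
  have h3 : ZG P1 ≤ redSub P (centralizer (Z2 : Set G)) := by
    rintro _ ⟨w, hw, rfl⟩
    rw [h'.center_eq, ← map_LC (red P) (red_surjective P)] at hw
    obtain ⟨x, hx, rfl⟩ := hw
    exact red_mem_redSub P (hZ2c x (LC_le (by omega) hx))
  have h4 := mul_mem (mem_subgroupOf.1 hd) (h3 h2)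
  simp only [coe_mul, coe_inv, mul_inv_cancel_left] at h4
  have hs2 : (s : G) ∈ centralizer (Z2 : Set G) :=
    mem_of_red_mem P (fun z hz => by
      obtain ⟨w, hw, rfl⟩ := hz
      rw [h.center_eq] at hw
      exact hZ2c w (LC_le (by omega) hw)) h4
  obtain ⟨u, hu, hu'⟩ := h.exists_mem_not_mem (i := n - 3) (by omega) (by omega)
  refine hs.comm_not_mem h (by omega) (by omega) hu hu' ?_
  rw [commutatorElement_eq_one_iff_mul_comm.2
    (Subtype.ext (mem_centralizer_iff.1 hs2 _ ⟨u, hu, rfl⟩).symm)]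
  exact one_mem _

end CfsgLib.Coprime.MaxClassLocal
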