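import Cfsg.Agent.Lib.PGroup.MaximalClass
import Cfsg.Agent.Lib.StructC.PolySeq
import Cfsg.Agent.Lib.Transfer.MaxClass

/-!
# Uniform elements in `p`-groups of maximal class

Every `p`-group of maximal class contains two elements, independent modulo the derived subgroup,
each of whose centralizers has order `p ^ 2` (Blackburn).
-/

set_option autoImplicit false
set_option linter.style.haveILetI false

namespace CfsgLib.Coprime.MaxClassUniform

open Subgroup
open scoped commutatorElement

universe u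

/-- The lower central series. -/
abbrev LC (P : Type*) [Group P] (i : ℕ) : Subgroup P := (⊤ : Subgroup P).lowerCentralSeries i

/-- `P` has order `p ^ n` and maximal class. -/
structure IsMC (p n : ℕ) (P : Type*) [Group P] : Prop where
  three_le : 3 ≤ n
  card_eq : Nat.card P = p ^ n
  class_eq : Group.nilpotencyClass P = n - 1

/-- The two-step centralizer of the `i`-th term. -/
def TC (P : Type*) [Group P] (i : ℕ) : Subgroup P :=
  (centralizer ((LC P i).map (QuotientGroup.mk' (LC P (i + 2))) : Set (P ⧸ LC P (i + 2)))).comap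
    (QuotientGroup.mk' (LC P (i + 2)))

/-- An element outside the derived subgroup and outside all two-step centralizers. -/
def IsGood {P : Type*} [Group P] (n : ℕ) (s : P) : Prop :=
  s ∉ LC P 1 ∧ ∀ i, 1 ≤ i → i + 3 ≤ n → s ∉ TC P i

section Basic

variable {P : Type*} [Group P]

theorem comm_LC {i j k : ℕ} {a b : P} (ha : a ∈ LC P i) (hb : b ∈ LC P j) (hk : k ≤ i + j + 1) :
    ⁅a, b⁆ ∈ LC P k :=
  Subgroup.lowerCentralSeries_antitone _ hk
    (CfsgLib.StructC.commutator_lowerCentralSeries_le i j (commutator_mem_commutator ha hb))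

theorem comm_LC_left {i : ℕ} {a : P} (ha : a ∈ LC P i) (b : P) : ⁅a, b⁆ ∈ LC P (i + 1) :=
  commutator_mem_commutator ha (mem_top b)

theorem comm_LC_right {i : ℕ} {a : P} (b : P) (ha : a ∈ LC P i) : ⁅b, a⁆ ∈ LC P (i + 1) := by
  rw [← commutatorElement_inv]
  exact inv_mem (comm_LC_left ha b)

theorem LC_le {i j : ℕ} (h : i ≤ j) : LC P j ≤ LC P i := Subgroup.lowerCentralSeries_antitone _ h

theorem mem_TC_iff {i : ℕ} {g : P} : g ∈ TC P i ↔ ∀ u ∈ LC P i, ⁅g, u⁆ ∈ LC P (i + 2) := by
  have key : ∀ u : P, QuotientGroup.mk' (LC P (i + 2)) g * QuotientGroup.mk' (LC P (i + 2)) u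
      = QuotientGroup.mk' (LC P (i + 2)) u * QuotientGroup.mk' (LC P (i + 2)) g ↔
        ⁅g, u⁆ ∈ LC P (i + 2) := by
    intro u
    rw [← commutatorElement_eq_one_iff_mul_comm, ← map_commutatorElement]
    exact QuotientGroup.eq_one_iff _
  rw [TC, mem_comap, mem_centralizer_iff]
  constructor
  · intro h u hu
    exact (key u).1 (h _ ⟨u, hu, rfl⟩).symm
  · rintro h _ ⟨u, hu, rfl⟩
    exact ((key u).2 (h u hu)).symm

theorem LC_one_le_TC (i : ℕ) : LC P 1 ≤ TC P i := fun _ hg =>
  mem_TC_iff.2 fun _ hu => comm_LC hg hu (by omega)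

/-- A commutator of closures lies in a normal subgroup as soon as those of the generators do. -/
theorem commutator_closure_le {A B : Set P} {D : Subgroup P} [D.Normal]
    (h : ∀ a ∈ A, ∀ b ∈ B, ⁅a, b⁆ ∈ D) : ⁅closure A, closure B⁆ ≤ D := by
  let π := QuotientGroup.mk' D
  have key : ∀ a b : P, ⁅a, b⁆ ∈ D ↔ π a * π b = π b * π a := by
    intro a b
    rw [← commutatorElement_eq_one_iff_mul_comm, ← map_commutatorElement]
    exact (QuotientGroup.eq_one_iff _).symm
  have h1 : ∀ a ∈ A, closure B ≤ (centralizer ({π a} : Set (P ⧸ D))).comap π := by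
    intro a ha
    rw [closure_le]
    intro b hb
    rw [SetLike.mem_coe, mem_comap, mem_centralizer_singleton_iff]
    exact ((key a b).1 (h a ha b hb)).symm
  rw [commutator_le]
  intro a ha b hb
  have h2 : closure A ≤ (centralizer ({π b} : Set (P ⧸ D))).comap π := by
    rw [closure_le]
    intro a' ha'
    rw [SetLike.mem_coe, mem_comap, mem_centralizer_singleton_iff]
    exact (mem_centralizer_singleton_iff.1 (h1 a' ha' hb)).symm
  exact (key a b).2 (mem_centralizer_singleton_iff.1 (h2 ha))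

end Basic

section MC

variable {p : ℕ} [hp : Fact p.Prime] {n : ℕ} {P : Type*} [Group P] [Finite P]

theorem IsMC.isPGroup (h : IsMC p n P) : IsPGroup p P := IsPGroup.of_card h.card_eq

theorem IsMC.isNilpotent (h : IsMC p n P) : Group.IsNilpotent P := h.isPGroup.isNilpotent

theorem IsMC.card_LC (h : IsMC p n P) {i : ℕ} (h1 : 1 ≤ i) (hi : i ≤ n - 1) :
    Nat.card (LC P i) = p ^ (n - 1 - i) :=
  (CfsgLib.PGroup.maxClass_card_lcs h.three_le h.card_eq h.class_eq).2 i h1 hi

theorem IsMC.LC_eq_bot (h : IsMC p n P) {i : ℕ} (hi : n - 1 ≤ i) : LC P i = ⊥ :=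
  haveI := h.isNilpotent
  Subgroup.lowerCentralSeries_eq_bot_iff_nilpotencyClass_le.2 (h.class_eq.le.trans hi)

theorem IsMC.exists_mem_not_mem (h : IsMC p n P) {i : ℕ} (h1 : 1 ≤ i) (hi : i + 2 ≤ n) :
    ∃ u ∈ LC P i, u ∉ LC P (i + 1) := by
  by_contra hc
  push Not at hc
  have h2 := Subgroup.card_le_of_le (show LC P i ≤ LC P (i + 1) from hc)
  rw [h.card_LC h1 (by omega), h.card_LC (by omega) (by omega),
    Nat.pow_le_pow_iff_right hp.out.one_lt] at h2
  omega

theorem IsMC.LC_gen (h : IsMC p n P) {i : ℕ} (h1 : 1 ≤ i) {u : P} (hu : u ∈ LC P i)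
    (hu' : u ∉ LC P (i + 1)) : LC P i ≤ zpowers u ⊔ LC P (i + 1) := by
  have hi : i + 2 ≤ n := by
    by_contra hc
    rw [h.LC_eq_bot (show n - 1 ≤ i by omega), mem_bot] at hu
    exact hu' (hu ▸ one_mem _)
  have hle : zpowers u ⊔ LC P (i + 1) ≤ LC P i := sup_le (zpowers_le.2 hu) (LC_le (by omega))
  refine (eq_of_le_of_card_ge hle ?_).ge
  have hlt : Nat.card (LC P (i + 1)) < Nat.card (zpowers u ⊔ LC P (i + 1) : Subgroup P) := by
    refine lt_of_le_of_ne (card_le_of_le le_sup_right) fun e => hu' ?_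
    rw [eq_of_le_of_card_ge (le_sup_right : LC P (i + 1) ≤ zpowers u ⊔ LC P (i + 1)) e.ge]
    exact mem_sup_left (mem_zpowers u)
  obtain ⟨c, hc⟩ := (h.isPGroup.to_subgroup (zpowers u ⊔ LC P (i + 1))).exists_card_eq
  rw [hc, h.card_LC (by omega) (by omega), Nat.pow_lt_pow_iff_right hp.out.one_lt] at hlt
  rw [hc, h.card_LC h1 (by omega)]
  exact Nat.pow_le_pow_right hp.out.pos (by omega)

theorem IsMC.comm_not_mem (h : IsMC p n P) {i : ℕ} (h1 : 1 ≤ i) {g : P} (hg : g ∉ TC P i)
    {u : P} (hu : u ∈ LC P i) (hu' : u ∉ LC P (i + 1)) : ⁅g, u⁆ ∉ LC P (i + 2) := by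
  intro hc
  refine hg (mem_TC_iff.2 fun x hx => ?_)
  obtain ⟨a, ha, b, hb, rfl⟩ := mem_sup_of_normal_right.1 (h.LC_gen h1 hu hu' hx)
  obtain ⟨k, rfl⟩ := mem_zpowers_iff.1 ha
  let π := QuotientGroup.mk' (LC P (i + 2))
  have e1 : Commute (π g) (π u) := by
    rw [← commutatorElement_eq_one_iff_commute, ← map_commutatorElement]
    exact (QuotientGroup.eq_one_iff _).2 hc
  have e2 : Commute (π g) (π b) := by
    rw [← commutatorElement_eq_one_iff_commute, ← map_commutatorElement]
    exact (QuotientGroup.eq_one_iff _).2 (comm_LC_right g hb)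
  have e3 : π ⁅g, u ^ k * b⁆ = 1 := by
    rw [map_commutatorElement, map_mul, map_zpow, commutatorElement_eq_one_iff_commute]
    exact (e1.zpow_right k).mul_right e2
  exact (QuotientGroup.eq_one_iff _).1 e3

theorem IsMC.TC_ne_top (h : IsMC p n P) {i : ℕ} (h1 : 1 ≤ i) (hi : i + 3 ≤ n) : TC P i ≠ ⊤ := by
  intro e
  have hle : LC P (i + 1) ≤ LC P (i + 2) := by
    show ⁅LC P i, (⊤ : Subgroup P)⁆ ≤ _
    rw [commutator_le]
    intro a ha b _
    rw [← commutatorElement_inv]
    exact inv_mem (mem_TC_iff.1 (e.ge (mem_top b)) a ha)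
  have h2 := Subgroup.card_le_of_le hle
  rw [h.card_LC (by omega) (by omega), h.card_LC (by omega) (by omega),
    Nat.pow_le_pow_iff_right hp.out.one_lt] at h2
  omega

theorem IsMC.TC_index (h : IsMC p n P) {i : ℕ} (h1 : 1 ≤ i) (hi : i + 3 ≤ n) :
    (TC P i).index = p := by
  obtain ⟨u, hu, hu'⟩ := h.exists_mem_not_mem h1 (by omega)
  let π := QuotientGroup.mk' (LC P (i + 2))
  have hcent : ∀ a ∈ LC P (i + 1), ∀ b : P, Commute (π a) (π b) := by
    intro a ha b
    rw [← commutatorElement_eq_one_iff_commute, ← map_commutatorElement]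
    exact (QuotientGroup.eq_one_iff _).2 (comm_LC_left ha b)
  let φ : P →* P ⧸ LC P (i + 2) := MonoidHom.mk' (fun g => π ⁅g, u⁆) fun a b => by
    show π ⁅a * b, u⁆ = π ⁅a, u⁆ * π ⁅b, u⁆
    have e : ⁅a * b, u⁆ = (a * ⁅b, u⁆ * a⁻¹) * ⁅a, u⁆ := by
      simp [commutatorElement_def, mul_assoc]
    rw [e, map_mul, map_mul, map_mul, map_inv,
      ← (hcent _ (comm_LC_right b hu) a).eq, mul_inv_cancel_right,
      (hcent _ (comm_LC_right b hu) ⁅a, u⁆).eq]
  have hker : φ.ker = TC P i := by
    ext g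
    rw [MonoidHom.mem_ker]
    constructor
    · intro hg
      by_contra hg'
      exact h.comm_not_mem h1 hg' hu hu' ((QuotientGroup.eq_one_iff _).1 hg)
    · intro hg
      exact (QuotientGroup.eq_one_iff _).2 (mem_TC_iff.1 hg u hu)
  have hran : φ.range ≤ (LC P (i + 1)).map π := by
    rintro _ ⟨g, rfl⟩
    exact mem_map_of_mem π (comm_LC_right g hu)
  have hcard : Nat.card ((LC P (i + 1)).map π) = p := by
    rw [← relIndex_ker, QuotientGroup.ker_mk']
    have h2 := relIndex_mul_relIndex ⊥ (LC P (i + 2)) (LC P (i + 1)) bot_le (LC_le (by omega))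
    rw [relIndex_bot_left, relIndex_bot_left, h.card_LC (by omega) (by omega),
      h.card_LC (by omega) (by omega), show n - 1 - (i + 1) = n - 1 - (i + 2) + 1 by omega,
      pow_succ] at h2
    exact Nat.eq_of_mul_eq_mul_left (Nat.pow_pos hp.out.pos) h2
  rw [← hker, index_ker]
  refine ((Nat.dvd_prime hp.out).1 (hcard ▸ card_dvd_of_le hran)).resolve_left fun e => ?_
  refine h.TC_ne_top h1 hi ?_
  rw [← hker, ← index_eq_one, index_ker, e]

theorem IsMC.center_eq (h : IsMC p n P) : center P = LC P (n - 2) := by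
  have := h.three_le
  have hle : LC P (n - 2) ≤ center P := by
    intro a ha
    rw [mem_center_iff]
    intro g
    have h2 := comm_LC_left ha g
    rw [show n - 2 + 1 = n - 1 by omega, h.LC_eq_bot le_rfl, mem_bot,
      commutatorElement_eq_one_iff_mul_comm] at h2
    exact h2.symm
  refine (eq_of_le_of_card_ge hle ?_).symm
  rw [(CfsgLib.Transfer.card_center_of_maxClass h.three_le h.card_eq h.class_eq).1,
    h.card_LC (by omega) (by omega), show n - 1 - (n - 2) = 1 by omega, pow_one]

theorem IsMC.card_center (h : IsMC p n P) : Nat.card (center P) = p :=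
  (CfsgLib.Transfer.card_center_of_maxClass h.three_le h.card_eq h.class_eq).1

theorem IsMC.card_quotient_LC_one (h : IsMC p n P) : Nat.card (P ⧸ LC P 1) = p ^ 2 := by
  have := h.three_le
  have h1 := (LC P 1).card_mul_index
  rw [h.card_LC le_rfl (by omega), h.card_eq] at h1
  rw [← index_eq_card]
  refine Nat.eq_of_mul_eq_mul_left (Nat.pow_pos (n := n - 1 - 1) hp.out.pos) ?_
  rw [h1, ← pow_add]
  congr 1
  omega

theorem IsMC.pow_mem_LC_one (h : IsMC p n P) (x : P) : x ^ p ∈ LC P 1 := by
  rw [← QuotientGroup.eq_one_iff, QuotientGroup.mk_pow]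
  set q : P ⧸ LC P 1 := QuotientGroup.mk x
  obtain ⟨i, hi, ho⟩ := (Nat.dvd_prime_pow hp.out).1 (h.card_quotient_LC_one ▸ orderOf_dvd_natCard q)
  refine orderOf_dvd_iff_pow_eq_one.1 ?_
  have hi1 : i ≤ 1 := by
    by_contra hc
    refine (CfsgLib.PGroup.maxClass_card_lcs h.three_le h.card_eq h.class_eq).1
      (isCyclic_of_orderOf_eq_card q ?_)
    rw [ho, show i = 2 by omega, h.card_quotient_LC_one]
  rw [ho]
  exact (pow_dvd_pow p hi1).trans (by rw [pow_one])

theorem card_zpowers_sup {N : Subgroup P} [N.Normal] {s : P} (hs : s ∉ N) (hsp : s ^ p ∈ N) :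
    Nat.card (zpowers s ⊔ N : Subgroup P) = Nat.card N * p := by
  let π := QuotientGroup.mk' N
  have hmap : (zpowers s ⊔ N).map π = zpowers (π s) := by
    rw [Subgroup.map_sup, MonoidHom.map_zpowers,
      (Subgroup.map_eq_bot_iff N).2 (by rw [QuotientGroup.ker_mk']), sup_bot_eq]
  have ho : orderOf (π s) = p := orderOf_eq_prime
    (by rw [← map_pow]; exact (QuotientGroup.eq_one_iff _).2 hsp)
    (fun e => hs ((QuotientGroup.eq_one_iff _).1 e))
  have h2 : N.relIndex (zpowers s ⊔ N) = p := by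
    conv_lhs => rw [← QuotientGroup.ker_mk' N, relIndex_ker, QuotientGroup.ker_mk']
    rw [hmap, Nat.card_zpowers, ho]
  have h3 := relIndex_mul_relIndex ⊥ N (zpowers s ⊔ N) bot_le le_sup_right
  rw [relIndex_bot_left, relIndex_bot_left, h2] at h3
  exact h3.symm

theorem IsMC.line_index (h : IsMC p n P) {s : P} (hs : s ∉ LC P 1) :
    (zpowers s ⊔ LC P 1).index = p := by
  have := h.three_le
  have h1 := (zpowers s ⊔ LC P 1).card_mul_index
  rw [card_zpowers_sup hs (h.pow_mem_LC_one s), h.card_LC le_rfl (by omega), h.card_eq,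
    ← pow_succ, show p ^ n = p ^ (n - 1 - 1 + 1) * p by rw [← pow_succ]; congr 1; omega] at h1
  exact Nat.eq_of_mul_eq_mul_left (Nat.pow_pos hp.out.pos) h1

theorem IsMC.eq_top_of_gen (h : IsMC p n P) {s t : P} (hs : s ∉ LC P 1)
    (ht : t ∉ zpowers s ⊔ LC P 1) {H : Subgroup P} (hH : LC P 1 ≤ H) (hsH : s ∈ H) (htH : t ∈ H) :
    H = ⊤ := by
  have hle : zpowers s ⊔ LC P 1 ≤ H := sup_le (zpowers_le.2 hsH) hH
  rcases (Nat.dvd_prime hp.out).1 (h.line_index hs ▸ index_dvd_of_le hle) with e | e
  · exact index_eq_one.1 e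
  · exfalso
    refine ht ?_
    have h1 := (zpowers s ⊔ LC P 1).card_mul_index
    have h2 := H.card_mul_index
    rw [h.line_index hs] at h1
    rw [e] at h2
    rw [eq_of_le_of_card_ge hle (Nat.eq_of_mul_eq_mul_right hp.out.pos (h2.trans h1.symm)).le]
    exact htH

theorem IsMC.LC_one_le_frattini (h : IsMC p n P) : LC P 1 ≤ frattini P := by
  show (⊤ : Subgroup P).lowerCentralSeries 1 ≤ _
  rw [top_lowerCentralSeries_one, commutator_eq_closure, closure_le]
  rintro _ ⟨u, v, rfl⟩
  have hc := CfsgLib.StructC.comm_mem_frattini h.isPGroup u⁻¹ v⁻¹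
  simpa [commutatorElement_def, mul_assoc] using hc

theorem IsMC.eq_top_of_gen' (h : IsMC p n P) {s t : P} (hs : s ∉ LC P 1)
    (ht : t ∉ zpowers s ⊔ LC P 1) {H : Subgroup P} (hsH : s ∈ H) (htH : t ∈ H) : H = ⊤ := by
  refine frattini_nongenerating ?_
  rw [eq_top_iff, ← h.eq_top_of_gen hs ht le_sup_right (mem_sup_left hsH) (mem_sup_left htH)]
  exact sup_le_sup_left h.LC_one_le_frattini _

theorem IsGood.comm_not_mem (h : IsMC p n P) {s : P} (hs : IsGood n s) {i : ℕ} (h1 : 1 ≤ i)
    (hi : i + 3 ≤ n) {u : P} (hu : u ∈ LC P i) (hu' : u ∉ LC P (i + 1)) :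
    ⁅s, u⁆ ∉ LC P (i + 2) :=
  h.comm_not_mem h1 (hs.2 i h1 hi) hu hu'

theorem IsGood.mem_center_of_commute (h : IsMC p n P) {s : P} (hs : IsGood n s) {x : P}
    (hx : x ∈ LC P 1) (hc : Commute s x) : x ∈ center P := by
  rw [h.center_eq]
  have := h.three_le
  have key : ∀ i, i ≤ n - 3 → x ∈ LC P (i + 1) := by
    intro i
    induction i with
    | zero => exact fun _ => hx
    | succ i ih =>
      intro hi
      by_contra hx'
      refine hs.comm_not_mem h (by omega) (by omega) (ih (by omega)) hx' ?_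
      rw [commutatorElement_eq_one_iff_commute.2 hc]
      exact one_mem _
  have h2 := key (n - 3) le_rfl
  rwa [show n - 3 + 1 = n - 2 by omega] at h2

theorem IsGood.not_mem_center (h : IsMC p n P) {s : P} (hs : IsGood n s) : s ∉ center P := by
  rw [h.center_eq]
  exact fun hc => hs.1 (LC_le (by have := h.three_le; omega) hc)

theorem IsGood.centralizer_eq (h : IsMC p n P) {s : P} (hs : IsGood n s) :
    centralizer ({s} : Set P) = zpowers s ⊔ center P := by
  refine le_antisymm (fun g hg => ?_)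
    (sup_le (zpowers_le.2 (mem_centralizer_singleton_iff.2 rfl)) (center_le_centralizer _))
  have hsg : Commute g s := mem_centralizer_singleton_iff.1 hg
  have hgT : g ∈ zpowers s ⊔ LC P 1 := by
    by_contra hg'
    refine hs.not_mem_center h (mem_center_iff.2 fun x => ?_)
    have hH := h.eq_top_of_gen' hs.1 hg' (H := centralizer ({s} : Set P))
      (mem_centralizer_singleton_iff.2 rfl) hg
    exact mem_centralizer_singleton_iff.1 (hH.ge (mem_top x))
  obtain ⟨a, ha, b, hb, rfl⟩ := mem_sup_of_normal_right.1 hgT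
  obtain ⟨k, rfl⟩ := mem_zpowers_iff.1 ha
  refine mul_mem (mem_sup_left ha) (mem_sup_right (hs.mem_center_of_commute h hb ?_))
  have h3 : Commute s ((s ^ k)⁻¹ * (s ^ k * b)) :=
    ((Commute.refl s).zpow_right k).inv_right.mul_right hsg.symm
  rwa [inv_mul_cancel_left] at h3

theorem IsGood.pow_mem_center (h : IsMC p n P) {s : P} (hs : IsGood n s) : s ^ p ∈ center P :=
  hs.mem_center_of_commute h (h.pow_mem_LC_one s) ((Commute.refl s).pow_right p)

theorem IsGood.card_centralizer (h : IsMC p n P) {s : P} (hs : IsGood n s) :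
    Nat.card (centralizer ({s} : Set P)) = p ^ 2 := by
  rw [hs.centralizer_eq h, card_zpowers_sup (hs.not_mem_center h) (hs.pow_mem_center h),
    h.card_center, pow_two]

theorem IsGood.exists_conj (h : IsMC p n P) {s : P} (hs : IsGood n s) {x : P} (hx : x ∈ LC P 1) :
    ∃ g : P, g * s * g⁻¹ = s * x := by
  have := h.three_le
  have hmem : ∀ g : P, s⁻¹ * (g * s * g⁻¹) ∈ LC P 1 := by
    intro g
    have h2 := comm_LC_left (show s⁻¹ ∈ LC P 0 from mem_top _) g
    rw [show s⁻¹ * (g * s * g⁻¹) = ⁅s⁻¹, g⁆ by simp [commutatorElement_def, mul_assoc]]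
    exact h2
  set C := centralizer ({s} : Set P)
  let f : P ⧸ C → LC P 1 := fun q => ⟨_, hmem q.out⟩
  have hinj : Function.Injective f := by
    intro a b hab
    have h2 : a.out * s * a.out⁻¹ = b.out * s * b.out⁻¹ :=
      mul_left_cancel (congrArg Subtype.val hab)
    rw [← QuotientGroup.out_eq' a, ← QuotientGroup.out_eq' b, QuotientGroup.eq]
    refine mem_centralizer_singleton_iff.2 ?_
    calc a.out⁻¹ * b.out * s = a.out⁻¹ * (b.out * s * b.out⁻¹) * b.out := by
          simp [mul_assoc]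
      _ = s * (a.out⁻¹ * b.out) := by rw [← h2]; simp [mul_assoc]
  have hcard : Nat.card (P ⧸ C) = Nat.card (LC P 1) := by
    have h2 := C.card_mul_index
    rw [hs.card_centralizer h, h.card_eq] at h2
    rw [← index_eq_card, h.card_LC le_rfl (by omega)]
    refine Nat.eq_of_mul_eq_mul_left (Nat.pow_pos (n := 2) hp.out.pos) ?_
    rw [h2, ← pow_add]
    congr 1
    omega
  obtain ⟨q, hq⟩ := ((Nat.bijective_iff_injective_and_card f).2 ⟨hinj, hcard⟩).2 ⟨x, hx⟩
  have h3 : s⁻¹ * (q.out * s * q.out⁻¹) = x := congrArg Subtype.val hq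
  exact ⟨q.out, by rw [← h3, mul_inv_cancel_left]⟩

theorem IsGood.mul_pow (h : IsMC p n P) {s : P} (hs : IsGood n s) {x : P} (hx : x ∈ LC P 1) :
    (s * x) ^ p = s ^ p := by
  obtain ⟨g, hg⟩ := hs.exists_conj h hx
  rw [← hg, conj_pow, mem_center_iff.1 (hs.pow_mem_center h) g, mul_inv_cancel_right]

end MC

section Powers

/-- The wreath product of two groups of order `p`, as a test group. -/
theorem exists_model (p : ℕ) [hp : Fact p.Prime] :
    ∃ (W : Type) (_ : Group W) (_ : Finite W) (B : Subgroup W) (σ τ : W),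
      B.Normal ∧ τ ∈ B ∧ (∀ a ∈ B, ∀ b ∈ B, Commute a b) ∧ (∀ a ∈ B, a ^ p = 1) ∧
      _root_.commutator W ≤ B ∧ LC W p = ⊥ ∧ σ ^ p = 1 ∧ (σ * τ) ^ p ≠ 1 := by
  let N := Multiplicative (ZMod p → ZMod p)
  let shift : Multiplicative (ZMod p) →* MulAut N :=
    { toFun := fun a =>
        { toFun := fun f => Multiplicative.ofAdd fun x => f.toAdd (x + a.toAdd)
          invFun := fun f => Multiplicative.ofAdd fun x => f.toAdd (x - a.toAdd)
          left_inv := fun f => by
            ext x
            simp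
          right_inv := fun f => by
            ext x
            simp
          map_mul' := fun f g => rfl }
      map_one' := by
        ext f x
        simp
      map_mul' := fun a b => by
        ext f x
        simp [MulAut.mul_apply, add_assoc] }
  let W := N ⋊[shift] Multiplicative (ZMod p)
  haveI : Finite N := inferInstanceAs (Finite (ZMod p → ZMod p))
  haveI : Finite W := Finite.of_equiv _ (SemidirectProduct.equivProd (φ := shift)).symm
  have hcardW : Nat.card W = p ^ (p + 1) := by
    rw [Nat.card_congr (SemidirectProduct.equivProd (φ := shift)), Nat.card_prod,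
      Nat.card_congr (Multiplicative.toAdd (α := ZMod p → ZMod p)),
      Nat.card_congr (Multiplicative.toAdd (α := ZMod p)), Nat.card_fun, Nat.card_zmod, pow_succ]
  let B : Subgroup W := (SemidirectProduct.inl (φ := shift)).range
  let σ : W := SemidirectProduct.inr (Multiplicative.ofAdd 1)
  let τ : W := SemidirectProduct.inl (Multiplicative.ofAdd (Pi.single 0 1))
  have hBker : B = (SemidirectProduct.rightHom (φ := shift)).ker :=
    SemidirectProduct.range_inl_eq_ker_rightHom
  refine ⟨W, inferInstance, inferInstance, B, σ, τ, hBker ▸ MonoidHom.normal_ker _, ⟨_, rfl⟩, ?_,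
    ?_, ?_, ?_, ?_, ?_⟩
  · rintro _ ⟨a, rfl⟩ _ ⟨b, rfl⟩
    exact (Commute.all a b).map _
  · rintro _ ⟨a, rfl⟩
    rw [← map_pow, show a ^ p = 1 by
      apply Multiplicative.toAdd.injective
      funext x
      show (p • (Multiplicative.toAdd a)) x = 0
      simp, map_one]
  · rw [hBker, commutator_eq_closure, closure_le]
    rintro _ ⟨u, v, rfl⟩
    rw [SetLike.mem_coe, MonoidHom.mem_ker, map_commutatorElement,
      commutatorElement_eq_one_iff_commute]
    exact Commute.all _ _
  · haveI := (IsPGroup.of_card hcardW).isNilpotent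
    refine Subgroup.lowerCentralSeries_eq_bot_iff_nilpotencyClass_le.2 ?_
    have h2 := CfsgLib.Transfer.nilpotencyClass_le_of_card hcardW
    have := hp.out.one_le
    omega
  · rw [← map_pow, ← map_one (SemidirectProduct.inr (φ := shift))]
    congr 1
    apply Multiplicative.toAdd.injective
    simp
  · intro hc
    have key : ∀ m, m ≤ p → ((σ * τ) ^ m).right = Multiplicative.ofAdd (m : ZMod p) ∧
        ((σ * τ) ^ m).left.toAdd 0 = if m = p then 1 else 0 := by
      intro m
      induction m with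
      | zero =>
        intro _
        rw [if_neg hp.out.ne_zero.symm]
        simp
      | succ m ih =>
        intro hm
        obtain ⟨h1, h2⟩ := ih (by omega)
        rw [if_neg (by omega)] at h2
        rw [pow_succ]
        have hl : ∀ x : ZMod p, Multiplicative.toAdd (σ * τ).left x =
            (Pi.single 0 1 : ZMod p → ZMod p) (x + 1) := fun x => zero_add _
        have hr : (σ * τ).right = Multiplicative.ofAdd (1 : ZMod p) := mul_one _
        refine ⟨?_, ?_⟩
        · rw [SemidirectProduct.mul_right, h1, hr, ← ofAdd_add, Nat.cast_succ]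
        · rw [SemidirectProduct.mul_left, h1]
          show Multiplicative.toAdd ((σ * τ) ^ m).left 0 +
            Multiplicative.toAdd (σ * τ).left (0 + (m : ZMod p)) = _
          rw [h2, hl, zero_add, zero_add, Pi.single_apply]
          refine if_congr ?_ rfl rfl
          have e : (m : ZMod p) + 1 = ((m + 1 : ℕ) : ZMod p) := by push_cast; rfl
          rw [e, ZMod.natCast_eq_zero_iff]
          exact ⟨fun hd => le_antisymm hm (Nat.le_of_dvd (Nat.succ_pos m) hd), fun e => e ▸ dvd_rfl⟩
    have h1 := (key p le_rfl).2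
    rw [hc, if_pos rfl] at h1
    simp at h1

/-- Hall–Petrescu for two elements generating a group whose derived subgroup has exponent `p`. -/
theorem pow_mul_eq {G : Type*} [Group G] [Finite G] {p : ℕ} (hp : p.Prime) (a b : G)
    (hexp : ∀ x ∈ ⁅closure ({a, b} : Set G), closure ({a, b} : Set G)⁆, x ^ p = 1) :
    ∃ c ∈ (closure ({a, b} : Set G)).lowerCentralSeries (p - 1),
      (a * b) ^ p = a ^ p * b ^ p * c := by
  set X := closure ({a, b} : Set G) with hX
  let a' : X := ⟨a, subset_closure (by simp)⟩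
  let b' : X := ⟨b, subset_closure (by simp)⟩
  set L := (⊤ : Subgroup X).lowerCentralSeries (p - 1) with hL
  let π := QuotientGroup.mk' L
  have hq : (⊤ : Subgroup (X ⧸ L)).lowerCentralSeries (p - 1) = ⊥ := by
    rw [← map_top_of_surjective π (QuotientGroup.mk'_surjective L), ← map_lowerCentralSeries,
      Subgroup.map_eq_bot_iff, QuotientGroup.ker_mk']
  obtain ⟨c, hc, he⟩ := CfsgLib.StructC.hall_petrescu hp hq (π a') (π b') 1
  have hc1 : c = 1 := by
    refine (closure_le (⊥ : Subgroup (X ⧸ L))).2 ?_ hc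
    rintro _ ⟨x, hx, rfl⟩
    have hx' : x ∈ (_root_.commutator X).map π := by
      rw [_root_.commutator_def, map_commutator,
        map_top_of_surjective π (QuotientGroup.mk'_surjective L), ← _root_.commutator_def]
      exact hx
    obtain ⟨y, hy, rfl⟩ := hx'
    have hy' : (y : G) ∈ ⁅X, X⁆ := by
      have h2 := mem_map_of_mem X.subtype hy
      rwa [_root_.commutator_def, map_commutator, ← MonoidHom.range_eq_map, range_subtype] at h2
    rw [SetLike.mem_coe, mem_bot, pow_one, ← map_pow, show y ^ p = 1 from Subtype.ext (by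
      simpa using hexp _ hy'), map_one]
  rw [hc1, mul_one, pow_one, ← map_mul, ← map_pow, ← map_pow, ← map_pow, ← map_mul] at he
  have hmem : (a' ^ p * b' ^ p)⁻¹ * (a' * b') ^ p ∈ L := QuotientGroup.eq.1 he.symm
  refine ⟨(((a' ^ p * b' ^ p)⁻¹ * (a' * b') ^ p : X) : G), ?_, ?_⟩
  · rw [← top_subtype_lowerCentralSeries]
    exact mem_map_of_mem X.subtype hmem
  · simp [a', b', mul_assoc]

variable {p : ℕ} [hp : Fact p.Prime] {n : ℕ} {P : Type*} [Group P] [Finite P]

/-- The `p`-th power map moves `LC i` exactly to `LC (i + p - 1)`. -/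
theorem IsGood.pow_step (h : IsMC p n P) {s : P} (hs : IsGood n s) {i : ℕ} (h1 : 1 ≤ i) {u : P}
    (hu : u ∈ LC P i) (ih : ∀ x ∈ LC P (i + 1), x ^ p ∈ LC P (i + p)) :
    u ^ p ∈ LC P (i + p - 1) ∧
      (u ∉ LC P (i + 1) → i + p ≤ n - 1 → u ^ p ∉ LC P (i + p)) := by
  have hp2 := hp.out.two_le
  obtain ⟨W, _, _, Bs, σ, τ, hBn, hτ, hBc, hBe, hWB, hWp, hσ, hστ⟩ := exists_model p
  let π := QuotientGroup.mk' (LC P (i + p))
  let S : (P ⧸ LC P (i + p)) × W := (π s, σ)
  let U : (P ⧸ LC P (i + p)) × W := (π u, τ)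
  let X := closure ({S, U} : Set ((P ⧸ LC P (i + p)) × W))
  let cc : ℕ → P := fun m => Nat.rec u (fun _ c => ⁅c, s⁆) m
  let dd : ℕ → W := fun m => Nat.rec τ (fun _ c => ⁅c, σ⁆) m
  let C : ℕ → (P ⧸ LC P (i + p)) × W := fun m => (π (cc m), dd m)
  let B : ℕ → Subgroup ((P ⧸ LC P (i + p)) × W) := fun m =>
    ((LC P (i + m)).map π).prod (LC W m)
  have hcc : ∀ m, cc m ∈ LC P (i + m) := by
    intro m
    induction m with
    | zero => exact hu
    | succ m ihm => exact comm_LC_left ihm s
  have hdd : ∀ m, dd m ∈ LC W m ∧ dd m ∈ Bs := by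
    intro m
    induction m with
    | zero => exact ⟨mem_top _, hτ⟩
    | succ m ihm =>
      refine ⟨comm_LC_left ihm.1 σ, ?_⟩
      show ⁅dd m, σ⁆ ∈ Bs
      rw [commutatorElement_def, mul_assoc, mul_assoc, ← mul_assoc σ]
      exact mul_mem ihm.2 (hBn.conj_mem _ (inv_mem ihm.2) σ)
  have hCB : ∀ m, C m ∈ B m := fun m => mem_prod.2 ⟨mem_map_of_mem π (hcc m), (hdd m).1⟩
  have hcomm : ∀ m, ∀ x ∈ B m, ∀ g, ⁅x, g⁆ ∈ B (m + 1) := by
    intro m x hx g
    obtain ⟨⟨a, ha, hae⟩, hx2⟩ := mem_prod.1 hx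
    obtain ⟨b, hb⟩ := QuotientGroup.mk'_surjective _ g.1
    refine mem_prod.2 ⟨⟨⁅a, b⁆, comm_LC_left ha b, ?_⟩, comm_LC_left hx2 g.2⟩
    rw [map_commutatorElement, hae, show π b = g.1 from hb]
    rfl
  have hBle : ∀ m, B (m + 1) ≤ B m := fun m => prod_mono (map_mono (LC_le (by omega))) (LC_le (by omega))
  have hDn : ∀ m, (zpowers (C m) ⊔ B (m + 1)).Normal := by
    intro m
    refine ⟨fun d hd g => ?_⟩
    have hdB : d ∈ B m := (sup_le (zpowers_le.2 (hCB m)) (hBle m)) hd
    rw [show g * d * g⁻¹ = ⁅d, g⁆⁻¹ * d by simp [commutatorElement_def, mul_assoc]]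
    exact mul_mem (mem_sup_right (inv_mem (hcomm m d hdB g))) hd
  have hCU : ∀ m, ⁅C m, U⁆ ∈ B (m + 2) := by
    intro m
    refine mem_prod.2 ⟨⟨⁅cc m, u⁆, comm_LC (hcc m) hu (by omega), map_commutatorElement _ _ _⟩, ?_⟩
    show ⁅dd m, τ⁆ ∈ _
    rw [commutatorElement_eq_one_iff_commute.2 (hBc _ (hdd m).2 _ hτ)]
    exact one_mem _
  have hlcs : ∀ m, 1 ≤ m → X.lowerCentralSeries m ≤ zpowers (C m) ⊔ B (m + 1) := by
    intro m
    induction m with
    | zero => omega
    | succ m ihm =>
      intro _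
      haveI := hDn (m + 1)
      have hS : ⁅C m, S⁆ ∈ zpowers (C (m + 1)) ⊔ B (m + 1 + 1) :=
        mem_sup_left (mem_zpowers_iff.2 ⟨1, by
          rw [zpow_one]; exact Prod.ext (map_commutatorElement π _ _) rfl⟩)
      rw [Subgroup.lowerCentralSeries_succ]
      rcases Nat.eq_zero_or_pos m with rfl | hm
      · rw [Subgroup.lowerCentralSeries_zero]
        refine commutator_closure_le ?_
        have e : C 0 = U := rfl
        rintro a (rfl | rfl) b (rfl | rfl)
        · rw [commutatorElement_self]; exact one_mem _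
        · rw [← commutatorElement_inv, ← e]; exact inv_mem hS
        · rw [← e]; exact hS
        · rw [commutatorElement_self]; exact one_mem _
      · refine (commutator_mono (ihm hm) le_rfl).trans ?_
        rw [show zpowers (C m) ⊔ B (m + 1) = closure ({C m} ∪ (B (m + 1) : Set _)) by
          rw [Subgroup.closure_union, ← zpowers_eq_closure, closure_eq]]
        refine commutator_closure_le ?_
        rintro a (rfl | ha) b (rfl | rfl)
        · exact hS
        · exact mem_sup_right (hCU m)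
        · exact mem_sup_right (hcomm _ a ha _)
        · exact mem_sup_right (hcomm _ a ha _)
  -- the derived subgroup of `X` has exponent `p`
  have hXe : ∀ x ∈ ⁅X, X⁆, x ^ p = 1 := by
    intro x hx
    have hx1 : x ∈ B 1 := by
      refine sup_le (zpowers_le.2 (hCB 1)) (hBle 1) (hlcs 1 le_rfl ?_)
      rw [Subgroup.lowerCentralSeries_succ, Subgroup.lowerCentralSeries_zero]
      exact hx
    obtain ⟨⟨a, ha, hae⟩, hx2⟩ := mem_prod.1 hx1
    refine Prod.ext ?_ ?_
    · show x.1 ^ p = 1
      rw [← hae, ← map_pow]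
      exact (QuotientGroup.eq_one_iff _).2 (ih a ha)
    · show x.2 ^ p = 1
      refine hBe _ (hWB ?_)
      rwa [LC, top_lowerCentralSeries_one] at hx2
  obtain ⟨c, hc, he⟩ := pow_mul_eq hp.out S U hXe
  have hc' : c ∈ zpowers (C (p - 1)) := by
    have h2 := hlcs (p - 1) (by omega) hc
    rwa [show p - 1 + 1 = p by omega, show B p = ⊥ by
      show ((LC P (i + p)).map π).prod (LC W p) = ⊥
      rw [hWp, (Subgroup.map_eq_bot_iff _).2 (by rw [QuotientGroup.ker_mk']), bot_prod_bot],
      sup_bot_eq] at h2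
  obtain ⟨e, rfl⟩ := mem_zpowers_iff.1 hc'
  have e1 : (π s * π u) ^ p = π s ^ p * π u ^ p * π (cc (p - 1)) ^ e := congrArg Prod.fst he
  have e2 : (σ * τ) ^ p = σ ^ p * τ ^ p * dd (p - 1) ^ e := congrArg Prod.snd he
  rw [hσ, hBe _ hτ, one_mul, one_mul] at e2
  rw [← map_mul, ← map_pow, hs.mul_pow h (LC_le h1 hu), map_pow, mul_assoc, left_eq_mul,
    ← map_pow, ← map_zpow, ← map_mul, QuotientGroup.mk'_apply, QuotientGroup.eq_one_iff] at e1
  refine ⟨?_, fun hu' hip hc2 => ?_⟩
  · have h2 : u ^ p * cc (p - 1) ^ e ∈ LC P (i + p - 1) := LC_le (by omega) e1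
    have h3 : cc (p - 1) ^ e ∈ LC P (i + p - 1) := by
      have h4 := hcc (p - 1)
      rw [show i + (p - 1) = i + p - 1 by omega] at h4
      exact zpow_mem h4 e
    have h5 := mul_mem h2 (inv_mem h3)
    rwa [mul_inv_cancel_right] at h5
  · have hnd : ¬ (p : ℤ) ∣ e := by
      rintro ⟨k, rfl⟩
      refine hστ ?_
      rw [e2, zpow_mul, zpow_natCast, hBe _ (hdd (p - 1)).2, one_zpow]
    have hccn : ∀ m, m ≤ p - 1 → cc m ∉ LC P (i + m + 1) := by
      intro m
      induction m with
      | zero => exact fun _ => hu'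
      | succ m ihm =>
        intro hm hmem
        refine hs.comm_not_mem h (i := i + m) (by omega) (by omega) (hcc m) (ihm (by omega)) ?_
        rw [← commutatorElement_inv]
        refine inv_mem ?_
        rwa [show i + (m + 1) + 1 = i + m + 2 by omega] at hmem
    refine hccn (p - 1) le_rfl ?_
    rw [show i + (p - 1) + 1 = i + p by omega, ← QuotientGroup.eq_one_iff]
    set q : P ⧸ LC P (i + p) := QuotientGroup.mk (cc (p - 1))
    have hq1 : q ^ e = 1 := by
      show π (cc (p - 1)) ^ e = 1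
      rw [← map_zpow]
      refine (QuotientGroup.eq_one_iff _).2 ?_
      have h2 := mul_mem (inv_mem hc2) e1
      rwa [inv_mul_cancel_left] at h2
    have hq2 : q ^ (p : ℤ) = 1 := by
      rw [zpow_natCast, ← QuotientGroup.mk_pow, QuotientGroup.eq_one_iff]
      exact ih _ (LC_le (by omega) (hcc (p - 1)))
    have h3 : (orderOf q : ℤ) ∣ e := orderOf_dvd_iff_zpow_eq_one.2 hq1
    have h4 : (orderOf q : ℤ) ∣ (p : ℤ) := orderOf_dvd_iff_zpow_eq_one.2 hq2
    rw [← orderOf_eq_one_iff]
    rcases (Nat.dvd_prime hp.out).1 (Int.natCast_dvd_natCast.1 h4) with e' | e'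
    · exact e'
    · exact absurd (e' ▸ h3) hnd

theorem IsGood.pow_mem (h : IsMC p n P) {s : P} (hs : IsGood n s) :
    ∀ d i, 1 ≤ i → n - i ≤ d → ∀ u ∈ LC P i, u ^ p ∈ LC P (i + p - 1) := by
  have := h.three_le
  intro d
  induction d with
  | zero =>
    intro i h1 hi u hu
    rw [h.LC_eq_bot (show n - 1 ≤ i by omega), mem_bot] at hu
    rw [hu, one_pow]
    exact one_mem _
  | succ d ih =>
    intro i h1 hi u hu
    refine (hs.pow_step h h1 hu fun x hx => ?_).1
    have h2 := ih (i + 1) (by omega) (by omega) x hx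
    rwa [show i + 1 + p - 1 = i + p by omega] at h2

theorem IsGood.pow_not_mem (h : IsMC p n P) {s : P} (hs : IsGood n s) {i : ℕ} (h1 : 1 ≤ i)
    {u : P} (hu : u ∈ LC P i) (hu' : u ∉ LC P (i + 1)) (hi : i + p ≤ n - 1) :
    u ^ p ∉ LC P (i + p) := by
  refine (hs.pow_step h h1 hu fun x hx => ?_).2 hu' hi
  have h2 := hs.pow_mem h n (i + 1) (by omega) (by omega) x hx
  rwa [show i + 1 + p - 1 = i + p by omega] at h2

theorem IsGood.TC_le (h : IsMC p n P) {s : P} (hs : IsGood n s) {i : ℕ} (h1 : 1 ≤ i)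
    (hi : i + p + 2 ≤ n) : TC P i ≤ TC P (i + p - 1) := by
  have hp2 := hp.out.two_le
  intro g hg
  obtain ⟨u, hu, hu'⟩ := h.exists_mem_not_mem h1 (by omega)
  let w := u⁻¹ * (g * u * g⁻¹)
  have hw : w ∈ LC P (i + 2) := by
    have h2 := mem_TC_iff.1 hg u hu
    have e : w = u⁻¹ * ⁅g, u⁆ * u := by simp [w, commutatorElement_def, mul_assoc]
    rw [e]
    simpa using (inferInstance : (LC P (i + 2)).Normal).conj_mem _ h2 u⁻¹
  let π := QuotientGroup.mk' (LC P (i + p + 1))
  let X := closure ({π u, π w} : Set (P ⧸ LC P (i + p + 1)))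
  have hXle : X ≤ (LC P i).map π := by
    rw [closure_le]
    rintro _ (rfl | rfl)
    · exact mem_map_of_mem π hu
    · exact mem_map_of_mem π (LC_le (by omega) hw)
  have hlcs : ∀ m, 1 ≤ m → X.lowerCentralSeries m ≤ (LC P (i + 2 + m)).map π := by
    intro m
    induction m with
    | zero => omega
    | succ m ihm =>
      intro _
      haveI : ((LC P (i + 2 + (m + 1))).map π).Normal :=
        (inferInstance : (LC P (i + 2 + (m + 1))).Normal).map _ (QuotientGroup.mk'_surjective _)
      rw [Subgroup.lowerCentralSeries_succ]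
      rcases Nat.eq_zero_or_pos m with rfl | hm
      · rw [Subgroup.lowerCentralSeries_zero]
        refine commutator_closure_le ?_
        rintro a (rfl | rfl) b (rfl | rfl)
        · rw [commutatorElement_self]; exact one_mem _
        · exact ⟨_, comm_LC hu hw (by omega), map_commutatorElement π _ _⟩
        · exact ⟨_, comm_LC hw hu (by omega), map_commutatorElement π _ _⟩
        · rw [commutatorElement_self]; exact one_mem _
      · refine (commutator_mono (ihm hm) hXle).trans ?_
        rw [← map_commutator]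
        exact map_mono (commutator_le.2 fun a ha b hb => comm_LC ha hb (by omega))
  have hXe : ∀ x ∈ ⁅X, X⁆, x ^ p = 1 := by
    intro x hx
    obtain ⟨a, ha, rfl⟩ := hlcs 1 le_rfl (by rwa [Subgroup.lowerCentralSeries_succ, Subgroup.lowerCentralSeries_zero])
    rw [← map_pow]
    refine (QuotientGroup.eq_one_iff _).2 (LC_le ?_ (hs.pow_mem h n (i + 2 + 1) (by omega) (by omega) a ha))
    omega
  obtain ⟨c, hc, he⟩ := pow_mul_eq hp.out (π u) (π w) hXe
  have hc1 : c = 1 := by
    have h2 := hlcs (p - 1) (by omega) hc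
    rwa [(Subgroup.map_eq_bot_iff _).2 (by rw [QuotientGroup.ker_mk']; exact LC_le (by omega)),
      mem_bot] at h2
  have hwp : π w ^ p = 1 := by
    rw [← map_pow]
    exact (QuotientGroup.eq_one_iff _).2
      (LC_le (by omega) (hs.pow_mem h n (i + 2) (by omega) (by omega) w hw))
  rw [hc1, hwp, mul_one, mul_one, ← map_mul, show u * w = g * u * g⁻¹ from mul_inv_cancel_left u _,
    ← map_pow, conj_pow, ← map_pow] at he
  have h2 : (u ^ p)⁻¹ * (g * u ^ p * g⁻¹) ∈ LC P (i + p + 1) := QuotientGroup.eq.1 he.symm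
  have h3 : ⁅g, u ^ p⁆ ∈ LC P (i + p + 1) := by
    have h4 := (inferInstance : (LC P (i + p + 1)).Normal).conj_mem _ h2 (u ^ p)
    rwa [mul_inv_cancel_left, ← commutatorElement_def] at h4
  by_contra hg'
  refine h.comm_not_mem (i := i + p - 1) (by omega) hg' (hs.pow_mem h n i h1 (by omega) u hu) ?_ ?_
  · rw [show i + p - 1 + 1 = i + p by omega]
    exact hs.pow_not_mem h h1 hu hu' (by omega)
  · rwa [show i + p - 1 + 2 = i + p + 1 by omega]

theorem IsGood.exists_small_TC (h : IsMC p n P) {s : P} (hs : IsGood n s) (j : ℕ) :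
    1 ≤ j → j + 3 ≤ n → ∃ i, 1 ≤ i ∧ i ≤ p - 1 ∧ TC P j = TC P i := by
  induction j using Nat.strong_induction_on with
  | _ j ih =>
    intro h1 hj
    have hp2 := hp.out.two_le
    rcases le_or_gt j (p - 1) with hle | hlt
    · exact ⟨j, h1, hle, rfl⟩
    obtain ⟨i, hi1, hi2, hie⟩ := ih (j - (p - 1)) (by omega) (by omega) (by omega)
    refine ⟨i, hi1, hi2, ?_⟩
    rw [← hie]
    have hle := hs.TC_le h (i := j - (p - 1)) (by omega) (by omega)
    rw [show j - (p - 1) + p - 1 = j by omega] at hle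
    refine (eq_of_le_of_card_ge hle ?_).symm
    have e1 := (TC P j).card_mul_index
    have e2 := (TC P (j - (p - 1))).card_mul_index
    rw [h.TC_index h1 hj] at e1
    rw [h.TC_index (by omega) (by omega)] at e2
    exact (Nat.eq_of_mul_eq_mul_right hp.out.pos (e1.trans e2.symm)).le

/-- Transport along a surjection whose kernel is the centre. -/
theorem IsMC.of_surjective {Q : Type*} [Group Q] (h : IsMC p n P) (hn : 4 ≤ n) (f : P →* Q)
    (hf : Function.Surjective f) (hk : f.ker = center P) : IsMC p (n - 1) Q := by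
  have hc := CfsgLib.Transfer.card_center_of_maxClass h.three_le h.card_eq h.class_eq
  haveI := h.isNilpotent
  have e : P ⧸ center P ≃* Q :=
    (QuotientGroup.quotientMulEquivOfEq hk.symm).trans
      (QuotientGroup.quotientKerEquivOfSurjective f hf)
  refine ⟨by omega, by rw [← Nat.card_congr e.toEquiv]; exact hc.2.1, ?_⟩
  haveI : Group.IsNilpotent Q := Group.nilpotent_of_mulEquiv e
  rw [← hc.2.2]
  refine le_antisymm ?_ ?_
  · exact Group.nilpotencyClass_le_of_surjective e.toMonoidHom e.surjective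
  · exact Group.nilpotencyClass_le_of_surjective e.symm.toMonoidHom e.symm.surjective

theorem map_LC {Q : Type*} [Group Q] (f : P →* Q) (hf : Function.Surjective f) (i : ℕ) :
    (LC P i).map f = LC Q i := by
  rw [LC, map_lowerCentralSeries, map_top_of_surjective f hf]

theorem IsGood.map {Q : Type*} [Group Q] (h : IsMC p n P) (hn : 4 ≤ n) (f : P →* Q)
    (hf : Function.Surjective f) (hk : f.ker = center P) {s : P} (hs : IsGood n s) :
    IsGood (n - 1) (f s) := by
  have hker : ∀ i, i ≤ n - 2 → f.ker ≤ LC P i := fun i hi => by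
    rw [hk, h.center_eq]; exact LC_le hi
  refine ⟨fun hc => hs.1 ?_, fun i h1 hi hc => hs.2 i h1 (by omega) ?_⟩
  · have h2 : s ∈ ((LC P 1).map f).comap f := by rw [mem_comap, map_LC f hf]; exact hc
    rwa [comap_map_eq, sup_eq_left.2 (hker 1 (by omega))] at h2
  · refine mem_TC_iff.2 fun u hu => ?_
    have h2 := mem_TC_iff.1 hc (f u) (by rw [← map_LC f hf]; exact mem_map_of_mem f hu)
    rw [← map_commutatorElement, ← map_LC f hf, ← mem_comap, comap_map_eq,
      sup_eq_left.2 (hker (i + 2) (by omega))] at h2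
    exact h2

end Powers

section Existence

variable {p : ℕ} [hp : Fact p.Prime]

private theorem exists_two_good_aux : ∀ (n : ℕ) {P : Type u} [Group P] [Finite P], IsMC p n P →
    ∃ s t : P, IsGood n s ∧ IsGood n t ∧ t ∉ zpowers s ⊔ LC P 1 := by
  intro n
  induction n using Nat.strong_induction_on with
  | _ n ih =>
    intro P _ _ h
    have := h.three_le
    have hout : ∀ H : Subgroup P, H.index = p → ∃ x : P, x ∉ H := by
      intro H hH
      by_contra hc
      push Not at hc
      rw [show H = ⊤ from eq_top_iff.2 (fun x _ => hc x), index_top] at hH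
      exact hp.out.ne_one hH.symm
    by_cases hn : n = 3
    · subst hn
      have hL1 : LC P 1 ≠ ⊤ := by
        intro e
        have h2 := h.card_LC le_rfl (by omega)
        rw [e, card_top, h.card_eq] at h2
        have := Nat.pow_right_injective hp.out.two_le h2
        omega
      obtain ⟨s, -, hs⟩ := SetLike.exists_of_lt (lt_top_iff_ne_top.2 hL1)
      obtain ⟨t, ht⟩ := hout _ (h.line_index hs)
      exact ⟨s, t, ⟨hs, fun i _ hi => by omega⟩,
        ⟨fun hc => ht (mem_sup_right hc), fun i _ hi => by omega⟩, ht⟩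
    have hn4 : 4 ≤ n := by omega
    -- a good element of `P`, lifted from the quotient by the centre
    let π := QuotientGroup.mk' (center P)
    have hπ := QuotientGroup.mk'_surjective (center P)
    have hQ : IsMC p (n - 1) (P ⧸ center P) := h.of_surjective hn4 π hπ (QuotientGroup.ker_mk' _)
    obtain ⟨s', t', hs', ht', hst⟩ := ih (n - 1) (by omega) hQ
    obtain ⟨s, rfl⟩ := hπ s'
    obtain ⟨t, rfl⟩ := hπ t'
    have hlift : ∀ x : P, IsGood (n - 1) (π x) → x ∉ TC P (n - 3) → IsGood n x := by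
      intro x hx hxK
      refine ⟨fun hc => hx.1 (by rw [← map_LC π hπ]; exact mem_map_of_mem π hc), fun i h1 hi hc => ?_⟩
      rcases (show i + 3 = n ∨ i + 3 ≤ n - 1 by omega) with e | e
      · exact hxK (show i = n - 3 by omega ▸ hc)
      · refine hx.2 i h1 e (mem_TC_iff.2 ?_)
        rw [← map_LC π hπ i, ← map_LC π hπ (i + 2)]
        rintro _ ⟨u, hu, rfl⟩
        exact ⟨_, mem_TC_iff.1 hc u hu, map_commutatorElement π _ _⟩
    have hs1 : s ∉ LC P 1 := fun hc => hs'.1 (by rw [← map_LC π hπ]; exact mem_map_of_mem π hc)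
    have hts : t ∉ zpowers s ⊔ LC P 1 := fun hc => hst (by
      rw [← map_LC π hπ, ← MonoidHom.map_zpowers, ← Subgroup.map_sup]; exact mem_map_of_mem π hc)
    obtain ⟨s0, hs0⟩ : ∃ s0 : P, IsGood n s0 := by
      by_cases hsK : s ∈ TC P (n - 3)
      · refine ⟨t, hlift t ht' fun htK => h.TC_ne_top (i := n - 3) (by omega) (by omega) ?_⟩
        exact h.eq_top_of_gen hs1 hts (LC_one_le_TC _) hsK htK
      · exact ⟨s, hlift s hs' hsK⟩
    -- count the lines
    classical
    haveI : Fintype (Subgroup P) := Fintype.ofFinite _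
    let bad : Finset (Subgroup P) :=
      ((Finset.Icc 1 (p - 1)).image (fun i => TC P i))
    let lines : Finset (Subgroup P) := Finset.univ.filter fun N => N.Normal ∧ N.index = p
    have hlines : lines.card = p + 1 := by
      rw [← CfsgLib.PGroup.maxClass_card_normal_index_prime h.three_le h.card_eq h.class_eq,
        Nat.card_eq_fintype_card, Fintype.card_subtype]
    have hbad : bad.card ≤ p - 1 := Finset.card_image_le.trans (by simp)
    have h2 : 1 < (lines \ bad).card := by
      have := Finset.le_card_sdiff bad lines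
      have := hp.out.two_le
      omega
    obtain ⟨H1, hH1, H2, hH2, hne⟩ := Finset.one_lt_card.1 h2
    have key : ∀ H ∈ lines \ bad, ∃ x : P, IsGood n x ∧ zpowers x ⊔ LC P 1 = H := by
      intro H hH
      obtain ⟨hHl, hHb⟩ := Finset.mem_sdiff.1 hH
      obtain ⟨-, hHn, hHi⟩ := Finset.mem_filter.1 hHl
      haveI := hHn
      have hLH : LC P 1 ≤ H := by
        haveI : IsCyclic (P ⧸ H) := isCyclic_of_prime_card (p := p) (by rw [← index_eq_card, hHi])
        rw [LC, top_lowerCentralSeries_one, commutator_eq_closure, closure_le]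
        rintro _ ⟨a, b, rfl⟩
        rw [SetLike.mem_coe, ← QuotientGroup.eq_one_iff]
        letI := IsCyclic.commGroup (α := P ⧸ H)
        simp only [commutatorElement_def, QuotientGroup.mk_mul, QuotientGroup.mk_inv,
          mul_inv_cancel_comm, mul_inv_cancel]
      obtain ⟨x, hxH, hx⟩ : ∃ x ∈ H, x ∉ LC P 1 := by
        by_contra hc
        push Not at hc
        have e1 := H.card_mul_index
        have e2 := Subgroup.card_le_of_le (show H ≤ LC P 1 from hc)
        rw [h.card_LC le_rfl (by omega)] at e2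
        rw [hHi, h.card_eq] at e1
        have e3 : p ^ n ≤ p ^ (n - 1 - 1 + 1) := by
          rw [← e1, pow_succ]; exact Nat.mul_le_mul_right p e2
        rw [Nat.pow_le_pow_iff_right hp.out.one_lt] at e3
        omega
      have hxe : zpowers x ⊔ LC P 1 = H := by
        refine eq_of_le_of_card_ge (sup_le (zpowers_le.2 hxH) hLH) ?_
        have e1 := H.card_mul_index
        have e2 := (zpowers x ⊔ LC P 1).card_mul_index
        rw [hHi] at e1
        rw [h.line_index hx] at e2
        exact (Nat.eq_of_mul_eq_mul_right hp.out.pos (e1.trans e2.symm)).le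
      refine ⟨x, ⟨hx, fun i h1 hi hc => hHb ?_⟩, hxe⟩
      obtain ⟨j, hj1, hj2, hje⟩ := hs0.exists_small_TC h i h1 hi
      refine Finset.mem_image.2 ⟨j, Finset.mem_Icc.2 ⟨hj1, hj2⟩, ?_⟩
      show TC P j = H
      rw [← hje, ← hxe]
      refine (eq_of_le_of_card_ge (sup_le (zpowers_le.2 hc) (LC_one_le_TC i)) ?_).symm
      have e1 := (TC P i).card_mul_index
      have e2 := (zpowers x ⊔ LC P 1).card_mul_index
      rw [h.TC_index h1 hi] at e1
      rw [h.line_index hx] at e2
      exact (Nat.eq_of_mul_eq_mul_right hp.out.pos (e1.trans e2.symm)).le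
    obtain ⟨x, hx, hxe⟩ := key H1 hH1
    obtain ⟨y, hy, hye⟩ := key H2 hH2
    refine ⟨x, y, hx, hy, fun hc => hne ?_⟩
    rw [← hxe, ← hye]
    refine (eq_of_le_of_card_ge (sup_le (zpowers_le.2 hc) le_sup_right) ?_).symm
    rw [card_zpowers_sup hx.1 (h.pow_mem_LC_one x), card_zpowers_sup hy.1 (h.pow_mem_LC_one y)]

/-- A `p`-group of maximal class has two good elements, independent modulo the derived group. -/
theorem IsMC.exists_two_good {n : ℕ} {P : Type u} [Group P] [Finite P] (h : IsMC p n P) :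
    ∃ s t : P, IsGood n s ∧ IsGood n t ∧ t ∉ zpowers s ⊔ LC P 1 :=
  exists_two_good_aux n h

end Existence

end CfsgLib.Coprime.MaxClassUniform
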