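import Mathlib.GroupTheory.Transfer
import Mathlib.RingTheory.Coprime.Lemmas
import Cfsg.Agent.Lib.Coprime.Sylow
import Cfsg.Agent.Lib.Solvable.Nilpotent
import Cfsg.Prelude.Def_Transfer
set_option autoImplicit false

/-!
Groups in which centralizers of noncentral elements are maximal.
-/

namespace CfsgLib.Coprime

open Subgroup
open scoped commutatorElement

section General

variable {G : Type*} [Group G]

theorem not_dvd_index_of_normalizer [Finite G] {p : ℕ} [Fact p.Prime] {H M : Subgroup G} (hH : IsPGroup p H)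
    (hHM : H ≤ M) (hN : normalizer (H : Set G) ≤ M) (h : ¬ p ∣ H.relIndex M) : ¬ p ∣ H.index := by
  intro hd
  obtain ⟨n, hn⟩ := IsPGroup.iff_card.1 hH
  have h1 := Sylow.card_quotient_normalizer_modEq_card_quotient hn
  rw [← index_eq_card, ← index_eq_card] at h1
  have h2 : p ∣ H.relIndex (normalizer (H : Set G)) := by
    have := (Nat.modEq_zero_iff_dvd).1 (h1.trans (Nat.modEq_zero_iff_dvd.2 hd))
    exact this
  exact h (h2.trans ⟨_, (relIndex_mul_relIndex H _ M le_normalizer hN).symm⟩)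

/-- A self-normalizing TI abelian subgroup has a normal complement. -/
theorem exists_normal_complement_of_ti [Finite G] (M : Subgroup G) (hab : ∀ a ∈ M, ∀ b ∈ M, a * b = b * a)
    (hti : ∀ g : G, ∀ a ∈ M, a ≠ 1 → g * a * g⁻¹ ∈ M → g ∈ M) :
    ∃ K : Subgroup G, K.Normal ∧ K ⊓ M = ⊥ ∧ Nat.card K * Nat.card M = Nat.card G ∧
      (Nat.card K).Coprime (Nat.card M) ∧ ∀ g : G, ∃ k ∈ K, ∃ m ∈ M, g = k * m := by
  classical
  let _ : CommGroup M := { (inferInstance : Group M) with mul_comm := fun a b => Subtype.ext (hab a a.2 b b.2) }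
  have hcop : M.index.Coprime (Nat.card M) := by
    refine Nat.coprime_of_dvd fun p hp hpi hpM => ?_
    have : Fact p.Prime := ⟨hp⟩
    obtain ⟨S⟩ := (inferInstance : Nonempty (Sylow p M))
    have hne : (S : Subgroup M) ≠ ⊥ := S.ne_bot_of_dvd_card hpM
    obtain ⟨⟨s, hs⟩, hs1⟩ := ne_bot_iff_exists_ne_one.1 hne
    have hN : normalizer (((S : Subgroup M).map M.subtype : Subgroup G) : Set G) ≤ M := fun g hg =>
      hti g s s.2 (fun h => hs1 (Subtype.ext (Subtype.ext h)))
        (map_subtype_le _ ((mem_normalizer_iff.1 hg (s : G)).1 ⟨s, hs, rfl⟩))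
    have hrel : ((S : Subgroup M).map M.subtype).relIndex M = (S : Subgroup M).index := by
      rw [relIndex, subgroupOf, comap_map_eq_self_of_injective M.subtype_injective]
    have h1 := not_dvd_index_of_normalizer (S.2.map M.subtype) (map_subtype_le _) hN (hrel ▸ S.not_dvd_index)
    exact h1 (hpi.trans (index_dvd_of_le (map_subtype_le _)))
  set φ := MonoidHom.transfer (MonoidHom.id M)
  have hφ : ∀ m : M, φ (m : G) = m ^ M.index := by
    intro m
    have hk : ∀ (k : ℕ) (g₀ : G), g₀⁻¹ * (m : G) ^ k * g₀ ∈ M → g₀⁻¹ * (m : G) ^ k * g₀ = (m : G) ^ k := by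
      intro k g₀ h
      by_cases h1 : (m : G) ^ k = 1
      · rw [h1, mul_one, inv_mul_cancel]
      have hg : g₀ ∈ M := by
        have := hti g₀⁻¹ _ (pow_mem m.2 k) h1 (by rwa [inv_inv])
        exact inv_mem_iff.1 this
      rw [mul_assoc, hab _ (pow_mem m.2 k) _ hg, inv_mul_cancel_left]
    rw [MonoidHom.transfer_eq_pow (MonoidHom.id M) (m : G) hk]
    exact Subtype.ext rfl
  have hsurj : ∀ m : M, ∃ a : M, φ (a : G) = m := fun m => by
    obtain ⟨a, ha⟩ := (powCoprime (G := M) hcop.symm).surjective m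
    exact ⟨a, by rw [hφ]; exact ha⟩
  refine ⟨φ.ker, inferInstance, ?_, ?_, ?_, fun g => ?_⟩
  · rw [eq_bot_iff]
    rintro x ⟨hxK, hxM⟩
    have h : (⟨x, hxM⟩ : M) ^ M.index = 1 := by rw [← hφ]; exact hxK
    have := (powCoprime (G := M) hcop.symm).injective (a₁ := ⟨x, hxM⟩) (a₂ := 1)
      (by simp only [powCoprime_apply, one_pow]; exact h)
    exact mem_bot.2 (congrArg Subtype.val this)
  · rw [← card_mul_index φ.ker, index_ker, MonoidHom.range_eq_top.2 fun m => (hsurj m).imp' _ fun a ha => ha,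
      card_top]
  · have h1 : φ.ker.index = Nat.card M := by
      rw [index_ker, MonoidHom.range_eq_top.2 fun m => (hsurj m).imp' _ fun a ha => ha, card_top]
    have h2 := card_mul_index φ.ker
    rw [h1, ← card_mul_index M, mul_comm (Nat.card M)] at h2
    rw [Nat.eq_of_mul_eq_mul_right Nat.card_pos h2]
    exact hcop
  · obtain ⟨a, ha⟩ := hsurj (φ g)
    exact ⟨g * (a : G)⁻¹, MonoidHom.mem_ker.2 (by rw [map_mul, map_inv, ha, mul_inv_cancel]), a, a.2,
      (inv_mul_cancel_right _ _).symm⟩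

end General

variable {G : Type*} [Group G] [Finite G]
  (h : ∀ x : G, x ∉ center G → IsCoatom (centralizer ({x} : Set G)))

include h

omit [Finite G] in
theorem maxCent_eq {x y : G} (hx : x ∉ center G) (hy : y ∉ center G)
    (hle : centralizer ({x} : Set G) ≤ centralizer ({y} : Set G)) :
    centralizer ({x} : Set G) = centralizer ({y} : Set G) :=
  (hle.eq_or_lt.resolve_right fun hlt => (h y hy).1 ((h x hx).2 _ hlt))

/-- A commuting element of coprime order has the same centralizer. -/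
theorem maxCent_coprime {x u : G} (hx : x ∉ center G) (hu : u ∈ centralizer ({x} : Set G))
    (hcop : (orderOf x).Coprime (orderOf u)) (huc : u ∉ center G) :
    centralizer ({u} : Set G) = centralizer ({x} : Set G) := by
  have hc : Commute x u := (mem_centralizer_singleton_iff.1 hu).symm
  obtain ⟨s, t, hst⟩ := Nat.isCoprime_iff_coprime.2 hcop
  have ex : (x * u) ^ (t * (orderOf u : ℤ)) = x := by
    rw [hc.mul_zpow, mul_comm t, zpow_mul u, zpow_natCast, pow_orderOf_eq_one, one_zpow, mul_one,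
      show (orderOf u : ℤ) * t = 1 + (-s) * (orderOf x : ℤ) by linarith, zpow_add, zpow_one, mul_comm (-s),
      zpow_mul, zpow_natCast, pow_orderOf_eq_one, one_zpow, mul_one]
  have eu : (x * u) ^ (s * (orderOf x : ℤ)) = u := by
    rw [hc.mul_zpow, mul_comm s, zpow_mul x, zpow_natCast, pow_orderOf_eq_one, one_zpow, one_mul,
      show (orderOf x : ℤ) * s = 1 + (-t) * (orderOf u : ℤ) by linarith, zpow_add, zpow_one, mul_comm (-t),
      zpow_mul, zpow_natCast, pow_orderOf_eq_one, one_zpow, mul_one]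
  have hxu : x * u ∉ center G := fun hm => hx (ex ▸ zpow_mem hm _)
  have hle : ∀ k : ℤ, centralizer ({x * u} : Set G) ≤ centralizer ({(x * u) ^ k} : Set G) := fun k g hg =>
    mem_centralizer_singleton_iff.2 ((show Commute g (x * u) from mem_centralizer_singleton_iff.1 hg).zpow_right k).eq
  have h1 := hle (t * (orderOf u : ℤ))
  rw [ex] at h1
  have h2 := hle (s * (orderOf x : ℤ))
  rw [eu] at h2
  rw [← maxCent_eq h hxu hx h1, maxCent_eq h hxu huc h2]

theorem exists_primePow_noncentral {x : G} (hx : x ∉ center G) :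
    ∃ p : ℕ, p.Prime ∧ ∃ k a : ℕ, orderOf (x ^ k) = p ^ a ∧ x ^ k ∉ center G := by
  have hd : 1 < orderOf (QuotientGroup.mk' (center G) x) := by
    have h0 := orderOf_pos (QuotientGroup.mk' (center G) x)
    by_contra hle
    exact hx ((QuotientGroup.eq_one_iff x).1 (orderOf_eq_one_iff.1 (show orderOf (QuotientGroup.mk' (center G) x) = 1 by omega)))
  set p := (orderOf (QuotientGroup.mk' (center G) x)).minFac with hp
  have hpp : p.Prime := Nat.minFac_prime (by omega)
  refine ⟨p, hpp, orderOf x / p ^ (orderOf x).factorization p, (orderOf x).factorization p, ?_, ?_⟩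
  · have hne : orderOf x / p ^ (orderOf x).factorization p ≠ 0 := (Nat.ordCompl_pos p (orderOf_pos x).ne').ne'
    rw [orderOf_pow' _ hne, Nat.gcd_eq_right (Nat.div_dvd_of_dvd (Nat.ordProj_dvd _ _))]
    exact Nat.div_div_self (Nat.ordProj_dvd _ _) (orderOf_pos x).ne'
  · intro hm
    have : QuotientGroup.mk' (center G) x ^ (orderOf x / p ^ (orderOf x).factorization p) = 1 := by
      rw [← map_pow]; exact (QuotientGroup.eq_one_iff _).2 hm
    exact Nat.not_dvd_ordCompl hpp (orderOf_pos x).ne' ((Nat.minFac_dvd _).trans (orderOf_dvd_of_pow_eq_one this))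

/-- The Sylow form of a non-normal, non-abelian centralizer. -/
theorem exists_sylow_of_not_normal {x : G} (hx : x ∉ center G) {p a : ℕ} [Fact p.Prime] (hxp : orderOf x = p ^ a)
    (hn : ¬ (centralizer ({x} : Set G)).Normal) :
    (∀ u ∈ centralizer ({x} : Set G), ∀ v ∈ centralizer ({x} : Set G), u * v = v * u) ∨
    ∃ P : Sylow p G, (P : Subgroup G) ≤ centralizer ({x} : Set G) ∧ x ∈ (P : Subgroup G) ∧
      normalizer ((P : Subgroup G) : Set G) = centralizer ({x} : Set G) ∧
      (∀ u ∈ centralizer ({x} : Set G), ∃ v ∈ (P : Subgroup G), ∃ z ∈ center G, u = v * z) := by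
  classical
  have hp : p.Prime := Fact.out
  set M := centralizer ({x} : Set G) with hM
  have hxM : x ∈ M := mem_centralizer_singleton_iff.2 rfl
  -- splitting an element of `M`
  have hsplit : ∀ u ∈ M, ∀ r : ℕ, r.Prime → ∃ v ∈ M, ∃ w ∈ M, u = v * w ∧ (∃ b, orderOf v = r ^ b) ∧
      ¬ r ∣ orderOf w := by
    intro u hu r hr
    set j := (orderOf u).factorization r
    set m := orderOf u / r ^ j
    have hm0 : m ≠ 0 := (Nat.ordCompl_pos r (orderOf_pos u).ne').ne'
    have hjm : r ^ j * m = orderOf u := Nat.ordProj_mul_ordCompl_eq_self _ r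
    have hmr : ¬ r ∣ m := Nat.not_dvd_ordCompl hr (orderOf_pos u).ne'
    obtain ⟨s, t, hst⟩ := Nat.isCoprime_iff_coprime.2 (((hr.coprime_iff_not_dvd).2 hmr).pow_left j)
    refine ⟨(u ^ m) ^ t, zpow_mem (pow_mem hu _) _, (u ^ r ^ j) ^ s, zpow_mem (pow_mem hu _) _, ?_, ?_, ?_⟩
    · rw [← zpow_natCast u, ← zpow_natCast u (r ^ j), ← zpow_mul, ← zpow_mul, ← zpow_add,
        show (m : ℤ) * t + ((r ^ j : ℕ) : ℤ) * s = 1 by linarith, zpow_one]
    · obtain ⟨b, -, hb⟩ := (Nat.dvd_prime_pow hr).1 (orderOf_dvd_of_pow_eq_one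
        (x := (u ^ m) ^ t) (n := r ^ j) (by
          rw [← zpow_natCast, ← zpow_mul, mul_comm t, zpow_mul, zpow_natCast, ← pow_mul, mul_comm m, hjm,
            pow_orderOf_eq_one, one_zpow]))
      exact ⟨b, hb⟩
    · intro hd
      refine hmr (hd.trans (orderOf_dvd_of_pow_eq_one ?_))
      rw [← zpow_natCast, ← zpow_mul, mul_comm s, zpow_mul, zpow_natCast, ← pow_mul, hjm, pow_orderOf_eq_one,
        one_zpow]
  -- elements of order prime to `p` have centralizer `M` unless central
  have hp' : ∀ u ∈ M, ¬ p ∣ orderOf u → u ∉ center G → centralizer ({u} : Set G) = M := fun u hu hd huc =>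
    maxCent_coprime h hx hu (hxp ▸ ((hp.coprime_iff_not_dvd).2 hd).pow_left a) huc
  have hcomm_of : ∀ u ∈ M, ∀ v ∈ M, (u ∈ center G ∨ centralizer ({u} : Set G) = M) → u * v = v * u := by
    intro u _ v hv hu
    rcases hu with hu | hu
    · exact (mem_center_iff.1 hu v).symm
    · rw [← hu] at hv
      exact (mem_centralizer_singleton_iff.1 hv).symm
  by_cases hy : ∃ y ∈ M, ¬ p ∣ orderOf y ∧ y ∉ center G
  · left
    obtain ⟨y, hyM, hyd, hyc⟩ := hy
    obtain ⟨q, hq, k, b, hqb, hykc⟩ := exists_primePow_noncentral h hyc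
    have hqp : q ≠ p := by
      rintro rfl
      rcases Nat.eq_zero_or_pos b with rfl | hb
      · rw [pow_zero, orderOf_eq_one_iff] at hqb
        exact hykc (hqb ▸ one_mem _)
      · exact hyd (((dvd_pow_self q hb.ne').trans (dvd_of_eq hqb.symm)).trans (orderOf_pow_dvd k))
    have hykd : ¬ p ∣ orderOf (y ^ k) := fun hd => hyd (hd.trans (orderOf_pow_dvd k))
    have hyk := hp' _ (pow_mem hyM k) hykd hykc
    intro u hu v hv
    obtain ⟨u1, hu1, u2, hu2, rfl, ⟨b1, hb1⟩, hd2⟩ := hsplit u hu p hp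
    have c1 : u1 * v = v * u1 := by
      refine hcomm_of u1 hu1 v hv (or_iff_not_imp_left.2 fun hc => ?_)
      have := maxCent_coprime h hykc (u := u1) (hyk ▸ hu1)
        (by rw [hqb, hb1]; exact ((Nat.coprime_primes hq hp).2 hqp).pow b b1) hc
      rw [this, hyk]
    have c2 : u2 * v = v * u2 := hcomm_of u2 hu2 v hv (or_iff_not_imp_left.2 fun hc => hp' u2 hu2 hd2 hc)
    rw [mul_assoc, c2, ← mul_assoc, c1, mul_assoc]
  push Not at hy
  right
  obtain ⟨S⟩ := (inferInstance : Nonempty (Sylow p M))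
  set P := (S : Subgroup M).map M.subtype with hP
  have hPM : P ≤ M := map_subtype_le _
  have hnil : Group.IsNilpotent M := by
    let f : M →* G ⧸ center G := (QuotientGroup.mk' (center G)).comp M.subtype
    have hf : IsPGroup p f.range := by
      intro t
      obtain ⟨t, u, rfl⟩ := t
      obtain ⟨v, hv, w, hw, huw, ⟨b, hb⟩, hd⟩ := hsplit u u.2 p hp
      refine ⟨b, Subtype.ext ?_⟩
      show (f u) ^ p ^ b = 1
      have e : f u = QuotientGroup.mk' (center G) v := by
        show QuotientGroup.mk' (center G) (u : G) = _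
        rw [huw, map_mul, show QuotientGroup.mk' (center G) w = 1 from (QuotientGroup.eq_one_iff _).2 (hy w hw hd),
          mul_one]
      rw [e, ← map_pow, ← hb, pow_orderOf_eq_one, map_one]
    have := hf.isNilpotent
    refine Subgroup.isNilpotent_of_ker_le_center f.rangeRestrict (fun z hz => ?_)
    rw [MonoidHom.ker_rangeRestrict] at hz
    exact mem_center_iff.2 fun u => Subtype.ext (mem_center_iff.1 ((QuotientGroup.eq_one_iff _).1 hz) u)
  have hSn : (S : Subgroup M).Normal :=
    ((Group.isNilpotent_of_finite_tfae (G := M)).out 0 3 rfl rfl).1 hnil p ‹_› S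
  have hmem : ∀ v : G, ∀ hv : v ∈ M, (∃ b, orderOf v = p ^ b) → v ∈ P := by
    rintro v hv ⟨b, hb⟩
    obtain ⟨T, hT⟩ := (IsPGroup.of_card (n := b) (by rw [Nat.card_zpowers, Subgroup.orderOf_mk, hb] :
      Nat.card (zpowers (⟨v, hv⟩ : M)) = p ^ b)).exists_le_sylow
    have : Unique (Sylow p M) := Sylow.unique_of_normal S hSn
    rw [Subsingleton.elim T S] at hT
    exact ⟨_, hT (mem_zpowers _), rfl⟩
  have hdec : ∀ u ∈ M, ∃ v ∈ P, ∃ z ∈ center G, u = v * z := by
    intro u hu
    obtain ⟨v, hv, w, hw, huw, hb, hd⟩ := hsplit u hu p hp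
    exact ⟨v, hmem v hv hb, w, hy w hw hd, huw⟩
  have hxP : x ∈ P := hmem x hxM ⟨a, hxp⟩
  have hN : normalizer (P : Set G) = M := by
    have hMN : M ≤ normalizer (P : Set G) := fun u hu => by
      refine mem_normalizer_iff_map_conj.2 (eq_of_le_of_card_ge ?_ (card_map_of_injective (MulEquiv.injective _)).ge)
      rintro _ ⟨t, ⟨t, ht, rfl⟩, rfl⟩
      exact ⟨_, hSn.conj_mem t ht ⟨u, hu⟩, rfl⟩
    rcases hMN.eq_or_lt with he | hlt
    · exact he.symm
    exfalso
    refine hn ?_
    have htop := (h x hx).2 _ hlt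
    refine ⟨fun n hnM g => ?_⟩
    obtain ⟨v, hv, z, hz, rfl⟩ := hdec n hnM
    rw [show g * (v * z) * g⁻¹ = g * v * g⁻¹ * (g * z * g⁻¹) by group, mem_center_iff.1 hz g, mul_inv_cancel_right]
    refine mul_mem (hPM ((mem_normalizer_iff.1 (htop ▸ mem_top g) v).1 hv)) ?_
    exact mem_centralizer_singleton_iff.2 (mem_center_iff.1 hz x).symm
  have hP' : IsPGroup p P := S.2.map M.subtype
  have hnd : ¬ p ∣ P.index := not_dvd_index_of_normalizer hP' hPM hN.le (by
    rw [hP, relIndex, subgroupOf, comap_map_eq_self_of_injective M.subtype_injective]; exact S.not_dvd_index)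
  exact ⟨hP'.toSylow hnd, hPM, hxP, hN, hdec⟩

/-- A non-normal centralizer is abelian. -/
theorem maxCent_comm {x : G} (hx : x ∉ center G) {p a : ℕ} [Fact p.Prime] (hxp : orderOf x = p ^ a)
    (hn : ¬ (centralizer ({x} : Set G)).Normal) :
    ∀ u ∈ centralizer ({x} : Set G), ∀ v ∈ centralizer ({x} : Set G), u * v = v * u := by
  classical
  have hp : p.Prime := Fact.out
  rcases exists_sylow_of_not_normal h hx hxp hn with hab | ⟨P, hPM, hxP, hN, hdec⟩
  · exact hab
  set M := centralizer ({x} : Set G) with hM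
  have hpord : ∀ v ∈ (P : Subgroup G), ∃ b, orderOf v = p ^ b := fun v hv => by
    obtain ⟨b, hb⟩ := IsPGroup.iff_orderOf.1 P.2 ⟨v, hv⟩
    exact ⟨b, by rwa [Subgroup.orderOf_mk] at hb⟩
  suffices hPab : ∀ u ∈ (P : Subgroup G), ∀ v ∈ (P : Subgroup G), u * v = v * u by
    intro u hu v hv
    obtain ⟨u1, hu1, z1, hz1, rfl⟩ := hdec u hu
    obtain ⟨v1, hv1, z2, hz2, rfl⟩ := hdec v hv
    exact ((show Commute u1 v1 from hPab u1 hu1 v1 hv1).mul_right (mem_center_iff.1 hz2 u1)).mul_left
      (mem_center_iff.1 hz1 (v1 * z2)).symm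
  -- centralizers of noncentral elements of `P`
  have hsyl : ∀ w ∈ (P : Subgroup G), w ∉ center G →
      ∃ Q : Sylow p G, (Q : Subgroup G) ≤ centralizer ({w} : Set G) ∧
        centralizer ({w} : Set G) ≤ normalizer ((Q : Subgroup G) : Set G) := by
    intro w hw hwc
    obtain ⟨b, hb⟩ := hpord w hw
    have hxw : x ∈ centralizer ({w} : Set G) :=
      mem_centralizer_singleton_iff.2 (mem_centralizer_singleton_iff.1 (hPM hw)).symm
    have hnn : ¬ (centralizer ({w} : Set G)).Normal := by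
      intro hK
      set K := centralizer ({w} : Set G) with hKdef
      have hKne : K ≠ M := fun e => hn (e ▸ hK)
      obtain ⟨g, hg⟩ : ∃ g, g ∉ M := by
        by_contra! hall
        exact (h x hx).1 (eq_top_iff.2 fun g _ => hall g)
      obtain ⟨r, hr, k, c, hgc, hgkc⟩ := exists_primePow_noncentral h (x := g) (fun hc => hg
        (mem_centralizer_singleton_iff.2 (mem_center_iff.1 hc x).symm))
      -- all elements of order prime to `p` lie in `K`
      have hindex : ∀ y : G, ¬ p ∣ orderOf y → y ∈ K := by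
        intro y hy
        have hsimple : ∀ H : Subgroup (G ⧸ K), H = ⊥ ∨ H = ⊤ := by
          intro H
          have hle : K ≤ H.comap (QuotientGroup.mk' K) := fun t ht => by
            show QuotientGroup.mk' K t ∈ H
            rw [show QuotientGroup.mk' K t = 1 from (QuotientGroup.eq_one_iff t).2 ht]; exact one_mem H
          rcases hle.eq_or_lt with he | hlt
          · left
            rw [← map_comap_eq_self_of_surjective (QuotientGroup.mk'_surjective K) H, ← he,
              QuotientGroup.map_mk'_self]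
          · right
            rw [← map_comap_eq_self_of_surjective (QuotientGroup.mk'_surjective K) H, (h w hwc).2 _ hlt,
              map_top_of_surjective _ (QuotientGroup.mk'_surjective K)]
        have hPK : ¬ (P : Subgroup G) ≤ K := fun hle => by
          have hMK : M ≤ K := fun u hu => by
            obtain ⟨v, hv, z, hz, rfl⟩ := hdec u hu
            exact mul_mem (hle hv) (mem_centralizer_singleton_iff.2 (mem_center_iff.1 hz w).symm)
          exact hKne (maxCent_eq h hx hwc hMK).symm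
        obtain ⟨t, ht, htK⟩ := SetLike.not_le_iff_exists.1 hPK
        have hgen : zpowers (QuotientGroup.mk' K t) = ⊤ := (hsimple _).resolve_left fun e => htK (by
          rw [zpowers_eq_bot] at e
          exact (QuotientGroup.eq_one_iff t).1 e)
        obtain ⟨i, hi⟩ := mem_zpowers_iff.1 (hgen ▸ mem_top (QuotientGroup.mk' K y) :)
        obtain ⟨d, hd⟩ := hpord t ht
        have h1 : orderOf (QuotientGroup.mk' K y) ∣ p ^ d := by
          refine orderOf_dvd_of_pow_eq_one ?_
          rw [← hi, ← zpow_natCast, ← zpow_mul, mul_comm, zpow_mul, zpow_natCast, ← map_pow, ← hd,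
            pow_orderOf_eq_one, map_one, one_zpow]
        have h2 := Nat.eq_one_of_dvd_coprimes (((hp.coprime_iff_not_dvd).2 hy).pow_left d) h1
          (orderOf_map_dvd (QuotientGroup.mk' K) y)
        exact (QuotientGroup.eq_one_iff y).1 (orderOf_eq_one_iff.1 h2)
      -- there is a noncentral element of order prime to `p`
      obtain ⟨y, hyd, hyc⟩ : ∃ y : G, ¬ p ∣ orderOf y ∧ y ∉ center G := by
        by_contra! hall
        refine hn ?_
        have hqp : r = p := by
          by_contra hne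
          exact hgkc (hall _ (by
            rw [hgc]; exact fun hd => hne ((Nat.prime_dvd_prime_iff_eq hp hr).1 (hp.dvd_of_dvd_pow hd)).symm))
        -- every element is in the Sylow subgroup modulo the centre, so `G ⧸ Z` is a `p`-group
        have hGp : IsPGroup p (G ⧸ center G) := by
          intro t
          obtain ⟨t, rfl⟩ := QuotientGroup.mk'_surjective _ t
          set j := (orderOf t).factorization p
          refine ⟨j, ?_⟩
          rw [← map_pow]
          refine (QuotientGroup.eq_one_iff _).2 (hall _ fun hd => ?_)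
          refine Nat.not_dvd_ordCompl hp (orderOf_pos t).ne' (hd.trans (dvd_of_eq ?_))
          rw [orderOf_pow, Nat.gcd_eq_right (Nat.ordProj_dvd _ _)]
        have hnilG : Group.IsNilpotent G := by
          have := hGp.isNilpotent
          exact Subgroup.isNilpotent_of_ker_le_center (QuotientGroup.mk' (center G))
            (QuotientGroup.ker_mk' (center G)).le
        exact ((Group.isNilpotent_of_finite_tfae (G := G)).out 0 2 rfl rfl).1 hnilG M (h x hx)
      have hyw : y ∈ K := hindex y hyd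
      have hwy : w ∈ centralizer ({y} : Set G) :=
        mem_centralizer_singleton_iff.2 (mem_centralizer_singleton_iff.1 hyw).symm
      have hKy := maxCent_coprime h hwc hyw (hb ▸ ((hp.coprime_iff_not_dvd).2 hyd).pow_left b) hyc
      have hyM : y ∈ M := mem_centralizer_singleton_iff.2
        (mem_centralizer_singleton_iff.1 (hKy ▸ hxw : x ∈ centralizer ({y} : Set G))).symm
      have hMy := maxCent_coprime h hx hyM (hxp ▸ ((hp.coprime_iff_not_dvd).2 hyd).pow_left a) hyc
      exact hKne (hKy.symm.trans hMy)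
    rcases exists_sylow_of_not_normal h hwc hb hnn with hab | ⟨Q, hQ, -, hQN, -⟩
    · have hKM : centralizer ({w} : Set G) = M := maxCent_eq h hwc hx fun u hu =>
        mem_centralizer_singleton_iff.2 (hab u hu x hxw)
      exact ⟨P, hKM ▸ hPM, by rw [hKM, hN]⟩
    · exact ⟨Q, hQ, hQN.ge⟩
  by_contra hcon
  push Not at hcon
  obtain ⟨u₀, hu₀, v₀, hv₀, hne⟩ := hcon
  -- an element of the second centre of `P`
  have hPnil := P.2.isNilpotent
  have hcne : center (P : Subgroup G) ≠ ⊤ := fun e => hne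
    (congrArg Subtype.val (mem_center_iff.1 (e ▸ mem_top (⟨v₀, hv₀⟩ : (P : Subgroup G))) ⟨u₀, hu₀⟩))
  have : Nontrivial ((P : Subgroup G) ⧸ center (P : Subgroup G)) := QuotientGroup.nontrivial_iff.2 hcne
  have hqnil := (P.2.to_quotient (center (P : Subgroup G))).isNilpotent
  obtain ⟨⟨cb, hcb⟩, hcb1⟩ := (ne_bot_iff_exists_ne_one
    (H := (⊤ : Subgroup ((P : Subgroup G) ⧸ center (P : Subgroup G))) ⊓ center _)).1
      (CfsgLib.Solvable.normal_inf_center_ne_bot ⊤ top_ne_bot)
  obtain ⟨⟨c, hcP⟩, rfl⟩ := QuotientGroup.mk'_surjective _ cb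
  have hcZ : ∀ g ∈ (P : Subgroup G), ∀ v ∈ (P : Subgroup G), v * ⁅g, c⁆ = ⁅g, c⁆ * v := by
    intro g hg v hv
    have h1 : (⁅(⟨g, hg⟩ : (P : Subgroup G)), ⟨c, hcP⟩⁆) ∈ center (P : Subgroup G) := by
      rw [← QuotientGroup.eq_one_iff, ← QuotientGroup.mk'_apply, map_commutatorElement,
        commutatorElement_eq_one_iff_mul_comm]
      exact mem_center_iff.1 hcb.2 _
    have h2 := congrArg Subtype.val (mem_center_iff.1 h1 ⟨v, hv⟩)
    rw [Subgroup.coe_mul, Subgroup.coe_mul, ← coe_subtype, map_commutatorElement] at h2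
    exact h2
  obtain ⟨g₀, hg₀, hg₀c⟩ : ∃ g ∈ (P : Subgroup G), g * c ≠ c * g := by
    by_contra! hall
    refine hcb1 (Subtype.ext ((QuotientGroup.eq_one_iff _).2 (mem_center_iff.2 fun g => ?_)))
    exact Subtype.ext (hall g g.2)
  have hcc : c ∉ center G := fun hc => hg₀c (mem_center_iff.1 hc g₀)
  obtain ⟨Q, hQc, hQn⟩ := hsyl c hcP hcc
  set D := (P : Subgroup G) ⊓ centralizer ({c} : Set G) with hD
  have hPD : (P : Subgroup G) ≤ normalizer (D : Set G) := by
    intro g hg
    refine mem_normalizer_iff_map_conj.2 (eq_of_le_of_card_ge ?_ (card_map_of_injective (MulEquiv.injective _)).ge)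
    rintro _ ⟨d, ⟨hdP, hdc⟩, rfl⟩
    refine ⟨(P : Subgroup G).mul_mem ((P : Subgroup G).mul_mem hg hdP) ((P : Subgroup G).inv_mem hg), mem_centralizer_singleton_iff.2 ?_⟩
    have h1 : d * c = c * d := mem_centralizer_singleton_iff.1 hdc
    have h2 : d * ⁅g⁻¹, c⁆ = ⁅g⁻¹, c⁆ * d := hcZ g⁻¹ (inv_mem hg) d hdP
    have h3 : d * (g⁻¹ * c * g) = g⁻¹ * c * g * d := by
      have e : g⁻¹ * c * g = ⁅g⁻¹, c⁆ * c := by simp only [commutatorElement_def]; group
      rw [e, ← mul_assoc, h2, mul_assoc, h1, mul_assoc]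
    show g * d * g⁻¹ * c = c * (g * d * g⁻¹)
    calc g * d * g⁻¹ * c = g * (d * (g⁻¹ * c * g)) * g⁻¹ := by group
      _ = _ := by rw [h3]; group
  have hDQ : D ≤ Q := by
    rw [← Q.3 ((P.2.to_le inf_le_left).to_sup_of_normal_right' Q.2 (inf_le_right.trans hQn)) le_sup_right]
    exact le_sup_left
  have hlt : D < Q := by
    refine hDQ.lt_of_ne fun e => ?_
    have h1 : D = P := eq_of_le_of_card_ge inf_le_left (by rw [e, P.card_eq_multiplicity, Q.card_eq_multiplicity])
    exact hg₀c (mem_centralizer_singleton_iff.1 (inf_eq_left.1 h1 hg₀))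
  obtain ⟨q, hqQ, hqD, hqN⟩ : ∃ q ∈ (Q : Subgroup G), q ∉ D ∧ q ∈ normalizer (D : Set G) := by
    have hQnil := Q.2.isNilpotent
    have hlt' := Group.normalizerCondition_of_isNilpotent (h := hQnil) (D.subgroupOf Q) (lt_top_iff_ne_top.2 fun e =>
      hlt.not_ge (subgroupOf_eq_top.1 e))
    obtain ⟨⟨q, hq⟩, hqN, hqD⟩ := SetLike.exists_of_lt hlt'
    refine ⟨q, hq, hqD, mem_normalizer_iff_map_conj.2 (eq_of_le_of_card_ge ?_
      (card_map_of_injective (MulEquiv.injective _)).ge)⟩
    rintro _ ⟨d, hd, rfl⟩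
    exact (mem_normalizer_iff.1 hqN ⟨d, hDQ hd⟩).1 hd
  have hMD : M ≤ normalizer (D : Set G) := fun u hu => by
    obtain ⟨v, hv, z, hz, rfl⟩ := hdec u hu
    exact mul_mem (hPD hv) (Subgroup.centralizer_le_normalizer _ (center_le_centralizer _ hz))
  have hqM : q ∉ M := fun hqM => hqD ⟨by
    obtain ⟨b, hb⟩ : ∃ b, orderOf q = p ^ b := by
      obtain ⟨b, hb⟩ := IsPGroup.iff_orderOf.1 Q.2 ⟨q, hqQ⟩
      exact ⟨b, by rwa [Subgroup.orderOf_mk] at hb⟩
    have hn' : zpowers q ≤ normalizer ((P : Subgroup G) : Set G) := zpowers_le.2 (hN.symm ▸ hqM)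
    rw [← P.3 ((IsPGroup.of_card (n := b) (by rw [Nat.card_zpowers, hb]) : IsPGroup p (zpowers q)).to_sup_of_normal_right'
      P.2 hn') le_sup_right]
    exact mem_sup_left (mem_zpowers q), hQc hqQ⟩
  have htop : normalizer (D : Set G) = ⊤ := (h x hx).2 _ (SetLike.lt_iff_le_and_exists.2 ⟨hMD, q, hqN, hqM⟩)
  have hDn : D.Normal := normalizer_eq_top_iff.1 htop
  refine hg₀c ?_
  by_cases hgc : g₀ ∈ center G
  · exact (mem_center_iff.1 hgc c).symm
  obtain ⟨Q', hQ', -⟩ := hsyl g₀ hg₀ hgc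
  have hcD : c ∈ D := ⟨hcP, mem_centralizer_singleton_iff.2 rfl⟩
  exact (mem_centralizer_singleton_iff.1 (hQ' ((P.2.to_le inf_le_left : IsPGroup p D).le_sylow_of_normal Q' hcD))).symm

/-- The structure theorem. -/
theorem maxCent_structure (hna : ¬ IsMulCommutative G) :
    (∃ p : ℕ, p.Prime ∧ Cfsg.IsElementaryAbelian p (⊤ : Subgroup (G ⧸ center G))) ∨
    (¬ IsMulCommutative (G ⧸ center G) ∧ (∀ H : Subgroup (G ⧸ center G), H ≠ ⊤ → IsMulCommutative ↥H) ∧
      ∃ p q a : ℕ, p.Prime ∧ q.Prime ∧ p ≠ q ∧ Nat.card (G ⧸ center G) = p ^ a * q ∧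
        ∀ P : Subgroup (G ⧸ center G), Nat.card ↥P = p ^ a → P.Normal) := by
  classical
  have hnZ : ∃ x, x ∉ center G := by
    by_contra! hall
    exact hna ⟨⟨fun u v => mem_center_iff.1 (hall v) u⟩⟩
  by_cases hall : ∀ x, x ∉ center G → (centralizer ({x} : Set G)).Normal
  · left
    have hprime : ∀ x, x ∉ center G → ∃ p : ℕ, p.Prime ∧ ∀ g : G, g ^ p ∈ centralizer ({x} : Set G) := by
      intro x hx
      have hK := hall x hx
      set K := centralizer ({x} : Set G) with hKdef
      obtain ⟨g, hg⟩ : ∃ g, g ∉ K := by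
        by_contra! hh
        exact (h x hx).1 (eq_top_iff.2 fun g _ => hh g)
      have hsimple : ∀ H : Subgroup (G ⧸ K), H = ⊥ ∨ H = ⊤ := by
        intro H
        have hle : K ≤ H.comap (QuotientGroup.mk' K) := fun t ht => by
          show QuotientGroup.mk' K t ∈ H
          rw [show QuotientGroup.mk' K t = 1 from (QuotientGroup.eq_one_iff t).2 ht]; exact one_mem H
        rcases hle.eq_or_lt with he | hlt
        · left
          rw [← map_comap_eq_self_of_surjective (QuotientGroup.mk'_surjective K) H, ← he,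
            QuotientGroup.map_mk'_self]
        · right
          rw [← map_comap_eq_self_of_surjective (QuotientGroup.mk'_surjective K) H, (h x hx).2 _ hlt,
            map_top_of_surjective _ (QuotientGroup.mk'_surjective K)]
      have h1 : 1 < Nat.card (G ⧸ K) := by
        have : Nontrivial (G ⧸ K) := QuotientGroup.nontrivial_iff.2 (h x hx).1
        exact Finite.one_lt_card
      set p := (Nat.card (G ⧸ K)).minFac
      have hp : p.Prime := Nat.minFac_prime h1.ne'
      have : Fact p.Prime := ⟨hp⟩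
      obtain ⟨t, ht⟩ := exists_prime_orderOf_dvd_card' p (Nat.minFac_dvd (Nat.card (G ⧸ K)))
      have hgen : zpowers t = ⊤ := (hsimple _).resolve_left fun e => by
        rw [zpowers_eq_bot] at e
        rw [e, orderOf_one] at ht
        exact hp.one_lt.ne ht
      refine ⟨p, hp, fun u => (QuotientGroup.eq_one_iff _).1 ?_⟩
      show QuotientGroup.mk' K (u ^ p) = 1
      obtain ⟨i, hi⟩ := mem_zpowers_iff.1 (hgen ▸ mem_top (QuotientGroup.mk' K u) :)
      rw [map_pow, ← hi, ← zpow_natCast, ← zpow_mul, mul_comm, zpow_mul, zpow_natCast, ← ht, pow_orderOf_eq_one,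
        one_zpow]
    -- commutators are central
    have hcz : ∀ u v : G, ⁅u, v⁆ ∈ center G := by
      intro u v
      refine mem_center_iff.2 fun x => ?_
      by_cases hx : x ∈ center G
      · exact (mem_center_iff.1 hx _).symm
      obtain ⟨p, hp, -⟩ := hprime x hx
      have hK := hall x hx
      have hmem : ⁅u, v⁆ ∈ centralizer ({x} : Set G) := by
        set K := centralizer ({x} : Set G) with hKdef
        have hcyc : ∀ a b : G ⧸ K, a * b = b * a := by
          intro a b
          by_cases ha : a = 1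
          · rw [ha, one_mul, mul_one]
          obtain ⟨a, rfl⟩ := QuotientGroup.mk'_surjective K a
          have hgen : zpowers (QuotientGroup.mk' K a) = ⊤ := by
            by_contra hne
            have hle : K ≤ (zpowers (QuotientGroup.mk' K a)).comap (QuotientGroup.mk' K) := fun t ht => by
              show QuotientGroup.mk' K t ∈ zpowers _
              rw [show QuotientGroup.mk' K t = 1 from (QuotientGroup.eq_one_iff t).2 ht]; exact one_mem _
            rcases hle.eq_or_lt with he | hlt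
            · refine ha ((QuotientGroup.eq_one_iff a).2 ?_)
              rw [he]; exact mem_zpowers _
            · refine hne ?_
              rw [← map_comap_eq_self_of_surjective (QuotientGroup.mk'_surjective K) (zpowers _), (h x hx).2 _ hlt,
                map_top_of_surjective _ (QuotientGroup.mk'_surjective K)]
          obtain ⟨i, rfl⟩ := mem_zpowers_iff.1 (hgen ▸ mem_top b :)
          exact ((Commute.refl _).zpow_right i).eq
        refine (QuotientGroup.eq_one_iff _).1 ?_
        show QuotientGroup.mk' K ⁅u, v⁆ = 1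
        rw [map_commutatorElement, commutatorElement_eq_one_iff_mul_comm]
        exact hcyc _ _
      exact (mem_centralizer_singleton_iff.1 hmem).symm
    have hml : ∀ u v w : G, ⁅u * v, w⁆ = ⁅u, w⁆ * ⁅v, w⁆ := fun u v w => by
      rw [show ⁅u * v, w⁆ = u * ⁅v, w⁆ * u⁻¹ * ⁅u, w⁆ by simp only [commutatorElement_def]; group,
        mem_center_iff.1 (hcz v w) u, mul_inv_cancel_right, mem_center_iff.1 (hcz v w) ⁅u, w⁆]
    have hpl : ∀ (u w : G) (n : ℕ), ⁅u ^ n, w⁆ = ⁅u, w⁆ ^ n := fun u w n => by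
      induction n with
      | zero => simp
      | succ n ih => rw [pow_succ, hml, ih, pow_succ]
    have hmr : ∀ u v w : G, ⁅u, v * w⁆ = ⁅u, v⁆ * ⁅u, w⁆ := fun u v w => by
      rw [show ⁅u, v * w⁆ = ⁅u, v⁆ * (v * ⁅u, w⁆ * v⁻¹) by simp only [commutatorElement_def]; group,
        mem_center_iff.1 (hcz u w) v, mul_inv_cancel_right]
    have hpr : ∀ (u w : G) (n : ℕ), ⁅u, w ^ n⁆ = ⁅u, w⁆ ^ n := fun u w n => by
      induction n with
      | zero => simp
      | succ n ih => rw [pow_succ, hmr, ih, pow_succ]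
    have hexp : ∀ x, x ∉ center G → ∃ p : ℕ, p.Prime ∧ ∀ g : G, ⁅x, g⁆ ^ p = 1 := by
      intro x hx
      obtain ⟨p, hp, hg⟩ := hprime x hx
      exact ⟨p, hp, fun g => by
        rw [← hpr, commutatorElement_eq_one_iff_mul_comm]; exact (mem_centralizer_singleton_iff.1 (hg g)).symm⟩
    obtain ⟨x₀, hx₀⟩ := hnZ
    obtain ⟨p, hp, hxp⟩ := hexp x₀ hx₀
    refine ⟨p, hp, ⟨⟨fun u v => ?_⟩⟩, fun u _ => ?_⟩
    · refine Subtype.ext ?_
      obtain ⟨u', hu⟩ := QuotientGroup.mk'_surjective _ (u : G ⧸ center G)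
      obtain ⟨v', hv⟩ := QuotientGroup.mk'_surjective _ (v : G ⧸ center G)
      show (u : G ⧸ center G) * v = v * u
      rw [← hu, ← hv, ← commutatorElement_eq_one_iff_mul_comm, ← map_commutatorElement]
      exact (QuotientGroup.eq_one_iff _).2 (hcz _ _)
    obtain ⟨y, rfl⟩ := QuotientGroup.mk'_surjective _ u
    rw [← map_pow]
    refine (QuotientGroup.eq_one_iff _).2 (mem_center_iff.2 fun g => ?_)
    symm
    rw [← commutatorElement_eq_one_iff_mul_comm, hpl]
    by_cases hy : y ∈ center G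
    · rw [commutatorElement_eq_one_iff_mul_comm.2 (mem_center_iff.1 hy g).symm, one_pow]
    -- all exponents coincide
    obtain ⟨q, hq, hyq⟩ := hexp y hy
    rcases eq_or_ne q p with rfl | hne
    · exact hyq g
    exfalso
    obtain ⟨g₀, hg₀⟩ : ∃ g : G, ⁅x₀, g⁆ ≠ 1 ∧ ⁅y, g⁆ ≠ 1 := by
      by_contra! hcon
      have hx' : centralizer ({x₀} : Set G) ≠ ⊤ := (h x₀ hx₀).1
      obtain ⟨a, ha⟩ : ∃ a, a ∉ centralizer ({x₀} : Set G) := by
        by_contra! hh
        exact hx' (eq_top_iff.2 fun g _ => hh g)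
      obtain ⟨b, hb⟩ : ∃ b, b ∉ centralizer ({y} : Set G) := by
        by_contra! hh
        exact (h y hy).1 (eq_top_iff.2 fun g _ => hh g)
      have ha' : ⁅x₀, a⁆ ≠ 1 := fun e => ha (mem_centralizer_singleton_iff.2 (commutatorElement_eq_one_iff_mul_comm.1 e).symm)
      have hb' : ⁅y, b⁆ ≠ 1 := fun e => hb (mem_centralizer_singleton_iff.2 (commutatorElement_eq_one_iff_mul_comm.1 e).symm)
      have hya := hcon a ha'
      have hxb : ⁅x₀, b⁆ = 1 := not_not.1 fun e => hb' (hcon b e)
      refine hb' ?_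
      have := hcon (a * b) (by rw [hmr, hxb, mul_one]; exact ha')
      rwa [hmr, hya, one_mul] at this
    have hxy : x₀ * y ∉ center G := fun hc => hg₀.1 (by
      have e : ⁅x₀ * y, g₀⁆ = 1 := commutatorElement_eq_one_iff_mul_comm.2 (mem_center_iff.1 hc g₀).symm
      rw [hml] at e
      have hA := congrArg (fun t => t ^ q) e
      simp only [one_pow] at hA
      rw [(show Commute ⁅x₀, g₀⁆ ⁅y, g₀⁆ from mem_center_iff.1 (hcz y g₀) _).mul_pow, hyq, mul_one] at hA
      have h1 := Nat.dvd_gcd (orderOf_dvd_of_pow_eq_one hA) (orderOf_dvd_of_pow_eq_one (hxp g₀))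
      rw [(Nat.coprime_primes hq hp).2 hne, Nat.dvd_one, orderOf_eq_one_iff] at h1
      exact h1)
    obtain ⟨r, hr, hrp⟩ := hexp _ hxy
    have hr' := hrp g₀
    rw [hml, (show Commute ⁅x₀, g₀⁆ ⁅y, g₀⁆ from mem_center_iff.1 (hcz y g₀) _).mul_pow] at hr'
    -- `r` must equal both primes
    have hox : orderOf ⁅x₀, g₀⁆ = p := by
      have := Fact.mk hp
      exact orderOf_eq_prime (hxp g₀) hg₀.1
    have hoy : orderOf ⁅y, g₀⁆ = q := by
      have := Fact.mk hq
      exact orderOf_eq_prime (hyq g₀) hg₀.2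
    have hA := congrArg (fun t => t ^ q) hr'
    simp only [one_pow] at hA
    rw [(show Commute (⁅x₀, g₀⁆ ^ r) (⁅y, g₀⁆ ^ r) from
      (show Commute ⁅x₀, g₀⁆ ⁅y, g₀⁆ from mem_center_iff.1 (hcz y g₀) _).pow_pow r r).mul_pow,
      ← pow_mul, ← pow_mul, mul_comm r q, pow_mul ⁅y, g₀⁆, hyq, one_pow, mul_one, ← orderOf_dvd_iff_pow_eq_one,
      hox] at hA
    have hpr' : p = r := by
      rcases hp.dvd_mul.1 hA with h1 | h1
      · exact absurd ((Nat.prime_dvd_prime_iff_eq hp hq).1 h1) hne.symm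
      · exact (Nat.prime_dvd_prime_iff_eq hp hr).1 h1
    subst hpr'
    rw [hxp, one_mul, ← orderOf_dvd_iff_pow_eq_one, hoy] at hr'
    exact hne ((Nat.prime_dvd_prime_iff_eq hq hp).1 hr')
  -- a non-normal centralizer
  right
  push Not at hall
  obtain ⟨x₁, hx₁, hx₁n⟩ := hall
  obtain ⟨p₀, hp₀, k, a₀, hxk, hxkc⟩ := exists_primePow_noncentral h hx₁
  have : Fact p₀.Prime := ⟨hp₀⟩
  set x := x₁ ^ k with hxdef
  have hCx : centralizer ({x} : Set G) = centralizer ({x₁} : Set G) :=
    (maxCent_eq h hx₁ hxkc fun g hg => mem_centralizer_singleton_iff.2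
      ((show Commute g x₁ from mem_centralizer_singleton_iff.1 hg).pow_right k).eq).symm
  set M := centralizer ({x} : Set G) with hM
  have hMn : ¬ M.Normal := hCx ▸ hx₁n
  have hMab := maxCent_comm h hxkc hxk hMn
  have hcent : ∀ u ∈ M, u ∉ center G → centralizer ({u} : Set G) = M := fun u hu huc =>
    (maxCent_eq h hxkc huc fun v hv => mem_centralizer_singleton_iff.2 (hMab v hv u hu)).symm
  have hNM : ∀ g : G, (∀ u ∈ M, g * u * g⁻¹ ∈ M) → g ∈ M := by
    intro g hg
    by_contra hgM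
    have hle : M ≤ normalizer (M : Set G) := le_normalizer
    have hgN : g ∈ normalizer (M : Set G) := mem_normalizer_iff_map_conj.2 (eq_of_le_of_card_ge (by
      rintro _ ⟨u, hu, rfl⟩; exact hg u hu) (card_map_of_injective (MulEquiv.injective _)).ge)
    exact hMn (normalizer_eq_top_iff.1 ((h x hxkc).2 _ (SetLike.lt_iff_le_and_exists.2 ⟨hle, g, hgN, hgM⟩)))
  set π := QuotientGroup.mk' (center G)
  have hZM : center G ≤ M := center_le_centralizer _
  set Mb := M.map π with hMb
  have hMbab : ∀ a ∈ Mb, ∀ b ∈ Mb, a * b = b * a := by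
    rintro _ ⟨a, ha, rfl⟩ _ ⟨b, hb, rfl⟩
    rw [← map_mul, hMab a ha b hb, map_mul]
  have hmemM : ∀ g : G, π g ∈ Mb → g ∈ M := by
    intro g ⟨u, hu, hug⟩
    have := (QuotientGroup.eq).1 hug
    simpa using mul_mem hu (hZM this)
  have hti : ∀ g : G ⧸ center G, ∀ a ∈ Mb, a ≠ 1 → g * a * g⁻¹ ∈ Mb → g ∈ Mb := by
    intro g a ha ha1 hga
    obtain ⟨g, rfl⟩ := QuotientGroup.mk'_surjective _ g
    obtain ⟨a, haM, rfl⟩ := ha
    have hac : a ∉ center G := fun hc => ha1 ((QuotientGroup.eq_one_iff a).2 hc)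
    rw [← map_inv, ← map_mul, ← map_mul] at hga
    have hgaM := hmemM _ hga
    have hgac : g * a * g⁻¹ ∉ center G := fun hc => hac (by
      have := mem_center_iff.1 hc g
      have e : g * a * g⁻¹ = a := by
        have h2 : g⁻¹ * (g * (g * a * g⁻¹)) = g⁻¹ * (g * a * g⁻¹ * g) := by rw [this]
        simpa [mul_assoc] using h2
      rwa [e] at hc)
    refine ⟨g, hNM g fun u hu => ?_, rfl⟩
    rw [← hcent _ hgaM hgac]
    refine mem_centralizer_singleton_iff.2 ?_
    calc g * u * g⁻¹ * (g * a * g⁻¹) = g * (u * a) * g⁻¹ := by group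
      _ = _ := by rw [hMab u hu a haM]; group
  obtain ⟨K, hKn, hKM, hKcard, hcopKM, hdec⟩ := exists_normal_complement_of_ti Mb hMbab hti
  -- `Mb` is nontrivial and proper
  have hMb1 : Mb ≠ ⊥ := fun e => hxkc (by
    have : π x ∈ Mb := ⟨x, mem_centralizer_singleton_iff.2 rfl, rfl⟩
    rw [e, mem_bot] at this
    exact (QuotientGroup.eq_one_iff x).1 this)
  have hMbtop : Mb ≠ ⊤ := fun e => (h x hxkc).1 (eq_top_iff.2 fun g _ => hmemM g (e ▸ mem_top _))
  -- every element of order a prime divisor of `|Mb|` has a conjugate in `Mb`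
  have hconj : ∀ r : ℕ, r.Prime → r ∣ Nat.card Mb → ∀ y : G ⧸ center G, orderOf y = r →
      ∃ c : G ⧸ center G, c * y * c⁻¹ ∈ Mb := by
    intro r hr hrM y hy
    have := Fact.mk hr
    obtain ⟨S⟩ := (inferInstance : Nonempty (Sylow r Mb))
    obtain ⟨Y, hY⟩ := (IsPGroup.of_card (n := 1) (by rw [Nat.card_zpowers, hy, pow_one] :
      Nat.card (zpowers y) = r ^ 1)).exists_le_sylow
    have hSG : ¬ r ∣ ((S : Subgroup Mb).map Mb.subtype).index := by
      rw [index_map_of_injective _ Mb.subtype_injective, range_subtype]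
      refine fun hd => (hr.dvd_mul.1 hd).elim S.not_dvd_index fun h2 => ?_
      have e1 := card_mul_index Mb
      rw [← hKcard, mul_comm] at e1
      rw [Nat.eq_of_mul_eq_mul_right Nat.card_pos e1] at h2
      exact (hr.coprime_iff_not_dvd.1 (hcopKM.symm.coprime_dvd_left hrM)) h2
    obtain ⟨c, hc⟩ := MulAction.exists_smul_eq (G ⧸ center G) Y ((S.2.map Mb.subtype).toSylow hSG)
    refine ⟨c, map_subtype_le (S : Subgroup Mb) ?_⟩
    have h2 : (MulAut.conj c).toMonoidHom y ∈ ((c • Y : Sylow r (G ⧸ center G)) : Subgroup (G ⧸ center G)) :=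
      mem_map_of_mem (MulAut.conj c).toMonoidHom (hY (mem_zpowers y))
    rw [hc] at h2
    exact h2
  have hcardQ : Nat.card ((G ⧸ center G) ⧸ K) = Nat.card Mb := by
    have e1 := card_mul_index K
    rw [← hKcard] at e1
    rw [← index_eq_card]
    exact Nat.eq_of_mul_eq_mul_left Nat.card_pos e1
  -- elements of order prime to `|Mb|` lie in `K`
  have hKmem : ∀ y : G ⧸ center G, (orderOf y).Coprime (Nat.card Mb) → y ∈ K := by
    intro y hy
    refine (QuotientGroup.eq_one_iff y).1 (orderOf_eq_one_iff.1 ?_)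
    exact Nat.eq_one_of_dvd_coprimes hy (orderOf_map_dvd (QuotientGroup.mk' K) y) (hcardQ ▸ orderOf_dvd_natCard _)
  have hKM' : ∀ y, y ∈ K → y ∈ Mb → y = 1 := fun y h1 h2 => mem_bot.1 (hKM ▸ ⟨h1, h2⟩)
  -- centralizers of elements of `K`
  have hKcent : ∀ t : G, π t ∈ K → t ∉ center G → centralizer ({t} : Set G) = K.comap π := by
    intro t ht htc
    have hle : centralizer ({t} : Set G) ≤ K.comap π := by
      intro g hg
      refine hKmem (π g) (Nat.coprime_of_dvd fun r hr hrg hrM => ?_)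
      obtain ⟨i, hi⟩ : ∃ i : ℕ, orderOf (π g ^ i) = r := ⟨orderOf (π g) / r,
        orderOf_pow_orderOf_div (orderOf_pos _).ne' hrg⟩
      obtain ⟨c, hc⟩ := hconj r hr hrM _ hi
      obtain ⟨d, rfl⟩ := QuotientGroup.mk'_surjective _ c
      rw [← map_pow, ← map_inv, ← map_mul, ← map_mul] at hc
      have hu := hmemM _ hc
      have huc : d * g ^ i * d⁻¹ ∉ center G := fun hz => by
        have h1 : π (d * g ^ i * d⁻¹) = 1 := (QuotientGroup.eq_one_iff _).2 hz
        rw [map_mul, map_mul, map_inv, map_pow, mul_inv_eq_one, mul_eq_left] at h1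
        rw [h1, orderOf_one] at hi
        exact hr.one_lt.ne hi
      have htM : d * t * d⁻¹ ∈ M := by
        rw [← hcent _ hu huc]
        refine mem_centralizer_singleton_iff.2 ?_
        have hgt : Commute (g ^ i) t := (show Commute g t from mem_centralizer_singleton_iff.1 hg).pow_left i
        calc d * t * d⁻¹ * (d * g ^ i * d⁻¹) = d * (t * g ^ i) * d⁻¹ := by group
          _ = _ := by rw [← hgt.eq]; group
      have h2 : π (d * t * d⁻¹) = 1 := hKM' _ (by
        rw [map_mul, map_mul, map_inv]; exact hKn.conj_mem _ ht _) ⟨_, htM, rfl⟩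
      rw [map_mul, map_mul, map_inv, mul_inv_eq_one, mul_eq_left] at h2
      exact htc ((QuotientGroup.eq_one_iff t).1 h2)
    rcases hle.eq_or_lt with he | hlt
    · exact he
    exfalso
    have htop := (h t htc).2 _ hlt
    obtain ⟨⟨m, hm⟩, hm1⟩ := ne_bot_iff_exists_ne_one.1 hMb1
    obtain ⟨m', rfl⟩ := QuotientGroup.mk'_surjective _ m
    exact hm1 (Subtype.ext (hKM' _ (htop ▸ mem_top m' : m' ∈ K.comap π) hm))
  have hKab : ∀ a ∈ K, ∀ b ∈ K, a * b = b * a := by
    intro a ha b hb
    obtain ⟨t, rfl⟩ := QuotientGroup.mk'_surjective _ a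
    obtain ⟨s, rfl⟩ := QuotientGroup.mk'_surjective _ b
    by_cases htc : t ∈ center G
    · rw [show QuotientGroup.mk' (center G) t = 1 from (QuotientGroup.eq_one_iff t).2 htc, one_mul, mul_one]
    have hs : s ∈ centralizer ({t} : Set G) := by rw [hKcent t ha htc]; exact hb
    rw [← map_mul, ← mem_centralizer_singleton_iff.1 hs, map_mul]
  -- subgroups containing `Mb`
  have hover : ∀ H : Subgroup (G ⧸ center G), Mb ≤ H → H = Mb ∨ H = ⊤ := by
    intro H hH
    have hle : M ≤ H.comap π := fun u hu => hH ⟨u, hu, rfl⟩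
    rcases hle.eq_or_lt with he | hlt
    · exact Or.inl (le_antisymm (fun y hy => by
        obtain ⟨u, rfl⟩ := QuotientGroup.mk'_surjective _ y
        exact ⟨u, he.symm ▸ hy, rfl⟩) hH)
    · exact Or.inr (eq_top_iff.2 fun y _ => by
        obtain ⟨u, rfl⟩ := QuotientGroup.mk'_surjective _ y
        exact ((h x hxkc).2 _ hlt ▸ mem_top u : u ∈ H.comap π))
  obtain ⟨⟨e, he⟩, he1⟩ : ∃ e : K, e ≠ 1 := by
    by_contra! hall
    refine hMbtop (eq_top_iff.2 fun y _ => ?_)
    obtain ⟨k₁, hk₁, m, hm, rfl⟩ := hdec y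
    rw [show k₁ = 1 from congrArg Subtype.val (hall ⟨k₁, hk₁⟩), one_mul]
    exact hm
  obtain ⟨t, rfl⟩ := QuotientGroup.mk'_surjective _ e
  have htc : t ∉ center G := fun hc => he1 (Subtype.ext ((QuotientGroup.eq_one_iff t).2 hc))
  have hKmax := h t htc
  rw [hKcent t he htc] at hKmax
  -- `Mb` has prime order
  have hprimeM : ∀ H : Subgroup (G ⧸ center G), H ≤ Mb → H ≠ ⊥ → H = Mb := by
    intro H hH hH1
    refine le_antisymm hH fun m hm => ?_
    have hlt : K.comap π < (K ⊔ H).comap π := by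
      refine lt_of_le_of_ne (comap_mono le_sup_left) fun e2 => hH1 (eq_bot_iff.2 fun y hy => ?_)
      have e3 := comap_injective (QuotientGroup.mk'_surjective (center G)) e2
      exact mem_bot.2 (hKM' y (e3.symm ▸ mem_sup_right hy) (hH hy))
    have htop := hKmax.2 _ hlt
    obtain ⟨m', rfl⟩ := QuotientGroup.mk'_surjective _ m
    have hmem : π m' ∈ K ⊔ H := (htop ▸ mem_top m' : m' ∈ (K ⊔ H).comap π)
    obtain ⟨k₁, hk₁, h₁, hh₁, hkh⟩ := mem_sup_of_normal_left.1 hmem
    have : k₁ = 1 := hKM' k₁ hk₁ (by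
      have := mul_mem (hkh.symm ▸ hm : k₁ * h₁ ∈ Mb) (inv_mem (hH hh₁))
      rwa [mul_inv_cancel_right] at this)
    rw [this, one_mul] at hkh
    exact hkh ▸ hh₁
  have hqcard : ∃ q : ℕ, q.Prime ∧ Nat.card Mb = q := by
    have h1 : 1 < Nat.card Mb := lt_of_le_of_ne Nat.card_pos (fun e => hMb1 (Subgroup.card_eq_one.1 e.symm))
    have hq : (Nat.card Mb).minFac.Prime := Nat.minFac_prime h1.ne'
    have := Fact.mk hq
    obtain ⟨m, hm⟩ := exists_prime_orderOf_dvd_card' _ (Nat.minFac_dvd (Nat.card Mb))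
    rw [← Subgroup.orderOf_coe] at hm
    refine ⟨_, hq, ?_⟩
    conv_lhs => rw [← hprimeM (zpowers (m : G ⧸ center G)) (zpowers_le.2 m.2) (fun e => by
      rw [zpowers_eq_bot] at e
      rw [e, orderOf_one] at hm
      exact hq.one_lt.ne hm)]
    rw [Nat.card_zpowers, hm]
  obtain ⟨q, hq, hMq⟩ := hqcard
  -- `K` is a `p`-group
  have hinv : ∀ L : Subgroup (G ⧸ center G), L.Normal → L ≤ K → L ≠ ⊥ → L = K := by
    intro L hL hLK hL1
    refine le_antisymm hLK fun y hy => ?_
    rcases hover (L ⊔ Mb) le_sup_right with hM' | htop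
    · exact absurd (eq_bot_iff.2 fun y hy => mem_bot.2 (hKM' y (hLK hy) (hM' ▸ mem_sup_left hy))) hL1
    · obtain ⟨l, hl, m, hm, hlm⟩ := mem_sup_of_normal_left.1 (htop ▸ mem_top y : y ∈ L ⊔ Mb)
      have : m = 1 := hKM' m (by
        have := mul_mem (inv_mem (hLK hl)) (hlm.symm ▸ hy : l * m ∈ K)
        rwa [inv_mul_cancel_left] at this) hm
      rw [this, mul_one] at hlm
      exact hlm ▸ hl
  have hKne : 1 < Nat.card K := lt_of_le_of_ne Nat.card_pos fun e => he1 (by
    have := (Nat.card_eq_one_iff_unique.1 e.symm).1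
    exact Subsingleton.elim _ _)
  set p := (Nat.card K).minFac with hpdef
  have hp : p.Prime := Nat.minFac_prime hKne.ne'
  have := Fact.mk hp
  let L : Subgroup (G ⧸ center G) :=
    { carrier := {y | y ∈ K ∧ ∃ n : ℕ, y ^ p ^ n = 1}
      one_mem' := ⟨one_mem K, 0, by simp⟩
      mul_mem' := fun {u v} ⟨hu, n, hun⟩ ⟨hv, n', hvn⟩ => ⟨mul_mem hu hv, n + n', by
        rw [(show Commute u v from hKab u hu v hv).mul_pow, pow_add, pow_mul, hun, one_pow, one_mul,
          mul_comm (p ^ n), pow_mul, hvn, one_pow]⟩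
      inv_mem' := fun {u} ⟨hu, n, hun⟩ => ⟨inv_mem hu, n, by rw [inv_pow, hun, inv_one]⟩ }
  have hLK : L = K := by
    refine hinv L ⟨fun y hy g => ⟨hKn.conj_mem y hy.1 g, hy.2.imp fun n hn => by
      rw [conj_pow, hn, mul_one, mul_inv_cancel]⟩⟩ (fun y hy => hy.1) fun e => ?_
    obtain ⟨y, hy⟩ := exists_prime_orderOf_dvd_card' p (Nat.minFac_dvd (Nat.card K))
    rw [← Subgroup.orderOf_coe] at hy
    have : (y : G ⧸ center G) ∈ L := ⟨y.2, 1, by rw [pow_one, ← hy, pow_orderOf_eq_one]⟩
    rw [e, mem_bot] at this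
    rw [this, orderOf_one] at hy
    exact hp.one_lt.ne hy
  obtain ⟨n, hKn'⟩ := IsPGroup.iff_card.1 (show IsPGroup p K from fun y => by
    obtain ⟨n, hn⟩ := (hLK.symm ▸ y.2 : (y : G ⧸ center G) ∈ L).2
    exact ⟨n, Subtype.ext hn⟩)
  have hpq : p ≠ q := fun e => by
    have h1 := hcopKM.coprime_dvd_left (Nat.minFac_dvd _)
    rw [hMq, ← hpdef, e, Nat.coprime_self] at h1
    exact hq.one_lt.ne' h1
  refine ⟨fun hab => ?_, fun H hH => ?_, p, q, n, hp, hq, hpq, ?_, fun P hP => ?_⟩
  · obtain ⟨⟨m, hm⟩, hm1⟩ := ne_bot_iff_exists_ne_one.1 hMb1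
    exact hMbtop (eq_top_iff.2 fun g _ => hti g m hm (fun e => hm1 (Subtype.ext e))
      (by rwa [hab.is_comm.comm g m, mul_inv_cancel_right]))
  · by_cases hqH : q ∣ Nat.card H
    · have := Fact.mk hq
      obtain ⟨y, hy⟩ := exists_prime_orderOf_dvd_card' q hqH
      rw [← Subgroup.orderOf_coe] at hy
      obtain ⟨c, hc⟩ := hconj q hq (hMq ▸ dvd_rfl) _ hy
      have hle : Mb ≤ H.map (MulAut.conj c).toMonoidHom := by
        rw [← hprimeM (zpowers (c * y * c⁻¹)) (zpowers_le.2 hc) (fun e => by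
          rw [zpowers_eq_bot, mul_inv_eq_one, mul_eq_left] at e
          rw [e, orderOf_one] at hy
          exact hq.one_lt.ne hy)]
        exact zpowers_le.2 ⟨y, y.2, rfl⟩
      rcases hover _ hle with hM' | htop
      · refine ⟨⟨fun u v => Subtype.ext ((MulAut.conj c).injective ?_)⟩⟩
        show MulAut.conj c ((u : G ⧸ center G) * v) = MulAut.conj c ((v : G ⧸ center G) * u)
        rw [map_mul, map_mul]
        exact hMbab _ (hM' ▸ ⟨u, u.2, rfl⟩) _ (hM' ▸ ⟨v, v.2, rfl⟩)
      · refine absurd (eq_top_iff.2 fun u _ => ?_) hH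
        obtain ⟨v, hv, hvu⟩ := (htop ▸ mem_top (c * u * c⁻¹) : c * u * c⁻¹ ∈ H.map (MulAut.conj c).toMonoidHom)
        rwa [show v = u from (MulAut.conj c).injective hvu] at hv
    · refine ⟨⟨fun u v => Subtype.ext (hKab _ ?_ _ ?_)⟩⟩ <;>
      · refine hKmem _ ?_
        rw [hMq, Nat.coprime_comm, hq.coprime_iff_not_dvd, Subgroup.orderOf_coe]
        exact fun hd => hqH (hd.trans (orderOf_dvd_natCard _))
  · rw [← hKcard, hKn', hMq]
  · have hle : P ≤ K := fun y hy => hKmem y (by
      rw [hMq]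
      refine Nat.Coprime.coprime_dvd_left (?_ : orderOf y ∣ p ^ n) (((Nat.coprime_primes hp hq).2 hpq).pow_left n)
      rw [← hP]; exact Subgroup.orderOf_dvd_natCard _ hy)
    rw [eq_of_le_of_card_ge hle (by rw [hP, hKn'])]
    exact hKn

end CfsgLib.Coprime
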