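import Cfsg.Agent.Lib.Coprime.MaximalCentralizers
import Cfsg.Agent.Lib.Coprime.Generation
import Cfsg.Agent.Lib.Solvable.FrobeniusKernel
import Cfsg.Agent.Lib.Transfer.PPrimeAut
import Cfsg.Prelude.Def_Solvable
set_option autoImplicit false

/-!
Normal subgroups in which the centralizers of noncentral elements are maximal in the whole group.
-/

namespace CfsgLib.Coprime

open Subgroup
open scoped commutatorElement

variable {G : Type*} [Group G] [Finite G] {N : Subgroup G} [hNn : N.Normal]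

/-- The centre of `N` as a subgroup of `G`. -/
def relCenter (N : Subgroup G) : Subgroup G := N ⊓ centralizer (N : Set G)

/-- Noncentral elements of `N` have maximal centralizers. -/
def RelMaxCent (N : Subgroup G) : Prop :=
  ∀ x ∈ N, x ∉ relCenter N → IsCoatom (centralizer ({x} : Set G))

omit [Finite G] in
instance relCenter_normal : (relCenter N).Normal := by
  refine ⟨fun z hz g => ⟨hNn.conj_mem z hz.1 g, mem_centralizer_iff.2 fun n hn => ?_⟩⟩
  have h := mem_centralizer_iff.1 hz.2 (g⁻¹ * n * g) (by simpa using hNn.conj_mem n hn g⁻¹)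
  calc n * (g * z * g⁻¹) = g * ((g⁻¹ * n * g) * z) * g⁻¹ := by group
    _ = _ := by rw [h]; group

omit [Finite G] hNn in
theorem relCenter_comm {z n : G} (hz : z ∈ relCenter N) (hn : n ∈ N) : n * z = z * n :=
  mem_centralizer_iff.1 hz.2 n hn

omit [Finite G] hNn in
theorem relCenter_mem_centralizer {z x : G} (hz : z ∈ relCenter N) (hx : x ∈ N) :
    z ∈ centralizer ({x} : Set G) :=
  mem_centralizer_singleton_iff.2 (relCenter_comm hz hx).symm

namespace RelMaxCent

variable (h : RelMaxCent N)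
include h

omit [Finite G] hNn in
theorem eq_of_le {x y : G} (hxN : x ∈ N) (hx : x ∉ relCenter N) (hyN : y ∈ N) (hy : y ∉ relCenter N)
    (hle : centralizer ({x} : Set G) ≤ centralizer ({y} : Set G)) :
    centralizer ({x} : Set G) = centralizer ({y} : Set G) :=
  (hle.eq_or_lt.resolve_right fun hlt => (h y hyN hy).1 ((h x hxN hx).2 _ hlt))

omit [Finite G] hNn in
theorem not_le {x : G} (hxN : x ∈ N) (hx : x ∉ relCenter N) : ¬ N ≤ centralizer ({x} : Set G) := fun hle =>
  hx ⟨hxN, mem_centralizer_iff.2 fun n hn => mem_centralizer_singleton_iff.1 (hle hn)⟩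

omit [Finite G] in
theorem decomp {x : G} (hxN : x ∈ N) (hx : x ∉ relCenter N) (g : G) :
    ∃ n ∈ N, ∃ m ∈ centralizer ({x} : Set G), g = n * m := by
  have htop := (h x hxN hx).2 _ (left_lt_sup.2 (not_le h hxN hx) :
    centralizer ({x} : Set G) < centralizer ({x} : Set G) ⊔ N)
  obtain ⟨n, hn, m, hm, e⟩ := mem_sup_of_normal_left.1 (show g ∈ N ⊔ centralizer ({x} : Set G) by
    rw [sup_comm, htop]; exact mem_top g)
  exact ⟨n, hn, m, hm, e.symm⟩

omit [Finite G] in
theorem between {x : G} (hxN : x ∈ N) (hx : x ∉ relCenter N) {L : Subgroup G} (hL : L ≤ N)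
    (hW : N ⊓ centralizer ({x} : Set G) ≤ L)
    (hinv : ∀ m ∈ centralizer ({x} : Set G), ∀ l ∈ L, m * l * m⁻¹ ∈ L) :
    L = N ⊓ centralizer ({x} : Set G) ∨ L = N := by
  have hn : centralizer ({x} : Set G) ≤ normalizer (L : Set G) := fun m hm => mem_normalizer_iff.2 fun l =>
    ⟨fun hl => hinv m hm l hl, fun hl => by
      have := hinv m⁻¹ (inv_mem hm) _ hl
      simpa [mul_assoc] using this⟩
  rcases (le_sup_right : centralizer ({x} : Set G) ≤ L ⊔ centralizer ({x} : Set G)).eq_or_lt with he | hlt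
  · exact Or.inl (le_antisymm (le_inf hL (le_sup_left.trans he.ge)) hW)
  · refine Or.inr (le_antisymm hL fun n hn' => ?_)
    have htop := (h x hxN hx).2 _ hlt
    have hmem : n ∈ (↑(L ⊔ centralizer ({x} : Set G)) : Set G) := by rw [htop]; exact mem_top n
    rw [coe_mul_of_right_le_normalizer_left _ _ hn] at hmem
    obtain ⟨l, hl, m, hm, rfl⟩ := hmem
    have : m ∈ L := hW ⟨by simpa using mul_mem (inv_mem (hL hl)) hn', hm⟩
    exact mul_mem hl this

omit [Finite G] in
theorem comm_mem_of_normal {x : G} (hxN : x ∈ N) (hx : x ∉ relCenter N)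
    (hK : (centralizer ({x} : Set G)).Normal) (a b : G) : ⁅a, b⁆ ∈ centralizer ({x} : Set G) := by
  set K := centralizer ({x} : Set G) with hKdef
  have hcyc : ∀ a b : G ⧸ K, a * b = b * a := by
    intro a b
    by_cases ha : a = 1
    · rw [ha, one_mul, mul_one]
    obtain ⟨a, rfl⟩ := QuotientGroup.mk'_surjective K a
    have hgen : zpowers (QuotientGroup.mk' K a) = ⊤ := by
      by_contra hne
      have hle : K ≤ (zpowers (QuotientGroup.mk' K a)).comap (QuotientGroup.mk' K) := fun t ht => by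
        show QuotientGroup.mk' K t ∈ zpowers _
        rw [show QuotientGroup.mk' K t = 1 from (QuotientGroup.eq_one_iff t).2 ht]; exact one_mem _
      rcases hle.eq_or_lt with he | hlt
      · refine ha ((QuotientGroup.eq_one_iff a).2 ?_)
        rw [he]; exact mem_zpowers _
      · refine hne ?_
        rw [← map_comap_eq_self_of_surjective (QuotientGroup.mk'_surjective K) (zpowers _), (h x hxN hx).2 _ hlt,
          map_top_of_surjective _ (QuotientGroup.mk'_surjective K)]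
    obtain ⟨i, rfl⟩ := mem_zpowers_iff.1 (hgen ▸ mem_top b :)
    exact ((Commute.refl _).zpow_right i).eq
  refine (QuotientGroup.eq_one_iff _).1 ?_
  show QuotientGroup.mk' K ⁅a, b⁆ = 1
  rw [map_commutatorElement, commutatorElement_eq_one_iff_mul_comm]
  exact hcyc _ _

omit [Finite G] in
theorem pow_mem_of_normal {x : G} (hxN : x ∈ N) (hx : x ∉ relCenter N)
    (hK : (centralizer ({x} : Set G)).Normal) {t : G} (ht : t ∉ centralizer ({x} : Set G)) (y : G) :
    ∃ i : ℤ, y * (t ^ i)⁻¹ ∈ centralizer ({x} : Set G) := by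
  set K := centralizer ({x} : Set G) with hKdef
  have hgen : (zpowers (QuotientGroup.mk' K t)) = ⊤ := by
    have hle : K ≤ (zpowers (QuotientGroup.mk' K t)).comap (QuotientGroup.mk' K) := fun s hs => by
      show QuotientGroup.mk' K s ∈ zpowers _
      rw [show QuotientGroup.mk' K s = 1 from (QuotientGroup.eq_one_iff s).2 hs]; exact one_mem _
    rcases hle.eq_or_lt with he | hlt
    · refine absurd ?_ ht
      rw [he]; exact mem_zpowers _
    · rw [← map_comap_eq_self_of_surjective (QuotientGroup.mk'_surjective K) (zpowers _), (h x hxN hx).2 _ hlt,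
        map_top_of_surjective _ (QuotientGroup.mk'_surjective K)]
  obtain ⟨i, hi⟩ := mem_zpowers_iff.1 (hgen ▸ mem_top (QuotientGroup.mk' K y) :)
  refine ⟨i, (QuotientGroup.eq_one_iff _).1 ?_⟩
  show QuotientGroup.mk' K (y * (t ^ i)⁻¹) = 1
  rw [map_mul, map_inv, map_zpow, hi, mul_inv_cancel]

/-- A normal centralizer does not contain the `N`-part of a non-normal one. -/
theorem not_normal_of_le {x u : G} (hxN : x ∈ N) (hx : x ∉ relCenter N)
    (hn : ¬ (centralizer ({x} : Set G)).Normal) (huN : u ∈ N) (hu : u ∉ relCenter N)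
    (hK : (centralizer ({u} : Set G)).Normal) :
    ¬ N ⊓ centralizer ({x} : Set G) ≤ centralizer ({u} : Set G) := by
  intro hle
  rcases between h hxN hx (L := N ⊓ centralizer ({u} : Set G)) inf_le_left (le_inf inf_le_left hle)
    (fun m _ l hl => ⟨hNn.conj_mem l hl.1 m, hK.conj_mem l hl.2 m⟩) with he | he
  · refine hn ⟨fun m hm g => ?_⟩
    obtain ⟨n, hn', m', hm', rfl⟩ := decomp h hxN hx g
    have hc : ⁅n, m' * m * m'⁻¹⁆ ∈ N ⊓ centralizer ({u} : Set G) :=
      ⟨N.mul_mem (N.mul_mem hn' (by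
        have := hNn.conj_mem _ (inv_mem hn') (m' * m * m'⁻¹)
        exact this)) (one_mem N) |> fun _ => by
        rw [commutatorElement_def, show n * (m' * m * m'⁻¹) * n⁻¹ * (m' * m * m'⁻¹)⁻¹ =
          n * ((m' * m * m'⁻¹) * n⁻¹ * (m' * m * m'⁻¹)⁻¹) by group]
        exact N.mul_mem hn' (hNn.conj_mem _ (inv_mem hn') _),
        comm_mem_of_normal h huN hu hK _ _⟩
    rw [he] at hc
    have e : n * m' * m * (n * m')⁻¹ = ⁅n, m' * m * m'⁻¹⁆ * (m' * m * m'⁻¹) := by
      simp only [commutatorElement_def]; group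
    rw [e]
    exact mul_mem hc.2 (mul_mem (mul_mem hm' hm) (inv_mem hm'))
  · exact not_le h huN hu (he.ge.trans inf_le_right)

theorem of_coprime {x u : G} (hxN : x ∈ N) (hx : x ∉ relCenter N) (huN : u ∈ N)
    (hu : u ∈ centralizer ({x} : Set G)) (hcop : (orderOf x).Coprime (orderOf u)) (huc : u ∉ relCenter N) :
    centralizer ({u} : Set G) = centralizer ({x} : Set G) := by
  have hc : Commute x u := (mem_centralizer_singleton_iff.1 hu).symm
  obtain ⟨s, t, hst⟩ := Nat.isCoprime_iff_coprime.2 hcop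
  have ex : (x * u) ^ (t * (orderOf u : ℤ)) = x := by
    rw [hc.mul_zpow, mul_comm t, zpow_mul u, zpow_natCast, pow_orderOf_eq_one, one_zpow, mul_one,
      show (orderOf u : ℤ) * t = 1 + (-s) * (orderOf x : ℤ) by linarith, zpow_add, zpow_one, mul_comm (-s),
      zpow_mul, zpow_natCast, pow_orderOf_eq_one, one_zpow, mul_one]
  have eu : (x * u) ^ (s * (orderOf x : ℤ)) = u := by
    rw [hc.mul_zpow, mul_comm s, zpow_mul x, zpow_natCast, pow_orderOf_eq_one, one_zpow, one_mul,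
      show (orderOf x : ℤ) * s = 1 + (-t) * (orderOf u : ℤ) by linarith, zpow_add, zpow_one, mul_comm (-t),
      zpow_mul, zpow_natCast, pow_orderOf_eq_one, one_zpow, mul_one]
  have hxuN : x * u ∈ N := mul_mem hxN huN
  have hxu : x * u ∉ relCenter N := fun hm => hx (ex ▸ zpow_mem hm _)
  have hle : ∀ k : ℤ, centralizer ({x * u} : Set G) ≤ centralizer ({(x * u) ^ k} : Set G) := fun k g hg =>
    mem_centralizer_singleton_iff.2 ((show Commute g (x * u) from mem_centralizer_singleton_iff.1 hg).zpow_right k).eq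
  have h1 := hle (t * (orderOf u : ℤ))
  rw [ex] at h1
  have h2 := hle (s * (orderOf x : ℤ))
  rw [eu] at h2
  rw [← eq_of_le h hxuN hxu hxN hx h1, eq_of_le h hxuN hxu huN huc h2]

theorem exists_primePow {x : G} (hxN : x ∈ N) (hx : x ∉ relCenter N) :
    ∃ p : ℕ, p.Prime ∧ ∃ k a : ℕ, orderOf (x ^ k) = p ^ a ∧ x ^ k ∉ relCenter N ∧
      centralizer ({x} : Set G) = centralizer ({x ^ k} : Set G) := by
  have hd : orderOf (QuotientGroup.mk' (relCenter N) x) ≠ 1 := fun e =>
    hx ((QuotientGroup.eq_one_iff x).1 (orderOf_eq_one_iff.1 e))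
  set p := (orderOf (QuotientGroup.mk' (relCenter N) x)).minFac with hp
  have hpp : p.Prime := Nat.minFac_prime hd
  set k := orderOf x / p ^ (orderOf x).factorization p with hk
  have hknc : x ^ k ∉ relCenter N := by
    intro hm
    have : QuotientGroup.mk' (relCenter N) x ^ k = 1 := by
      rw [← map_pow]; exact (QuotientGroup.eq_one_iff _).2 hm
    exact Nat.not_dvd_ordCompl hpp (orderOf_pos x).ne' ((Nat.minFac_dvd _).trans (orderOf_dvd_of_pow_eq_one this))
  refine ⟨p, hpp, k, (orderOf x).factorization p, ?_, hknc,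
    eq_of_le h hxN hx (pow_mem hxN k) hknc fun g hg => mem_centralizer_singleton_iff.2
      ((show Commute g x from mem_centralizer_singleton_iff.1 hg).pow_right k).eq⟩
  have hne : k ≠ 0 := (Nat.ordCompl_pos p (orderOf_pos x).ne').ne'
  rw [orderOf_pow' _ hne, Nat.gcd_eq_right (Nat.div_dvd_of_dvd (Nat.ordProj_dvd _ _))]
  exact Nat.div_div_self (Nat.ordProj_dvd _ _) (orderOf_pos x).ne'

end RelMaxCent

/-- An element whose centralizer meets `N` in an abelian subgroup behaving like a Frobenius complement. -/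
def RelGood (N : Subgroup G) (x : G) : Prop :=
  x ∈ N ∧ x ∉ relCenter N ∧ ¬ (centralizer ({x} : Set G)).Normal ∧
    (∀ u ∈ N ⊓ centralizer ({x} : Set G), ∀ v ∈ N ⊓ centralizer ({x} : Set G), u * v = v * u) ∧
    ∀ w ∈ N ⊓ centralizer ({x} : Set G), w ∉ relCenter N →
      centralizer ({w} : Set G) = centralizer ({x} : Set G)

/-- The data of a non-normal centralizer whose `p'`-part is central. -/
structure RelType (N : Subgroup G) (x : G) (p : ℕ) (P : Subgroup G) : Prop where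
  mem : x ∈ N
  nc : x ∉ relCenter N
  nn : ¬ (centralizer ({x} : Set G)).Normal
  pgroup : IsPGroup p P
  self_mem : x ∈ P
  le : P ≤ N ⊓ centralizer ({x} : Set G)
  prime' : ∀ w ∈ N ⊓ centralizer ({x} : Set G), ¬ p ∣ orderOf w → w ∈ relCenter N
  decomp : ∀ w ∈ N ⊓ centralizer ({x} : Set G), ∃ v ∈ P, ∃ z ∈ relCenter N, w = v * z
  pmem : ∀ v ∈ N ⊓ centralizer ({x} : Set G), (∃ b : ℕ, orderOf v = p ^ b) → v ∈ P
  kind : P.Normal ∨ (normalizer (P : Set G) = centralizer ({x} : Set G) ∧ ¬ p ∣ P.relIndex N)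

namespace RelMaxCent

variable (h : RelMaxCent N)
include h

theorem split (u : G) {r : ℕ} (hr : r.Prime) :
    ∃ v ∈ zpowers u, ∃ w ∈ zpowers u, u = v * w ∧ (∃ b : ℕ, orderOf v = r ^ b) ∧ ¬ r ∣ orderOf w := by
  set j := (orderOf u).factorization r
  set m := orderOf u / r ^ j
  have hjm : r ^ j * m = orderOf u := Nat.ordProj_mul_ordCompl_eq_self _ r
  have hmr : ¬ r ∣ m := Nat.not_dvd_ordCompl hr (orderOf_pos u).ne'
  obtain ⟨s, t, hst⟩ := Nat.isCoprime_iff_coprime.2 (((hr.coprime_iff_not_dvd).2 hmr).pow_left j)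
  refine ⟨(u ^ m) ^ t, zpow_mem (pow_mem (mem_zpowers u) _) _, (u ^ r ^ j) ^ s,
    zpow_mem (pow_mem (mem_zpowers u) _) _, ?_, ?_, ?_⟩
  · rw [← zpow_natCast u, ← zpow_natCast u (r ^ j), ← zpow_mul, ← zpow_mul, ← zpow_add,
      show (m : ℤ) * t + ((r ^ j : ℕ) : ℤ) * s = 1 by linarith, zpow_one]
  · obtain ⟨b, -, hb⟩ := (Nat.dvd_prime_pow hr).1 (orderOf_dvd_of_pow_eq_one
      (x := (u ^ m) ^ t) (n := r ^ j) (by
        rw [← zpow_natCast, ← zpow_mul, mul_comm t, zpow_mul, zpow_natCast, ← pow_mul, mul_comm m, hjm,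
          pow_orderOf_eq_one, one_zpow]))
    exact ⟨b, hb⟩
  · intro hd
    refine hmr (hd.trans (orderOf_dvd_of_pow_eq_one ?_))
    rw [← zpow_natCast, ← zpow_mul, mul_comm s, zpow_mul, zpow_natCast, ← pow_mul, hjm, pow_orderOf_eq_one,
      one_zpow]

theorem type_of {x : G} {p a : ℕ} [Fact p.Prime] (hxN : x ∈ N) (hx : x ∉ relCenter N) (hxp : orderOf x = p ^ a)
    (hn : ¬ (centralizer ({x} : Set G)).Normal) : RelGood N x ∨ ∃ P : Subgroup G, RelType N x p P := by
  classical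
  have hp : p.Prime := Fact.out
  set W := N ⊓ centralizer ({x} : Set G) with hW
  have hzW : ∀ {u v : G}, u ∈ W → v ∈ zpowers u → v ∈ W := fun hu hv => zpowers_le.2 hu hv
  have hp' : ∀ u ∈ W, ¬ p ∣ orderOf u → u ∉ relCenter N →
      centralizer ({u} : Set G) = centralizer ({x} : Set G) := fun u hu hd huc =>
    of_coprime h hxN hx hu.1 hu.2 (hxp ▸ ((hp.coprime_iff_not_dvd).2 hd).pow_left a) huc
  by_cases hy : ∃ y ∈ W, ¬ p ∣ orderOf y ∧ y ∉ relCenter N
  · obtain ⟨y, hyW, hyd, hyc⟩ := hy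
    obtain ⟨q, hq, k, b, hqb, hykc, -⟩ := exists_primePow h hyW.1 hyc
    have hykW : y ^ k ∈ W := pow_mem hyW k
    have hykd : ¬ p ∣ orderOf (y ^ k) := fun hd => hyd (hd.trans (orderOf_pow_dvd k))
    have hqp : q ≠ p := by
      rintro rfl
      rcases Nat.eq_zero_or_pos b with rfl | hb
      · rw [pow_zero, orderOf_eq_one_iff] at hqb
        exact hykc (hqb ▸ one_mem _)
      · exact hykd ((dvd_pow_self q hb.ne').trans (dvd_of_eq hqb.symm))
    have hyk := hp' _ hykW hykd hykc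
    have hall : ∀ w ∈ W, w ∉ relCenter N → centralizer ({w} : Set G) = centralizer ({x} : Set G) := by
      intro w hw hwc
      obtain ⟨r, hr, i, c, hrc, hwic, he⟩ := exists_primePow h hw.1 hwc
      rw [he]
      have hwiW : w ^ i ∈ W := pow_mem hw i
      rcases eq_or_ne r p with rfl | hrp
      · have := of_coprime h (u := w ^ i) hykW.1 hykc hwiW.1 (hyk ▸ hwiW.2)
          (by rw [hqb, hrc]; exact ((Nat.coprime_primes hq hr).2 hqp).pow b c) hwic
        rw [this, hyk]
      · refine hp' _ hwiW ?_ hwic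
        rw [hrc]
        exact fun hd => hrp ((Nat.prime_dvd_prime_iff_eq hp hr).1 (hp.dvd_of_dvd_pow hd)).symm
    refine Or.inl ⟨hxN, hx, hn, fun u hu v hv => ?_, hall⟩
    by_cases huc : u ∈ relCenter N
    · exact (relCenter_comm huc hv.1).symm
    · have h1 : v ∈ centralizer ({u} : Set G) := (hall u hu huc).symm ▸ hv.2
      exact (mem_centralizer_singleton_iff.1 h1).symm
  push Not at hy
  right
  obtain ⟨S⟩ := (inferInstance : Nonempty (Sylow p W))
  have hnil : Group.IsNilpotent W := by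
    let f : W →* G ⧸ relCenter N := (QuotientGroup.mk' (relCenter N)).comp W.subtype
    have hf : IsPGroup p f.range := by
      rintro ⟨t, u, rfl⟩
      obtain ⟨v, hv, w, hw, huw, ⟨b, hb⟩, hd⟩ := split h (u : G) hp
      refine ⟨b, Subtype.ext ?_⟩
      show (f u) ^ p ^ b = 1
      have e : f u = QuotientGroup.mk' (relCenter N) v := by
        show QuotientGroup.mk' (relCenter N) (u : G) = _
        rw [huw, map_mul, show QuotientGroup.mk' (relCenter N) w = 1 from
          (QuotientGroup.eq_one_iff _).2 (hy w (hzW u.2 hw) hd), mul_one]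
      rw [e, ← map_pow, ← hb, pow_orderOf_eq_one, map_one]
    have := hf.isNilpotent
    refine Subgroup.isNilpotent_of_ker_le_center f.rangeRestrict (fun z hz => ?_)
    rw [MonoidHom.ker_rangeRestrict] at hz
    exact mem_center_iff.2 fun u => Subtype.ext (relCenter_comm ((QuotientGroup.eq_one_iff _).1 hz) u.2.1)
  have hSn : (S : Subgroup W).Normal :=
    ((Group.isNilpotent_of_finite_tfae (G := W)).out 0 3 rfl rfl).1 hnil p ‹_› S
  set P := (S : Subgroup W).map W.subtype with hP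
  have hPW : P ≤ W := map_subtype_le _
  have hmem : ∀ v ∈ W, (∃ b, orderOf v = p ^ b) → v ∈ P := by
    rintro v hv ⟨b, hb⟩
    obtain ⟨T, hT⟩ := (IsPGroup.of_card (n := b) (by rw [Nat.card_zpowers, Subgroup.orderOf_mk, hb] :
      Nat.card (zpowers (⟨v, hv⟩ : W)) = p ^ b)).exists_le_sylow
    have : Unique (Sylow p W) := Sylow.unique_of_normal S hSn
    rw [Subsingleton.elim T S] at hT
    exact ⟨_, hT (mem_zpowers _), rfl⟩
  have hPp : IsPGroup p P := S.2.map W.subtype
  refine ⟨P, hxN, hx, hn, hPp, hmem x ⟨hxN, mem_centralizer_singleton_iff.2 rfl⟩ ⟨a, hxp⟩, hPW, hy,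
    fun w hw => ?_, hmem, ?_⟩
  · obtain ⟨v, hv, w', hw', huw, hb, hd⟩ := split h w hp
    exact ⟨v, hmem v (hzW hw hv) hb, w', hy w' (hzW hw hw') hd, huw⟩
  have hMN : centralizer ({x} : Set G) ≤ normalizer (P : Set G) := fun m hm => by
    refine mem_normalizer_iff_map_conj.2 (eq_of_le_of_card_ge ?_ (card_map_of_injective (MulEquiv.injective _)).ge)
    rintro _ ⟨t, ht, rfl⟩
    obtain ⟨b, hb⟩ := IsPGroup.iff_orderOf.1 hPp ⟨t, ht⟩
    refine hmem _ ⟨hNn.conj_mem t (hPW ht).1 m, (centralizer _).mul_mem ((centralizer _).mul_mem hm (hPW ht).2) ((centralizer _).inv_mem hm)⟩ ⟨b, ?_⟩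
    rw [MulEquiv.coe_toMonoidHom, MulEquiv.orderOf_eq]
    rwa [Subgroup.orderOf_mk] at hb
  rcases hMN.eq_or_lt with he | hlt
  · refine Or.inr ⟨he.symm, ?_⟩
    have hPN : P ≤ N := hPW.trans inf_le_left
    refine not_dvd_index_of_normalizer (H := P.subgroupOf N) (M := W.subgroupOf N)
      (hPp.comap_of_injective N.subtype N.subtype_injective) (comap_mono hPW) (fun n hn => ⟨n.2, ?_⟩) ?_
    · refine he.ge (mem_normalizer_iff_map_conj.2 (eq_of_le_of_card_ge ?_ (card_map_of_injective (MulEquiv.injective _)).ge))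
      rintro _ ⟨t, ht, rfl⟩
      exact (mem_normalizer_iff.1 hn ⟨t, hPN ht⟩).1 ht
    · rw [relIndex_subgroupOf inf_le_left, hP, relIndex, subgroupOf, comap_map_eq_self_of_injective W.subtype_injective]
      exact S.not_dvd_index
  · exact Or.inl (normalizer_eq_top_iff.1 ((h x hxN hx).2 _ hlt))

section NonP

variable (hnp : ∀ p : ℕ, p.Prime → ∃ y ∈ N, y ∉ relCenter N ∧ ¬ p ∣ orderOf y)
include hnp

omit hnp in
theorem type_normal_W {x : G} {p : ℕ} {P : Subgroup G} (T : RelType N x p P) (hP : P.Normal) (g : G)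
    {w : G} (hw : w ∈ N ⊓ centralizer ({x} : Set G)) : g * w * g⁻¹ ∈ N ⊓ centralizer ({x} : Set G) := by
  obtain ⟨v, hv, z, hz, rfl⟩ := T.decomp w hw
  rw [show g * (v * z) * g⁻¹ = g * v * g⁻¹ * (g * z * g⁻¹) by group]
  have hz' := (relCenter_normal (N := N)).conj_mem z hz g
  exact mul_mem (T.le (hP.conj_mem v hv g)) ⟨hz'.1, relCenter_mem_centralizer hz' T.mem⟩

theorem le_of_normal_pgroup {x : G} {p : ℕ} [Fact p.Prime] {P : Subgroup G} (T : RelType N x p P)
    (R : Subgroup G) [hR : R.Normal] (hRN : R ≤ N) (hRp : IsPGroup p R) : R ≤ P := by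
  classical
  have hp : p.Prime := Fact.out
  set W := N ⊓ centralizer ({x} : Set G) with hW
  rcases between h T.mem T.nc (L := W ⊔ R) (sup_le inf_le_left hRN) le_sup_left (fun m hm l hl => by
      obtain ⟨w, hw, r, hr, rfl⟩ := mem_sup_of_normal_right.1 hl
      rw [show m * (w * r) * m⁻¹ = m * w * m⁻¹ * (m * r * m⁻¹) by group]
      exact mul_mem (mem_sup_left ⟨hNn.conj_mem w hw.1 m, (centralizer _).mul_mem ((centralizer _).mul_mem hm hw.2) ((centralizer _).inv_mem hm)⟩)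
        (mem_sup_right (hR.conj_mem r hr m))) with he | he
  · intro r hr
    obtain ⟨b, hb⟩ := IsPGroup.iff_orderOf.1 hRp ⟨r, hr⟩
    rw [Subgroup.orderOf_mk] at hb
    exact T.pmem r ((le_sup_right.trans he.le) hr) ⟨b, hb⟩
  exfalso
  obtain ⟨y, hyN, hyc, hyd⟩ := hnp p hp
  set π := QuotientGroup.mk' (relCenter N)
  have hWp : IsPGroup p (W.map π) := by
    rintro ⟨_, w, hw, rfl⟩
    obtain ⟨v, hv, z, hz, rfl⟩ := T.decomp w hw
    obtain ⟨k, hk⟩ := T.pgroup ⟨v, hv⟩
    refine ⟨k, Subtype.ext ?_⟩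
    show π (v * z) ^ p ^ k = 1
    rw [map_mul, show π z = 1 from (QuotientGroup.eq_one_iff _).2 hz, mul_one, ← map_pow,
      show v ^ p ^ k = 1 from congrArg Subtype.val hk, map_one]
  have : (R.map π).Normal := hR.map π (QuotientGroup.mk'_surjective _)
  have hsup := hWp.to_sup_of_normal_right (hRp.map π)
  rw [← Subgroup.map_sup, he] at hsup
  obtain ⟨k, hk⟩ := hsup ⟨π y, y, hyN, rfl⟩
  have hyk : y ^ p ^ k ∈ relCenter N := (QuotientGroup.eq_one_iff _).1 (by
    show π (y ^ p ^ k) = 1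
    rw [map_pow]; exact congrArg Subtype.val hk)
  refine hyc ?_
  obtain ⟨i, hi⟩ := exists_pow_eq_self_of_coprime (((hp.coprime_iff_not_dvd).2 hyd).pow_left k)
  exact hi ▸ pow_mem hyk i

theorem type_nonnormal_of_mem {x u : G} {p b : ℕ} [Fact p.Prime] {P : Subgroup G} (T : RelType N x p P)
    (hu : u ∈ P) (huc : u ∉ relCenter N) (hub : orderOf u = p ^ b) :
    ¬ (centralizer ({u} : Set G)).Normal := by
  have hp : p.Prime := Fact.out
  intro hK
  have huN : u ∈ N := (T.le hu).1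
  have hPK : ¬ P ≤ centralizer ({u} : Set G) := fun hle =>
    not_normal_of_le h T.mem T.nc T.nn huN huc hK fun w hw => by
      obtain ⟨v, hv, z, hz, rfl⟩ := T.decomp w hw
      exact mul_mem (hle hv) (relCenter_mem_centralizer hz huN)
  obtain ⟨t, ht, htK⟩ := SetLike.not_le_iff_exists.1 hPK
  obtain ⟨y, hyN, hyc, hyd⟩ := hnp p hp
  have hyK : y ∈ centralizer ({u} : Set G) := by
    obtain ⟨i, hi⟩ := pow_mem_of_normal h huN huc hK htK y
    obtain ⟨d, hd⟩ := T.pgroup ⟨t, ht⟩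
    refine (QuotientGroup.eq_one_iff y).1 (orderOf_eq_one_iff.1
      (Nat.eq_one_of_dvd_coprimes (((hp.coprime_iff_not_dvd).2 hyd).pow_left d) (orderOf_dvd_of_pow_eq_one ?_)
        (orderOf_map_dvd (QuotientGroup.mk' (centralizer ({u} : Set G))) y)))
    have e : QuotientGroup.mk' (centralizer ({u} : Set G)) y = QuotientGroup.mk' _ (t ^ i) := by
      rw [← mul_inv_eq_one, ← map_inv, ← map_mul]; exact (QuotientGroup.eq_one_iff _).2 hi
    show QuotientGroup.mk' (centralizer ({u} : Set G)) y ^ p ^ d = 1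
    rw [e, ← map_pow, ← zpow_natCast, ← zpow_mul, mul_comm, zpow_mul, zpow_natCast,
      show t ^ p ^ d = 1 from congrArg Subtype.val hd, one_zpow, map_one]
  have hKy := of_coprime h huN huc hyN hyK (hub ▸ ((hp.coprime_iff_not_dvd).2 hyd).pow_left b) hyc
  refine hyc (T.prime' y ⟨hyN, mem_centralizer_singleton_iff.2 ?_⟩ hyd)
  have hxK : x ∈ centralizer ({y} : Set G) := hKy ▸ mem_centralizer_singleton_iff.2
    (mem_centralizer_singleton_iff.1 (T.le hu).2).symm
  exact (mem_centralizer_singleton_iff.1 hxK).symm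

variable (hng : ∀ x, ¬ RelGood N x)
include hng

theorem exists_type {x : G} {p a : ℕ} [Fact p.Prime] (hxN : x ∈ N) (hx : x ∉ relCenter N)
    (hxp : orderOf x = p ^ a) (hn : ¬ (centralizer ({x} : Set G)).Normal) : ∃ P, RelType N x p P :=
  (type_of h hxN hx hxp hn).resolve_left (hng x)

omit hng in
theorem normal_type_nonnormal {x y : G} {p : ℕ} [Fact p.Prime] {P : Subgroup G} (T : RelType N x p P)
    (hP : P.Normal) (hyN : y ∈ N) (hyc : y ∉ relCenter N) (hyd : ¬ p ∣ orderOf y) :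
    ¬ (centralizer ({y} : Set G)).Normal := by
  intro hK
  have hp : p.Prime := Fact.out
  have hcP : ⁅x, y⁆ ∈ P := by
    rw [commutatorElement_def, show x * y * x⁻¹ * y⁻¹ = x * (y * x⁻¹ * y⁻¹) by group]
    exact mul_mem T.self_mem (hP.conj_mem _ (inv_mem T.self_mem) y)
  have hcy : Commute ⁅x, y⁆ y := mem_centralizer_singleton_iff.1 (comm_mem_of_normal h hyN hyc hK x y)
  have hpow : ⁅x, y⁆ ^ orderOf y = 1 := by
    have e : x * y * x⁻¹ = ⁅x, y⁆ * y := by simp only [commutatorElement_def]; group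
    have h1 := congrArg (fun t => t ^ orderOf y) e
    simp only [conj_pow, hcy.mul_pow, pow_orderOf_eq_one, mul_one, mul_inv_cancel] at h1
    exact h1.symm
  obtain ⟨b, hb⟩ := IsPGroup.iff_orderOf.1 T.pgroup ⟨_, hcP⟩
  rw [Subgroup.orderOf_mk] at hb
  have h1 : orderOf ⁅x, y⁆ = 1 := Nat.eq_one_of_dvd_coprimes (((hp.coprime_iff_not_dvd).2 hyd).pow_left b)
    (hb ▸ dvd_rfl) (orderOf_dvd_of_pow_eq_one hpow)
  refine hyc (T.prime' y ⟨hyN, mem_centralizer_singleton_iff.2 ?_⟩ hyd)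
  exact (commutatorElement_eq_one_iff_mul_comm.1 (orderOf_eq_one_iff.1 h1)).symm

omit hnp hng in
theorem le_sylow_kind {x' : G} {p : ℕ} [Fact p.Prime] {P P' : Subgroup G}
    (hPN : P ≤ N) (hP'N : P' ≤ N) (hP : P.Normal) (hPp : IsPGroup p P) (hP'p : IsPGroup p P')
    (hd : ¬ p ∣ P'.relIndex N) (_hx : x' ∈ P') : P ≤ P' := by
  have : (P.subgroupOf N).Normal := hP.subgroupOf N
  have := IsPGroup.le_sylow_of_normal (hPp.comap_of_injective N.subtype N.subtype_injective)
    ((hP'p.comap_of_injective N.subtype N.subtype_injective).toSylow hd)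
  intro t ht
  exact (this (show (⟨t, hPN ht⟩ : N) ∈ P.subgroupOf N from ht) : _)

theorem normal_type_facts {x : G} {p : ℕ} [Fact p.Prime] {P : Subgroup G} (T : RelType N x p P) (hP : P.Normal)
    {u : G} {b : ℕ} (huN : u ∈ N) (huc : u ∉ relCenter N) (hub : orderOf u = p ^ b) :
    u ∈ P ∧ P ≤ centralizer ({u} : Set G) := by
  have hp : p.Prime := Fact.out
  have hnn : ¬ (centralizer ({u} : Set G)).Normal := by
    by_cases huW : u ∈ centralizer ({x} : Set G)
    · exact type_nonnormal_of_mem h hnp T (T.pmem u ⟨huN, huW⟩ ⟨b, hub⟩) huc hub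
    intro hK
    have hxK : x ∉ centralizer ({u} : Set G) := fun hxK => huW
      (mem_centralizer_singleton_iff.2 (mem_centralizer_singleton_iff.1 hxK).symm)
    obtain ⟨y, hyN, hyc, hyd⟩ := hnp p hp
    obtain ⟨c, hc⟩ := T.pgroup ⟨x, T.self_mem⟩
    have hyK : y ∈ centralizer ({u} : Set G) := by
      obtain ⟨i, hi⟩ := pow_mem_of_normal h huN huc hK hxK y
      refine (QuotientGroup.eq_one_iff y).1 (orderOf_eq_one_iff.1
        (Nat.eq_one_of_dvd_coprimes (((hp.coprime_iff_not_dvd).2 hyd).pow_left c) (orderOf_dvd_of_pow_eq_one ?_)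
          (orderOf_map_dvd (QuotientGroup.mk' (centralizer ({u} : Set G))) y)))
      have e : QuotientGroup.mk' (centralizer ({u} : Set G)) y = QuotientGroup.mk' _ (x ^ i) := by
        rw [← mul_inv_eq_one, ← map_inv, ← map_mul]; exact (QuotientGroup.eq_one_iff _).2 hi
      show QuotientGroup.mk' (centralizer ({u} : Set G)) y ^ p ^ c = 1
      rw [e, ← map_pow, ← zpow_natCast, ← zpow_mul, mul_comm, zpow_mul, zpow_natCast,
        show x ^ p ^ c = 1 from congrArg Subtype.val hc, one_zpow, map_one]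
    have hKy := of_coprime h huN huc hyN hyK (hub ▸ ((hp.coprime_iff_not_dvd).2 hyd).pow_left b) hyc
    exact normal_type_nonnormal h hnp T hP hyN hyc hyd (hKy.symm ▸ hK)
  obtain ⟨P', T'⟩ := exists_type h hnp hng huN huc hub hnn
  have hPP' : P ≤ P' := by
    rcases T'.kind with hP' | ⟨-, hd⟩
    · have := hP
      exact le_of_normal_pgroup h hnp T' P (T.le.trans inf_le_left) T.pgroup
    · exact le_sylow_kind h (T.le.trans inf_le_left) (T'.le.trans inf_le_left) hP T.pgroup T'.pgroup hd T'.self_mem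
  have hPu : P ≤ centralizer ({u} : Set G) := hPP'.trans (T'.le.trans inf_le_right)
  refine ⟨T.pmem u ⟨huN, mem_centralizer_singleton_iff.2 ?_⟩ ⟨b, hub⟩, hPu⟩
  exact (mem_centralizer_singleton_iff.1 (hPu T.self_mem)).symm

theorem sylow_type_nonabelian {x : G} {p : ℕ} [Fact p.Prime] {P : Subgroup G} (T : RelType N x p P)
    (hN : normalizer (P : Set G) = centralizer ({x} : Set G)) (hd : ¬ p ∣ P.relIndex N) :
    ∃ a ∈ P, ∃ b ∈ P, a * b ≠ b * a := by
  by_contra! hab
  have hp : p.Prime := Fact.out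
  refine hng x ⟨T.mem, T.nc, T.nn, fun u hu v hv => ?_, fun w hw hwc => ?_⟩
  · obtain ⟨u1, hu1, z1, hz1, rfl⟩ := T.decomp u hu
    obtain ⟨v1, hv1, z2, hz2, rfl⟩ := T.decomp v hv
    have e1 : Commute u1 v1 := hab u1 hu1 v1 hv1
    have e2 : Commute u1 z2 := relCenter_comm hz2 (T.le hu1).1
    have e3 : Commute (v1 * z2) z1 := relCenter_comm hz1 hv.1
    exact (e1.mul_right e2).mul_left e3.symm
  obtain ⟨r, hr, k, c, hrc, hwkc, he⟩ := exists_primePow h hw.1 hwc
  rw [he]
  have hwkW : w ^ k ∈ N ⊓ centralizer ({x} : Set G) := pow_mem hw k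
  obtain rfl : r = p := by
    by_contra hne
    refine hwkc (T.prime' _ hwkW ?_)
    rw [hrc]
    exact fun hd => hne ((Nat.prime_dvd_prime_iff_eq hp hr).1 (hp.dvd_of_dvd_pow hd)).symm
  set v := w ^ k
  have hvP : v ∈ P := T.pmem v hwkW ⟨c, hrc⟩
  have hnn := type_nonnormal_of_mem h hnp T hvP hwkc hrc
  obtain ⟨P', T'⟩ := exists_type h hnp hng hwkW.1 hwkc hrc hnn
  have hPP' : P ≤ P' := fun t ht => by
    obtain ⟨b, hb⟩ := IsPGroup.iff_orderOf.1 T.pgroup ⟨t, ht⟩
    rw [Subgroup.orderOf_mk] at hb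
    exact T'.pmem t ⟨(T.le ht).1, mem_centralizer_singleton_iff.2 (hab t ht v hvP)⟩ ⟨b, hb⟩
  have hPN : P ≤ N := T.le.trans inf_le_left
  have hP'N : P' ≤ N := T'.le.trans inf_le_left
  have heq : P' = P := by
    refine (eq_of_le_of_card_ge hPP' ?_).symm
    let S := (T.pgroup.comap_of_injective N.subtype N.subtype_injective).toSylow hd
    have h1 : P'.subgroupOf N = (S : Subgroup N) :=
      S.3 (T'.pgroup.comap_of_injective N.subtype N.subtype_injective) (comap_mono hPP')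
    have h2 := congrArg (fun H : Subgroup N => Nat.card H) h1
    simp only [S, IsPGroup.toSylow_coe, Nat.card_congr (subgroupOfEquivOfLe hP'N).toEquiv] at h2
    rw [h2]
    exact (Nat.card_congr (subgroupOfEquivOfLe hPN).toEquiv).le
  refine eq_of_le h hwkW.1 hwkc T.mem T.nc ?_
  rw [← hN, ← heq]
  rcases T'.kind with hP' | ⟨hN', -⟩
  · rw [normalizer_eq_top_iff.2 hP']; exact le_top
  · exact hN'.ge

theorem sylow_not_normal_type {x x' : G} {p : ℕ} [Fact p.Prime] {P P' : Subgroup G} (T : RelType N x p P)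
    (hN : normalizer (P : Set G) = centralizer ({x} : Set G)) (hd : ¬ p ∣ P.relIndex N)
    (T' : RelType N x' p P') : ¬ P'.Normal := by
  intro hP'
  obtain ⟨a, ha, b, hb, hab⟩ := sylow_type_nonabelian h hnp hng T hN hd
  by_cases hac : a ∈ relCenter N
  · exact hab (relCenter_comm hac (T.le hb).1).symm
  by_cases hbc : b ∈ relCenter N
  · exact hab (relCenter_comm hbc (T.le ha).1)
  obtain ⟨i, hi⟩ := IsPGroup.iff_orderOf.1 T.pgroup ⟨a, ha⟩
  obtain ⟨j, hj⟩ := IsPGroup.iff_orderOf.1 T.pgroup ⟨b, hb⟩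
  rw [Subgroup.orderOf_mk] at hi hj
  have h1 := (normal_type_facts h hnp hng T' hP' (T.le ha).1 hac hi).1
  have h2 := (normal_type_facts h hnp hng T' hP' (T.le hb).1 hbc hj).2
  exact hab (mem_centralizer_singleton_iff.1 (h2 h1))

theorem all_nonnormal {x₀ : G} (hx₀N : x₀ ∈ N) (hx₀ : x₀ ∉ relCenter N)
    (hn₀ : ¬ (centralizer ({x₀} : Set G)).Normal) {q c : ℕ} [Fact q.Prime] {v : G} (hvN : v ∈ N)
    (hvc : v ∉ relCenter N) (hvq : orderOf v = q ^ c) : ¬ (centralizer ({v} : Set G)).Normal := by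
  have hq : q.Prime := Fact.out
  obtain ⟨p, hp, k, a, hxa, hxc, he⟩ := exists_primePow h hx₀N hx₀
  have := Fact.mk hp
  rw [he] at hn₀
  obtain ⟨P, T⟩ := exists_type h hnp hng (pow_mem hx₀N k) hxc hxa hn₀
  have hvd : p ≠ q → ¬ p ∣ orderOf v := fun hne hd => hne
    ((Nat.prime_dvd_prime_iff_eq hp hq).1 (hp.dvd_of_dvd_pow (hvq ▸ hd)))
  rcases T.kind with hP | ⟨hN, hd⟩
  · rcases eq_or_ne p q with rfl | hne
    · exact type_nonnormal_of_mem h hnp T (normal_type_facts h hnp hng T hP hvN hvc hvq).1 hvc hvq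
    · exact normal_type_nonnormal h hnp T hP hvN hvc (hvd hne)
  rcases eq_or_ne p q with rfl | hne
  · obtain ⟨R, hR⟩ := (IsPGroup.of_card (n := c) (by rw [Nat.card_zpowers, Subgroup.orderOf_mk, hvq] :
      Nat.card (zpowers (⟨v, hvN⟩ : N)) = p ^ c)).exists_le_sylow
    obtain ⟨n, hn⟩ := MulAction.exists_smul_eq N R
      ((T.pgroup.comap_of_injective N.subtype N.subtype_injective).toSylow hd)
    have hmem : (n : G) * v * (n : G)⁻¹ ∈ P := by
      have h2 : (MulAut.conj n).toMonoidHom ⟨v, hvN⟩ ∈ ((n • R : Sylow p N) : Subgroup N) :=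
        mem_map_of_mem (MulAut.conj n).toMonoidHom (hR (mem_zpowers _))
      rw [hn] at h2
      exact h2
    intro hK
    refine type_nonnormal_of_mem h hnp T hmem (fun hc => hvc ?_) (b := c) ?_ ⟨fun m hm g => ?_⟩
    · have := (relCenter_normal (N := N)).conj_mem _ hc (n : G)⁻¹
      simpa [mul_assoc] using this
    · rw [← MulAut.conj_apply, MulEquiv.orderOf_eq, hvq]
    · have hm' : (n : G)⁻¹ * m * n ∈ centralizer ({v} : Set G) := mem_centralizer_singleton_iff.2 (by
        have := mem_centralizer_singleton_iff.1 hm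
        calc (n : G)⁻¹ * m * n * v = (n : G)⁻¹ * (m * ((n : G) * v * (n : G)⁻¹)) * n := by group
          _ = _ := by rw [this]; group)
      have h3 := mem_centralizer_singleton_iff.1 (hK.conj_mem _ hm' ((n : G)⁻¹ * g * n))
      refine mem_centralizer_singleton_iff.2 ?_
      calc g * m * g⁻¹ * ((n : G) * v * (n : G)⁻¹)
          = (n : G) * ((n : G)⁻¹ * g * n * ((n : G)⁻¹ * m * n) * ((n : G)⁻¹ * g * n)⁻¹ * v) * (n : G)⁻¹ := by group
        _ = _ := by rw [h3]; group
  intro hK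
  obtain ⟨a', ha', b', hb', hab⟩ := sylow_type_nonabelian h hnp hng T hN hd
  set K := centralizer ({v} : Set G) with hKdef
  have hPK : ∀ u ∈ P, u ∈ K → u ∈ relCenter N := by
    intro u hu huK
    by_contra huc
    obtain ⟨i, hi⟩ := IsPGroup.iff_orderOf.1 T.pgroup ⟨u, hu⟩
    rw [Subgroup.orderOf_mk] at hi
    obtain ⟨P', T'⟩ := exists_type h hnp hng (T.le hu).1 huc hi (type_nonnormal_of_mem h hnp T hu huc hi)
    exact hvc (T'.prime' v ⟨hvN, mem_centralizer_singleton_iff.2 (mem_centralizer_singleton_iff.1 huK).symm⟩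
      (hvd hne))
  by_cases haK : a' ∈ K
  · exact hab (relCenter_comm (hPK a' ha' haK) (T.le hb').1).symm
  obtain ⟨i, hi⟩ := pow_mem_of_normal h hvN hvc hK haK b'
  have hz := hPK _ (mul_mem hb' (inv_mem (zpow_mem ha' i))) hi
  have e1 : Commute a' (b' * (a' ^ i)⁻¹) := relCenter_comm hz (T.le ha').1
  have e2 := e1.mul_right ((Commute.refl a').zpow_right i)
  rw [inv_mul_cancel_right] at e2
  exact hab e2.eq

end NonP

end RelMaxCent

end CfsgLib.Coprime

namespace CfsgLib.Coprime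

open Subgroup
open scoped commutatorElement

theorem sum_inv_prime_sq_le (s : Finset ℕ) (hs : ∀ q ∈ s, q.Prime) : ∑ q ∈ s, (1 : ℚ) / (q : ℚ) ^ 2 ≤ 1 / 2 := by
  have key : ∀ k : ℕ, 1 ≤ k → ∑ q ∈ (Finset.range (2 * k + 1)).filter Nat.Prime, (1 : ℚ) / (q : ℚ) ^ 2 ≤
      1 / 2 - 1 / (4 * k) := by
    intro k hk
    induction k, hk using Nat.le_induction with
    | base =>
      rw [show (Finset.range (2 * 1 + 1)).filter Nat.Prime = {2} by decide]
      norm_num
    | succ k hk ih =>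
      have hnp : ¬ (2 * k + 2).Prime := fun hp => by
        have := (Nat.prime_dvd_prime_iff_eq Nat.prime_two hp).1 ⟨k + 1, by ring⟩
        omega
      have hk0 : (0 : ℚ) < k := by exact_mod_cast hk
      have hstep : (1 : ℚ) / ((2 * k + 1 : ℕ) : ℚ) ^ 2 ≤ 1 / (4 * k) - 1 / (4 * (k + 1)) := by
        rw [div_sub_div _ _ (by positivity) (by positivity), div_le_div_iff₀ (by positivity) (by positivity)]
        push_cast
        nlinarith
      rw [show 2 * (k + 1) + 1 = (2 * k + 1) + 1 + 1 by ring, Finset.range_add_one (n := 2 * k + 1 + 1),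
        Finset.filter_insert, if_neg hnp, Finset.range_add_one (n := 2 * k + 1), Finset.filter_insert]
      push_cast at hstep ⊢
      split_ifs
      · rw [Finset.sum_insert (by simp)]
        push_cast
        linarith
      · have : (0 : ℚ) ≤ 1 / (2 * (k : ℚ) + 1) ^ 2 := by positivity
        linarith
  have h1 := key (s.sup id + 1) (by omega)
  refine (Finset.sum_le_sum_of_subset_of_nonneg (fun q hq => ?_) (fun q _ _ => by positivity)).trans
    (h1.trans ?_)
  · have := Finset.le_sup (f := id) hq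
    simp only [id] at this
    exact Finset.mem_filter.2 ⟨Finset.mem_range.2 (by omega), hs q hq⟩
  · have : (0 : ℚ) ≤ 1 / (4 * ((s.sup id + 1 : ℕ) : ℚ)) := by positivity
    linarith

variable {G : Type*} [Group G] [Finite G] {N : Subgroup G} [hNn : N.Normal]

namespace RelMaxCent

variable (h : RelMaxCent N)
include h

theorem elementary_of_pow {p : ℕ} (hp : p.Prime) (hall : ∀ u ∈ N, ∃ k : ℕ, u ^ p ^ k ∈ relCenter N) :
    ∀ u ∈ N, ∀ v ∈ N, ⁅u, v⁆ ∈ relCenter N ∧ u ^ p ∈ relCenter N := by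
  classical
  have := Fact.mk hp
  set π := QuotientGroup.mk' (center N) with hπ
  have hcen : ∀ n : N, n ∈ center N ↔ (n : G) ∈ relCenter N := fun n =>
    ⟨fun hn => ⟨n.2, mem_centralizer_iff.2 fun m hm => congrArg Subtype.val (mem_center_iff.1 hn ⟨m, hm⟩)⟩,
      fun hn => mem_center_iff.2 fun m => Subtype.ext (relCenter_comm hn m.2)⟩
  have hX : IsPGroup p (N ⧸ center N) := by
    intro t
    obtain ⟨n, rfl⟩ := QuotientGroup.mk'_surjective _ t
    obtain ⟨k, hk⟩ := hall n n.2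
    refine ⟨k, ?_⟩
    rw [← map_pow]
    exact (QuotientGroup.eq_one_iff _).2 ((hcen _).2 (by simpa using hk))
  let T : Set G := {t | t ∈ relCenter N ∨ (∃ u ∈ N, ∃ v ∈ N, t = ⁅u, v⁆) ∨ ∃ u ∈ N, t = u ^ p}
  have hTconj : ∀ g : G, ∀ t ∈ T, g * t * g⁻¹ ∈ T := by
    rintro g t (ht | ⟨u, hu, v, hv, rfl⟩ | ⟨u, hu, rfl⟩)
    · exact Or.inl ((relCenter_normal (N := N)).conj_mem t ht g)
    · refine Or.inr (Or.inl ⟨_, hNn.conj_mem u hu g, _, hNn.conj_mem v hv g, ?_⟩)
      simp only [commutatorElement_def]; group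
    · exact Or.inr (Or.inr ⟨_, hNn.conj_mem u hu g, by rw [conj_pow]⟩)
  set Φ := closure T with hΦ
  have hΦn : Φ.Normal := ⟨fun t ht g => by
    induction ht using closure_induction with
    | mem t ht => exact subset_closure (hTconj g t ht)
    | one => rw [mul_one, mul_inv_cancel]; exact one_mem _
    | mul a b _ _ ia ib =>
      rw [show g * (a * b) * g⁻¹ = g * a * g⁻¹ * (g * b * g⁻¹) by group]; exact mul_mem ia ib
    | inv a _ ia => rw [show g * a⁻¹ * g⁻¹ = (g * a * g⁻¹)⁻¹ by group]; exact inv_mem ia⟩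
  have hΦN : Φ ≤ N := by
    refine (closure_le N).2 ?_
    rintro t (ht | ⟨u, hu, v, hv, rfl⟩ | ⟨u, hu, rfl⟩)
    · exact ht.1
    · rw [commutatorElement_def]; exact mul_mem (mul_mem (mul_mem hu hv) (inv_mem hu)) (inv_mem hv)
    · exact pow_mem hu p
  have hΦF : Φ.subgroupOf N ≤ (frattini (N ⧸ center N)).comap π := by
    have h1 : Φ ≤ ((frattini (N ⧸ center N)).comap π).map N.subtype := by
      refine (closure_le _).2 ?_
      rintro t (ht | ⟨u, hu, v, hv, rfl⟩ | ⟨u, hu, rfl⟩)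
      · refine ⟨⟨t, ht.1⟩, ?_, rfl⟩
        show π ⟨t, ht.1⟩ ∈ frattini (N ⧸ center N)
        rw [show π ⟨t, ht.1⟩ = 1 from (QuotientGroup.eq_one_iff _).2 ((hcen _).2 ht)]
        exact one_mem _
      · refine ⟨⁅(⟨u, hu⟩ : N), ⟨v, hv⟩⁆, ?_, map_commutatorElement N.subtype _ _⟩
        show π ⁅(⟨u, hu⟩ : N), ⟨v, hv⟩⁆ ∈ frattini (N ⧸ center N)
        rw [map_commutatorElement]
        exact CfsgLib.Transfer.commutator_le_frattini_pgroup hX
          (commutator_mem_commutator (mem_top _) (mem_top _))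
      · refine ⟨(⟨u, hu⟩ : N) ^ p, ?_, rfl⟩
        show π ((⟨u, hu⟩ : N) ^ p) ∈ frattini (N ⧸ center N)
        rw [map_pow]
        exact CfsgLib.Transfer.pow_mem_frattini hX _
    intro t ht
    obtain ⟨t', ht', he⟩ := h1 ht
    rwa [show t' = t from Subtype.ext he] at ht'
  have hle : ∀ x ∈ N, x ∉ relCenter N → Φ ≤ centralizer ({x} : Set G) := by
    intro x hxN hxc
    set W := N ⊓ centralizer ({x} : Set G) with hW
    rcases between h hxN hxc (L := W ⊔ Φ) (sup_le inf_le_left hΦN) le_sup_left (fun m hm l hl => by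
        obtain ⟨w, hw, f, hf, rfl⟩ := mem_sup_of_normal_right.1 hl
        rw [show m * (w * f) * m⁻¹ = m * w * m⁻¹ * (m * f * m⁻¹) by group]
        exact mul_mem (mem_sup_left ⟨hNn.conj_mem w hw.1 m,
          (centralizer _).mul_mem ((centralizer _).mul_mem hm hw.2) ((centralizer _).inv_mem hm)⟩)
          (mem_sup_right (hΦn.conj_mem f hf m))) with he | he
    · exact le_sup_right.trans (he.le.trans inf_le_right)
    exfalso
    refine not_le h hxN hxc fun n hn => ?_
    have htop : (W.subgroupOf N).map π ⊔ frattini (N ⧸ center N) = ⊤ := by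
      rw [eq_top_iff]
      intro t _
      obtain ⟨m, rfl⟩ := QuotientGroup.mk'_surjective _ t
      obtain ⟨w, hw, f, hf, hwf⟩ := mem_sup_of_normal_right.1 (he.ge m.2)
      have hm : m = (⟨w, hw.1⟩ : N) * ⟨f, hΦN hf⟩ := Subtype.ext hwf.symm
      rw [hm, map_mul]
      exact mul_mem (mem_sup_left (mem_map_of_mem π (show (⟨w, hw.1⟩ : N) ∈ W.subgroupOf N from hw)))
        (mem_sup_right (hΦF hf))
    obtain ⟨w, hw, hwn⟩ := (frattini_nongenerating htop).ge (mem_top (π ⟨n, hn⟩))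
    have hz := (hcen _).1 (QuotientGroup.eq.1 hwn)
    have := mul_mem (show (w : G) ∈ centralizer ({x} : Set G) from hw.2) (relCenter_mem_centralizer hz hxN)
    simpa using this
  have hfin : ∀ t ∈ Φ, t ∈ relCenter N := fun t ht => ⟨hΦN ht, mem_centralizer_iff.2 fun n hn => by
    by_cases hnc : n ∈ relCenter N
    · exact (relCenter_comm hnc (hΦN ht)).symm
    · exact (mem_centralizer_singleton_iff.1 (hle n hn hnc ht)).symm⟩
  exact fun u hu v hv => ⟨hfin _ (subset_closure (Or.inr (Or.inl ⟨u, hu, v, hv, rfl⟩))),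
    hfin _ (subset_closure (Or.inr (Or.inr ⟨u, hu, rfl⟩)))⟩

theorem elementary_of_normal (hne : ∃ x ∈ N, x ∉ relCenter N)
    (hall : ∀ x ∈ N, x ∉ relCenter N → (centralizer ({x} : Set G)).Normal) :
    ∃ p : ℕ, p.Prime ∧ ∀ u ∈ N, ∀ v ∈ N, ⁅u, v⁆ ∈ relCenter N ∧ u ^ p ∈ relCenter N := by
  have hcz : ∀ u ∈ N, ∀ v ∈ N, ⁅u, v⁆ ∈ relCenter N := fun u hu v hv =>
    ⟨by rw [commutatorElement_def]; exact N.mul_mem (N.mul_mem (N.mul_mem hu hv) (N.inv_mem hu)) (N.inv_mem hv),
      mem_centralizer_iff.2 fun x hxN => by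
        by_cases hx : x ∈ relCenter N
        · exact (relCenter_comm hx (by
            rw [commutatorElement_def]; exact mul_mem (mul_mem (mul_mem hu hv) (inv_mem hu)) (inv_mem hv))).symm
        · exact (mem_centralizer_singleton_iff.1 (comm_mem_of_normal h hxN hx (hall x hxN hx) u v)).symm⟩
  have hml : ∀ u ∈ N, ∀ v ∈ N, ∀ w ∈ N, ⁅u * v, w⁆ = ⁅u, w⁆ * ⁅v, w⁆ := fun u hu v hv w hw => by
    rw [show ⁅u * v, w⁆ = u * ⁅v, w⁆ * u⁻¹ * ⁅u, w⁆ by simp only [commutatorElement_def]; group,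
      relCenter_comm (hcz v hv w hw) hu, mul_inv_cancel_right, relCenter_comm (hcz u hu w hw) (hcz v hv w hw).1]
  have hmr : ∀ u ∈ N, ∀ v ∈ N, ∀ w ∈ N, ⁅u, v * w⁆ = ⁅u, v⁆ * ⁅u, w⁆ := fun u hu v hv w hw => by
    rw [show ⁅u, v * w⁆ = ⁅u, v⁆ * (v * ⁅u, w⁆ * v⁻¹) by simp only [commutatorElement_def]; group,
      relCenter_comm (hcz u hu w hw) hv, mul_inv_cancel_right]
  have hpl : ∀ u ∈ N, ∀ w ∈ N, ∀ n : ℕ, ⁅u ^ n, w⁆ = ⁅u, w⁆ ^ n := fun u hu w hw n => by
    induction n with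
    | zero => simp
    | succ n ih => rw [pow_succ, hml _ (pow_mem hu n) u hu w hw, ih, pow_succ]
  have hpr : ∀ u ∈ N, ∀ w ∈ N, ∀ n : ℕ, ⁅u, w ^ n⁆ = ⁅u, w⁆ ^ n := fun u hu w hw n => by
    induction n with
    | zero => simp
    | succ n ih => rw [pow_succ, hmr u hu _ (pow_mem hw n) w hw, ih, pow_succ]
  have hex : ∀ x ∈ N, x ∉ relCenter N → ∃ g ∈ N, ⁅x, g⁆ ≠ 1 := fun x hxN hx => by
    by_contra! hh
    exact not_le h hxN hx fun g hg => mem_centralizer_singleton_iff.2
      (commutatorElement_eq_one_iff_mul_comm.1 (hh g hg)).symm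
  have hexp : ∀ x ∈ N, x ∉ relCenter N → ∃ p : ℕ, p.Prime ∧ ∀ g ∈ N, ⁅x, g⁆ ^ p = 1 := by
    intro x hxN hx
    set K := centralizer ({x} : Set G) with hKdef
    have hK := hall x hxN hx
    have h1 : Nat.card (G ⧸ K) ≠ 1 := by
      have : Nontrivial (G ⧸ K) := QuotientGroup.nontrivial_iff.2 (h x hxN hx).1
      exact Finite.one_lt_card.ne'
    set p := (Nat.card (G ⧸ K)).minFac
    have hp : p.Prime := Nat.minFac_prime h1
    have := Fact.mk hp
    obtain ⟨t, ht⟩ := exists_prime_orderOf_dvd_card' p (Nat.minFac_dvd (Nat.card (G ⧸ K)))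
    obtain ⟨t, rfl⟩ := QuotientGroup.mk'_surjective K t
    have htK : t ∉ K := fun hh => by
      rw [show QuotientGroup.mk' K t = 1 from (QuotientGroup.eq_one_iff t).2 hh, orderOf_one] at ht
      exact hp.one_lt.ne ht
    refine ⟨p, hp, fun g hg => ?_⟩
    rw [← hpr x hxN g hg, commutatorElement_eq_one_iff_mul_comm]
    refine (mem_centralizer_singleton_iff.1 ((QuotientGroup.eq_one_iff _).1 ?_)).symm
    show QuotientGroup.mk' K (g ^ p) = 1
    obtain ⟨i, hi⟩ := pow_mem_of_normal h hxN hx hK htK g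
    rw [map_pow, show QuotientGroup.mk' K g = QuotientGroup.mk' K t ^ i by
      rw [← map_zpow, ← mul_inv_eq_one, ← map_inv, ← map_mul]; exact (QuotientGroup.eq_one_iff _).2 hi,
      ← zpow_natCast, ← zpow_mul, mul_comm, zpow_mul, zpow_natCast, ← ht, pow_orderOf_eq_one, one_zpow]
  obtain ⟨x₀, hx₀N, hx₀⟩ := hne
  obtain ⟨p, hp, hxp⟩ := hexp x₀ hx₀N hx₀
  have := Fact.mk hp
  refine ⟨p, hp, fun u hu v hv => ⟨hcz u hu v hv, pow_mem hu p, mem_centralizer_iff.2 fun g hg => ?_⟩⟩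
  symm
  rw [← commutatorElement_eq_one_iff_mul_comm, hpl u hu g hg]
  by_cases huc : u ∈ relCenter N
  · rw [commutatorElement_eq_one_iff_mul_comm.2 (relCenter_comm huc hg).symm, one_pow]
  obtain ⟨q, hq, huq⟩ := hexp u hu huc
  rcases eq_or_ne q p with rfl | hne
  · exact huq g hg
  exfalso
  have := Fact.mk hq
  obtain ⟨g₀, hg₀N, hgx, hgu⟩ : ∃ g₀ ∈ N, ⁅x₀, g₀⁆ ≠ 1 ∧ ⁅u, g₀⁆ ≠ 1 := by
    obtain ⟨a, ha, ha'⟩ := hex x₀ hx₀N hx₀
    obtain ⟨b, hb, hb'⟩ := hex u hu huc
    by_contra! hcon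
    have hua := hcon a ha ha'
    have hxb : ⁅x₀, b⁆ = 1 := not_not.1 fun e => hb' (hcon b hb e)
    have := hcon (a * b) (mul_mem ha hb) (by rw [hmr _ hx₀N a ha b hb, hxb, mul_one]; exact ha')
    rw [hmr _ hu a ha b hb, hua, one_mul] at this
    exact hb' this
  have hox : orderOf ⁅x₀, g₀⁆ = p := orderOf_eq_prime (hxp g₀ hg₀N) hgx
  have hou : orderOf ⁅u, g₀⁆ = q := orderOf_eq_prime (huq g₀ hg₀N) hgu
  have hc : Commute ⁅x₀, g₀⁆ ⁅u, g₀⁆ := relCenter_comm (hcz u hu g₀ hg₀N) (hcz x₀ hx₀N g₀ hg₀N).1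
  have hord : orderOf ⁅x₀ * u, g₀⁆ = p * q := by
    rw [hml x₀ hx₀N u hu g₀ hg₀N, hc.orderOf_mul_eq_mul_orderOf_of_coprime
      (by rw [hox, hou]; exact (Nat.coprime_primes hp hq).2 hne.symm), hox, hou]
  have hxu : x₀ * u ∉ relCenter N := fun hm => by
    rw [commutatorElement_eq_one_iff_mul_comm.2 (relCenter_comm hm hg₀N).symm, orderOf_one] at hord
    exact hp.one_lt.ne' (Nat.eq_one_of_mul_eq_one_right hord.symm)
  obtain ⟨r, hr, hrp⟩ := hexp _ (mul_mem hx₀N hu) hxu
  have hd := orderOf_dvd_of_pow_eq_one (hrp g₀ hg₀N)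
  rw [hord] at hd
  exact hne ((Nat.prime_dvd_prime_iff_eq hq hr).1 ((dvd_mul_left q p).trans hd) |>.trans
    ((Nat.prime_dvd_prime_iff_eq hp hr).1 ((dvd_mul_right p q).trans hd)).symm)

section NonP

variable (hnp : ∀ p : ℕ, p.Prime → ∃ y ∈ N, y ∉ relCenter N ∧ ¬ p ∣ orderOf y)
  (hng : ∀ x, ¬ RelGood N x)
include hnp

omit hnp [Finite G] h in
theorem transfer_W {x x' : G} {p : ℕ} {P P' : Subgroup G} (T : RelType N x p P) (T' : RelType N x' p P')
    {n : G} (hn : ∀ t ∈ P', n * t * n⁻¹ ∈ P) {w : G} (hw : w ∈ N ⊓ centralizer ({x'} : Set G)) :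
    n * w * n⁻¹ ∈ N ⊓ centralizer ({x} : Set G) := by
  obtain ⟨v, hv, z, hz, rfl⟩ := T'.decomp w hw
  rw [show n * (v * z) * n⁻¹ = n * v * n⁻¹ * (n * z * n⁻¹) by group]
  have hz' := (relCenter_normal (N := N)).conj_mem z hz n
  exact mul_mem (T.le (hn v hv)) ⟨hz'.1, relCenter_mem_centralizer hz' T.mem⟩

include hng

theorem cover {x₀ : G} (hx₀N : x₀ ∈ N) (hx₀ : x₀ ∉ relCenter N)
    (hn₀ : ¬ (centralizer ({x₀} : Set G)).Normal) {x : G} {q : ℕ} [Fact q.Prime] {P : Subgroup G}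
    (T : RelType N x q P) {g : G} (hgN : g ∈ N) {k c : ℕ} (hgc : g ^ k ∉ relCenter N)
    (hgq : orderOf (g ^ k) = q ^ c) (he : centralizer ({g} : Set G) = centralizer ({g ^ k} : Set G)) :
    ∃ n ∈ N, n * g * n⁻¹ ∈ (N ⊓ centralizer ({x} : Set G)) ⊓
      centralizer ((N ⊓ centralizer ({x} : Set G) : Subgroup G) : Set G) := by
  have hvN : g ^ k ∈ N := pow_mem hgN k
  obtain ⟨P', T'⟩ := exists_type h hnp hng hvN hgc hgq (all_nonnormal h hnp hng hx₀N hx₀ hn₀ hvN hgc hgq)
  have hgW : g ∈ N ⊓ centralizer ({g ^ k} : Set G) := ⟨hgN, he ▸ mem_centralizer_singleton_iff.2 rfl⟩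
  obtain ⟨n, hn, hto, hfrom⟩ : ∃ n ∈ N, (∀ t ∈ P', n * t * n⁻¹ ∈ P) ∧ ∀ t ∈ P, n⁻¹ * t * n⁻¹⁻¹ ∈ P' := by
    rcases T.kind with hP | ⟨hN, hd⟩
    · rcases T'.kind with hP' | ⟨hN', hd'⟩
      · have e : P' = P := le_antisymm
          (have := hP'; le_of_normal_pgroup h hnp T P' (T'.le.trans inf_le_left) T'.pgroup)
          (have := hP; le_of_normal_pgroup h hnp T' P (T.le.trans inf_le_left) T.pgroup)
        exact ⟨1, one_mem N, fun t ht => by simpa [← e] using ht, fun t ht => by simpa [e] using ht⟩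
      · exact absurd hP (sylow_not_normal_type h hnp hng T' hN' hd' T)
    rcases T'.kind with hP' | ⟨hN', hd'⟩
    · exact absurd hP' (sylow_not_normal_type h hnp hng T hN hd T')
    let S := (T.pgroup.comap_of_injective N.subtype N.subtype_injective).toSylow hd
    let S' := (T'.pgroup.comap_of_injective N.subtype N.subtype_injective).toSylow hd'
    obtain ⟨n, hn⟩ := MulAction.exists_smul_eq N S' S
    refine ⟨n, n.2, fun t ht => ?_, fun t ht => ?_⟩
    · have h2 : (MulAut.conj n).toMonoidHom ⟨t, (T'.le ht).1⟩ ∈ ((n • S' : Sylow q N) : Subgroup N) :=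
        mem_map_of_mem (MulAut.conj n).toMonoidHom ht
      rw [hn] at h2
      exact h2
    · have hn' : n⁻¹ • S = S' := by rw [← hn, inv_smul_smul]
      have h2 : (MulAut.conj n⁻¹).toMonoidHom ⟨t, (T.le ht).1⟩ ∈ ((n⁻¹ • S : Sylow q N) : Subgroup N) :=
        mem_map_of_mem (MulAut.conj n⁻¹).toMonoidHom ht
      rw [hn'] at h2
      exact h2
  refine ⟨n, hn, transfer_W T T' hto hgW, mem_centralizer_iff.2 fun w hw => ?_⟩
  have hw' := transfer_W T' T hfrom hw
  have h1 : (n⁻¹ * w * n⁻¹⁻¹) * g = g * (n⁻¹ * w * n⁻¹⁻¹) :=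
    mem_centralizer_singleton_iff.1 (he ▸ hw'.2 : n⁻¹ * w * n⁻¹⁻¹ ∈ centralizer ({g} : Set G))
  calc w * (n * g * n⁻¹) = n * ((n⁻¹ * w * n⁻¹⁻¹) * g) * n⁻¹ := by group
    _ = _ := by rw [h1]; group

theorem false_of_not_good {x₀ : G} (hx₀N : x₀ ∈ N) (hx₀ : x₀ ∉ relCenter N)
    (hn₀ : ¬ (centralizer ({x₀} : Set G)).Normal) : False := by
  classical
  have := Fintype.ofFinite G
  let S : ℕ → Finset G := fun q => Finset.univ.filter fun g => g ∈ N ∧ g ∉ relCenter N ∧
    ∃ k c : ℕ, orderOf (g ^ k) = q ^ c ∧ g ^ k ∉ relCenter N ∧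
      centralizer ({g} : Set G) = centralizer ({g ^ k} : Set G)
  let s := (Nat.card N).primeFactors.filter fun q => (S q).Nonempty
  have hcov : (Finset.univ.filter fun g => g ∈ N ∧ g ∉ relCenter N) ⊆ s.biUnion S := by
    intro g hg
    simp only [Finset.mem_filter, Finset.mem_univ, true_and] at hg
    obtain ⟨q, hq, k, c, hqc, hkc, he⟩ := exists_primePow h hg.1 hg.2
    have hgS : g ∈ S q := Finset.mem_filter.2 ⟨Finset.mem_univ _, hg.1, hg.2, k, c, hqc, hkc, he⟩
    refine Finset.mem_biUnion.2 ⟨q, Finset.mem_filter.2 ⟨?_, g, hgS⟩, hgS⟩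
    refine Nat.mem_primeFactors.2 ⟨hq, ?_, Nat.card_pos.ne'⟩
    have hc : c ≠ 0 := fun e => hkc (by
      rw [e, pow_zero, orderOf_eq_one_iff] at hqc
      rw [hqc]; exact one_mem _)
    exact (dvd_pow_self q hc).trans (hqc ▸ Subgroup.orderOf_dvd_natCard _ (pow_mem hg.1 k))
  -- the bound for one prime
  have bound : ∀ q ∈ s, ∃ (x : G) (P : Subgroup G), RelType N x q P ∧
      ((S q).card : ℚ) ≤ ((N ⊓ centralizer ({x} : Set G)).relIndex N : ℚ) *
        ((Nat.card ((N ⊓ centralizer ({x} : Set G)) ⊓ centralizer ((N ⊓ centralizer ({x} : Set G) : Subgroup G) : Set G) :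
          Subgroup G) : ℚ) - Nat.card (relCenter N)) := by
    intro q hq
    obtain ⟨hqm, g₀, hg₀⟩ := Finset.mem_filter.1 hq
    have := Fact.mk (Nat.prime_of_mem_primeFactors hqm)
    obtain ⟨hg₀N, -, k₀, c₀, hq₀, hk₀, -⟩ := (Finset.mem_filter.1 hg₀).2
    obtain ⟨P, T⟩ := exists_type h hnp hng (pow_mem hg₀N k₀) hk₀ hq₀
      (all_nonnormal h hnp hng hx₀N hx₀ hn₀ (pow_mem hg₀N k₀) hk₀ hq₀)
    set x := g₀ ^ k₀
    set W := N ⊓ centralizer ({x} : Set G) with hW
    set ZW := W ⊓ centralizer (W : Set G) with hZW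
    refine ⟨x, P, T, ?_⟩
    have hZle : relCenter N ≤ ZW := fun z hz => ⟨⟨hz.1, relCenter_mem_centralizer hz T.mem⟩,
      mem_centralizer_iff.2 fun w hw => relCenter_comm hz hw.1⟩
    let D : Finset G := Finset.univ.filter fun z => z ∈ ZW ∧ z ∉ relCenter N
    have hD : (D.card : ℚ) = (Nat.card ZW : ℚ) - Nat.card (relCenter N) := by
      have e : D = (Finset.univ.filter fun z => z ∈ ZW) \ (Finset.univ.filter fun z => z ∈ relCenter N) := by
        ext z; simp [D]
      rw [e, Finset.card_sdiff_of_subset (fun z hz => by simp only [Finset.mem_filter, Finset.mem_univ, true_and] at hz ⊢; exact hZle hz),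
        Nat.cast_sub (Finset.card_le_card fun z hz => by simp only [Finset.mem_filter, Finset.mem_univ, true_and] at hz ⊢; exact hZle hz)]
      congr 1 <;> norm_cast <;> rw [Nat.card_eq_fintype_card, Fintype.card_subtype]
    have hsub : S q ⊆ ((Finset.univ : Finset (N ⧸ W.subgroupOf N)) ×ˢ D).image
        (fun cz => (cz.1.out : G) * cz.2 * (cz.1.out : G)⁻¹) := by
      intro g hg
      obtain ⟨hgN, hgc, k, c, hqc, hkc, he⟩ := (Finset.mem_filter.1 hg).2
      obtain ⟨n, hn, hz⟩ := cover h hnp hng hx₀N hx₀ hn₀ T hgN hkc hqc he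
      set m : N := ⟨n⁻¹, inv_mem hn⟩ with hm
      obtain ⟨w, hw⟩ := QuotientGroup.mk_out_eq_mul (W.subgroupOf N) m
      refine Finset.mem_image.2 ⟨(QuotientGroup.mk m, n * g * n⁻¹), ?_, ?_⟩
      · simp only [D, Finset.mem_product, Finset.mem_univ, Finset.mem_filter, true_and]
        refine ⟨hz, fun hc => hgc ?_⟩
        have := (relCenter_normal (N := N)).conj_mem _ hc n⁻¹
        simpa [mul_assoc] using this
      · simp only [hw, Subgroup.coe_mul]
        have e1 : ((w : N) : G) * (n * g * n⁻¹) = n * g * n⁻¹ * ((w : N) : G) :=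
          mem_centralizer_iff.1 hz.2 _ (Subgroup.mem_subgroupOf.1 w.2)
        show n⁻¹ * ((w : N) : G) * (n * g * n⁻¹) * (n⁻¹ * ((w : N) : G))⁻¹ = g
        rw [mul_assoc n⁻¹, e1]; group
    have hle := (Finset.card_le_card hsub).trans (Finset.card_image_le)
    rw [Finset.card_product, Finset.card_univ] at hle
    have e : Fintype.card (N ⧸ W.subgroupOf N) = W.relIndex N := by
      rw [← Nat.card_eq_fintype_card, ← index_eq_card]; rfl
    rw [e] at hle
    calc ((S q).card : ℚ) ≤ ((W.relIndex N * D.card : ℕ) : ℚ) := by exact_mod_cast hle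
      _ = _ := by rw [Nat.cast_mul, hD]
  have hmulN : ∀ x : G, (Nat.card (N ⊓ centralizer ({x} : Set G) : Subgroup G) : ℚ) *
      ((N ⊓ centralizer ({x} : Set G)).relIndex N : ℚ) = Nat.card N := by
    intro x
    have := card_mul_index ((N ⊓ centralizer ({x} : Set G)).subgroupOf N)
    rw [Nat.card_congr (subgroupOfEquivOfLe (inf_le_left : N ⊓ centralizer ({x} : Set G) ≤ N)).toEquiv] at this
    exact_mod_cast this
  have hZpos : (1 : ℚ) ≤ Nat.card (relCenter N) := by exact_mod_cast Nat.card_pos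
  -- Sylow primes
  have hsyl : ∀ q ∈ s, (∀ x P, RelType N x q P → ¬ P.Normal) →
      ((S q).card : ℚ) < (Nat.card N : ℚ) * (1 / (q : ℚ) ^ 2) := by
    intro q hq hnormal
    have hqp := Nat.prime_of_mem_primeFactors (Finset.mem_filter.1 hq).1
    have := Fact.mk hqp
    obtain ⟨x, P, T, hb⟩ := bound q hq
    obtain ⟨hN, hd⟩ := T.kind.resolve_left (hnormal x P T)
    obtain ⟨a, ha, b, hb', hab⟩ := sylow_type_nonabelian h hnp hng T hN hd
    set W := N ⊓ centralizer ({x} : Set G) with hW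
    set ZW := W ⊓ centralizer (W : Set G) with hZW
    have hsq : q ^ 2 * Nat.card ZW ≤ Nat.card W := by
      have hmap : (center W).map W.subtype = ZW := by
        ext z
        constructor
        · rintro ⟨z, hz, rfl⟩
          exact ⟨z.2, mem_centralizer_iff.2 fun w hw => congrArg Subtype.val (mem_center_iff.1 hz ⟨w, hw⟩)⟩
        · rintro ⟨hzW, hz⟩
          exact ⟨⟨z, hzW⟩, mem_center_iff.2 fun w => Subtype.ext (mem_centralizer_iff.1 hz w w.2), rfl⟩
      have hcardc : Nat.card ZW = Nat.card (center W) := by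
        rw [← hmap, card_map_of_injective W.subtype_injective]
      have hqq : IsPGroup q (W ⧸ center W) := by
        intro t
        obtain ⟨w, rfl⟩ := QuotientGroup.mk'_surjective _ t
        obtain ⟨v, hv, z, hz, hwv⟩ := T.decomp w w.2
        obtain ⟨k, hk⟩ := T.pgroup ⟨v, hv⟩
        refine ⟨k, ?_⟩
        rw [← map_pow]
        refine (QuotientGroup.eq_one_iff _).2 (mem_center_iff.2 fun u => Subtype.ext ?_)
        have hzv : Commute v z := relCenter_comm hz (T.le hv).1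
        show (u : G) * ((w : G) ^ q ^ k) = (w : G) ^ q ^ k * u
        rw [hwv, hzv.mul_pow, show v ^ q ^ k = 1 from congrArg Subtype.val hk, one_mul]
        exact relCenter_comm (pow_mem hz _) u.2.1
      obtain ⟨k, hk⟩ := IsPGroup.iff_card.1 hqq
      have hk2 : 2 ≤ k := by
        by_contra hlt
        refine hab ?_
        have hcyc : IsCyclic (W ⧸ center W) := by
          interval_cases k
          · have : Subsingleton (W ⧸ center W) := (Nat.card_eq_one_iff_unique.1 (by rw [hk, pow_zero])).1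
            infer_instance
          · exact isCyclic_of_prime_card (p := q) (by rw [hk, pow_one])
        have := MonoidHom.isMulCommutative_of_isCyclic_of_ker_le_center (QuotientGroup.mk' (center W))
          (QuotientGroup.ker_mk' (center W)).le
        exact congrArg Subtype.val (this.is_comm.comm ⟨a, T.le ha⟩ ⟨b, T.le hb'⟩)
      rw [hcardc, ← card_mul_index (center W), index_eq_card, hk, mul_comm]
      exact Nat.mul_le_mul_left _ (Nat.pow_le_pow_right hqp.pos hk2)
    have hpos : (0 : ℚ) < W.relIndex N := by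
      have h1 := hmulN x
      have h2 : (0 : ℚ) < Nat.card N := by exact_mod_cast Nat.card_pos
      rcases (Nat.cast_nonneg (α := ℚ) (W.relIndex N)).lt_or_eq with h3 | h3
      · exact h3
      · rw [← h3, mul_zero] at h1; linarith
    have hqpos : (0 : ℚ) < (q : ℚ) ^ 2 := by
      have : (0 : ℚ) < q := by exact_mod_cast hqp.pos
      positivity
    rw [mul_one_div, lt_div_iff₀ hqpos, ← hmulN x]
    have hsq' : (q : ℚ) ^ 2 * Nat.card ZW ≤ Nat.card W := by exact_mod_cast hsq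
    calc ((S q).card : ℚ) * (q : ℚ) ^ 2
        ≤ (W.relIndex N : ℚ) * ((Nat.card ZW : ℚ) - Nat.card (relCenter N)) * (q : ℚ) ^ 2 :=
          mul_le_mul_of_nonneg_right hb hqpos.le
      _ < (W.relIndex N : ℚ) * (Nat.card ZW : ℚ) * (q : ℚ) ^ 2 := by
          refine mul_lt_mul_of_pos_right (mul_lt_mul_of_pos_left (by linarith) hpos) hqpos
      _ ≤ (Nat.card W : ℚ) * W.relIndex N := by nlinarith
  have htot : (Nat.card N : ℚ) - Nat.card (relCenter N) ≤ ∑ q ∈ s, ((S q).card : ℚ) := by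
    have h1 := (Finset.card_le_card hcov).trans Finset.card_biUnion_le
    have e : (Finset.univ.filter fun g => g ∈ N ∧ g ∉ relCenter N) =
        (Finset.univ.filter fun g => g ∈ N) \ (Finset.univ.filter fun g => g ∈ relCenter N) := by
      ext z; simp
    have hsub : (Finset.univ.filter fun g => g ∈ relCenter N) ⊆ Finset.univ.filter fun g => g ∈ N :=
      fun z hz => by simp only [Finset.mem_filter, Finset.mem_univ, true_and] at hz ⊢; exact hz.1
    rw [e, Finset.card_sdiff_of_subset hsub] at h1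
    have h2 : ((Finset.univ.filter fun g => g ∈ N).card : ℚ) - (Finset.univ.filter fun g => g ∈ relCenter N).card ≤
        ∑ q ∈ s, ((S q).card : ℚ) := by
      rw [← Nat.cast_sub (Finset.card_le_card hsub)]; exact_mod_cast h1
    rwa [show (Finset.univ.filter fun g => g ∈ N).card = Nat.card N by
      rw [Nat.card_eq_fintype_card, Fintype.card_subtype],
      show (Finset.univ.filter fun g => g ∈ relCenter N).card = Nat.card (relCenter N) by
      rw [Nat.card_eq_fintype_card, Fintype.card_subtype]] at h2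
  have hN0 : (0 : ℚ) < Nat.card N := by exact_mod_cast Nat.card_pos
  have hsum : ∀ t ⊆ s, ∑ q ∈ t, (Nat.card N : ℚ) * (1 / (q : ℚ) ^ 2) ≤ (Nat.card N : ℚ) / 2 := fun t ht => by
    rw [← Finset.mul_sum, div_eq_mul_one_div (Nat.card N : ℚ) 2]
    exact mul_le_mul_of_nonneg_left (sum_inv_prime_sq_le t fun q hq =>
      Nat.prime_of_mem_primeFactors (Finset.mem_filter.1 (ht hq)).1) hN0.le
  have hstrict : ∀ t ⊆ s, (∀ q ∈ t, ∀ x P, RelType N x q P → ¬ P.Normal) →
      ∑ q ∈ t, ((S q).card : ℚ) < (Nat.card N : ℚ) / 2 := fun t ht hnor => by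
    rcases t.eq_empty_or_nonempty with rfl | hne
    · rw [Finset.sum_empty]; linarith
    · exact (Finset.sum_lt_sum_of_nonempty hne fun q hq => hsyl q (ht hq) (hnor q hq)).trans_le (hsum t ht)
  -- the centre has index at least two
  have hhalf : 2 * Nat.card (relCenter N) ≤ Nat.card N := by
    obtain ⟨c, hc⟩ := card_dvd_of_le (inf_le_left : relCenter N ≤ N)
    have : c ≠ 1 := fun e => hx₀ (by
      rw [e, mul_one] at hc
      exact (eq_of_le_of_card_ge (inf_le_left : relCenter N ≤ N) hc.le).ge hx₀N)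
    have : c ≠ 0 := fun e => by rw [e, mul_zero] at hc; exact Nat.card_pos.ne' hc
    rw [hc, mul_comm]
    exact Nat.mul_le_mul_left _ (by omega)
  by_cases hP : ∃ q ∈ s, ∃ x P, RelType N x q P ∧ P.Normal
  · obtain ⟨p, hps, x, P, T, hPn⟩ := hP
    have hpp := Nat.prime_of_mem_primeFactors (Finset.mem_filter.1 hps).1
    have := Fact.mk hpp
    have hothers : ∀ q ∈ s.erase p, ∀ x' P', RelType N x' q P' → ¬ P'.Normal := by
      intro q hq x' P' T' hP'
      obtain ⟨hne, hqs⟩ := Finset.mem_erase.1 hq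
      have hqp := Nat.prime_of_mem_primeFactors (Finset.mem_filter.1 hqs).1
      have := Fact.mk hqp
      have hcomm := commute_of_normal_of_disjoint P P' hPn hP'
        (IsPGroup.disjoint_of_ne p q (Ne.symm hne) P P' T.pgroup T'.pgroup)
      refine T'.nc (T.prime' x' ⟨T'.mem, mem_centralizer_singleton_iff.2 (hcomm x x' T.self_mem T'.self_mem).symm⟩ ?_)
      obtain ⟨b, hb⟩ := IsPGroup.iff_orderOf.1 T'.pgroup ⟨x', T'.self_mem⟩
      rw [Subgroup.orderOf_mk] at hb
      rw [hb]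
      exact fun hd => hne ((Nat.prime_dvd_prime_iff_eq hpp hqp).1 (hpp.dvd_of_dvd_pow hd)).symm
    have hmain : ((S p).card : ℚ) ≤ (Nat.card N : ℚ) / 2 - Nat.card (relCenter N) := by
      set W := N ⊓ centralizer ({x} : Set G) with hW
      have hWN : 2 * Nat.card W ≤ Nat.card N := by
        obtain ⟨c, hc⟩ := card_dvd_of_le (inf_le_left : W ≤ N)
        have : c ≠ 1 := fun e => T.nc (by
          rw [e, mul_one] at hc
          have e' := eq_of_le_of_card_ge (inf_le_left : W ≤ N) hc.le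
          exact absurd ((e'.ge).trans inf_le_right) (not_le h T.mem T.nc))
        have : c ≠ 0 := fun e => by rw [e, mul_zero] at hc; exact Nat.card_pos.ne' hc
        rw [hc, mul_comm]
        exact Nat.mul_le_mul_left _ (by omega)
      have hsub : S p ⊆ Finset.univ.filter fun g => g ∈ W ∧ g ∉ relCenter N := by
        intro g hg
        obtain ⟨hgN, hgc, k, c, hqc, hkc, he⟩ := (Finset.mem_filter.1 hg).2
        obtain ⟨n, hn, hz, -⟩ := cover h hnp hng hx₀N hx₀ hn₀ T hgN hkc hqc he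
        have := type_normal_W h T hPn n⁻¹ hz
        refine Finset.mem_filter.2 ⟨Finset.mem_univ _, ?_, hgc⟩
        rw [show g = n⁻¹ * (n * g * n⁻¹) * n⁻¹⁻¹ by group]
        exact this
      have hsub2 : (Finset.univ.filter fun g => g ∈ relCenter N) ⊆ Finset.univ.filter fun g => g ∈ W :=
        fun z hz => by
          simp only [Finset.mem_filter, Finset.mem_univ, true_and] at hz ⊢
          exact ⟨hz.1, relCenter_mem_centralizer hz T.mem⟩
      have h1 := Finset.card_le_card hsub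
      rw [show (Finset.univ.filter fun g => g ∈ W ∧ g ∉ relCenter N) =
        (Finset.univ.filter fun g => g ∈ W) \ (Finset.univ.filter fun g => g ∈ relCenter N) by ext z; simp,
        Finset.card_sdiff_of_subset hsub2] at h1
      have h2 : ((S p).card : ℚ) ≤ (Nat.card W : ℚ) - Nat.card (relCenter N) := by
        refine le_trans (show ((S p).card : ℚ) ≤ (((Finset.univ.filter fun g => g ∈ W).card -
          (Finset.univ.filter fun g => g ∈ relCenter N).card : ℕ) : ℚ) by exact_mod_cast h1) (le_of_eq ?_)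
        rw [Nat.cast_sub (Finset.card_le_card hsub2)]
        congr 1 <;> norm_cast <;> rw [Nat.card_eq_fintype_card, Fintype.card_subtype]
      have h3 : (2 : ℚ) * Nat.card W ≤ Nat.card N := by exact_mod_cast hWN
      linarith
    have h1 := hstrict (s.erase p) (Finset.erase_subset p s) hothers
    rw [← Finset.add_sum_erase s _ hps] at htot
    linarith
  · push Not at hP
    have h1 := hstrict s subset_rfl hP
    have h2 : (2 : ℚ) * Nat.card (relCenter N) ≤ Nat.card N := by exact_mod_cast hhalf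
    linarith

end NonP

theorem good_structure {x : G} (hx : RelGood N x) :
    ∃ (Q K : Subgroup (N ⧸ center N)) (p : ℕ), p.Prime ∧ Cfsg.IsFrobeniusComplement Q ∧ (Nat.card Q).Prime ∧
      K.Normal ∧ (K : Set (N ⧸ center N)) = Cfsg.frobeniusKernel Q ∧ Cfsg.IsElementaryAbelian p K := by
  classical
  obtain ⟨hxN, hxc, hxn, hWab, hWC⟩ := hx
  set M := centralizer ({x} : Set G) with hM
  set W := N ⊓ M with hW
  set π := QuotientGroup.mk' (center N) with hπ
  have hcen : ∀ n : N, n ∈ center N ↔ (n : G) ∈ relCenter N := fun n =>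
    ⟨fun hn => ⟨n.2, mem_centralizer_iff.2 fun m hm => congrArg Subtype.val (mem_center_iff.1 hn ⟨m, hm⟩)⟩,
      fun hn => mem_center_iff.2 fun m => Subtype.ext (relCenter_comm hn m.2)⟩
  have hπ1 : ∀ n : N, π n = 1 ↔ (n : G) ∈ relCenter N := fun n => (QuotientGroup.eq_one_iff n).trans (hcen n)
  have hZW : relCenter N ≤ W := fun z hz => ⟨hz.1, relCenter_mem_centralizer hz hxN⟩
  set Q := (W.subgroupOf N).map π with hQ
  have hmemQ : ∀ n : N, π n ∈ Q ↔ (n : G) ∈ W := by
    refine fun n => ⟨fun ⟨w, hw, hwn⟩ => ?_, fun hn => mem_map_of_mem π hn⟩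
    have hz := (hcen _).1 (QuotientGroup.eq.1 hwn)
    have := W.mul_mem (show (w : G) ∈ W from hw) (hZW hz)
    simpa using this
  have hQab : ∀ a ∈ Q, ∀ b ∈ Q, a * b = b * a := by
    rintro _ ⟨a, ha, rfl⟩ _ ⟨b, hb, rfl⟩
    rw [← map_mul, ← map_mul, show a * b = b * a from Subtype.ext (hWab a ha b hb)]
  have hti : ∀ g : N ⧸ center N, ∀ a ∈ Q, a ≠ 1 → g * a * g⁻¹ ∈ Q → g ∈ Q := by
    intro g a ha ha1 hga
    obtain ⟨g, rfl⟩ := QuotientGroup.mk'_surjective _ g
    obtain ⟨a, haW, rfl⟩ := ha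
    rw [← map_inv, ← map_mul, ← map_mul, hmemQ] at hga
    have hac : (a : G) ∉ relCenter N := fun hc => ha1 ((hπ1 a).2 hc)
    have hgac : (g : G) * a * (g : G)⁻¹ ∉ relCenter N := fun hc => hac (by
      have := (relCenter_normal (N := N)).conj_mem _ hc (g : G)⁻¹
      simpa [mul_assoc] using this)
    rw [hmemQ]
    refine ⟨g.2, ?_⟩
    have hconjM : ∀ u ∈ M, (g : G) * u * (g : G)⁻¹ ∈ M := by
      intro u hu
      rw [← hWC _ hga hgac]
      refine mem_centralizer_singleton_iff.2 ?_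
      simp only [Subgroup.coe_mul, Subgroup.coe_inv]
      have h1 : u * (a : G) = a * u := mem_centralizer_singleton_iff.1 ((hWC _ haW hac).symm ▸ hu)
      calc (g : G) * u * (g : G)⁻¹ * ((g : G) * a * (g : G)⁻¹) = (g : G) * (u * a) * (g : G)⁻¹ := by group
        _ = _ := by rw [h1]; group
    by_contra hgM
    have hgN : (g : G) ∈ normalizer (M : Set G) := mem_normalizer_iff_map_conj.2 (eq_of_le_of_card_ge (by
      rintro _ ⟨u, hu, rfl⟩; exact hconjM u hu) (card_map_of_injective (MulEquiv.injective _)).ge)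
    exact hxn (normalizer_eq_top_iff.1 ((h x hxN hxc).2 _
      (SetLike.lt_iff_le_and_exists.2 ⟨le_normalizer, (g : G), hgN, hgM⟩)))
  have hQ1 : Q ≠ ⊥ := fun e => hxc (by
    have h1 : π ⟨x, hxN⟩ ∈ Q := (hmemQ _).2 ⟨hxN, mem_centralizer_singleton_iff.2 rfl⟩
    rw [e, mem_bot] at h1
    exact (hπ1 _).1 h1)
  have hQtop : Q ≠ ⊤ := fun e => not_le h hxN hxc fun n hn => ((hmemQ ⟨n, hn⟩).1 (e ▸ mem_top _)).2
  obtain ⟨K, hKn, hKQ, hKcard, hcop, hdec⟩ := exists_normal_complement_of_ti Q hQab hti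
  have hKQ' : ∀ y, y ∈ K → y ∈ Q → y = 1 := fun y h1 h2 => mem_bot.1 (hKQ ▸ ⟨h1, h2⟩)
  have hcardQ : Nat.card ((N ⧸ center N) ⧸ K) = Nat.card Q := by
    have e1 := card_mul_index K
    rw [← hKcard] at e1
    rw [← index_eq_card]
    exact Nat.eq_of_mul_eq_mul_left Nat.card_pos e1
  have hKmem : ∀ y : N ⧸ center N, (orderOf y).Coprime (Nat.card Q) → y ∈ K := by
    intro y hy
    refine (QuotientGroup.eq_one_iff y).1 (orderOf_eq_one_iff.1 ?_)
    exact Nat.eq_one_of_dvd_coprimes hy (orderOf_map_dvd (QuotientGroup.mk' K) y) (hcardQ ▸ orderOf_dvd_natCard _)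
  -- the kernel as a subgroup of `G`
  set Kh := (K.comap π).map N.subtype with hKh
  have hKhmem : ∀ n : N, (n : G) ∈ Kh ↔ π n ∈ K := fun n =>
    ⟨fun ⟨m, hm, hmn⟩ => (show m = n from Subtype.ext hmn) ▸ hm, fun hn => ⟨n, hn, rfl⟩⟩
  have hKhN : Kh ≤ N := map_subtype_le _
  have hZKh : relCenter N ≤ Kh := fun z hz => (hKhmem ⟨z, hz.1⟩).2 (by
    rw [(hπ1 ⟨z, hz.1⟩).2 hz]; exact one_mem K)
  have hKhn : Kh.Normal := by
    refine ⟨fun t ht g => ?_⟩
    have htN := hKhN ht
    refine (hKhmem ⟨g * t * g⁻¹, hNn.conj_mem t htN g⟩).2 (hKmem _ ?_)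
    have e : orderOf (π ⟨g * t * g⁻¹, hNn.conj_mem t htN g⟩) = orderOf (π ⟨t, htN⟩) := by
      refine orderOf_eq_orderOf_iff.2 fun k => ?_
      rw [← map_pow, ← map_pow, hπ1, hπ1, Subgroup.coe_pow, Subgroup.coe_pow, conj_pow]
      refine ⟨fun hh => ?_, fun hh => (relCenter_normal (N := N)).conj_mem _ hh g⟩
      have := (relCenter_normal (N := N)).conj_mem _ hh g⁻¹
      simpa [mul_assoc] using this
    rw [e]
    have h1 : π ⟨t, htN⟩ ∈ K := (hKhmem _).1 ht
    exact hcop.coprime_dvd_left (Subgroup.orderOf_dvd_natCard _ h1)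
  have hKhW : ∀ t ∈ Kh, t ∈ W → t ∈ relCenter N := fun t ht htW =>
    (hπ1 ⟨t, htW.1⟩).1 (hKQ' _ ((hKhmem ⟨t, htW.1⟩).1 ht) ((hmemQ _).2 htW))
  have hNKW : ∀ n ∈ N, ∃ t ∈ Kh, ∃ w ∈ W, n = t * w := by
    intro n hn
    obtain ⟨k, hk, m, hm, hkm⟩ := hdec (π ⟨n, hn⟩)
    obtain ⟨w, hw, rfl⟩ := hm
    refine ⟨n * (w : G)⁻¹, (hKhmem (⟨n, hn⟩ * w⁻¹)).2 ?_, w, hw, (inv_mul_cancel_right _ _).symm⟩
    rw [map_mul, map_inv, hkm, mul_inv_cancel_right]
    exact hk
  have hKhne : ∃ t ∈ Kh, t ∉ relCenter N := by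
    by_contra! hall
    refine not_le h hxN hxc fun n hn => ?_
    obtain ⟨t, ht, w, hw, rfl⟩ := hNKW n hn
    exact mul_mem (relCenter_mem_centralizer (hall t ht) hxN) hw.2
  -- conjugating into `W`
  have hconj : ∀ r : ℕ, r.Prime → r ∣ Nat.card Q → ∀ y : N ⧸ center N, orderOf y = r →
      ∃ c : N ⧸ center N, c * y * c⁻¹ ∈ Q := by
    intro r hr hrM y hy
    have := Fact.mk hr
    obtain ⟨S⟩ := (inferInstance : Nonempty (Sylow r Q))
    obtain ⟨Y, hY⟩ := (IsPGroup.of_card (n := 1) (by rw [Nat.card_zpowers, hy, pow_one] :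
      Nat.card (zpowers y) = r ^ 1)).exists_le_sylow
    have hSG : ¬ r ∣ ((S : Subgroup Q).map Q.subtype).index := by
      rw [index_map_of_injective _ Q.subtype_injective, range_subtype]
      refine fun hd => (hr.dvd_mul.1 hd).elim S.not_dvd_index fun h2 => ?_
      have e1 := card_mul_index Q
      rw [← hKcard, mul_comm] at e1
      rw [Nat.eq_of_mul_eq_mul_right Nat.card_pos e1] at h2
      exact (hr.coprime_iff_not_dvd.1 (hcop.symm.coprime_dvd_left hrM)) h2
    obtain ⟨c, hc⟩ := MulAction.exists_smul_eq (N ⧸ center N) Y ((S.2.map Q.subtype).toSylow hSG)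
    refine ⟨c, map_subtype_le (S : Subgroup Q) ?_⟩
    have h2 : (MulAut.conj c).toMonoidHom y ∈ ((c • Y : Sylow r (N ⧸ center N)) : Subgroup (N ⧸ center N)) :=
      mem_map_of_mem (MulAut.conj c).toMonoidHom (hY (mem_zpowers y))
    rw [hc] at h2
    exact h2
  have hcentK : ∀ t ∈ Kh, t ∉ relCenter N → ∀ g ∈ N, g ∈ centralizer ({t} : Set G) → g ∈ Kh := by
    intro t ht htc g hgN hg
    refine (hKhmem ⟨g, hgN⟩).2 (hKmem _ (Nat.coprime_of_dvd fun r hr hrg hrM => ?_))
    obtain ⟨i, hi⟩ : ∃ i : ℕ, orderOf (π ⟨g, hgN⟩ ^ i) = r := ⟨orderOf (π ⟨g, hgN⟩) / r,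
      orderOf_pow_orderOf_div (orderOf_pos _).ne' hrg⟩
    obtain ⟨c, hc⟩ := hconj r hr hrM _ hi
    obtain ⟨d, rfl⟩ := QuotientGroup.mk'_surjective _ c
    rw [← map_pow, ← map_inv, ← map_mul, ← map_mul, hmemQ] at hc
    have huc : (d : G) * g ^ i * (d : G)⁻¹ ∉ relCenter N := fun hz => by
      have hz' : g ^ i ∈ relCenter N := by
        have := (relCenter_normal (N := N)).conj_mem _ hz (d : G)⁻¹
        simpa [mul_assoc] using this
      have e : π ⟨g, hgN⟩ ^ i = 1 := by rw [← map_pow, hπ1]; exact hz'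
      rw [e, orderOf_one] at hi
      exact hr.one_lt.ne hi
    have htM : (d : G) * t * (d : G)⁻¹ ∈ W := by
      refine ⟨N.mul_mem (N.mul_mem d.2 (hKhN ht)) (N.inv_mem d.2), ?_⟩
      show _ ∈ M
      rw [← hWC _ hc huc]
      refine mem_centralizer_singleton_iff.2 ?_
      simp only [Subgroup.coe_mul, Subgroup.coe_inv, Subgroup.coe_pow]
      have hgt : Commute (g ^ i) t := (show Commute g t from mem_centralizer_singleton_iff.1 hg).pow_left i
      calc (d : G) * t * (d : G)⁻¹ * ((d : G) * g ^ i * (d : G)⁻¹) = (d : G) * (t * g ^ i) * (d : G)⁻¹ := by group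
        _ = _ := by rw [← hgt.eq]; group
    have h2 := hKhW _ (hKhn.conj_mem t ht d) htM
    refine htc ?_
    have := (relCenter_normal (N := N)).conj_mem _ h2 (d : G)⁻¹
    simpa [mul_assoc] using this
  have hKC : ∀ t ∈ Kh, t ∉ relCenter N → Kh ≤ centralizer ({t} : Set G) := by
    intro t ht htc
    by_contra hnle
    have htop := (h t (hKhN ht) htc).2 _ (left_lt_sup.2 hnle)
    refine hQ1 (eq_bot_iff.2 ?_)
    rintro _ ⟨n, hn, rfl⟩
    rw [mem_bot, hπ1]
    refine hKhW n ?_ hn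
    obtain ⟨k, hk, c, hc, hkc⟩ := mem_sup_of_normal_left.1
      (show (n : G) ∈ Kh ⊔ centralizer ({t} : Set G) by rw [sup_comm, htop]; exact mem_top _)
    have hcN : c ∈ N := by
      have := mul_mem (inv_mem (hKhN hk)) n.2
      rwa [← hkc, inv_mul_cancel_left] at this
    rw [← hkc]
    exact mul_mem hk (hcentK t ht htc c hcN hc)
  have hKhab : ∀ a ∈ Kh, ∀ b ∈ Kh, a * b = b * a := by
    intro a ha b hb
    by_cases hac : a ∈ relCenter N
    · exact (relCenter_comm hac (hKhN hb)).symm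
    · exact (mem_centralizer_singleton_iff.1 (hKC a ha hac hb)).symm
  -- invariant subgroups of `W`
  have hHW : ∀ H : Subgroup G, relCenter N ≤ H → H ≤ W → (∃ t ∈ H, t ∉ relCenter N) →
      (∀ m ∈ M, ∀ t ∈ H, m * t * m⁻¹ ∈ H) → H = W := by
    intro H hZH hHW hne hinv
    obtain ⟨t, ht, htc⟩ := hKhne
    set L := Kh ⊔ H with hL
    have hLN : L ≤ N := sup_le hKhN (hHW.trans inf_le_left)
    have hnK : Kh ≤ normalizer (L : Set G) := le_sup_left.trans le_normalizer
    have hnW : ∀ m ∈ M, m ∈ normalizer (L : Set G) := fun m hm => mem_normalizer_iff_map_conj.2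
      (eq_of_le_of_card_ge (by
        rintro _ ⟨l, hl, rfl⟩
        obtain ⟨k, hk, c, hc, rfl⟩ := mem_sup_of_normal_left.1 hl
        rw [map_mul]
        exact mul_mem (mem_sup_left (hKhn.conj_mem k hk m)) (mem_sup_right (hinv m hm c hc)))
        (card_map_of_injective (MulEquiv.injective _)).ge)
    have hLn : L.Normal := by
      refine normalizer_eq_top_iff.1 (eq_top_iff.2 fun g _ => ?_)
      obtain ⟨n, hn, m, hm, rfl⟩ := decomp h hxN hxc g
      obtain ⟨k, hk, w, hw, rfl⟩ := hNKW n hn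
      exact mul_mem (mul_mem (hnK hk) (hnW w hw.2)) (hnW m hm)
    rcases (le_sup_right : centralizer ({t} : Set G) ≤ L ⊔ centralizer ({t} : Set G)).eq_or_lt with he | hlt
    · exfalso
      obtain ⟨u, hu, huc⟩ := hne
      have huC : u ∈ centralizer ({t} : Set G) := he ▸ mem_sup_left (mem_sup_right hu)
      exact huc (hKhW u (hcentK t ht htc u (hHW hu).1 huC) (hHW hu))
    · have htop := (h t (hKhN ht) htc).2 _ hlt
      refine le_antisymm hHW fun w hw => ?_
      obtain ⟨l, hl, c, hc, hlc⟩ := mem_sup_of_normal_left.1 (show w ∈ L ⊔ centralizer ({t} : Set G) by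
        rw [htop]; exact mem_top w)
      obtain ⟨k, hk, u, hu, rfl⟩ := mem_sup_of_normal_left.1 hl
      have hcN : c ∈ N := by
        have := mul_mem (inv_mem (mul_mem (hKhN hk) (hHW hu).1)) hw.1
        rwa [← hlc, inv_mul_cancel_left] at this
      have hcK := hcentK t ht htc c hcN hc
      have e : w = k * (u * c * u⁻¹) * u := by rw [← hlc]; group
      have hk' : k * (u * c * u⁻¹) ∈ Kh := mul_mem hk (hKhn.conj_mem c hcK u)
      have hz : k * (u * c * u⁻¹) ∈ relCenter N := hKhW _ hk' (by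
        have := mul_mem hw (inv_mem (hHW hu))
        rwa [e, mul_inv_cancel_right] at this)
      rw [e]
      exact mul_mem (hZH hz) hu
  -- exponents
  have hex : ∀ (A : Subgroup G), A ≤ N → relCenter N ≤ A → (∃ t ∈ A, t ∉ relCenter N) →
      ∃ r : ℕ, r.Prime ∧ ∃ t ∈ A, t ∉ relCenter N ∧ t ^ r ∈ relCenter N := by
    intro A hAN hZA ⟨t, ht, htc⟩
    have hne : orderOf (π ⟨t, hAN ht⟩) ≠ 1 := fun e => htc ((hπ1 _).1 (orderOf_eq_one_iff.1 e))
    have hr := Nat.minFac_prime hne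
    set r := (orderOf (π ⟨t, hAN ht⟩)).minFac
    set j := orderOf (π ⟨t, hAN ht⟩) / r
    have ho : orderOf (π ⟨t, hAN ht⟩ ^ j) = r :=
      orderOf_pow_orderOf_div (orderOf_pos _).ne' (Nat.minFac_dvd _)
    refine ⟨r, hr, t ^ j, pow_mem ht j, fun hz => ?_, ?_⟩
    · have e : π ⟨t, hAN ht⟩ ^ j = 1 := by rw [← map_pow, hπ1]; exact hz
      rw [e, orderOf_one] at ho
      exact hr.one_lt.ne ho
    · have e : (π ⟨t, hAN ht⟩ ^ j) ^ r = 1 := ho ▸ pow_orderOf_eq_one _
      rw [← map_pow, ← map_pow, hπ1] at e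
      exact e
  obtain ⟨q, hq, w₀, hw₀, hw₀c, hw₀q⟩ := hex W inf_le_left hZW ⟨x, ⟨hxN, mem_centralizer_singleton_iff.2 rfl⟩, hxc⟩
  let H : Subgroup G :=
    { carrier := {t | t ∈ W ∧ t ^ q ∈ relCenter N}
      one_mem' := ⟨one_mem W, by rw [one_pow]; exact one_mem _⟩
      mul_mem' := fun {u v} ⟨hu, hu'⟩ ⟨hv, hv'⟩ => ⟨mul_mem hu hv, by
        rw [(show Commute u v from hWab u hu v hv).mul_pow]; exact mul_mem hu' hv'⟩
      inv_mem' := fun {u} ⟨hu, hu'⟩ => ⟨inv_mem hu, by rw [inv_pow]; exact inv_mem hu'⟩ }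
  have hH : H = W := hHW H (fun z hz => ⟨hZW hz, pow_mem hz q⟩) (fun t ht => ht.1) ⟨w₀, ⟨hw₀, hw₀q⟩, hw₀c⟩
    fun m hm t ht => ⟨⟨hNn.conj_mem t ht.1.1 m, M.mul_mem (M.mul_mem hm ht.1.2) (M.inv_mem hm)⟩, by
      rw [conj_pow]; exact (relCenter_normal (N := N)).conj_mem _ ht.2 m⟩
  have hQexp : ∀ a ∈ Q, a ^ q = 1 := by
    rintro _ ⟨n, hn, rfl⟩
    rw [← map_pow, hπ1]
    exact (hH.ge hn).2
  obtain ⟨p, hp, t₀, ht₀, ht₀c, ht₀p⟩ := hex Kh hKhN hZKh hKhne
  let H' : Subgroup G :=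
    { carrier := {t | t ∈ Kh ∧ t ^ p ∈ relCenter N}
      one_mem' := ⟨one_mem Kh, by rw [one_pow]; exact one_mem _⟩
      mul_mem' := fun {u v} ⟨hu, hu'⟩ ⟨hv, hv'⟩ => ⟨mul_mem hu hv, by
        rw [(show Commute u v from hKhab u hu v hv).mul_pow]; exact mul_mem hu' hv'⟩
      inv_mem' := fun {u} ⟨hu, hu'⟩ => ⟨inv_mem hu, by rw [inv_pow]; exact inv_mem hu'⟩ }
  have hH'n : H'.Normal := ⟨fun t ht g => ⟨hKhn.conj_mem t ht.1 g, by
    rw [conj_pow]; exact (relCenter_normal (N := N)).conj_mem _ ht.2 g⟩⟩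
  have hKexp : ∀ t ∈ Kh, t ^ p ∈ relCenter N := by
    rcases between h hxN hxc (L := H' ⊔ W) (sup_le (fun t ht => hKhN ht.1) inf_le_left) le_sup_right
      (fun m hm l hl => by
        obtain ⟨u, hu, w, hw, rfl⟩ := mem_sup_of_normal_left.1 hl
        rw [show m * (u * w) * m⁻¹ = m * u * m⁻¹ * (m * w * m⁻¹) by group]
        exact mul_mem (mem_sup_left (hH'n.conj_mem u hu m))
          (mem_sup_right ⟨hNn.conj_mem w hw.1 m, M.mul_mem (M.mul_mem hm hw.2) (M.inv_mem hm)⟩)) with he | he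
    · exact absurd (hKhW t₀ ht₀ (he.le (mem_sup_left (show t₀ ∈ H' from ⟨ht₀, ht₀p⟩)))) ht₀c
    intro t ht
    obtain ⟨u, hu, w, hw, rfl⟩ := mem_sup_of_normal_left.1 (show t ∈ H' ⊔ W by rw [he]; exact hKhN ht)
    have hwK : w ∈ Kh := by simpa using mul_mem (inv_mem hu.1) ht
    have hwH : w ∈ H' := ⟨hwK, pow_mem (hKhW w hwK hw) p⟩
    exact (mul_mem hu hwH).2
  have hKel : Cfsg.IsElementaryAbelian p K := by
    refine ⟨⟨⟨fun a b => Subtype.ext ?_⟩⟩, fun a ha => ?_⟩
    · obtain ⟨n, hn⟩ := QuotientGroup.mk'_surjective _ (a : N ⧸ center N)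
      obtain ⟨m, hm⟩ := QuotientGroup.mk'_surjective _ (b : N ⧸ center N)
      show (a : N ⧸ center N) * b = b * a
      rw [← hn, ← hm, ← map_mul, ← map_mul,
        show n * m = m * n from Subtype.ext (hKhab _ ((hKhmem n).2 (hn ▸ a.2)) _ ((hKhmem m).2 (hm ▸ b.2)))]
    · obtain ⟨n, rfl⟩ := QuotientGroup.mk'_surjective _ a
      rw [← map_pow, hπ1]
      exact hKexp n ((hKhmem n).2 ha)
  -- `Q` is cyclic
  have hQcyc : IsCyclic Q := by
    by_contra hnc
    obtain ⟨t, ht, htc⟩ := hKhne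
    have := hKn
    have hgen := iSup_centralizer_eq (A := Q) (G := K) ⟨⟨fun a b => Subtype.ext (hQab a a.2 b b.2)⟩⟩ hnc
      (by rw [normalizer_eq_top_iff.2 hKn]; exact le_top) hcop.symm
    have hbot : K ≤ ⊥ := by
      rw [← hgen]
      refine iSup_le fun a => ?_
      rintro k ⟨hkK, hka⟩
      refine mem_bot.2 (hKQ' k hkK (hti k a.1 a.2.1 a.2.2 ?_))
      rw [mem_centralizer_singleton_iff.1 hka, mul_inv_cancel_right]
      exact a.2.1
    exact htc ((hπ1 ⟨t, hKhN ht⟩).1 (mem_bot.1 (hbot ((hKhmem ⟨t, hKhN ht⟩).1 ht))))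
  have hQq : Nat.card Q = q := by
    obtain ⟨g, hg⟩ := (Subgroup.isCyclic_iff_exists_zpowers_eq_top Q).1 hQcyc
    have := Fact.mk hq
    rw [← hg, Nat.card_zpowers]
    refine orderOf_eq_prime (hQexp g (hg ▸ mem_zpowers g)) fun e => hQ1 ?_
    rw [← hg, e, zpowers_one_eq_bot]
  have hFC : Cfsg.IsFrobeniusComplement Q := by
    refine ⟨hQ1, hQtop, fun g hg => ?_⟩
    rw [eq_bot_iff]
    rintro a ⟨ha, hga⟩
    rw [mem_bot]
    obtain ⟨b, hb, hba⟩ := hga
    have hba' : g * b * g⁻¹ = a := hba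
    by_contra ha1
    refine hg (hti g b hb (fun e => ha1 ?_) (hba'.symm ▸ ha))
    rw [← hba', e, mul_one, mul_inv_cancel]
  refine ⟨Q, K, p, hp, hFC, hQq ▸ hq, hKn, ?_, hKel⟩
  have hidx : Q.index = Nat.card K := by
    have e1 := card_mul_index Q
    rw [← hKcard, mul_comm] at e1
    exact Nat.eq_of_mul_eq_mul_right Nat.card_pos e1
  refine Set.eq_of_subset_of_ncard_le (fun k hk => ?_) ?_ (Set.toFinite _)
  · by_cases hk1 : k = 1
    · exact Or.inl hk1
    refine Or.inr fun g hgk => hk1 ?_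
    obtain ⟨b, hb, hbk⟩ := hgk
    have hbk' : g * b * g⁻¹ = k := hbk
    have hbK : b ∈ K := by
      have := hKn.conj_mem k hk g⁻¹
      rw [← hbk'] at this
      simpa [mul_assoc] using this
    rw [← hbk', hKQ' b hbK hb, mul_one, mul_inv_cancel]
  · rw [← Nat.card_coe_set_eq, ← Nat.card_coe_set_eq, CfsgLib.Solvable.card_kernel_of_isFrobeniusComplement hFC, hidx]
    exact le_rfl

end RelMaxCent

end CfsgLib.Coprime

namespace CfsgLib.Coprime

open Subgroup
open scoped commutatorElement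

/-- Normal subgroups whose noncentral elements have maximal centralizers. -/
theorem RelMaxCent.structure_theorem {G : Type*} [Group G] [Finite G] {N : Subgroup G} [N.Normal]
    (h : RelMaxCent N) :
    (∃ p : ℕ, p.Prime ∧ Cfsg.IsElementaryAbelian p (⊤ : Subgroup (N ⧸ center N))) ∨
    (∃ (Q K : Subgroup (N ⧸ center N)) (p : ℕ), p.Prime ∧ Cfsg.IsFrobeniusComplement Q ∧ (Nat.card Q).Prime ∧
      K.Normal ∧ (K : Set (N ⧸ center N)) = Cfsg.frobeniusKernel Q ∧ Cfsg.IsElementaryAbelian p K) := by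
  classical
  have elem : ∀ p : ℕ, (∀ u ∈ N, ∀ v ∈ N, ⁅u, v⁆ ∈ relCenter N ∧ u ^ p ∈ relCenter N) →
      Cfsg.IsElementaryAbelian p (⊤ : Subgroup (N ⧸ center N)) := by
    intro p hp
    have hcen : ∀ n : N, (n : G) ∈ relCenter N → n ∈ center N := fun n hn =>
      mem_center_iff.2 fun m => Subtype.ext (relCenter_comm hn m.2)
    refine ⟨⟨⟨fun u v => Subtype.ext ?_⟩⟩, fun u _ => ?_⟩
    · obtain ⟨n, hn⟩ := QuotientGroup.mk'_surjective _ (u : N ⧸ center N)
      obtain ⟨m, hm⟩ := QuotientGroup.mk'_surjective _ (v : N ⧸ center N)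
      show (u : N ⧸ center N) * v = v * u
      rw [← hn, ← hm, ← commutatorElement_eq_one_iff_mul_comm, ← map_commutatorElement]
      refine (QuotientGroup.eq_one_iff _).2 (hcen _ ?_)
      rw [← coe_subtype, map_commutatorElement]
      exact (hp _ n.2 _ m.2).1
    · obtain ⟨n, rfl⟩ := QuotientGroup.mk'_surjective _ u
      rw [← map_pow]
      exact (QuotientGroup.eq_one_iff _).2 (hcen _ (by simpa using (hp _ n.2 _ n.2).2))
  by_cases hne : ∃ x ∈ N, x ∉ relCenter N
  swap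
  · push Not at hne
    exact Or.inl ⟨2, Nat.prime_two, elem 2 fun u hu v hv =>
      ⟨hne _ (by rw [commutatorElement_def]; exact mul_mem (mul_mem (mul_mem hu hv) (inv_mem hu)) (inv_mem hv)),
        hne _ (pow_mem hu 2)⟩⟩
  by_cases hall : ∀ x ∈ N, x ∉ relCenter N → (centralizer ({x} : Set G)).Normal
  · obtain ⟨p, hp, he⟩ := RelMaxCent.elementary_of_normal h hne hall
    exact Or.inl ⟨p, hp, elem p he⟩
  by_cases hnp : ∀ p : ℕ, p.Prime → ∃ y ∈ N, y ∉ relCenter N ∧ ¬ p ∣ orderOf y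
  swap
  · push Not at hnp
    obtain ⟨p, hp, hpy⟩ := hnp
    refine Or.inl ⟨p, hp, elem p (RelMaxCent.elementary_of_pow h hp fun u hu => ?_)⟩
    obtain ⟨v, hv, w, hw, huw, ⟨b, hb⟩, hd⟩ := RelMaxCent.split h u hp
    refine ⟨b, ?_⟩
    obtain ⟨i, rfl⟩ := mem_zpowers_iff.1 hv
    obtain ⟨j, rfl⟩ := mem_zpowers_iff.1 hw
    have hwz : u ^ j ∈ relCenter N := by
      by_contra hc
      exact hd (hpy _ (zpow_mem hu j) hc)
    have e : u ^ p ^ b = (u ^ i) ^ p ^ b * (u ^ j) ^ p ^ b := by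
      conv_lhs => rw [huw]
      exact ((Commute.refl u).zpow_zpow i j).mul_pow _
    rw [e, ← hb, pow_orderOf_eq_one, one_mul]
    exact pow_mem hwz _
  push Not at hall
  obtain ⟨x₀, hx₀N, hx₀, hn₀⟩ := hall
  by_cases hg : ∃ x, RelGood N x
  · obtain ⟨x, hx⟩ := hg
    exact Or.inr (RelMaxCent.good_structure h hx)
  push Not at hg
  exact (RelMaxCent.false_of_not_good h hnp hg hx₀N hx₀ hn₀).elim

end CfsgLib.Coprime
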