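import Cfsg.Prelude.Def_OddOrderLocal
import Cfsg.Agent.Lib.Coprime.GeomVal
import Mathlib.GroupTheory.PGroup
import Mathlib.GroupTheory.SpecificGroups.Cyclic
import Mathlib.Tactic

/-!
Metacyclic `p`-groups for odd `p`: normal form `a ^ i * b ^ j`, the coordinate map
`ψ : G → (ℤ/p^n)²` with kernel classes the cosets of the centre, where `p^n = |G'|`,
and commutation as the vanishing of a determinant.
-/

set_option autoImplicit false

open Subgroup
open scoped commutatorElement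

namespace CfsgLib.Coprime

variable {p : ℕ} [Fact p.Prime] {G : Type*} [Group G]

/-- Presentation data of a metacyclic `p`-group. -/
structure MCData (p : ℕ) (G : Type*) [Group G] where
  a : G
  b : G
  d : ℕ
  α : ℕ
  β : ℕ
  n : ℕ
  hd : p ∣ d
  conj : b * a * b⁻¹ = a ^ (d + 1)
  oa : orderOf a = p ^ α
  gen : ∀ g : G, ∃ i j : ℕ, g = a ^ i * b ^ j
  mem : ∀ j : ℕ, b ^ j ∈ zpowers a ↔ p ^ β ∣ j
  hn : ∀ x : ℤ, (p : ℤ) ^ α ∣ (d : ℤ) * x ↔ (p : ℤ) ^ n ∣ x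
  nα : n ≤ α

theorem exists_mcData [Finite G] (hG : IsPGroup p G) (hmc : Cfsg.IsMetacyclic G) :
    Nonempty (MCData p G) := by
  have hp := (Fact.out : p.Prime)
  obtain ⟨N, hN, hc, hq⟩ := hmc
  obtain ⟨⟨a, ha⟩, hga⟩ := hc.exists_generator
  obtain ⟨bq, hgb⟩ := hq.exists_generator
  obtain ⟨b, rfl⟩ := QuotientGroup.mk_surjective bq
  have hza : zpowers a = N := le_antisymm (zpowers_le.mpr ha) fun x hx => by
    obtain ⟨k, hk⟩ := mem_zpowers_iff.mp (hga ⟨x, hx⟩)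
    exact ⟨k, congrArg Subtype.val hk⟩
  obtain ⟨α, hα⟩ := (IsPGroup.iff_orderOf.mp hG) a
  obtain ⟨β, hβ⟩ := (IsPGroup.iff_orderOf.mp (hG.to_quotient N)) (b : G ⧸ N)
  have hgen : ∀ g : G, ∃ i j : ℕ, g = a ^ i * b ^ j := fun g => by
    obtain ⟨j, hj⟩ := (IsOfFinOrder.mem_powers_iff_mem_zpowers (isOfFinOrder_of_finite (b : G ⧸ N))).mpr
      (hgb (g : G ⧸ N))
    have hk : g * (b ^ j)⁻¹ ∈ zpowers a := by
      rw [hza, ← QuotientGroup.eq_one_iff, QuotientGroup.mk_mul, QuotientGroup.mk_inv,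
        QuotientGroup.mk_pow]
      simp only at hj
      rw [hj, mul_inv_cancel]
    obtain ⟨i, hi⟩ := (IsOfFinOrder.mem_powers_iff_mem_zpowers (isOfFinOrder_of_finite a)).mpr hk
    simp only at hi
    exact ⟨i, j, by rw [hi]; group⟩
  have hmem : ∀ j : ℕ, b ^ j ∈ zpowers a ↔ p ^ β ∣ j := fun j => by
    rw [hza, ← QuotientGroup.eq_one_iff, QuotientGroup.mk_pow, ← orderOf_dvd_iff_pow_eq_one, hβ]
  -- the conjugation exponent, normalised to be `≡ 1` modulo `p`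
  obtain ⟨r₀, hr₀⟩ : ∃ r : ℕ, a ^ r = b * a * b⁻¹ :=
    (IsOfFinOrder.mem_powers_iff_mem_zpowers (isOfFinOrder_of_finite a)).mpr
      (hza.symm ▸ hN.conj_mem a ha b)
  obtain ⟨d, hd, hconj⟩ : ∃ d : ℕ, p ∣ d ∧ b * a * b⁻¹ = a ^ (d + 1) := by
    rcases Nat.eq_zero_or_pos α with h0 | h0
    · refine ⟨0, dvd_zero _, ?_⟩
      rw [h0, pow_zero, orderOf_eq_one_iff] at hα
      simp [hα]
    have hpow : ∀ m : ℕ, b ^ m * a * (b ^ m)⁻¹ = a ^ r₀ ^ m := by
      intro m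
      induction m with
      | zero => simp
      | succ m ih =>
        rw [pow_succ' b, show b * b ^ m * a * (b * b ^ m)⁻¹ = b * (b ^ m * a * (b ^ m)⁻¹) * b⁻¹ by group,
          ih, ← conj_pow, ← hr₀, ← pow_mul, ← pow_succ']
    obtain ⟨m, hm⟩ := (IsPGroup.iff_orderOf.mp hG) b
    have h := hpow (p ^ m)
    rw [← hm, pow_orderOf_eq_one, one_mul, inv_one, mul_one, hm] at h
    nth_rewrite 1 [← pow_one a] at h
    rw [pow_eq_pow_iff_modEq, hα] at h
    have h' : ((r₀ ^ p ^ m : ℕ) : ZMod p) = ((1 : ℕ) : ZMod p) :=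
      (ZMod.natCast_eq_natCast_iff _ _ _).mpr (h.symm.of_dvd (dvd_pow_self p h0.ne'))
    rw [Nat.cast_pow, Nat.cast_one, ZMod.pow_card_pow] at h'
    have hr1 : 1 ≤ r₀ := by
      by_contra h1
      simp [show r₀ = 0 by omega] at h'
    refine ⟨r₀ - 1, ?_, by rw [Nat.sub_add_cancel hr1, hr₀]⟩
    rw [← ZMod.natCast_eq_zero_iff, Nat.cast_sub hr1, h', Nat.cast_one, sub_self]
  obtain ⟨κ, hκ, hg⟩ := (Nat.dvd_prime_pow hp).mp (Nat.gcd_dvd_right d (p ^ α))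
  refine ⟨⟨a, b, d, α, β, α - κ, hd, hconj, hα, hgen, hmem, fun x => ?_, Nat.sub_le _ _⟩⟩
  obtain ⟨e, he⟩ : p ^ κ ∣ d := hg ▸ Nat.gcd_dvd_left d (p ^ α)
  subst he
  have hsplit : (p : ℤ) ^ α = (p : ℤ) ^ κ * (p : ℤ) ^ (α - κ) := by
    rw [← pow_add, Nat.add_sub_cancel' hκ]
  rw [hsplit, Nat.cast_mul, Nat.cast_pow, mul_assoc,
    mul_dvd_mul_iff_left (pow_ne_zero κ (by exact_mod_cast hp.ne_zero))]
  rcases Nat.eq_zero_or_pos (α - κ) with hk | hk
  · simp [hk]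
  have hpe : ¬ p ∣ e := fun hpe => by
    have h1 : p ^ (κ + 1) ∣ Nat.gcd (p ^ κ * e) (p ^ α) :=
      Nat.dvd_gcd (by rw [pow_succ]; exact Nat.mul_dvd_mul_left _ hpe) (pow_dvd_pow p (by omega))
    rw [hg] at h1
    have := Nat.le_of_dvd (pow_pos hp.pos κ) h1
    have := Nat.pow_lt_pow_right hp.one_lt (show κ < κ + 1 by omega)
    omega
  have hcop : IsCoprime ((p : ℤ) ^ (α - κ)) (e : ℤ) := by
    have := Nat.isCoprime_iff_coprime.mpr (Nat.Coprime.pow_left (α - κ) (hp.coprime_iff_not_dvd.mpr hpe))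
    simpa using this
  exact ⟨fun h => hcop.dvd_of_dvd_mul_left h, fun h => h.mul_left _⟩

namespace MCData

variable (D : MCData p G)

/-- The conjugation exponent. -/
def r : ℕ := D.d + 1

theorem natCast_r : (D.r : ZMod p) = 1 := by
  simp [r, (ZMod.natCast_eq_zero_iff D.d p).mpr D.hd]

theorem r_pow (j : ℕ) : D.r ^ j = 1 + D.d * phi D.r j := pow_eq_phi D.d j

theorem conj_pow_pow (j i : ℕ) : D.b ^ j * D.a ^ i * (D.b ^ j)⁻¹ = D.a ^ (D.r ^ j * i) := by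
  induction j generalizing i with
  | zero => simp
  | succ j ih =>
    rw [pow_succ, show D.b ^ j * D.b * D.a ^ i * (D.b ^ j * D.b)⁻¹
      = D.b ^ j * (D.b * D.a ^ i * D.b⁻¹) * (D.b ^ j)⁻¹ by group, ← conj_pow, D.conj, ← pow_mul, ih,
      show D.d + 1 = D.r from rfl, pow_succ, mul_assoc]

theorem mul_form (i j i' j' : ℕ) : D.a ^ i * D.b ^ j * (D.a ^ i' * D.b ^ j')
    = D.a ^ (i + D.r ^ j * i') * D.b ^ (j + j') := by
  rw [pow_add, pow_add, ← D.conj_pow_pow]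
  group

theorem pow_form (i j m : ℕ) :
    (D.a ^ i * D.b ^ j) ^ m = D.a ^ (i * phi (D.r ^ j) m) * D.b ^ (j * m) := by
  induction m with
  | zero => simp [phi_zero]
  | succ m ih =>
    rw [pow_succ, ih, D.mul_form]
    congr 2
    rw [phi_succ, ← pow_mul]
    ring

/-- The commutator in normal form. -/
theorem commutator_form (i j i' j' : ℕ) :
    ⁅D.a ^ i * D.b ^ j, D.a ^ i' * D.b ^ j'⁆ =
      D.a ^ ((D.d : ℤ) * ((phi D.r j : ℤ) * i' - (phi D.r j' : ℤ) * i)) := by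
  rw [commutatorElement_eq_mul_mul_inv_mul_inv_aux]
  rw [D.mul_form, D.mul_form, add_comm j' j]
  rw [show D.a ^ (i + D.r ^ j * i') * D.b ^ (j + j') * (D.a ^ (i' + D.r ^ j' * i) * D.b ^ (j + j'))⁻¹
    = D.a ^ ((i + D.r ^ j * i' : ℕ) : ℤ) * (D.a ^ ((i' + D.r ^ j' * i : ℕ) : ℤ))⁻¹ by
      rw [zpow_natCast, zpow_natCast]; group]
  rw [← zpow_sub, D.r_pow, D.r_pow]
  congr 1
  push_cast
  ring
where
  commutatorElement_eq_mul_mul_inv_mul_inv_aux {x y : G} : ⁅x, y⁆ = x * y * (y * x)⁻¹ := by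
    rw [commutatorElement_def, mul_inv_rev]; group

theorem zpow_eq_one_iff (x : ℤ) : D.a ^ ((D.d : ℤ) * x) = 1 ↔ (p : ℤ) ^ D.n ∣ x := by
  rw [← orderOf_dvd_iff_zpow_eq_one, D.oa, Nat.cast_pow, D.hn]

theorem commute_form (i j i' j' : ℕ) :
    Commute (D.a ^ i * D.b ^ j) (D.a ^ i' * D.b ^ j') ↔
      (phi D.r j : ZMod (p ^ D.n)) * i' = (phi D.r j' : ZMod (p ^ D.n)) * i := by
  rw [← commutatorElement_eq_one_iff_commute, D.commutator_form, D.zpow_eq_one_iff]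
  rw [show (p : ℤ) ^ D.n = ((p ^ D.n : ℕ) : ℤ) by push_cast; rfl,
    ← ZMod.intCast_zmod_eq_zero_iff_dvd]
  push_cast
  exact sub_eq_zero

theorem n_le_β (hp : p ≠ 2) : D.n ≤ D.β := by
  have hc : Commute (D.a ^ 1 * D.b ^ 0) (D.a ^ 0 * D.b ^ (p ^ D.β)) := by
    obtain ⟨k, hk⟩ := (D.mem (p ^ D.β)).mpr dvd_rfl
    simp only [pow_one, pow_zero, mul_one, one_mul]
    rw [← hk]
    exact (Commute.refl D.a).zpow_right k
  rw [D.commute_form] at hc
  simp [phi_zero] at hc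
  have h := (ZMod.natCast_eq_zero_iff _ _).mp hc.symm
  rw [pow_dvd_phi_iff hp D.natCast_r] at h
  exact (Nat.pow_dvd_pow_iff_le_right (Fact.out : p.Prime).one_lt).mp h

/-- The coordinates of an element modulo the centre. -/
noncomputable def ψ (g : G) : ZMod (p ^ D.n) × ZMod (p ^ D.n) :=
  (((D.gen g).choose : ℕ), (phi D.r (D.gen g).choose_spec.choose : ℕ))

theorem ψ_form (i j : ℕ) :
    D.ψ (D.a ^ i * D.b ^ j) = ((i : ZMod (p ^ D.n)), (phi D.r j : ZMod (p ^ D.n))) := by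
  set g := D.a ^ i * D.b ^ j with hg
  have h := (D.gen g).choose_spec.choose_spec
  set i₁ := (D.gen g).choose with hi₁
  set j₁ := (D.gen g).choose_spec.choose with hj₁
  have key : ∀ i' j' : ℕ, ((p : ℤ) ^ D.n) ∣
      ((phi D.r j : ℤ) * i' - (phi D.r j' : ℤ) * i) - ((phi D.r j₁ : ℤ) * i' - (phi D.r j' : ℤ) * i₁) := by
    intro i' j'
    have e := D.commutator_form i₁ j₁ i' j'
    rw [← h, hg, D.commutator_form] at e
    rw [← D.hn, mul_sub, ← Int.natCast_pow, ← D.oa, orderOf_dvd_iff_zpow_eq_one, zpow_sub, e,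
      mul_inv_cancel]
  have h1 := key 1 0
  have h2 := key 0 1
  rw [show (p : ℤ) ^ D.n = ((p ^ D.n : ℕ) : ℤ) by push_cast; rfl,
    ← ZMod.intCast_zmod_eq_zero_iff_dvd] at h1 h2
  simp [phi_zero, phi_one] at h1 h2
  refine Prod.ext ?_ ?_
  · show ((i₁ : ℕ) : ZMod (p ^ D.n)) = i
    linear_combination h2
  · show ((phi D.r j₁ : ℕ) : ZMod (p ^ D.n)) = phi D.r j
    linear_combination -h1

theorem commute_iff (g h : G) :
    Commute g h ↔ (D.ψ g).2 * (D.ψ h).1 = (D.ψ h).2 * (D.ψ g).1 := by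
  obtain ⟨i, j, rfl⟩ := D.gen g
  obtain ⟨i', j', rfl⟩ := D.gen h
  rw [D.commute_form, D.ψ_form, D.ψ_form]

theorem ψ_mul (g h : G) :
    D.ψ (g * h) = D.ψ g + (1 + (D.d : ZMod (p ^ D.n)) * (D.ψ g).2) • D.ψ h := by
  obtain ⟨i, j, rfl⟩ := D.gen g
  obtain ⟨i', j', rfl⟩ := D.gen h
  rw [D.mul_form, D.ψ_form, D.ψ_form, D.ψ_form, phi_add]
  have e : ((D.r ^ j : ℕ) : ZMod (p ^ D.n)) = 1 + (D.d : ZMod (p ^ D.n)) * phi D.r j := by
    rw [D.r_pow]; push_cast; rfl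
  ext <;> simp only [Nat.cast_add, Nat.cast_mul, e, Prod.fst_add, Prod.snd_add, Prod.smul_fst,
    Prod.smul_snd, smul_eq_mul]

theorem ψ_one : D.ψ 1 = 0 := by
  have h := D.ψ_form 0 0
  simp [phi_zero] at h
  rw [h]; rfl

theorem ψ_a : D.ψ D.a = (1, 0) := by
  have h := D.ψ_form 1 0
  simpa [phi_zero] using h

theorem ψ_b : D.ψ D.b = (0, 1) := by
  have h := D.ψ_form 0 1
  simpa [phi_one] using h

theorem mem_center_iff (g : G) : g ∈ center G ↔ D.ψ g = 0 := by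
  constructor
  · intro hg
    have ha := (D.commute_iff g D.a).mp (Subgroup.mem_center_iff.mp hg D.a).symm
    have hb := (D.commute_iff g D.b).mp (Subgroup.mem_center_iff.mp hg D.b).symm
    rw [D.ψ_a] at ha
    rw [D.ψ_b] at hb
    simp at ha hb
    exact Prod.ext hb.symm ha
  · intro hg
    refine Subgroup.mem_center_iff.mpr fun h => ((D.commute_iff g h).mpr ?_).symm
    simp [hg]

/-- The image of a power under `ψ`. -/
theorem ψ_pow (g : G) (m : ℕ) :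
    ∃ R : ℕ, (R : ZMod p) = 1 ∧ D.ψ (g ^ m) = (phi R m : ZMod (p ^ D.n)) • D.ψ g := by
  obtain ⟨i, j, rfl⟩ := D.gen g
  refine ⟨D.r ^ j, natCast_pow_one D.natCast_r j, ?_⟩
  rw [D.pow_form, D.ψ_form, D.ψ_form, phi_mul]
  ext <;> simp only [Prod.smul_fst, Prod.smul_snd, smul_eq_mul, Nat.cast_mul] <;> ring

theorem isUnit_twist (z : ZMod (p ^ D.n)) : IsUnit (1 + (D.d : ZMod (p ^ D.n)) * z) := by
  have hnil : IsNilpotent ((D.d : ZMod (p ^ D.n)) * z) := by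
    obtain ⟨e, he⟩ := D.hd
    refine ⟨D.n, ?_⟩
    rw [mul_pow, ← Nat.cast_pow, he, mul_pow, Nat.cast_mul, ZMod.natCast_self, zero_mul, zero_mul]
  exact hnil.isUnit_one_add

/-- `ψ` separates exactly the cosets of the centre. -/
theorem ψ_eq_iff (g h : G) : D.ψ g = D.ψ h ↔ g⁻¹ * h ∈ center G := by
  have e : D.ψ h = D.ψ g + (1 + (D.d : ZMod (p ^ D.n)) * (D.ψ g).2) • D.ψ (g⁻¹ * h) := by
    rw [← D.ψ_mul, mul_inv_cancel_left]
  rw [D.mem_center_iff, e, left_eq_add]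
  exact (D.isUnit_twist _).smul_eq_zero

theorem ψ_surjective (hp : p ≠ 2) (v : ZMod (p ^ D.n) × ZMod (p ^ D.n)) : ∃ g, D.ψ g = v := by
  obtain ⟨j, hj⟩ := exists_phi_eq hp D.natCast_r D.n v.2
  refine ⟨D.a ^ v.1.val * D.b ^ j, ?_⟩
  rw [D.ψ_form, ZMod.natCast_zmod_val, hj]

/-- Multiples of coordinates are coordinates of powers. -/
theorem exists_pow_ψ (hp : p ≠ 2) (g : G) (c : ZMod (p ^ D.n)) :
    ∃ m : ℕ, D.ψ (g ^ m) = c • D.ψ g := by
  obtain ⟨i, j, rfl⟩ := D.gen g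
  obtain ⟨m, hm⟩ := exists_phi_eq hp (natCast_pow_one D.natCast_r j) D.n c
  refine ⟨m, ?_⟩
  rw [D.pow_form, D.ψ_form, D.ψ_form, phi_mul]
  ext <;> simp only [Prod.smul_fst, Prod.smul_snd, smul_eq_mul, Nat.cast_mul, hm] <;> ring

/-- The image of a subgroup under `ψ` is a subgroup. -/
noncomputable def img (hp : p ≠ 2) (R : Subgroup G) :
    AddSubgroup (ZMod (p ^ D.n) × ZMod (p ^ D.n)) where
  carrier := D.ψ '' R
  zero_mem' := ⟨1, R.one_mem, D.ψ_one⟩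
  add_mem' := by
    rintro _ _ ⟨g, hg, rfl⟩ ⟨h, hh, rfl⟩
    obtain ⟨u, hu⟩ := D.isUnit_twist (D.ψ g).2
    obtain ⟨m, hm⟩ := D.exists_pow_ψ hp h ↑u⁻¹
    refine ⟨g * h ^ m, R.mul_mem hg (R.pow_mem hh m), ?_⟩
    rw [D.ψ_mul, hm, ← hu, smul_smul, Units.mul_inv, one_smul]
  neg_mem' := by
    rintro _ ⟨g, hg, rfl⟩
    obtain ⟨m, hm⟩ := D.exists_pow_ψ hp g (-1)
    exact ⟨g ^ m, R.pow_mem hg m, by rw [hm, neg_one_smul]⟩

theorem mem_img {hp : p ≠ 2} {R : Subgroup G} {v : ZMod (p ^ D.n) × ZMod (p ^ D.n)} :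
    v ∈ D.img hp R ↔ ∃ g ∈ R, D.ψ g = v := Iff.rfl

theorem img_top (hp : p ≠ 2) : D.img hp ⊤ = ⊤ := by
  refine eq_top_iff.mpr fun v _ => ?_
  obtain ⟨g, hg⟩ := D.ψ_surjective hp v
  exact ⟨g, mem_top g, hg⟩

/-- The order of a subgroup containing the centre. -/
theorem card_eq_card_img (hp : p ≠ 2) {R : Subgroup G} (hR : center G ≤ R) :
    Nat.card R = Nat.card (D.img hp R) * Nat.card (center G) := by
  rw [← card_mul_index ((center G).subgroupOf R), Nat.card_congr (subgroupOfEquivOfLe hR).toEquiv,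
    mul_comm]
  congr 1
  rw [index_eq_card]
  refine Nat.card_congr (Equiv.ofBijective
    (Quotient.lift (fun g : R => (⟨D.ψ g, ⟨g, g.2, rfl⟩⟩ : D.img hp R)) ?_) ⟨?_, ?_⟩)
  · intro g h hgh
    replace hgh := QuotientGroup.leftRel_apply.mp hgh
    exact Subtype.ext ((D.ψ_eq_iff _ _).mpr hgh)
  · intro x y
    induction x using Quotient.inductionOn with
    | h g =>
      induction y using Quotient.inductionOn with
      | h h =>
        intro e
        refine Quotient.sound (QuotientGroup.leftRel_apply.mpr ?_)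
        exact (D.ψ_eq_iff _ _).mp (congrArg Subtype.val e)
  · rintro ⟨v, g, hg, rfl⟩
    exact ⟨Quotient.mk _ ⟨g, hg⟩, rfl⟩

theorem index_center [Finite G] (hp : p ≠ 2) : (center G).index = p ^ (2 * D.n) := by
  refine Nat.eq_of_mul_eq_mul_left (Nat.card_pos (α := center G)) ?_
  rw [card_mul_index, ← Subgroup.card_top (G := G), D.card_eq_card_img hp le_top, D.img_top hp,
    AddSubgroup.card_top, Nat.card_prod, Nat.card_zmod]
  ring

theorem commutator_eq : commutator G = zpowers (D.a ^ D.d) := by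
  apply le_antisymm
  · rw [_root_.commutator_def, commutator_le]
    intro x _ y _
    obtain ⟨i, j, rfl⟩ := D.gen x
    obtain ⟨i', j', rfl⟩ := D.gen y
    rw [D.commutator_form]
    exact ⟨_, by rw [zpow_mul, zpow_natCast]⟩
  · rw [zpowers_le]
    have : D.a ^ D.d = ⁅D.b, D.a⁆ := by
      rw [commutatorElement_def, D.conj, pow_succ, mul_inv_cancel_right]
    rw [this]
    exact commutator_mem_commutator (mem_top _) (mem_top _)

theorem card_commutator [Finite G] : Nat.card (commutator G) = p ^ D.n := by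
  rw [D.commutator_eq, Nat.card_zpowers]
  have key : ∀ x : ℕ, (D.a ^ D.d) ^ x = 1 ↔ p ^ D.n ∣ x := fun x => by
    rw [← zpow_natCast, ← zpow_natCast, ← zpow_mul, D.zpow_eq_one_iff]
    exact_mod_cast Iff.rfl
  refine Nat.dvd_antisymm (orderOf_dvd_of_pow_eq_one ((key _).mpr dvd_rfl)) ((key _).mp ?_)
  exact pow_orderOf_eq_one _

theorem card_group [Finite G] (hp : p ≠ 2) :
    Nat.card G = Nat.card (center G) * p ^ (2 * D.n) := by
  rw [← D.index_center hp, card_mul_index]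

end MCData

end CfsgLib.Coprime
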