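import Cfsg.Agent.Lib.Coprime.MetacyclicSubgroups
import Mathlib.Algebra.Ring.GeomSum

/-!
Metacyclic `p`-groups for odd `p` are products of two cyclic subgroups meeting trivially.
-/

set_option autoImplicit false

open Subgroup

namespace CfsgLib.Coprime

variable {p : ℕ} [Fact p.Prime]

/-- Congruent bases give congruent geometric sums of length a power of `p`. -/
theorem phi_congr (hp : p ≠ 2) (s : ℕ) : ∀ {R R' m : ℕ}, (R : ZMod p) = 1 → (R' : ZMod p) = 1 →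
    (p : ℤ) ^ m ∣ (R : ℤ) - R' → (p : ℤ) ^ (s + m) ∣ (phi R (p ^ s) : ℤ) - phi R' (p ^ s) := by
  induction s with
  | zero => intro R R' m _ _ _; simp [phi_one]
  | succ s ih =>
    intro R R' m hR hR' hd
    have hgeom : ∀ i : ℕ, ((∑ l ∈ Finset.range i, (R : ℤ) ^ l * (R' : ℤ) ^ (i - 1 - l) : ℤ) : ZMod p) = i := by
      intro i
      simp [hR, hR']
    have hpow : (p : ℤ) ^ (m + 1) ∣ ((R ^ p : ℕ) : ℤ) - (R' ^ p : ℕ) := by
      push_cast
      rw [← geom_sum₂_mul, pow_succ, mul_comm ((p : ℤ) ^ m)]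
      refine mul_dvd_mul ?_ hd
      rw [← ZMod.intCast_zmod_eq_zero_iff_dvd, hgeom, ZMod.natCast_self]
    have hphi : (p : ℤ) ^ (m + 1) ∣ (phi R p : ℤ) - phi R' p := by
      simp only [phi, Nat.cast_sum, Nat.cast_pow, ← Finset.sum_sub_distrib]
      have e : ∀ l : ℕ, (R : ℤ) ^ l - (R' : ℤ) ^ l
          = (∑ k ∈ Finset.range l, (R : ℤ) ^ k * (R' : ℤ) ^ (l - 1 - k)) * ((R : ℤ) - R') :=
        fun l => (geom_sum₂_mul _ _ l).symm
      simp only [e, ← Finset.sum_mul]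
      rw [pow_succ, mul_comm ((p : ℤ) ^ m)]
      refine mul_dvd_mul ?_ hd
      rw [← ZMod.intCast_zmod_eq_zero_iff_dvd, Int.cast_sum, Finset.sum_congr rfl fun l _ => hgeom l]
      have h2 : (∑ l ∈ Finset.range p, (l : ZMod p)) * 2 = 0 := by
        have := congrArg (Nat.cast : ℕ → ZMod p) (Finset.sum_range_id_mul_two p)
        push_cast at this
        rw [this, ZMod.natCast_self, zero_mul]
      refine (mul_eq_zero.mp h2).resolve_right fun h => hp ?_
      exact (Nat.prime_dvd_prime_iff_eq (Fact.out : p.Prime) Nat.prime_two).mp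
        ((ZMod.natCast_eq_zero_iff 2 p).mp (by exact_mod_cast h))
    have hIH := ih (natCast_pow_one hR p) (natCast_pow_one hR' p) hpow
    have h1 : (p : ℤ) ∣ phi R p := by
      exact_mod_cast ((dvd_of_eq (pow_one p).symm).trans ((pow_dvd_phi_iff hp hR 1 p).mpr (by rw [pow_one])) : p ∣ phi R p)
    have h2 : (p : ℤ) ^ s ∣ phi (R' ^ p) (p ^ s) := by
      exact_mod_cast (pow_dvd_phi_iff hp (natCast_pow_one hR' p) s (p ^ s)).mpr dvd_rfl
    rw [show p ^ (s + 1) = p * p ^ s by ring, phi_mul, phi_mul, Nat.cast_mul, Nat.cast_mul,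
      show (phi R p : ℤ) * phi (R ^ p) (p ^ s) - phi R' p * phi (R' ^ p) (p ^ s)
        = phi R p * ((phi (R ^ p) (p ^ s) : ℤ) - phi (R' ^ p) (p ^ s))
          + ((phi R p : ℤ) - phi R' p) * phi (R' ^ p) (p ^ s) by ring]
    refine dvd_add ?_ ?_
    · rw [show s + 1 + m = s + (m + 1) by ring]
      exact dvd_mul_of_dvd_right hIH _
    · rw [show s + 1 + m = m + 1 + s by ring, pow_add]
      exact mul_dvd_mul hphi h2

/-- Lifting a solution: `1 + R + ⋯ + R^(p^τ - 1) + p^τ u y` with `R = r^(p^δ y)` can be divisible by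
any power of `p`. -/
theorem exists_adjust (hp : p ≠ 2) {d : ℕ} (hd : p ∣ d) {δ : ℕ} (hδ : δ ≠ 0) (τ : ℕ) {u : ℕ}
    (hu : ¬ p ∣ u) (k : ℕ) :
    ∃ y : ℕ, p ^ (τ + k) ∣ phi ((d + 1) ^ (p ^ δ * y)) (p ^ τ) + p ^ τ * u * y := by
  have hr : ((d + 1 : ℕ) : ZMod p) = 1 := by
    simp [(ZMod.natCast_eq_zero_iff d p).mpr hd]
  induction k with
  | zero =>
    exact ⟨0, by simp [phi]⟩
  | succ k ih =>
    obtain ⟨y, e, he⟩ := ih
    obtain ⟨z, hz⟩ : ∃ z : ℕ, p ∣ e + u * z := by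
      refine ⟨(-(e : ZMod p) / u).val, ?_⟩
      rw [← ZMod.natCast_eq_zero_iff, Nat.cast_add, Nat.cast_mul, ZMod.natCast_zmod_val,
        mul_div_cancel₀ _ (fun h => hu ((ZMod.natCast_eq_zero_iff u p).mp h)), add_neg_cancel]
    refine ⟨y + p ^ k * z, ?_⟩
    set R := (d + 1) ^ (p ^ δ * y)
    set R' := (d + 1) ^ (p ^ δ * (y + p ^ k * z))
    have hR : (R : ZMod p) = 1 := natCast_pow_one hr _
    have hR' : (R' : ZMod p) = 1 := natCast_pow_one hr _
    have hdiff : (p : ℤ) ^ (k + 1) ∣ (R' : ℤ) - R := by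
      have h1 : p ^ k ∣ phi (d + 1) (p ^ δ * (p ^ k * z)) :=
        (pow_dvd_phi_iff hp hr k _).mpr (dvd_mul_of_dvd_right (dvd_mul_right _ _) _)
      have h2 : R' = R + R * (d * phi (d + 1) (p ^ δ * (p ^ k * z))) := by
        show (d + 1) ^ (p ^ δ * (y + p ^ k * z)) = R + R * _
        rw [mul_add, pow_add, pow_eq_phi d (p ^ δ * (p ^ k * z))]
        ring
      rw [h2, Nat.cast_add, add_sub_cancel_left]
      have h3 : p ^ (k + 1) ∣ R * (d * phi (d + 1) (p ^ δ * (p ^ k * z))) := by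
        rw [pow_succ']
        exact dvd_mul_of_dvd_right (mul_dvd_mul hd h1) _
      exact_mod_cast h3
    have hc := phi_congr hp τ hR' hR hdiff
    obtain ⟨w, hw⟩ := hz
    rw [← Int.natCast_dvd_natCast]
    have e2 : ((phi R' (p ^ τ) + p ^ τ * u * (y + p ^ k * z) : ℕ) : ℤ)
        = ((phi R' (p ^ τ) : ℤ) - phi R (p ^ τ)) + (p : ℤ) ^ (τ + (k + 1)) * w := by
      have he' : (phi R (p ^ τ) : ℤ) + (p : ℤ) ^ τ * u * y = (p : ℤ) ^ (τ + k) * e := by exact_mod_cast he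
      have hw' : (e : ℤ) + u * z = p * w := by exact_mod_cast hw
      push_cast
      rw [show (p : ℤ) ^ (τ + (k + 1)) * w = (p : ℤ) ^ (τ + k) * ((p : ℤ) * w) by ring, ← hw']
      linear_combination he'
    rw [e2, Nat.cast_pow]
    exact dvd_add hc (dvd_mul_right _ _)

namespace MCData

variable {G : Type*} [Group G] (D : MCData p G) (hp : p ≠ 2)

include hp D in
theorem exists_split [Finite G] :
    ∃ A B : Subgroup G, IsCyclic A ∧ IsCyclic B ∧ A ⊓ B = ⊥ ∧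
      Nat.card A * Nat.card B = Nat.card G := by
  have hpr := (Fact.out : p.Prime)
  obtain ⟨t, ht⟩ := (IsOfFinOrder.mem_powers_iff_mem_zpowers (isOfFinOrder_of_finite D.a)).mpr
    ((D.mem (p ^ D.β)).mpr dvd_rfl)
  simp only at ht
  have hα : D.a ^ p ^ D.α = 1 := by rw [← D.oa, pow_orderOf_eq_one]
  -- reduction to a single element meeting a cyclic subgroup trivially
  have key : ∀ (x c : G) (s : ℕ), x ^ p ^ s = 1 → (∀ i, x ^ i ∈ zpowers c → p ^ s ∣ i) →
      zpowers x ⊓ zpowers c = ⊥ ∧ Nat.card (zpowers x) = p ^ s := by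
    intro x c s hx hi
    have ho : orderOf x = p ^ s := Nat.dvd_antisymm (orderOf_dvd_of_pow_eq_one hx)
      (hi _ (by rw [pow_orderOf_eq_one]; exact one_mem _))
    refine ⟨eq_bot_iff.mpr fun g hg => ?_, by rw [Nat.card_zpowers, ho]⟩
    obtain ⟨hgx, hgc⟩ := Subgroup.mem_inf.mp hg
    obtain ⟨i, rfl⟩ := (IsOfFinOrder.mem_powers_iff_mem_zpowers (isOfFinOrder_of_finite x)).mpr hgx
    rw [Subgroup.mem_bot]
    exact orderOf_dvd_iff_pow_eq_one.mp (ho ▸ hi i hgc)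
  by_cases hcase : p ^ D.β ∣ t ∨ p ^ D.α ∣ t
  · -- `⟨a⟩` has a cyclic complement
    obtain ⟨x, hx⟩ : ∃ x : ℕ, (D.a ^ x * D.b ^ 1) ^ p ^ D.β = 1 := by
      rcases hcase with ⟨t', rfl⟩ | ⟨t', rfl⟩
      · obtain ⟨e, he⟩ := (pow_dvd_phi_iff hp D.natCast_r D.β (p ^ D.β)).mpr dvd_rfl
        have hpe : ¬ p ∣ e := fun hd => by
          have h1 : p ^ (D.β + 1) ∣ phi D.r (p ^ D.β) := by
            rw [he, pow_succ]; exact Nat.mul_dvd_mul_left _ hd
          rw [pow_dvd_phi_iff hp D.natCast_r, Nat.pow_dvd_pow_iff_le_right hpr.one_lt] at h1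
          omega
        have hu : IsUnit (e : ZMod (p ^ D.α)) := by
          rw [ZMod.isUnit_iff_coprime]
          exact (Nat.Coprime.pow_left _ (hpr.coprime_iff_not_dvd.mpr hpe)).symm
        obtain ⟨v, hv⟩ := hu
        refine ⟨(-(t' : ZMod (p ^ D.α)) * ↑v⁻¹).val, ?_⟩
        rw [D.pow_form, one_mul, pow_one D.r, ← ht, ← pow_add, ← orderOf_dvd_iff_pow_eq_one, D.oa,
          he, ← ZMod.natCast_eq_zero_iff]
        have : NeZero (p ^ D.α) := ⟨pow_ne_zero _ hpr.ne_zero⟩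
        rw [Nat.cast_add, Nat.cast_mul, Nat.cast_mul (p ^ D.β) e, ZMod.natCast_zmod_val, ← hv,
          Nat.cast_mul, mul_assoc, mul_comm ((p ^ D.β : ℕ) : ZMod (p ^ D.α)) (v : ZMod (p ^ D.α)),
          ← mul_assoc ((v⁻¹ : _ˣ) : ZMod (p ^ D.α)), Units.inv_mul]
        ring
      · refine ⟨0, ?_⟩
        rw [pow_zero, one_mul, pow_one, ← ht, pow_mul, hα, one_pow]
    obtain ⟨h1, h2⟩ := key (D.a ^ x * D.b ^ 1) D.a D.β hx fun i hi => by
      rw [D.pow_form, one_mul] at hi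
      rwa [Subgroup.mul_mem_cancel_left _ (pow_mem (mem_zpowers _) _), D.mem] at hi
    refine ⟨zpowers (D.a ^ x * D.b ^ 1), zpowers D.a, inferInstance, inferInstance, h1, ?_⟩
    rw [h2, Nat.card_zpowers, D.oa, D.card_group' , pow_add, mul_comm]
  · -- `⟨b⟩` has a cyclic complement
    push Not at hcase
    obtain ⟨τ, hτ, hg⟩ := (Nat.dvd_prime_pow hpr).mp (Nat.gcd_dvd_right t (p ^ D.α))
    obtain ⟨u, hu⟩ : p ^ τ ∣ t := hg ▸ Nat.gcd_dvd_left t (p ^ D.α)
    have hτα : τ < D.α := lt_of_le_of_ne hτ fun h => hcase.2 (h ▸ hu ▸ dvd_mul_right _ _)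
    have hτβ : τ < D.β := by
      by_contra h
      exact hcase.1 ((pow_dvd_pow p (not_lt.mp h)).trans (hu ▸ dvd_mul_right _ _))
    have hpu : ¬ p ∣ u := fun hd => by
      have h1 : p ^ (τ + 1) ∣ Nat.gcd t (p ^ D.α) := by
        refine Nat.dvd_gcd ?_ (pow_dvd_pow p hτα)
        rw [hu, pow_succ]; exact Nat.mul_dvd_mul_left _ hd
      rw [hg, Nat.pow_dvd_pow_iff_le_right hpr.one_lt] at h1
      omega
    obtain ⟨y, hy⟩ := exists_adjust hp D.hd (show D.β - τ ≠ 0 by omega) τ hpu (D.α - τ)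
    rw [Nat.add_sub_cancel' hτα.le] at hy
    set J := p ^ (D.β - τ) * y
    have hJ : J * p ^ τ = p ^ D.β * y := by
      show p ^ (D.β - τ) * y * p ^ τ = _
      rw [mul_right_comm, ← pow_add, Nat.sub_add_cancel hτβ.le]
    have hx : (D.a ^ 1 * D.b ^ J) ^ p ^ τ = 1 := by
      rw [D.pow_form, one_mul, hJ, pow_mul D.b, ← ht, ← pow_mul, ← pow_add, ← orderOf_dvd_iff_pow_eq_one,
        D.oa, hu]
      exact hy
    have hmem : ∀ m : ℕ, D.a ^ m ∈ zpowers D.b → p ^ τ ∣ m := by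
      intro m hm
      obtain ⟨j, hj⟩ := (IsOfFinOrder.mem_powers_iff_mem_zpowers (isOfFinOrder_of_finite D.b)).mpr hm
      simp only at hj
      obtain ⟨j', rfl⟩ := (D.mem j).mp (hj ▸ pow_mem (mem_zpowers _) m)
      rw [pow_mul, ← ht, ← pow_mul, pow_eq_pow_iff_modEq, D.oa] at hj
      exact ((hj.of_dvd (pow_dvd_pow p hτα.le)).dvd_iff dvd_rfl).mp
        (hu ▸ dvd_mul_of_dvd_left (dvd_mul_right _ _) _)
    obtain ⟨h1, h2⟩ := key (D.a ^ 1 * D.b ^ J) D.b τ hx fun i hi => by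
      rw [D.pow_form, one_mul, Subgroup.mul_mem_cancel_right _ (pow_mem (mem_zpowers _) _)] at hi
      exact (pow_dvd_phi_iff hp (natCast_pow_one D.natCast_r J) τ i).mp (hmem _ hi)
    refine ⟨zpowers (D.a ^ 1 * D.b ^ J), zpowers D.b, inferInstance, inferInstance, h1, ?_⟩
    have hb : orderOf D.b = p ^ D.β * p ^ (D.α - τ) := by
      refine Nat.dvd_antisymm ?_ ?_
      · refine orderOf_dvd_of_pow_eq_one ?_
        rw [pow_mul, ← ht, ← pow_mul, hu, mul_right_comm, ← pow_add, Nat.add_sub_cancel' hτα.le,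
          pow_mul, hα, one_pow]
      · obtain ⟨j, hj⟩ := (D.mem (orderOf D.b)).mp (by rw [pow_orderOf_eq_one]; exact one_mem _)
        rw [hj]
        refine Nat.mul_dvd_mul_left _ ?_
        have h := pow_orderOf_eq_one D.b
        rw [hj, pow_mul, ← ht, ← pow_mul, ← orderOf_dvd_iff_pow_eq_one, D.oa, hu, mul_assoc,
          show p ^ D.α = p ^ τ * p ^ (D.α - τ) by rw [← pow_add, Nat.add_sub_cancel' hτα.le],
          Nat.mul_dvd_mul_iff_left (pow_pos hpr.pos τ)] at h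
        exact (Nat.Coprime.pow_left _ (hpr.coprime_iff_not_dvd.mpr hpu)).dvd_of_dvd_mul_left h
    rw [h2, Nat.card_zpowers, hb, D.card_group', ← pow_add, ← pow_add]
    congr 1
    omega

end MCData

end CfsgLib.Coprime
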