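import Cfsg.Agent.Lib.Coprime.Metacyclic
import Mathlib.Analysis.SpecialFunctions.Complex.CircleAddChar
import Mathlib.GroupTheory.FiniteAbelian.Duality
import Mathlib.RingTheory.RootsOfUnity.AlgebraicallyClosed
import Mathlib.Analysis.Complex.Polynomial.Basic
import Mathlib.GroupTheory.Frattini
import Mathlib.Tactic

/-!
Subgroups and centralisers in metacyclic `p`-groups for odd `p`.
-/

set_option autoImplicit false

open Subgroup
open scoped commutatorElement

namespace CfsgLib.Coprime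

section perp

variable {q : ℕ}

/-- The orthogonal of a subgroup of `(ℤ/q)²` for the determinant pairing. -/
def perp (W : AddSubgroup (ZMod q × ZMod q)) : AddSubgroup (ZMod q × ZMod q) where
  carrier := {v | ∀ w ∈ W, v.2 * w.1 = w.2 * v.1}
  zero_mem' := by intro w _; simp
  add_mem' := by
    intro u v hu hv w hw
    simp only [Prod.fst_add, Prod.snd_add, add_mul, mul_add, hu w hw, hv w hw]
  neg_mem' := by
    intro u hu w hw
    simp only [Prod.fst_neg, Prod.snd_neg, neg_mul, mul_neg, hu w hw]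

theorem mem_perp {W : AddSubgroup (ZMod q × ZMod q)} {v : ZMod q × ZMod q} :
    v ∈ perp W ↔ ∀ w ∈ W, v.2 * w.1 = w.2 * v.1 := Iff.rfl

theorem card_perp [NeZero q] (W : AddSubgroup (ZMod q × ZMod q)) :
    Nat.card (perp W) * Nat.card W = Nat.card (ZMod q × ZMod q) := by
  let M := Multiplicative (ZMod q × ZMod q)
  let χ : M → (M →* ℂˣ) := fun v =>
    MonoidHom.toHomUnits
      ((ZMod.stdAddChar : AddChar (ZMod q) ℂ).toMonoidHom.comp
        { toFun := fun x : M => Multiplicative.ofAdd (v.toAdd.2 * x.toAdd.1 - x.toAdd.2 * v.toAdd.1)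
          map_one' := by simp
          map_mul' := fun x y => by
            rw [← ofAdd_add]
            congr 1
            show v.toAdd.2 * (x.toAdd + y.toAdd).1 - (x.toAdd + y.toAdd).2 * v.toAdd.1 = _
            rw [Prod.fst_add, Prod.snd_add]
            ring })
  have hχ : ∀ v x, χ v x = 1 ↔ v.toAdd.2 * x.toAdd.1 = x.toAdd.2 * v.toAdd.1 := fun v x => by
    rw [← Units.val_inj]
    show (ZMod.stdAddChar : AddChar (ZMod q) ℂ) (v.toAdd.2 * x.toAdd.1 - x.toAdd.2 * v.toAdd.1) = 1 ↔ _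
    rw [← AddChar.map_zero_eq_one (ZMod.stdAddChar : AddChar (ZMod q) ℂ),
      ZMod.injective_stdAddChar.eq_iff, sub_eq_zero]
  have hinj : Function.Injective χ := fun u v huv => by
    have h : ∀ x : M, u.toAdd.2 * x.toAdd.1 - x.toAdd.2 * u.toAdd.1
        = v.toAdd.2 * x.toAdd.1 - x.toAdd.2 * v.toAdd.1 := fun x =>
      ZMod.injective_stdAddChar (congrArg Units.val (DFunLike.congr_fun huv x) :)
    have h1 := h (Multiplicative.ofAdd (1, 0))
    have h2 := h (Multiplicative.ofAdd (0, 1))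
    simp at h1 h2
    exact Multiplicative.toAdd.injective (Prod.ext h2 h1)
  obtain ⟨eM⟩ := CommGroup.monoidHom_mulEquiv_of_hasEnoughRootsOfUnity M ℂ
  have hbij : Function.Bijective χ := by
    have : Finite (M →* ℂˣ) := Finite.of_equiv _ eM.symm.toEquiv
    exact (Nat.bijective_iff_injective_and_card _).mpr ⟨hinj, (Nat.card_congr eM.toEquiv).symm⟩
  let W' : Subgroup M := AddSubgroup.toSubgroup W
  obtain ⟨eQ⟩ := CommGroup.monoidHom_mulEquiv_of_hasEnoughRootsOfUnity (M ⧸ W') ℂ
  let f : perp W → ((M ⧸ W') →* ℂˣ) := fun v =>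
    QuotientGroup.lift W' (χ (Multiplicative.ofAdd (v : ZMod q × ZMod q))) fun x hx =>
      (hχ _ x).mpr (v.2 x.toAdd hx)
  have hf : Function.Bijective f := by
    refine ⟨fun u v h => Subtype.ext (Multiplicative.ofAdd.injective (hinj (MonoidHom.ext fun x => ?_))),
      fun φ => ?_⟩
    · exact DFunLike.congr_fun h (x : M ⧸ W')
    · obtain ⟨v, hv⟩ := hbij.2 (φ.comp (QuotientGroup.mk' W'))
      refine ⟨⟨v.toAdd, fun w hw => (hχ v (Multiplicative.ofAdd w)).mp ?_⟩, ?_⟩
      · rw [hv, MonoidHom.comp_apply,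
          show QuotientGroup.mk' W' (Multiplicative.ofAdd w) = 1 from
            (QuotientGroup.eq_one_iff _).mpr hw, map_one]
      · refine MonoidHom.ext fun x => ?_
        obtain ⟨x, rfl⟩ := QuotientGroup.mk'_surjective W' x
        exact DFunLike.congr_fun hv x
  rw [Nat.card_congr (Equiv.ofBijective f hf), Nat.card_congr eQ.toEquiv, ← W'.index_eq_card,
    show Nat.card W = Nat.card W' from (Nat.card_congr (Equiv.subtypeEquiv Multiplicative.toAdd
      (fun _ => Iff.rfl))).symm, mul_comm, W'.card_mul_index]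
  exact Nat.card_congr Multiplicative.toAdd

/-- The cokernel of the pairing with `v` has order the order of `v`. -/
theorem card_det_range [NeZero q] (v : ZMod q × ZMod q) :
    Nat.card (AddMonoidHom.mk' (fun x : ZMod q × ZMod q => x.2 * v.1 - v.2 * x.1)
      (fun x y => by simp only [Prod.fst_add, Prod.snd_add]; ring)).range = addOrderOf v := by
  set f := AddMonoidHom.mk' (fun x : ZMod q × ZMod q => x.2 * v.1 - v.2 * x.1)
    (fun x y => by simp only [Prod.fst_add, Prod.snd_add]; ring) with hf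
  have : IsAddCyclic f.range := inferInstance
  obtain ⟨g, hg⟩ := IsAddCyclic.exists_generator (α := f.range)
  rw [← addOrderOf_eq_card_of_forall_mem_zmultiples hg]
  have key : ∀ m : ℕ, m • g = 0 ↔ m • v = 0 := fun m => by
    constructor
    · intro h
      have hall : ∀ x, m • (f x) = 0 := fun x => by
        obtain ⟨k, hk⟩ := AddSubgroup.mem_zmultiples_iff.mp (hg ⟨f x, x, rfl⟩)
        have : m • (⟨f x, x, rfl⟩ : f.range) = 0 := by
          rw [← hk, smul_comm, h, smul_zero]
        exact congrArg Subtype.val this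
      have h1 := hall (0, 1)
      have h2 := hall (1, 0)
      simp [hf] at h1 h2
      refine Prod.ext ?_ ?_
      · simpa using h1
      · simpa using h2
    · intro h
      obtain ⟨x, hx⟩ := g.2
      apply Subtype.ext
      show m • (g : ZMod q) = 0
      rw [← hx]
      show m • (x.2 * v.1 - v.2 * x.1) = 0
      have h1 : m • v.1 = 0 := congrArg Prod.fst h
      have h2 : m • v.2 = 0 := congrArg Prod.snd h
      rw [nsmul_sub, ← mul_smul_comm, h1, mul_zero, ← smul_mul_assoc, h2, zero_mul, sub_zero]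
  exact addOrderOf_eq_addOrderOf_iff.mpr key

theorem card_nsmul_eq_zero_zmod (p n i : ℕ) [NeZero (p ^ n)] (hi : i ≤ n) :
    Nat.card {x : ZMod (p ^ n) // p ^ i • x = 0} = p ^ i := by
  have h := IsAddCyclic.card_nsmulAddMonoidHom_ker (ZMod (p ^ n)) (p ^ i)
  rw [Nat.card_zmod, Nat.gcd_eq_right (pow_dvd_pow p hi)] at h
  exact h

/-- Vectors killed by `p^i`. -/
theorem card_nsmul_eq_zero_prod (p n i : ℕ) [NeZero (p ^ n)] (hi : i ≤ n) :
    Nat.card {v : ZMod (p ^ n) × ZMod (p ^ n) // p ^ i • v = 0} = p ^ (2 * i) := by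
  rw [two_mul, pow_add]
  conv_rhs => rw [← card_nsmul_eq_zero_zmod p n i hi]
  rw [← Nat.card_prod]
  exact Nat.card_congr
    { toFun := fun v => (⟨v.1.1, congrArg Prod.fst v.2⟩, ⟨v.1.2, congrArg Prod.snd v.2⟩)
      invFun := fun w => ⟨(w.1.1, w.2.1), Prod.ext w.1.2 w.2.2⟩
      left_inv := fun v => rfl
      right_inv := fun w => rfl }

end perp

namespace MCData

variable {p : ℕ} [Fact p.Prime] {G : Type*} [Group G] (D : MCData p G) (hp : p ≠ 2)

instance : NeZero (p ^ D.n) := ⟨pow_ne_zero _ (Fact.out : p.Prime).ne_zero⟩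

include hp D in
theorem center_le_img_iff {R : Subgroup G} (hR : center G ≤ R) {g : G} :
    D.ψ g ∈ D.img hp R ↔ g ∈ R := by
  refine ⟨fun ⟨h, hh, e⟩ => ?_, fun hg => ⟨g, hg, rfl⟩⟩
  have h1 := hR ((D.ψ_eq_iff h g).mp e)
  have := R.mul_mem hh h1
  rwa [mul_inv_cancel_left] at this

theorem img_centralizer (R : Subgroup G) :
    D.img hp (centralizer (R : Set G)) = perp (D.img hp R) := by
  ext v
  constructor
  · rintro ⟨g, hg, rfl⟩ _ ⟨h, hh, rfl⟩
    exact (D.commute_iff g h).mp (Subgroup.mem_centralizer_iff.mp hg h hh).symm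
  · intro hv
    obtain ⟨g, rfl⟩ := D.ψ_surjective hp v
    refine ⟨g, Subgroup.mem_centralizer_iff.mpr fun h hh => ?_, rfl⟩
    exact ((D.commute_iff g h).mpr (hv _ ⟨h, hh, rfl⟩)).eq.symm

include hp D in
theorem card_mul_card_centralizer [Finite G] {R : Subgroup G} (hR : center G ≤ R) :
    Nat.card R * Nat.card (centralizer (R : Set G)) = Nat.card G * Nat.card (center G) := by
  rw [D.card_eq_card_img hp hR, D.card_eq_card_img hp (center_le_centralizer _),
    D.img_centralizer hp, D.card_group hp]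
  have h := card_perp (D.img hp R)
  rw [Nat.card_prod, Nat.card_zmod] at h
  calc _ = (Nat.card (perp (D.img hp R)) * Nat.card (D.img hp R)) * Nat.card (center G) * Nat.card (center G) := by ring
    _ = _ := by rw [h]; ring

include hp D in
theorem centralizer_centralizer_eq [Finite G] {R : Subgroup G} (hR : center G ≤ R) :
    centralizer (centralizer (R : Set G) : Set G) = R := by
  have h1 := D.card_mul_card_centralizer hp hR
  have h2 := D.card_mul_card_centralizer hp (center_le_centralizer (R : Set G))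
  have hle : R ≤ centralizer (centralizer (R : Set G) : Set G) := fun r hr =>
    Subgroup.mem_centralizer_iff.mpr fun c hc => (Subgroup.mem_centralizer_iff.mp hc r hr).symm
  refine (SetLike.coe_injective ((Set.toFinite _).eq_of_subset_of_card_le
    (SetLike.coe_subset_coe.mpr hle) (le_of_eq ?_))).symm
  rw [mul_comm] at h1
  exact Nat.eq_of_mul_eq_mul_left Nat.card_pos (h2.trans h1.symm)

include hp D in
theorem index_centralizer_singleton [Finite G] (g : G) :
    (centralizer ({g} : Set G)).index = addOrderOf (D.ψ g) := by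
  have himg : ∀ x, x ∈ D.img hp (centralizer ({g} : Set G)) ↔ x.2 * (D.ψ g).1 = (D.ψ g).2 * x.1 := by
    intro x
    constructor
    · rintro ⟨h, hh, rfl⟩
      exact (D.commute_iff h g).mp (Subgroup.mem_centralizer_singleton_iff.mp hh :)
    · intro hx
      obtain ⟨h, rfl⟩ := D.ψ_surjective hp x
      exact ⟨h, Subgroup.mem_centralizer_singleton_iff.mpr ((D.commute_iff h g).mpr hx).eq, rfl⟩
  rw [← card_det_range (D.ψ g)]
  set f := AddMonoidHom.mk' (fun x : ZMod (p ^ D.n) × ZMod (p ^ D.n) => x.2 * (D.ψ g).1 - (D.ψ g).2 * x.1)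
    (fun x y => by simp only [Prod.fst_add, Prod.snd_add]; ring) with hf
  have hk : f.ker = D.img hp (centralizer ({g} : Set G)) := by
    ext x
    rw [himg, AddMonoidHom.mem_ker, hf, AddMonoidHom.mk'_apply, sub_eq_zero]
  have h1 := f.ker.card_mul_index
  rw [AddSubgroup.index_ker, hk, Nat.card_prod, Nat.card_zmod] at h1
  have h2 := (centralizer ({g} : Set G)).card_mul_index
  rw [D.card_eq_card_img hp (center_le_centralizer _), D.card_group hp] at h2
  refine Nat.eq_of_mul_eq_mul_left (Nat.mul_pos (Nat.card_pos (α := D.img hp (centralizer ({g} : Set G))))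
    (Nat.card_pos (α := center G))) ?_
  rw [h2]
  calc Nat.card (center G) * p ^ (2 * D.n) = Nat.card (center G) * (p ^ D.n * p ^ D.n) := by rw [two_mul, pow_add]
    _ = _ := by rw [← h1]; ring

/-- The subgroup of elements whose coordinates are killed by `c`. -/
noncomputable def killed (c : ℕ) : Subgroup G where
  carrier := {g | c • D.ψ g = 0}
  one_mem' := by simp [D.ψ_one]
  mul_mem' := by
    intro g h hg hh
    show c • D.ψ (g * h) = 0
    rw [D.ψ_mul, smul_add, smul_comm, show c • D.ψ g = 0 from hg, show c • D.ψ h = 0 from hh,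
      smul_zero, add_zero]
  inv_mem' := by
    intro g hg
    show c • D.ψ g⁻¹ = 0
    have h := congrArg (c • ·) (D.ψ_mul g g⁻¹)
    simp only [mul_inv_cancel, D.ψ_one, smul_zero, smul_add, show c • D.ψ g = 0 from hg, zero_add,
      smul_comm c] at h
    exact (D.isUnit_twist _).smul_eq_zero.mp h.symm

theorem mem_killed {c : ℕ} {g : G} : g ∈ D.killed c ↔ c • D.ψ g = 0 := Iff.rfl

include hp D in
/-- The subgroup generated by the `p^s`-th powers. -/
theorem closure_powers [Finite G] {s : ℕ} (hs : s ≤ D.n) :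
    closure {x : G | ∃ y : G, y ^ p ^ s = x} = D.killed (p ^ (D.n - s)) := by
  have hq : ((p ^ D.n : ℕ) : ZMod (p ^ D.n)) = 0 := ZMod.natCast_self _
  apply le_antisymm
  · rw [closure_le]
    rintro _ ⟨y, rfl⟩
    obtain ⟨R, hR, hψ⟩ := D.ψ_pow y (p ^ s)
    show p ^ (D.n - s) • D.ψ (y ^ p ^ s) = 0
    obtain ⟨e, he⟩ := (pow_dvd_phi_iff hp hR s (p ^ s)).mpr dvd_rfl
    rw [hψ, ← Nat.cast_smul_eq_nsmul (ZMod (p ^ D.n)), smul_smul, he, Nat.cast_mul, ← mul_assoc,
      ← Nat.cast_mul, ← pow_add, Nat.sub_add_cancel hs, hq, zero_mul, zero_smul]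
  · intro g hg
    set P := closure {x : G | ∃ y : G, y ^ p ^ s = x} with hP
    have hpow : ∀ y : G, y ^ p ^ s ∈ P := fun y => subset_closure ⟨y, rfl⟩
    have hZ : center G ≤ P := by
      intro z hz
      obtain ⟨i, j, rfl⟩ := D.gen z
      have h := (D.mem_center_iff _).mp hz
      rw [D.ψ_form, Prod.mk_eq_zero, ZMod.natCast_eq_zero_iff, ZMod.natCast_eq_zero_iff,
        pow_dvd_phi_iff hp D.natCast_r] at h
      obtain ⟨i', rfl⟩ := (pow_dvd_pow p hs).trans h.1
      obtain ⟨j', rfl⟩ := (pow_dvd_pow p hs).trans h.2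
      rw [mul_comm (p ^ s) i', mul_comm (p ^ s) j', pow_mul, pow_mul]
      exact mul_mem (hpow _) (hpow _)
    rw [← D.center_le_img_iff hp hZ]
    -- the coordinates are divisible by `p^s`
    have hdiv : ∀ x : ZMod (p ^ D.n), p ^ (D.n - s) • x = 0 → ∃ x', x = (p ^ s : ℕ) * x' := by
      intro x hx
      rw [← ZMod.natCast_zmod_val x, nsmul_eq_mul, ← Nat.cast_mul, ZMod.natCast_eq_zero_iff] at hx
      obtain ⟨t, ht⟩ : p ^ s ∣ x.val := by
        replace hx := (dvd_of_eq (show p ^ (D.n - s) * p ^ s = p ^ D.n by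
          rw [← pow_add, Nat.sub_add_cancel hs])).trans hx
        exact Nat.dvd_of_mul_dvd_mul_left (pow_pos (Fact.out : p.Prime).pos _) hx
      exact ⟨t, by rw [← Nat.cast_mul, ← ht, ZMod.natCast_zmod_val]⟩
    obtain ⟨x', hx'⟩ := hdiv _ (congrArg Prod.fst (show p ^ (D.n - s) • D.ψ g = 0 from hg))
    obtain ⟨y', hy'⟩ := hdiv _ (congrArg Prod.snd (show p ^ (D.n - s) • D.ψ g = 0 from hg))
    obtain ⟨y, hy⟩ := D.ψ_surjective hp (x', y')
    obtain ⟨R, hR, hψ⟩ := D.ψ_pow y (p ^ s)
    -- `phi R (p^s) = p^s * unit`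
    obtain ⟨e, he⟩ := (pow_dvd_phi_iff hp hR s (p ^ s)).mpr dvd_rfl
    have hpe : ¬ p ∣ e := fun hd => by
      have h1 : p ^ (s + 1) ∣ phi R (p ^ s) := by rw [he, pow_succ]; exact Nat.mul_dvd_mul_left _ hd
      rw [pow_dvd_phi_iff hp hR, Nat.pow_dvd_pow_iff_le_right (Fact.out : p.Prime).one_lt] at h1
      omega
    obtain ⟨u, hu⟩ : IsUnit (e : ZMod (p ^ D.n)) := by
      rw [ZMod.isUnit_iff_coprime]
      exact (Nat.Coprime.pow_left _ ((Fact.out : p.Prime).coprime_iff_not_dvd.mpr hpe)).symm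
    obtain ⟨m, hm⟩ := D.exists_pow_ψ hp (y ^ p ^ s) ↑u⁻¹
    refine ⟨(y ^ p ^ s) ^ m, P.pow_mem (hpow y) m, ?_⟩
    rw [hm, hψ, smul_smul, he, Nat.cast_mul, mul_comm (↑u⁻¹ : ZMod (p ^ D.n)), mul_assoc, ← hu,
      Units.mul_inv, mul_one, hy]
    exact Prod.ext hx'.symm hy'.symm

include hp D in
/-- A non-abelian subgroup is large and contains the centre. -/
theorem of_not_comm [Finite G] {L : Subgroup G} (hL : ¬ IsMulCommutative L) :
    p ^ (D.α + D.β) < Nat.card L * p ^ D.n ∧ center G ≤ L := by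
  classical
  have hpr := (Fact.out : p.Prime)
  have hp1 := hpr.one_lt
  -- the trace on `⟨a⟩`
  let U : Set ℕ := {i | D.a ^ i ∈ L}
  obtain ⟨u, hu, huU⟩ : ∃ u ≤ D.α, ∀ i, D.a ^ i ∈ L ↔ p ^ u ∣ i := by
    have hfin : ∃ i, 0 < i ∧ D.a ^ i ∈ L := ⟨p ^ D.α, pow_pos hpr.pos _, by
      rw [← D.oa, pow_orderOf_eq_one]; exact L.one_mem⟩
    set m := Nat.find hfin
    have hm := Nat.find_spec hfin
    have hiff : ∀ i, D.a ^ i ∈ L ↔ m ∣ i := fun i => by
      refine ⟨fun hi => ?_, fun ⟨t, ht⟩ => ht ▸ by rw [pow_mul]; exact L.pow_mem hm.2 t⟩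
      by_contra hne
      refine Nat.find_min hfin (Nat.mod_lt i hm.1) ⟨Nat.pos_of_ne_zero fun h => hne (Nat.dvd_of_mod_eq_zero h), ?_⟩
      have h := L.mul_mem (L.inv_mem (L.pow_mem hm.2 (i / m))) hi
      rwa [← pow_mul, show (D.a ^ (m * (i / m)))⁻¹ * D.a ^ i = D.a ^ (i % m) by
        rw [inv_mul_eq_iff_eq_mul, ← pow_add, Nat.div_add_mod]] at h
    obtain ⟨u, hu, hmu⟩ := (Nat.dvd_prime_pow hpr).mp ((hiff (p ^ D.α)).mp (by
      rw [← D.oa, pow_orderOf_eq_one]; exact L.one_mem))
    exact ⟨u, hu, fun i => by rw [hiff, hmu]⟩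
  obtain ⟨v, hv, e, hg, hvU⟩ : ∃ v ≤ D.β, ∃ e, D.a ^ e * D.b ^ (p ^ v) ∈ L ∧
      ∀ i j, D.a ^ i * D.b ^ j ∈ L → p ^ v ∣ j := by
    have htop : ∃ e, D.a ^ e * D.b ^ (p ^ D.β) ∈ L := by
      obtain ⟨k, hk⟩ := (IsOfFinOrder.mem_powers_iff_mem_zpowers (isOfFinOrder_of_finite D.a)).mpr
        (zpowers D.a |>.inv_mem ((D.mem (p ^ D.β)).mpr dvd_rfl))
      exact ⟨k, by simp only at hk; rw [hk, inv_mul_cancel]; exact L.one_mem⟩
    have hfin : ∃ j, 0 < j ∧ ∃ e, D.a ^ e * D.b ^ j ∈ L := ⟨p ^ D.β, pow_pos hpr.pos _, htop⟩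
    set m := Nat.find hfin
    obtain ⟨hm0, e, hm⟩ := Nat.find_spec hfin
    have hdvd : ∀ i j, D.a ^ i * D.b ^ j ∈ L → m ∣ j := by
      intro i j
      induction j using Nat.strong_induction_on generalizing i with
      | _ j ih =>
        intro hij
        by_cases hlt : j < m
        · rcases Nat.eq_zero_or_pos j with h0 | h0
          · rw [h0]; exact dvd_zero _
          · exact absurd ⟨h0, i, hij⟩ (Nat.find_min hfin hlt)
        · push Not at hlt
          have h := L.mul_mem hij (L.inv_mem hm)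
          rw [show D.a ^ i * D.b ^ j * (D.a ^ e * D.b ^ m)⁻¹ = D.a ^ i * (D.b ^ (j - m) * (D.a ^ e)⁻¹ * (D.b ^ (j - m))⁻¹) * D.b ^ (j - m) by
            nth_rewrite 1 [← Nat.sub_add_cancel hlt]; rw [pow_add]; group] at h
          rw [← conj_inv, D.conj_pow_pow] at h
          obtain ⟨i', hi'⟩ := (IsOfFinOrder.mem_powers_iff_mem_zpowers (isOfFinOrder_of_finite D.a)).mpr
            ((zpowers D.a).mul_mem (pow_mem (mem_zpowers _) i)
              ((zpowers D.a).inv_mem (pow_mem (mem_zpowers _) (D.r ^ (j - m) * e))))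
          simp only at hi'
          rw [← hi'] at h
          have := Nat.dvd_add (ih (j - m) (Nat.sub_lt (lt_of_lt_of_le hm0 hlt) hm0) _ h) (dvd_refl m)
          rwa [Nat.sub_add_cancel hlt] at this
    obtain ⟨k, hk⟩ := htop
    obtain ⟨v, hv, hmv⟩ := (Nat.dvd_prime_pow hpr).mp (hdvd k _ hk)
    exact ⟨v, hv, e, hmv ▸ hm, fun i j h => hmv ▸ hdvd i j h⟩
  set g := D.a ^ e * D.b ^ (p ^ v) with hgdef
  have hgen : L ≤ closure {D.a ^ p ^ u, g} := by
    intro x hx
    obtain ⟨i, j, rfl⟩ := D.gen x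
    obtain ⟨t, rfl⟩ := hvU i j hx
    have hgt := D.pow_form e (p ^ v) t
    have hmem : D.a ^ i * D.b ^ (p ^ v * t) * (g ^ t)⁻¹ ∈ L := L.mul_mem hx (L.inv_mem (L.pow_mem hg t))
    rw [hgdef, hgt, mul_inv_rev, mul_assoc, mul_inv_cancel_left] at hmem
    obtain ⟨i', hi'⟩ := (IsOfFinOrder.mem_powers_iff_mem_zpowers (isOfFinOrder_of_finite D.a)).mpr
      ((zpowers D.a).mul_mem (pow_mem (mem_zpowers _) i)
        ((zpowers D.a).inv_mem (pow_mem (mem_zpowers _) (e * phi (D.r ^ p ^ v) t))))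
    simp only at hi'
    rw [← hi'] at hmem
    obtain ⟨w, rfl⟩ := (huU i').mp hmem
    have : D.a ^ i * D.b ^ (p ^ v * t) = (D.a ^ p ^ u) ^ w * g ^ t := by
      rw [← pow_mul, hi', hgdef, hgt]; group
    rw [this]
    exact mul_mem (pow_mem (subset_closure (by simp)) _) (pow_mem (subset_closure (by simp)) _)
  have huv : u + v < D.n := by
    by_contra hle
    push Not at hle
    apply hL
    have hc : Commute (D.a ^ p ^ u * D.b ^ 0) g := by
      rw [hgdef, D.commute_form, phi_zero, Nat.cast_zero, zero_mul, eq_comm]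
      obtain ⟨t, ht⟩ := (pow_dvd_phi_iff hp D.natCast_r v (p ^ v)).mpr dvd_rfl
      rw [← Nat.cast_mul, ZMod.natCast_eq_zero_iff, ht, mul_comm (p ^ v), mul_assoc, ← pow_add]
      exact dvd_mul_of_dvd_right (pow_dvd_pow p (by omega)) t
    rw [pow_zero, mul_one] at hc
    have := Subgroup.isMulCommutative_closure (k := ({D.a ^ p ^ u, g} : Set G)) (by
      intro x hx y hy
      simp only [Set.mem_insert_iff, Set.mem_singleton_iff] at hx hy
      rcases hx with rfl | rfl <;> rcases hy with rfl | rfl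
      · rfl
      · exact hc.eq
      · exact hc.eq.symm
      · rfl)
    exact ⟨⟨fun x y => Subtype.ext (congrArg Subtype.val
      (this.is_comm.comm ⟨x, hgen x.2⟩ ⟨y, hgen y.2⟩) :)⟩⟩
  constructor
  · -- `|L| = p^(α - u) p^(β - v)`
    have hbound : p ^ (D.α - u) * p ^ (D.β - v) ≤ Nat.card L := by
      have hgmem : ∀ w t : ℕ, (D.a ^ p ^ u) ^ w * g ^ t ∈ L := fun w t =>
        L.mul_mem (L.pow_mem ((huU _).mpr dvd_rfl) w) (L.pow_mem hg t)
      have hnf : ∀ w t : ℕ, (D.a ^ p ^ u) ^ w * g ^ t =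
          D.a ^ (p ^ u * w + e * phi (D.r ^ p ^ v) t) * D.b ^ (p ^ v * t) := fun w t => by
        rw [hgdef, D.pow_form, ← pow_mul, ← mul_assoc, ← pow_add]
      calc p ^ (D.α - u) * p ^ (D.β - v) = Nat.card (Fin (p ^ (D.α - u)) × Fin (p ^ (D.β - v))) := by simp
        _ ≤ _ := Nat.card_le_card_of_injective
              (fun x => (⟨_, hgmem x.1 x.2⟩ : L)) (fun x y hxy => by
          have h : (D.a ^ p ^ u) ^ (x.1 : ℕ) * g ^ (x.2 : ℕ) = (D.a ^ p ^ u) ^ (y.1 : ℕ) * g ^ (y.2 : ℕ) :=
            congrArg Subtype.val hxy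
          have h2 := h
          rw [hnf, hnf] at h2
          have hsame : (x.2 : ℕ) = y.2 := by
            have key : ∀ A B A' B' : ℕ, B ≤ B' → D.a ^ A * D.b ^ B = D.a ^ A' * D.b ^ B' → p ^ D.β ∣ B' - B := by
              intro A B A' B' hB hh
              rw [← D.mem, show D.b ^ (B' - B) = (D.a ^ A')⁻¹ * D.a ^ A by
                rw [pow_sub _ hB, eq_inv_mul_iff_mul_eq, ← mul_assoc, ← hh]; group]
              exact mul_mem (inv_mem (pow_mem (mem_zpowers _) _)) (pow_mem (mem_zpowers _) _)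
            have hdiv : ∀ s t : ℕ, s ≤ t → t < p ^ (D.β - v) → p ^ D.β ∣ p ^ v * t - p ^ v * s → s = t := by
              intro s t hst ht hd
              rw [show D.β = v + (D.β - v) by omega, pow_add, ← Nat.mul_sub,
                Nat.mul_dvd_mul_iff_left (pow_pos hpr.pos v)] at hd
              have := Nat.eq_zero_of_dvd_of_lt hd (by omega)
              omega
            rcases le_total (x.2 : ℕ) y.2 with hle | hle
            · exact hdiv _ _ hle y.2.2 (key _ _ _ _ (Nat.mul_le_mul_left _ hle) h2)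
            · exact (hdiv _ _ hle x.2.2 (key _ _ _ _ (Nat.mul_le_mul_left _ hle) h2.symm)).symm
          rw [hsame, mul_left_inj, ← pow_mul, ← pow_mul, pow_eq_pow_iff_modEq, D.oa] at h
          have hα : p ^ D.α = p ^ u * p ^ (D.α - u) := by rw [← pow_add, Nat.add_sub_cancel' hu]
          rw [hα] at h
          have h3 := Nat.ModEq.mul_left_cancel' (pow_ne_zero u hpr.ne_zero) h
          exact Prod.ext (Fin.ext (Nat.ModEq.eq_of_lt_of_lt h3 x.1.2 y.1.2)) (Fin.ext hsame))
    calc p ^ (D.α + D.β) < p ^ (D.α - u) * p ^ (D.β - v) * p ^ D.n := by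
          rw [← pow_add, ← pow_add]
          exact Nat.pow_lt_pow_right hp1 (by omega)
      _ ≤ _ := Nat.mul_le_mul_right _ hbound
  · intro z hz
    obtain ⟨i, j, rfl⟩ := D.gen z
    have h := (D.mem_center_iff _).mp hz
    rw [D.ψ_form, Prod.mk_eq_zero, ZMod.natCast_eq_zero_iff, ZMod.natCast_eq_zero_iff,
      pow_dvd_phi_iff hp D.natCast_r] at h
    refine L.mul_mem ((huU i).mpr ((pow_dvd_pow p (by omega)).trans h.1)) ?_
    obtain ⟨t, rfl⟩ := (pow_dvd_pow p (show v ≤ D.n by omega)).trans h.2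
    have ht : p ^ (D.n - v) ∣ t := by
      have h2 := h.2
      rw [show p ^ D.n = p ^ v * p ^ (D.n - v) by rw [← pow_add, Nat.add_sub_cancel' (by omega)]] at h2
      exact Nat.dvd_of_mul_dvd_mul_left (pow_pos hpr.pos v) h2
    have h3 := L.pow_mem hg t
    rw [hgdef, D.pow_form] at h3
    have h4 : D.a ^ (e * phi (D.r ^ p ^ v) t) ∈ L := (huU _).mpr (dvd_mul_of_dvd_right
      ((pow_dvd_phi_iff hp (natCast_pow_one D.natCast_r _) u t).mpr
        ((pow_dvd_pow p (by omega)).trans ht)) e)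
    simpa [mul_assoc] using L.mul_mem (L.inv_mem h4) h3

include D in
theorem card_group' [Finite G] : Nat.card G = p ^ (D.α + D.β) := by
  have hpr := (Fact.out : p.Prime)
  let A := zpowers D.a
  have hA : Nat.card A = p ^ D.α := by rw [Nat.card_zpowers, D.oa]
  rw [pow_add, ← hA, ← Nat.card_fin (p ^ D.β), ← Nat.card_prod]
  refine (Nat.card_congr (Equiv.ofBijective (fun x : A × Fin (p ^ D.β) => (x.1 : G) * D.b ^ (x.2 : ℕ))
    ⟨?_, fun g => ?_⟩)).symm
  · rintro ⟨x, s⟩ ⟨y, t⟩ h
    simp only at h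
    have key : ∀ (x y : A) (s t : ℕ), s ≤ t → t < p ^ D.β → (x : G) * D.b ^ s = y * D.b ^ t → s = t := by
      intro x y s t hst ht h
      have hm : D.b ^ (t - s) ∈ A := by
        rw [show D.b ^ (t - s) = (y : G)⁻¹ * x by
          rw [pow_sub _ hst, eq_inv_mul_iff_mul_eq, ← mul_assoc, ← h]; group]
        exact mul_mem (inv_mem y.2) x.2
      have := Nat.eq_zero_of_dvd_of_lt ((D.mem _).mp hm) (by omega)
      omega
    have hst : (s : ℕ) = t := by
      rcases le_total (s : ℕ) t with hle | hle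
      · exact key x y _ _ hle t.2 h
      · exact (key y x _ _ hle s.2 h.symm).symm
    rw [hst, mul_left_inj] at h
    exact Prod.ext (Subtype.ext h) (Fin.ext hst)
  · obtain ⟨i, j, rfl⟩ := D.gen g
    have hq : p ^ D.β * (j / p ^ D.β) + j % p ^ D.β = j := Nat.div_add_mod j _
    refine ⟨(⟨D.a ^ i * D.b ^ (p ^ D.β * (j / p ^ D.β)), mul_mem (pow_mem (mem_zpowers _) i)
      ((D.mem _).mpr (dvd_mul_right _ _))⟩, ⟨j % p ^ D.β, Nat.mod_lt _ (pow_pos hpr.pos _)⟩), ?_⟩
    show D.a ^ i * D.b ^ (p ^ D.β * (j / p ^ D.β)) * D.b ^ (j % p ^ D.β) = _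
    rw [mul_assoc, ← pow_add, hq]

include hp D in
/-- A subgroup is abelian exactly when its order is at most `|G : G'|`. -/
theorem comm_iff [Finite G] (L : Subgroup G) :
    IsMulCommutative L ↔ Nat.card L ≤ (commutator G).index := by
  have hidx : Nat.card (commutator G) * (commutator G).index = Nat.card G := card_mul_index _
  rw [D.card_commutator] at hidx
  have hpos : 0 < p ^ D.n := pow_pos (Fact.out : p.Prime).pos _
  refine ⟨fun hL => ?_, fun hle => ?_⟩
  · -- `L Z` is abelian, so it lies in its centraliser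
    set R := L ⊔ center G
    have hRc : R ≤ centralizer (R : Set G) := by
      have h1 : L ≤ centralizer (L : Set G) := le_centralizer_iff_isMulCommutative.mpr hL
      refine sup_le (le_centralizer_iff.mp (sup_le h1 (center_le_centralizer _))) ?_
      exact center_le_centralizer _
    have h := D.card_mul_card_centralizer hp (le_sup_right : center G ≤ R)
    have h1 : Nat.card L ≤ Nat.card R := card_le_of_le le_sup_left
    have h2 : Nat.card R ≤ Nat.card (centralizer (R : Set G)) := card_le_of_le hRc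
    refine Nat.le_of_mul_le_mul_left ?_ hpos
    rw [hidx]
    refine Nat.mul_self_le_mul_self_iff.mp ?_
    calc p ^ D.n * Nat.card L * (p ^ D.n * Nat.card L) ≤ p ^ D.n * p ^ D.n * (Nat.card R * Nat.card (centralizer (R : Set G))) := by
          rw [mul_mul_mul_comm]
          exact Nat.mul_le_mul le_rfl (Nat.mul_le_mul h1 (h1.trans h2))
      _ = Nat.card G * Nat.card G := by
          rw [h]; conv_rhs => arg 2; rw [D.card_group hp]
          rw [two_mul, pow_add]; ring
  · by_contra hL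
    have h := (D.of_not_comm hp hL).1
    rw [← D.card_group', ← hidx, mul_comm] at h
    exact absurd (Nat.lt_of_mul_lt_mul_right h) (not_lt.mpr hle)

theorem addOrderOf_ψ (g : G) : ∃ k ≤ D.n, addOrderOf (D.ψ g) = p ^ k := by
  refine (Nat.dvd_prime_pow (Fact.out : p.Prime)).mp (addOrderOf_dvd_of_nsmul_eq_zero ?_)
  rw [← Nat.cast_smul_eq_nsmul (ZMod (p ^ D.n)), ZMod.natCast_self, zero_smul]

theorem center_le_killed (c : ℕ) : center G ≤ D.killed c := fun g hg => by
  rw [mem_killed, (D.mem_center_iff g).mp hg, smul_zero]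

theorem killed_one : D.killed 1 = center G := by
  ext g
  rw [mem_killed, one_smul, D.mem_center_iff]

include hp D in
theorem card_killed [Finite G] {i : ℕ} (hi : i ≤ D.n) :
    Nat.card (D.killed (p ^ i)) = Nat.card (center G) * p ^ (2 * i) := by
  rw [D.card_eq_card_img hp (D.center_le_killed _), ← card_nsmul_eq_zero_prod p D.n i hi, mul_comm]
  congr 1
  refine Nat.card_congr (Equiv.subtypeEquivRight fun v => ⟨?_, fun hv => ?_⟩)
  · rintro ⟨g, hg, rfl⟩
    exact hg
  · obtain ⟨g, rfl⟩ := D.ψ_surjective hp v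
    exact ⟨g, hv, rfl⟩

include hp D in
theorem index_commutator [Finite G] : (commutator G).index = Nat.card (center G) * p ^ D.n := by
  have h := card_mul_index (commutator G)
  rw [D.card_commutator, D.card_group hp, two_mul, pow_add] at h
  refine Nat.eq_of_mul_eq_mul_left (pow_pos (Fact.out : p.Prime).pos D.n) ?_
  rw [h]; ring

include hp D in
theorem index_commutator_sq [Finite G] :
    (commutator G).index ^ 2 = Nat.card G * Nat.card (center G) := by
  rw [D.index_commutator hp, D.card_group hp, two_mul, pow_add]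
  ring

include hp D in
/-- The maximal abelian subgroups are those of order `|G : G'|`. -/
theorem maximal_comm_iff [Finite G] (hG : IsPGroup p G) (L : Subgroup G) :
    Maximal (fun K : Subgroup G => IsMulCommutative K) L ↔ Nat.card L = (commutator G).index := by
  have hpr := (Fact.out : p.Prime)
  refine ⟨fun hL => ?_, fun hL => ⟨(D.comm_iff hp L).mpr hL.le, fun K hK hLK => ?_⟩⟩
  · refine ((D.comm_iff hp L).mp hL.prop).eq_of_not_lt fun hlt => ?_
    obtain ⟨N, hN⟩ := IsPGroup.iff_card.mp hG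
    obtain ⟨l, hl⟩ := IsPGroup.iff_card.mp (hG.to_subgroup L)
    obtain ⟨m, hm, hidx⟩ := (Nat.dvd_prime_pow hpr).mp (hN ▸ (commutator G).index_dvd_card)
    rw [hl, hidx, Nat.pow_lt_pow_iff_right hpr.one_lt] at hlt
    obtain ⟨K, hK, hLK⟩ := Sylow.exists_subgroup_card_pow_succ (p := p) (n := l)
      (by rw [hN]; exact pow_dvd_pow p (by omega)) hl
    have hKc : IsMulCommutative K := (D.comm_iff hp K).mpr (by
      rw [hK, hidx]; exact Nat.pow_le_pow_right hpr.pos hlt)
    have := hL.eq_of_le hKc hLK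
    rw [← this, hl] at hK
    exact absurd (Nat.pow_right_injective hpr.two_le hK) (by omega)
  · exact (SetLike.coe_injective ((Set.toFinite _).eq_of_subset_of_card_le
      (SetLike.coe_subset_coe.mpr hLK) (((D.comm_iff hp K).mp hK).trans hL.ge))).ge

end MCData

end CfsgLib.Coprime
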