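import Cfsg.Agent.Lib.Coprime.NilpotentCover
import Cfsg.Agent.Lib.OddLocal.FittingHall
import Mathlib.LinearAlgebra.Matrix.GeneralLinearGroup.Basic
import Mathlib.LinearAlgebra.Matrix.Charpoly.Basic
import Mathlib.LinearAlgebra.Matrix.Transvection
import Mathlib.LinearAlgebra.Matrix.SpecialLinearGroup
import Mathlib.FieldTheory.Finite.Basic

/-!
No group between `PSL_n(q)` and `PGL_n(q)` has a minimal cover by nilpotent subgroups.

A regular unipotent element has a member inside its Borel subgroup. For `n ≥ 3` two such members lie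
in one parabolic subgroup; for `n = 2` the Borel subgroups together with the members containing an
elliptic element of order at least three form a smaller cover.
-/

set_option autoImplicit false
set_option linter.style.haveILetI false
set_option linter.unusedSectionVars false

namespace CfsgLib.Coprime.CoverPGL

open Matrix

universe u

variable {F : Type u} [Field F]

/-- `PGL n F` as a quotient group. -/
abbrev PQ (n : ℕ) (F : Type u) [Field F] := GL (Fin n) F ⧸ Subgroup.center (GL (Fin n) F)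

/-- The projection to `PQ n F`. -/
abbrev proj (n : ℕ) (F : Type u) [Field F] : GL (Fin n) F →* PQ n F :=
  QuotientGroup.mk' (Subgroup.center (GL (Fin n) F))

/-- Invertible block triangular matrices. -/
noncomputable def triGL (n : ℕ) (F : Type u) [Field F] (b : Fin n → ℕ) : Subgroup (GL (Fin n) F) where
  carrier := {g | BlockTriangular (g : Matrix (Fin n) (Fin n) F) b}
  mul_mem' := fun {g h} hg hh => by
    show BlockTriangular ((g * h : GL (Fin n) F) : Matrix (Fin n) (Fin n) F) b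
    rw [Units.val_mul]
    exact BlockTriangular.mul hg hh
  one_mem' := by
    show BlockTriangular ((1 : GL (Fin n) F) : Matrix (Fin n) (Fin n) F) b
    rw [Units.val_one]
    exact blockTriangular_one
  inv_mem' := fun {g} hg => by
    show BlockTriangular ((g⁻¹ : GL (Fin n) F) : Matrix (Fin n) (Fin n) F) b
    rw [Matrix.coe_units_inv]
    haveI := g.invertible
    exact blockTriangular_inv_of_blockTriangular hg

theorem mem_triGL {n : ℕ} {b : Fin n → ℕ} {g : GL (Fin n) F} :
    g ∈ triGL n F b ↔ ∀ i j : Fin n, b j < b i → (g : Matrix (Fin n) (Fin n) F) i j = 0 :=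
  ⟨fun h i j hij => h hij, fun h i j hij => h i j hij⟩

/-- The standard Borel subgroup. -/
noncomputable def borel (n : ℕ) (F : Type u) [Field F] : Subgroup (GL (Fin n) F) :=
  triGL n F fun i => (i : ℕ)

/-- Its image. -/
noncomputable def borelBar (n : ℕ) (F : Type u) [Field F] : Subgroup (PQ n F) :=
  (borel n F).map (proj n F)

/-- The regular unipotent Jordan block. -/
def shiftMat (n : ℕ) (F : Type u) [Field F] : Matrix (Fin n) (Fin n) F :=
  Matrix.of fun i j => if (i : ℕ) = (j : ℕ) ∨ (i : ℕ) + 1 = (j : ℕ) then 1 else 0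

theorem shiftMat_upper (n : ℕ) : (shiftMat n F).IsUpperTriangular := fun i j hij => by
  have : (j : ℕ) < (i : ℕ) := hij
  simp only [shiftMat, Matrix.of_apply]
  rw [if_neg (by omega)]

theorem det_shiftMat (n : ℕ) : (shiftMat n F).det = 1 := by
  rw [det_of_isUpperTriangular (shiftMat_upper n)]
  exact Finset.prod_eq_one fun i _ => by simp [shiftMat]

/-- The regular unipotent element. -/
noncomputable def jordan (n : ℕ) (F : Type u) [Field F] : GL (Fin n) F :=
  (Matrix.SpecialLinearGroup.toGL : _ →* GL (Fin n) F) ⟨shiftMat n F, det_shiftMat n⟩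

theorem coe_jordan (n : ℕ) : (jordan n F : Matrix (Fin n) (Fin n) F) = shiftMat n F := rfl

theorem jordan_mem_borel (n : ℕ) : jordan n F ∈ borel n F :=
  mem_triGL.2 fun i j hij => by rw [coe_jordan]; exact shiftMat_upper n hij

/-- Only triangular matrices conjugate the regular unipotent element to a triangular matrix. -/
theorem mem_borel_of_conj {n : ℕ} {g : GL (Fin n) F} (h : g⁻¹ * jordan n F * g ∈ borel n F) :
    g ∈ borel n F := by
  set M : Matrix (Fin n) (Fin n) F := ((g⁻¹ * jordan n F * g : GL (Fin n) F) : Matrix (Fin n) (Fin n) F)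
    with hM
  have hMu : M.IsUpperTriangular := fun i j hij => mem_triGL.1 h i j hij
  have hchar : M.charpoly = (shiftMat n F).charpoly := by
    rw [hM, Units.val_mul, Units.val_mul, Matrix.coe_units_inv, coe_jordan]
    exact charpoly_units_conj' g _
  have hdiag : ∀ j, M j j = 1 := by
    intro j
    have h1 := congrArg (Polynomial.eval (M j j)) hchar
    rw [charpoly_of_isUpperTriangular M hMu, charpoly_of_isUpperTriangular _ (shiftMat_upper n),
      Polynomial.eval_prod, Polynomial.eval_prod, Finset.prod_eq_zero (Finset.mem_univ j) (by simp)] at h1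
    obtain ⟨i, -, hi⟩ := Finset.prod_eq_zero_iff.1 h1.symm
    simpa [shiftMat, sub_eq_zero] using hi
  have heq : shiftMat n F * (g : Matrix (Fin n) (Fin n) F) = (g : Matrix (Fin n) (Fin n) F) * M := by
    rw [← coe_jordan, ← Units.val_mul, hM, ← Units.val_mul]
    congr 1
    group
  suffices key : ∀ (jv : ℕ) (j : Fin n), (j : ℕ) = jv → ∀ i : Fin n, (j : ℕ) < (i : ℕ) →
      (g : Matrix (Fin n) (Fin n) F) i j = 0 from mem_triGL.2 fun i j hij => key _ j rfl i hij
  intro jv
  induction jv using Nat.strong_induction_on with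
  | _ jv ih =>
  intro j hj i hij
  set k : Fin n := ⟨(i : ℕ) - 1, by omega⟩ with hk
  have hkval : (k : ℕ) = (i : ℕ) - 1 := rfl
  have hl : (shiftMat n F * (g : Matrix (Fin n) (Fin n) F)) k j =
      (g : Matrix (Fin n) (Fin n) F) k j + (g : Matrix (Fin n) (Fin n) F) i j := by
    have hki : k ≠ i := fun e => by rw [e] at hkval; omega
    rw [Matrix.mul_apply, Finset.sum_eq_add k i hki]
    · simp only [shiftMat, Matrix.of_apply]
      rw [if_pos (Or.inl trivial), if_pos (Or.inr (by omega)), one_mul, one_mul]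
    · rintro l - ⟨hlk, hli⟩
      simp only [shiftMat, Matrix.of_apply]
      rw [if_neg, zero_mul]
      rintro (e | e)
      · exact hlk (Fin.ext e.symm)
      · exact hli (Fin.ext (by omega))
    · intro hx; exact absurd (Finset.mem_univ _) hx
    · intro hx; exact absurd (Finset.mem_univ _) hx
  have hr : ((g : Matrix (Fin n) (Fin n) F) * M) k j = (g : Matrix (Fin n) (Fin n) F) k j := by
    rw [Matrix.mul_apply, Finset.sum_eq_single j]
    · rw [hdiag, mul_one]
    · intro l _ hlj
      rcases lt_or_gt_of_ne (fun e : (l : ℕ) = (j : ℕ) => hlj (Fin.ext e)) with hlt | hgt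
      · rw [ih (l : ℕ) (by omega) l rfl k (by omega), zero_mul]
      · rw [hMu (show j < l from hgt), mul_zero]
    · intro hx; exact absurd (Finset.mem_univ _) hx
  have h2 := congrFun (congrFun heq k) j
  rw [hl, hr, add_eq_left] at h2
  exact h2

theorem center_le_borel (n : ℕ) : Subgroup.center (GL (Fin n) F) ≤ borel n F := fun z hz =>
  mem_borel_of_conj (by
    rw [mul_assoc, (Subgroup.mem_center_iff.1 hz (jordan n F)), inv_mul_cancel_left]
    exact jordan_mem_borel n)

theorem proj_mem_borelBar {n : ℕ} {g : GL (Fin n) F} : proj n F g ∈ borelBar n F ↔ g ∈ borel n F := by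
  rw [borelBar, ← Subgroup.mem_comap, Subgroup.comap_map_eq, QuotientGroup.ker_mk',
    sup_eq_left.2 (center_le_borel n)]

/-- The image of the regular unipotent element. -/
noncomputable def jbar (n : ℕ) (F : Type u) [Field F] : PQ n F := proj n F (jordan n F)

theorem mem_borelBar_of_conj {n : ℕ} {x : PQ n F} (h : x⁻¹ * jbar n F * x ∈ borelBar n F) :
    x ∈ borelBar n F := by
  obtain ⟨g, rfl⟩ := QuotientGroup.mk'_surjective _ x
  rw [jbar, ← map_inv, ← map_mul, ← map_mul] at h
  exact proj_mem_borelBar.2 (mem_borel_of_conj (proj_mem_borelBar.1 h))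

/-- A nilpotent subgroup lies in a subgroup that is the only one containing a given element of it. -/
theorem nilpotent_le {Q : Type*} [Group Q] {A D : Subgroup Q} (hA : Group.IsNilpotent A) {y : Q}
    (hy : y ∈ A) (hyD : y ∈ D) (hkey : ∀ g ∈ A, g⁻¹ * y * g ∈ D → g ∈ D) : A ≤ D := by
  haveI := hA
  by_contra hne
  have hlt : D.subgroupOf A < ⊤ := lt_top_iff_ne_top.2 fun h => hne (Subgroup.subgroupOf_eq_top.1 h)
  obtain ⟨g, hg, hgD⟩ := SetLike.exists_of_lt (normalizerCondition_of_isNilpotent (D.subgroupOf A) hlt)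
  refine hgD (Subgroup.mem_subgroupOf.2 (hkey g g.2 ?_))
  have h1 := (Subgroup.mem_normalizer_iff''.1 hg ⟨y, hy⟩).1 hyD
  exact Subgroup.mem_subgroupOf.1 h1

theorem nilpotent_le_conj {n : ℕ} {A : Subgroup (PQ n F)} (hA : Group.IsNilpotent A) {h : PQ n F}
    (hy : h * jbar n F * h⁻¹ ∈ A) : A ≤ (borelBar n F).map (MulAut.conj h).toMonoidHom := by
  have hmem : ∀ z, z ∈ (borelBar n F).map (MulAut.conj h).toMonoidHom ↔ h⁻¹ * z * h ∈ borelBar n F :=
    fun z => by rw [Subgroup.mem_map_equiv]; simp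
  refine nilpotent_le hA hy ((hmem _).2 ?_) fun g _ hg => (hmem g).2 (mem_borelBar_of_conj ?_)
  · rw [show h⁻¹ * (h * jbar n F * h⁻¹) * h = jbar n F by group]
    exact Subgroup.mem_map_of_mem _ (jordan_mem_borel n)
  · rw [hmem] at hg
    rwa [show (h⁻¹ * g * h)⁻¹ * jbar n F * (h⁻¹ * g * h) =
      h⁻¹ * (g⁻¹ * (h * jbar n F * h⁻¹) * g) * h by group]

section Cover

variable {n : ℕ} (G : Subgroup (PQ n F))
  (hG : ((Matrix.SpecialLinearGroup.toGL : Matrix.SpecialLinearGroup (Fin n) F →* GL (Fin n) F).range).map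
    (proj n F) ≤ G)

include hG in
theorem proj_mem_of_det {g : GL (Fin n) F} (hg : (g : Matrix (Fin n) (Fin n) F).det = 1) : proj n F g ∈ G :=
  hG (Subgroup.mem_map_of_mem _ ⟨⟨g, hg⟩, Units.ext rfl⟩)

include hG in
theorem conj_jbar_mem (h : PQ n F) : h * jbar n F * h⁻¹ ∈ G := by
  obtain ⟨g, rfl⟩ := QuotientGroup.mk'_surjective _ h
  rw [jbar, ← map_inv, ← map_mul, ← map_mul]
  refine proj_mem_of_det G hG ?_
  rw [Units.val_mul, Units.val_mul, det_units_conj, coe_jordan, det_shiftMat]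

theorem isNilpotent_map {A : Subgroup G} (hA : Group.IsNilpotent A) :
    Group.IsNilpotent (A.map G.subtype) := by
  haveI := hA
  exact Group.nilpotent_of_mulEquiv (A.equivMapOfInjective G.subtype G.subtype_injective)

variable [Finite F]

include hG in
/-- In dimension at least three two members lie in one proper subgroup. -/
theorem no_cover_three (hn : 3 ≤ n) (𝓐 : Finset (Subgroup G))
    (hcov : (∀ A ∈ 𝓐, A ≠ ⊤) ∧ (∀ g : G, ∃ A ∈ 𝓐, g ∈ A))
    (hmin : ∀ 𝓑 : Finset (Subgroup G), (∀ A ∈ 𝓑, A ≠ ⊤) ∧ (∀ g : G, ∃ A ∈ 𝓑, g ∈ A) → 𝓐.card ≤ 𝓑.card)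
    (hnil : ∀ A ∈ 𝓐, Group.IsNilpotent A) : False := by
  let i₀ : Fin n := ⟨0, by omega⟩
  let i₁ : Fin n := ⟨1, by omega⟩
  let i₂ : Fin n := ⟨2, by omega⟩
  set P := triGL n F (fun i => if (i : ℕ) < 2 then 0 else 1) with hP
  have hBP : borel n F ≤ P := fun g hg => mem_triGL.2 fun i j hij => mem_triGL.1 hg i j (by
    split_ifs at hij <;> omega)
  have hPmem : ∀ {g}, proj n F g ∈ P.map (proj n F) → g ∈ P := fun {g} hg => by
    rwa [← Subgroup.mem_comap, Subgroup.comap_map_eq, QuotientGroup.ker_mk',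
      sup_eq_left.2 ((center_le_borel n).trans hBP)] at hg
  let mk : ∀ (i j : Fin n), i ≠ j → GL (Fin n) F := fun i j hij =>
    (Matrix.SpecialLinearGroup.toGL : _ →* GL (Fin n) F) ⟨transvection i j 1, det_transvection_of_ne i j hij 1⟩
  have h10 : i₁ ≠ i₀ := by simp [i₀, i₁, Fin.ext_iff]
  have h20 : i₂ ≠ i₀ := by simp [i₀, i₂, Fin.ext_iff]
  set s := mk i₁ i₀ h10
  set e := mk i₂ i₀ h20
  have hs : (s : Matrix (Fin n) (Fin n) F) = transvection i₁ i₀ 1 := rfl
  have he : (e : Matrix (Fin n) (Fin n) F) = transvection i₂ i₀ 1 := rfl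
  have hsP : s ∈ P := mem_triGL.2 fun i j hij => by
    rw [hs, transvection, Matrix.add_apply, Matrix.one_apply_ne (fun h => by simp [h] at hij),
      Matrix.single_apply_of_ne, add_zero]
    rintro ⟨rfl, rfl⟩
    simp [i₀, i₁] at hij
  have heP : e ∉ P := fun h => by
    have h' := mem_triGL.1 h i₂ i₀ (by simp [i₀, i₂])
    rw [he, transvection, Matrix.add_apply, Matrix.one_apply_ne h20, zero_add, Matrix.single_apply_same] at h'
    exact one_ne_zero h'
  have hsB : s ∉ borel n F := fun h => by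
    have h' := mem_triGL.1 h i₁ i₀ (by simp [i₀, i₁])
    rw [hs, transvection, Matrix.add_apply, Matrix.one_apply_ne h10, zero_add, Matrix.single_apply_same] at h'
    exact one_ne_zero h'
  set C := (P.map (proj n F)).subgroupOf G
  have hC : C ≠ ⊤ := fun h =>
    heP (hPmem (Subgroup.subgroupOf_eq_top.1 h (proj_mem_of_det G hG (g := e)
      (det_transvection_of_ne i₂ i₀ h20 1))))
  have key : ∀ (h : PQ n F), h ∈ P.map (proj n F) → ∀ A ∈ 𝓐,
      (⟨h * jbar n F * h⁻¹, conj_jbar_mem G hG h⟩ : G) ∈ A → A ≤ C := fun h hh A hA hmem x hx => by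
    obtain ⟨z, hz, hzx⟩ := nilpotent_le_conj (isNilpotent_map G (hnil A hA))
      (Subgroup.mem_map_of_mem G.subtype hmem) (Subgroup.mem_map_of_mem G.subtype hx)
    show (x : PQ n F) ∈ P.map (proj n F)
    rw [show (x : PQ n F) = G.subtype x from rfl, ← hzx]
    exact mul_mem (mul_mem hh (Subgroup.map_mono hBP hz)) (inv_mem hh)
  obtain ⟨A₁, hA₁, hu₁⟩ := hcov.2 ⟨1 * jbar n F * 1⁻¹, conj_jbar_mem G hG 1⟩
  obtain ⟨A₂, hA₂, hu₂⟩ := hcov.2 ⟨proj n F s * jbar n F * (proj n F s)⁻¹, conj_jbar_mem G hG _⟩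
  obtain rfl := card_le_one_of_cover hcov hmin hC hA₁ (key 1 (one_mem _) A₁ hA₁ hu₁) hA₂
    (key _ (Subgroup.mem_map_of_mem _ hsP) A₂ hA₂ hu₂)
  have h := nilpotent_le_conj (isNilpotent_map G (hnil A₁ hA₁))
    (Subgroup.mem_map_of_mem G.subtype hu₁) (Subgroup.mem_map_of_mem G.subtype hu₂)
  obtain ⟨z, hz, hzs⟩ := h
  refine hsB (inv_mem_iff.1 ?_)
  apply mem_borel_of_conj
  rw [← proj_mem_borelBar, map_mul, map_mul, inv_inv, map_inv,
    ← show (1 : PQ n F) * z * 1⁻¹ = proj n F s * proj n F (jordan n F) * (proj n F s)⁻¹ from hzs]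
  simpa using hz

end Cover

section Two

/-- Monomial two by two matrices. -/
def monoSet (F : Type u) [Field F] : Set (GL (Fin 2) F) :=
  {g | ((g : Matrix (Fin 2) (Fin 2) F) 0 1 = 0 ∧ (g : Matrix (Fin 2) (Fin 2) F) 1 0 = 0) ∨
    ((g : Matrix (Fin 2) (Fin 2) F) 0 0 = 0 ∧ (g : Matrix (Fin 2) (Fin 2) F) 1 1 = 0)}

/-- The monomial subgroup. -/
noncomputable def monoGL (F : Type u) [Field F] : Subgroup (GL (Fin 2) F) where
  carrier := monoSet F
  mul_mem' := fun {g h} hg hh => by
    rcases hg with ⟨a, b⟩ | ⟨a, b⟩ <;> rcases hh with ⟨c, d⟩ | ⟨c, d⟩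
    · exact Or.inl (by simp [Units.val_mul, Matrix.mul_apply, Matrix.vecMul, dotProduct, Fin.sum_univ_two, a, b, c, d])
    · exact Or.inr (by simp [Units.val_mul, Matrix.mul_apply, Matrix.vecMul, dotProduct, Fin.sum_univ_two, a, b, c, d])
    · exact Or.inr (by simp [Units.val_mul, Matrix.mul_apply, Matrix.vecMul, dotProduct, Fin.sum_univ_two, a, b, c, d])
    · exact Or.inl (by simp [Units.val_mul, Matrix.mul_apply, Matrix.vecMul, dotProduct, Fin.sum_univ_two, a, b, c, d])
  one_mem' := Or.inl (by simp)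
  inv_mem' := fun {g} hg => by
    rcases hg with ⟨a, b⟩ | ⟨a, b⟩
    · exact Or.inl (by simp [Matrix.coe_units_inv, Matrix.inv_def, Matrix.adjugate_fin_two, a, b])
    · exact Or.inr (by simp [Matrix.coe_units_inv, Matrix.inv_def, Matrix.adjugate_fin_two, a, b])

theorem center_entries {z : GL (Fin 2) F} (hz : z ∈ Subgroup.center (GL (Fin 2) F)) :
    ∃ c : F, c ≠ 0 ∧ (z : Matrix (Fin 2) (Fin 2) F) = !![c, 0; 0, c] := by
  obtain ⟨c, hc⟩ := GeneralLinearGroup.mem_center_iff_val_mem_range_scalar.1 hz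
  have e : (z : Matrix (Fin 2) (Fin 2) F) = !![c, 0; 0, c] := by
    rw [← hc]; ext i j; fin_cases i <;> fin_cases j <;> simp
  refine ⟨c, fun h => ?_, e⟩
  have h1 := z.isUnit.map (Matrix.detMonoidHom (n := Fin 2) (R := F))
  simp [Matrix.detMonoidHom, e, h, Matrix.det_fin_two] at h1

theorem proj_eq_one {g : GL (Fin 2) F} (h01 : (g : Matrix (Fin 2) (Fin 2) F) 0 1 = 0)
    (h10 : (g : Matrix (Fin 2) (Fin 2) F) 1 0 = 0)
    (h : (g : Matrix (Fin 2) (Fin 2) F) 0 0 = (g : Matrix (Fin 2) (Fin 2) F) 1 1) : proj 2 F g = 1 :=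
  (QuotientGroup.eq_one_iff g).2 (GeneralLinearGroup.mem_center_iff_val_mem_range_scalar.2
    ⟨(g : Matrix (Fin 2) (Fin 2) F) 0 0, by ext i j; fin_cases i <;> fin_cases j <;> simp [h01, h10, h]⟩)

theorem entries_of_proj_eq_one {g : GL (Fin 2) F} (h : proj 2 F g = 1) :
    (g : Matrix (Fin 2) (Fin 2) F) 0 1 = 0 ∧ (g : Matrix (Fin 2) (Fin 2) F) 1 0 = 0 ∧
      (g : Matrix (Fin 2) (Fin 2) F) 0 0 = (g : Matrix (Fin 2) (Fin 2) F) 1 1 := by
  obtain ⟨c, -, e⟩ := center_entries ((QuotientGroup.eq_one_iff g).1 h)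
  simp [e]

theorem mem_borel_two {g : GL (Fin 2) F} (h : (g : Matrix (Fin 2) (Fin 2) F) 1 0 = 0) : g ∈ borel 2 F :=
  mem_triGL.2 fun i j hij => by
    fin_cases i <;> fin_cases j <;> first | exact h | simp at hij

/-- An element lying in no conjugate of the Borel subgroup. -/
def Elliptic (x : PQ 2 F) : Prop := ∀ h : PQ 2 F, h⁻¹ * x * h ∉ borelBar 2 F

theorem elliptic_lower {g : GL (Fin 2) F} (hg : Elliptic (proj 2 F g)) :
    (g : Matrix (Fin 2) (Fin 2) F) 1 0 ≠ 0 := fun h => hg 1 (by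
      rw [inv_one, one_mul, mul_one]; exact proj_mem_borelBar.2 (mem_borel_two h))

theorem elliptic_no_root {g : GL (Fin 2) F} (hg : Elliptic (proj 2 F g)) (r : F) :
    r * r - (g : Matrix (Fin 2) (Fin 2) F).trace * r + (g : Matrix (Fin 2) (Fin 2) F).det ≠ 0 := by
  intro hr
  set a := (g : Matrix (Fin 2) (Fin 2) F) 0 0 with ha
  set b := (g : Matrix (Fin 2) (Fin 2) F) 0 1 with hb
  set c := (g : Matrix (Fin 2) (Fin 2) F) 1 0 with hc
  set d := (g : Matrix (Fin 2) (Fin 2) F) 1 1 with hd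
  rw [Matrix.trace_fin_two, Matrix.det_fin_two, ← ha, ← hb, ← hc, ← hd] at hr
  have hc0 : c ≠ 0 := elliptic_lower hg
  have hh : (!![r - d, 1; c, 0] : Matrix (Fin 2) (Fin 2) F).det ≠ 0 := by
    simp [Matrix.det_fin_two, hc0]
  set h := GeneralLinearGroup.mkOfDetNeZero _ hh
  refine hg (proj 2 F h) ?_
  rw [← map_inv, ← map_mul, ← map_mul]
  refine proj_mem_borelBar.2 (mem_borel_two ?_)
  have e : (g : Matrix (Fin 2) (Fin 2) F) * (h : Matrix (Fin 2) (Fin 2) F) =
      (h : Matrix (Fin 2) (Fin 2) F) * !![r, 1; 0, a + d - r] := by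
    have hg2 : (g : Matrix (Fin 2) (Fin 2) F) = !![a, b; c, d] := Matrix.eta_fin_two _
    rw [hg2, show (h : Matrix (Fin 2) (Fin 2) F) = !![r - d, 1; c, 0] from rfl]
    ext i j
    fin_cases i <;> fin_cases j <;> simp [Matrix.mul_apply, Matrix.vecMul, dotProduct, Fin.sum_univ_two] <;>
      first | linear_combination hr | linear_combination -hr | ring
  rw [Units.val_mul, Units.val_mul, mul_assoc, e, ← mul_assoc, Units.inv_mul, one_mul]
  simp

theorem sq_eq {g : GL (Fin 2) F} :
    (g : Matrix (Fin 2) (Fin 2) F) * (g : Matrix (Fin 2) (Fin 2) F) =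
      (g : Matrix (Fin 2) (Fin 2) F).trace • (g : Matrix (Fin 2) (Fin 2) F) -
        (g : Matrix (Fin 2) (Fin 2) F).det • 1 := by
  ext i j
  fin_cases i <;> fin_cases j <;>
    simp [Matrix.mul_apply, Matrix.vecMul, dotProduct, Fin.sum_univ_two, Matrix.trace_fin_two, Matrix.det_fin_two, Matrix.one_apply] <;> ring

/-- The diagonal element. -/
noncomputable def diagEl (a : Fˣ) : GL (Fin 2) F :=
  GeneralLinearGroup.mkOfDetNeZero !![(a : F), 0; 0, ((a⁻¹ : Fˣ) : F)] (by simp [Matrix.det_fin_two])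

theorem coe_diagEl (a : Fˣ) :
    (diagEl a : Matrix (Fin 2) (Fin 2) F) = !![(a : F), 0; 0, ((a⁻¹ : Fˣ) : F)] := rfl

theorem diagEl_ne_one {a : Fˣ} (ha : a ^ 2 ≠ 1) : proj 2 F (diagEl a) ≠ 1 := fun h => ha (Units.ext (by
  obtain ⟨-, -, e⟩ := entries_of_proj_eq_one h
  simp [coe_diagEl] at e
  rw [Units.val_pow_eq_pow_val, Units.val_one, pow_two]
  nth_rewrite 2 [e]
  simp))

theorem commute_diag {a : Fˣ} (ha : a ^ 2 ≠ 1) {m : GL (Fin 2) F}
    (hc : Commute (proj 2 F m) (proj 2 F (diagEl a))) :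
    ((m : Matrix (Fin 2) (Fin 2) F) 0 1 = 0 ∧ (m : Matrix (Fin 2) (Fin 2) F) 1 0 = 0) ∨
      ((m : Matrix (Fin 2) (Fin 2) F) 0 0 = 0 ∧ (m : Matrix (Fin 2) (Fin 2) F) 1 1 = 0 ∧ a ^ 4 = 1) := by
  have h1 : proj 2 F ((diagEl a * m)⁻¹ * (m * diagEl a)) = 1 := by
    rw [map_mul, map_inv, map_mul, map_mul, hc.eq, inv_mul_cancel]
  obtain ⟨l, hl, e⟩ := center_entries ((QuotientGroup.eq_one_iff _).1 h1)
  have e2 : (m : Matrix (Fin 2) (Fin 2) F) * (diagEl a : Matrix (Fin 2) (Fin 2) F) =
      (diagEl a : Matrix (Fin 2) (Fin 2) F) * (m : Matrix (Fin 2) (Fin 2) F) * !![l, 0; 0, l] := by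
    rw [← e, ← Units.val_mul, ← Units.val_mul, ← Units.val_mul]
    congr 1
    group
  have hdet : (m : Matrix (Fin 2) (Fin 2) F) 0 0 * (m : Matrix (Fin 2) (Fin 2) F) 1 1 -
      (m : Matrix (Fin 2) (Fin 2) F) 0 1 * (m : Matrix (Fin 2) (Fin 2) F) 1 0 ≠ 0 := by
    rw [← Matrix.det_fin_two]
    exact ((Matrix.isUnit_iff_isUnit_det _).1 m.isUnit).ne_zero
  rw [coe_diagEl] at e2
  have a0 : (a : F) ≠ 0 := a.ne_zero
  have ha' : (a : F) * (a : F) ≠ 1 := fun h => ha (Units.ext (by simpa [pow_two] using h))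
  have e00 := congrFun (congrFun e2 0) 0
  have e01 := congrFun (congrFun e2 0) 1
  have e10 := congrFun (congrFun e2 1) 0
  have e11 := congrFun (congrFun e2 1) 1
  simp [Matrix.mul_apply, Matrix.vecMul, dotProduct, Fin.sum_univ_two, Units.val_inv_eq_inv_val] at e00 e01 e10 e11
  field_simp at e00 e01 e10 e11
  by_cases h00 : (m : Matrix (Fin 2) (Fin 2) F) 0 0 = 0
  · have hb : (m : Matrix (Fin 2) (Fin 2) F) 0 1 ≠ 0 := fun h => hdet (by rw [h00, h]; ring)
    have hcc : (m : Matrix (Fin 2) (Fin 2) F) 1 0 ≠ 0 := fun h => hdet (by rw [h00, h]; ring)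
    have hl1 : l = (a : F) * (a : F) :=
      mul_left_cancel₀ hcc (by linear_combination -e10)
    have hl2 : l * ((a : F) * (a : F)) = 1 := mul_left_cancel₀ hb (by linear_combination -e01)
    refine Or.inr ⟨h00, ?_, Units.ext ?_⟩
    · have : (m : Matrix (Fin 2) (Fin 2) F) 1 1 * (1 - l) = 0 := by linear_combination e11
      exact (mul_eq_zero.1 this).resolve_right (sub_ne_zero.2 fun h => ha' (hl1 ▸ h.symm))
    · rw [Units.val_pow_eq_pow_val, Units.val_one]
      calc (a : F) ^ 4 = (a : F) * (a : F) * ((a : F) * (a : F)) := by ring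
        _ = 1 := by nth_rewrite 1 [← hl1]; exact hl2
  · have hl1 : l = 1 := by
      have : (m : Matrix (Fin 2) (Fin 2) F) 0 0 * (1 - l) = 0 := by linear_combination e00
      exact (sub_eq_zero.1 ((mul_eq_zero.1 this).resolve_left h00)).symm
    subst hl1
    left
    constructor
    · have : (m : Matrix (Fin 2) (Fin 2) F) 0 1 * ((a : F) * (a : F) - 1) = 0 := by linear_combination -e01
      exact (mul_eq_zero.1 this).resolve_right (sub_ne_zero.2 ha')
    · have : (m : Matrix (Fin 2) (Fin 2) F) 1 0 * ((a : F) * (a : F) - 1) = 0 := by linear_combination e10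
      exact (mul_eq_zero.1 this).resolve_right (sub_ne_zero.2 ha')

theorem pow_jordan (k : ℕ) :
    ((jordan 2 F : Matrix (Fin 2) (Fin 2) F)) ^ k = !![1, (k : F); 0, 1] := by
  have hJ : (jordan 2 F : Matrix (Fin 2) (Fin 2) F) = !![1, 1; 0, 1] := by
    rw [coe_jordan]; ext i j; fin_cases i <;> fin_cases j <;> simp [shiftMat]
  induction k with
  | zero => ext i j; fin_cases i <;> fin_cases j <;> simp
  | succ k ih =>
    rw [pow_succ, ih, hJ]
    ext i j; fin_cases i <;> fin_cases j <;> simp [Matrix.mul_apply, Matrix.vecMul, dotProduct, Fin.sum_univ_two, add_comm]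

variable [Fintype F]

/-- A subgroup containing an elliptic element of order at least three. -/
def HasElliptic {G : Subgroup (PQ 2 F)} (A : Subgroup G) : Prop :=
  ∃ x : G, x ∈ A ∧ Elliptic (x : PQ 2 F) ∧ (x : PQ 2 F) ^ 2 ≠ 1

theorem exists_unit_diag (hq : 4 ≤ Fintype.card F) :
    ∃ a : Fˣ, a ^ 2 ≠ 1 ∧ (a ^ 4 ≠ 1 ∨ Fintype.card F = 5) := by
  classical
  obtain ⟨a, ha⟩ := IsCyclic.exists_generator (α := Fˣ)
  have ho : orderOf a = Fintype.card F - 1 := by
    rw [orderOf_eq_card_of_forall_mem_zpowers ha, Nat.card_eq_fintype_card, Fintype.card_units]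
  refine ⟨a, fun h => ?_, ?_⟩
  · have := Nat.le_of_dvd two_pos (orderOf_dvd_of_pow_eq_one h)
    omega
  · by_cases h : a ^ 4 = 1
    · right
      have h1 := orderOf_dvd_of_pow_eq_one h
      have h2 := Nat.le_of_dvd (by norm_num) h1
      rw [ho] at h1 h2
      generalize hN : Fintype.card F = N at h1 h2 hq ⊢
      have : N ≤ 5 := by omega
      interval_cases N <;> simp_all
    · exact Or.inl h

/-- In `PGL₂(5)` elliptic elements have order dividing six. -/
theorem pow_six_eq_one (hq : Fintype.card F = 5) {g : GL (Fin 2) F} (hg : Elliptic (proj 2 F g)) :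
    proj 2 F g ^ 6 = 1 := by
  have hdec : ∀ t d : ZMod 5, (∀ x : ZMod 5, x * x - t * x + d ≠ 0) →
      t * (t * t - d) * (t * t - 3 * d) = 0 := by decide
  let e : ZMod 5 ≃+* F := ZMod.ringEquivOfPrime F (by norm_num) hq
  set t := (g : Matrix (Fin 2) (Fin 2) F).trace with ht
  set d := (g : Matrix (Fin 2) (Fin 2) F).det with hd
  have hz := hdec (e.symm t) (e.symm d) fun x hx => elliptic_no_root hg (e x) (by
    have h := congrArg e hx
    simpa using h)
  have hz' : t * (t * t - d) * (t * t - 3 * d) = 0 := by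
    have h := congrArg e hz
    simpa [map_ofNat] using h
  have hsq := sq_eq (g := g)
  rw [← ht, ← hd] at hsq
  have h3 : (g : Matrix (Fin 2) (Fin 2) F) ^ 3 =
      (t * t - d) • (g : Matrix (Fin 2) (Fin 2) F) - (t * d) • 1 := by
    rw [pow_succ, pow_two, hsq, sub_mul, smul_mul_assoc, hsq, smul_mul_assoc, one_mul, smul_sub, smul_smul,
      smul_smul, sub_smul]
    abel
  have h6 : (g : Matrix (Fin 2) (Fin 2) F) ^ 6 = ((t * d) * (t * d) - (t * t - d) * (t * t - d) * d) • 1 := by
    rw [show (6 : ℕ) = 3 + 3 from rfl, pow_add, h3]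
    simp only [sub_mul, mul_sub, smul_mul_assoc, mul_smul_comm, one_mul, mul_one, hsq, smul_sub, smul_smul]
    have hz2 : (t * t - d) * ((t * t - d) * t) - (t * t - d) * (t * d) - (t * d) * (t * t - d) = 0 := by
      linear_combination hz'
    match_scalars <;> first | linear_combination hz2 | linear_combination -hz2 | ring
  have h : proj 2 F (g ^ 6) = 1 := by
    apply proj_eq_one <;> rw [Units.val_pow_eq_pow_val, h6] <;> simp
  rwa [map_pow] at h

variable (G : Subgroup (PQ 2 F))
  (hG : ((Matrix.SpecialLinearGroup.toGL : Matrix.SpecialLinearGroup (Fin 2) F →* GL (Fin 2) F).range).map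
    (proj 2 F) ≤ G)

include hG in
theorem sq_mem (x : PQ 2 F) : x ^ 2 ∈ G := by
  obtain ⟨g, rfl⟩ := QuotientGroup.mk'_surjective _ x
  set D := (g : Matrix (Fin 2) (Fin 2) F).det with hD
  have hD0 : D ≠ 0 := ((Matrix.isUnit_iff_isUnit_det _).1 g.isUnit).ne_zero
  let z : GL (Fin 2) F := GeneralLinearGroup.mkOfDetNeZero !![D⁻¹, 0; 0, D⁻¹] (by simp [Matrix.det_fin_two, hD0])
  have hz : (z : Matrix (Fin 2) (Fin 2) F) = !![D⁻¹, 0; 0, D⁻¹] := rfl
  have h := proj_mem_of_det G hG (g := g ^ 2 * z) (by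
    rw [Units.val_mul, Units.val_pow_eq_pow_val, Matrix.det_mul, Matrix.det_pow, hz, ← hD]
    simp [Matrix.det_fin_two]
    field_simp)
  rwa [map_mul, map_pow, proj_eq_one (g := z) (by simp [hz]) (by simp [hz]) (by simp [hz]), mul_one] at h

include hG in
/-- An elliptic involution is a power of an element of `G` of order at least three. -/
theorem exists_root (hq : 4 ≤ Fintype.card F) {x : PQ 2 F} (hxG : x ∈ G) (hx : Elliptic x) (hx2 : x ^ 2 = 1) :
    ∃ s ∈ G, Elliptic s ∧ s ^ 2 ≠ 1 ∧ x ∈ Subgroup.zpowers s := by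
  classical
  obtain ⟨g, rfl⟩ := QuotientGroup.mk'_surjective _ x
  set gm := (g : Matrix (Fin 2) (Fin 2) F) with hgm
  set d := gm.det with hd
  have hc := elliptic_lower hx
  rw [← hgm] at hc
  obtain ⟨h01, h10, -⟩ := entries_of_proj_eq_one (g := g ^ 2) (by rw [map_pow]; exact hx2)
  rw [Units.val_pow_eq_pow_val, pow_two, sq_eq, ← hgm] at h10
  simp at h10
  have ht : gm.trace = 0 := h10.resolve_right hc
  have hsq : gm * gm = -(d • (1 : Matrix (Fin 2) (Fin 2) F)) := by
    rw [hgm, sq_eq, ← hgm, ht, zero_smul, zero_sub, hd]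
  have hnr : ∀ r : F, r * r + d ≠ 0 := fun r hr => elliptic_no_root hx r (by
    rw [← hgm, ht, ← hd]; linear_combination hr)
  have h2 : (2 : F) ≠ 0 := fun h => by
    obtain ⟨r, hr⟩ := FiniteField.isSquare_of_char_two (F := F)
      (CharP.ringChar_of_prime_eq_zero Nat.prime_two (by exact_mod_cast h)) (-d)
    exact hnr r (by rw [← hr]; ring)
  obtain ⟨a, ha0, had⟩ : ∃ a : F, a ≠ 0 ∧ a * a ≠ d := by
    by_contra h
    push Not at h
    have hsub : (Finset.univ : Finset F) ⊆ {0, 1, -1} := by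
      intro x _
      have h1 : (1 : F) * 1 = d := h 1 one_ne_zero
      by_cases hx0 : x = 0
      · simp [hx0]
      · have h2 : x * x = 1 * 1 := (h x hx0).trans h1.symm
        rcases mul_self_eq_mul_self_iff.1 h2 with e | e <;> simp [e]
    have := (Finset.card_le_card hsub).trans Finset.card_le_three
    rw [Finset.card_univ] at this
    omega
  have hk : (gm + a • (1 : Matrix (Fin 2) (Fin 2) F)).det ≠ 0 := by
    have e : (gm + a • (1 : Matrix (Fin 2) (Fin 2) F)).det = a * a + gm.trace * a + gm.det := by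
      simp [Matrix.det_fin_two, Matrix.trace_fin_two]; ring
    rw [e, ht, ← hd, zero_mul, add_zero]; exact hnr a
  set k := GeneralLinearGroup.mkOfDetNeZero _ hk
  have hkv : (k : Matrix (Fin 2) (Fin 2) F) = gm + a • 1 := rfl
  have hspan : ∀ j : ℕ, ∃ A B : F, ((k ^ j : GL (Fin 2) F) : Matrix (Fin 2) (Fin 2) F) = A • gm + B • 1 := by
    intro j
    induction j with
    | zero => exact ⟨0, 1, by simp⟩
    | succ j ih =>
      obtain ⟨A, B, e⟩ := ih
      refine ⟨B + A * a, B * a - A * d, ?_⟩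
      rw [pow_succ, Units.val_mul, e, hkv]
      simp only [add_mul, mul_add, smul_mul_assoc, mul_smul_comm, one_mul, mul_one, hsq]
      match_scalars <;> ring
  have hgk : Commute g k := Units.ext (by
    rw [Units.val_mul, Units.val_mul, hkv, ← hgm, mul_add, add_mul, mul_smul_comm, smul_mul_assoc, mul_one, one_mul])
  have hxy : Commute (proj 2 F g) (proj 2 F k ^ 2) := (hgk.map (proj 2 F)).pow_right 2
  have hy2 : (proj 2 F k ^ 2) ^ 2 ≠ 1 := by
    intro h
    rw [← pow_mul, ← map_pow] at h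
    obtain ⟨-, e10, -⟩ := entries_of_proj_eq_one h
    have hk2 : ((k ^ 2 : GL (Fin 2) F) : Matrix (Fin 2) (Fin 2) F) = (2 * a) • gm + (a * a - d) • 1 := by
      rw [Units.val_pow_eq_pow_val, pow_two, hkv]
      simp only [add_mul, mul_add, smul_mul_assoc, mul_smul_comm, one_mul, mul_one, hsq]
      match_scalars <;> ring
    rw [show (2 * 2 : ℕ) = 2 + 2 from rfl, pow_add, Units.val_mul, hk2] at e10
    simp only [add_mul, mul_add, smul_mul_assoc, mul_smul_comm, one_mul, mul_one, hsq] at e10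
    simp at e10
    have : 4 * a * (a * a - d) * gm 1 0 = 0 := by linear_combination e10
    have h4 : (4 : F) ≠ 0 := by rw [show (4 : F) = 2 * 2 by norm_num]; exact mul_ne_zero h2 h2
    exact mul_ne_zero (mul_ne_zero (mul_ne_zero h4 ha0) (sub_ne_zero.2 had)) hc this
  set y := proj 2 F k ^ 2 with hy
  have hyG : y ∈ G := sq_mem G hG _
  have hxne : proj 2 F g ≠ 1 := fun h => hx 1 (by rw [h]; simpa using one_mem _)
  have hofpow : ∀ s : PQ 2 F, proj 2 F g ∈ Subgroup.zpowers s → Elliptic s := by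
    intro s hs h hb
    obtain ⟨i, hi⟩ := Subgroup.mem_zpowers_iff.1 hs
    refine hx h ?_
    have e := conj_zpow (i := i) (a := h⁻¹) (b := s)
    rw [inv_inv] at e
    rw [← hi, ← e]
    exact zpow_mem hb i
  rcases Nat.even_or_odd (orderOf y) with ⟨m, hm⟩ | hodd
  · have hpos := orderOf_pos y
    have hym2 : (y ^ m) ^ 2 = 1 := by rw [← pow_mul, show m * 2 = orderOf y by omega, pow_orderOf_eq_one]
    have hym : y ^ m ≠ 1 := pow_ne_one_of_lt_orderOf (by omega) (by omega)
    obtain ⟨A, B, e⟩ := hspan (2 * m)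
    have hym' : y ^ m = proj 2 F (k ^ (2 * m)) := by rw [hy, map_pow, ← pow_mul]
    rw [hym', ← map_pow] at hym2
    obtain ⟨-, e10, -⟩ := entries_of_proj_eq_one hym2
    rw [Units.val_pow_eq_pow_val, pow_two, e] at e10
    simp only [add_mul, mul_add, smul_mul_assoc, mul_smul_comm, one_mul, mul_one, hsq] at e10
    simp at e10
    have hAB : A * B = 0 := by
      have : 2 * (A * B) * gm 1 0 = 0 := by linear_combination e10
      exact (mul_eq_zero.1 ((mul_eq_zero.1 this).resolve_right hc)).resolve_left h2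
    have hA : A ≠ 0 := fun hA => hym (by
      rw [hym']; apply proj_eq_one <;> rw [e, hA] <;> simp)
    rw [(mul_eq_zero.1 hAB).resolve_left hA, zero_smul, add_zero] at e
    have hxy' : proj 2 F g = y ^ m := by
      rw [hym', ← inv_mul_eq_one, ← map_inv, ← map_mul]
      have e' : ((g⁻¹ * k ^ (2 * m) : GL (Fin 2) F) : Matrix (Fin 2) (Fin 2) F) = A • 1 := by
        rw [Units.val_mul, e, mul_smul_comm, hgm, Units.inv_mul]
      apply proj_eq_one <;> rw [e'] <;> simp
    have hmem : proj 2 F g ∈ Subgroup.zpowers y := hxy' ▸ Subgroup.npow_mem_zpowers y m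
    exact ⟨y, hyG, hofpow y hmem, hy2, hmem⟩
  · have hs2 : (proj 2 F g * y) ^ 2 = y ^ 2 := by rw [hxy.mul_pow, hx2, one_mul]
    have hmem : proj 2 F g ∈ Subgroup.zpowers (proj 2 F g * y) := by
      obtain ⟨j, hj⟩ := hodd
      have e : (proj 2 F g * y) ^ orderOf y = proj 2 F g := by
        rw [hxy.mul_pow, pow_orderOf_eq_one, mul_one, hj, pow_succ, pow_mul, hx2, one_pow, one_mul]
      have := Subgroup.npow_mem_zpowers (proj 2 F g * y) (orderOf y)
      rwa [e] at this
    exact ⟨_, mul_mem hxG hyG, hofpow _ hmem, hs2 ▸ hy2, hmem⟩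

include hG in
/-- In dimension two the Borel subgroups give a smaller cover. -/
theorem no_cover_two (hq : 4 ≤ Fintype.card F) (𝓐 : Finset (Subgroup G))
    (hcov : (∀ A ∈ 𝓐, A ≠ ⊤) ∧ (∀ g : G, ∃ A ∈ 𝓐, g ∈ A))
    (hmin : ∀ 𝓑 : Finset (Subgroup G), (∀ A ∈ 𝓑, A ≠ ⊤) ∧ (∀ g : G, ∃ A ∈ 𝓑, g ∈ A) → 𝓐.card ≤ 𝓑.card)
    (hnil : ∀ A ∈ 𝓐, Group.IsNilpotent A) : False := by
  classical
  haveI : Finite (PQ 2 F) := inferInstance
  haveI : Fintype (PQ 2 F) := Fintype.ofFinite _
  set p := ringChar F with hp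
  haveI : CharP F p := ringChar.charP F
  haveI hpf : Fact p.Prime := ⟨CharP.char_is_prime F p⟩
  let bor : PQ 2 F → Subgroup G := fun h =>
    ((borelBar 2 F).map (MulAut.conj h).toMonoidHom).subgroupOf G
  have hbor : ∀ h (x : G), x ∈ bor h ↔ h⁻¹ * (x : PQ 2 F) * h ∈ borelBar 2 F := fun h x => by
    simp only [bor, Subgroup.mem_subgroupOf, Subgroup.mem_map_equiv]; simp
  let lw : GL (Fin 2) F := GeneralLinearGroup.mkOfDetNeZero !![1, 0; 1, 1] (by simp [Matrix.det_fin_two])
  have hlw : lw ∉ borel 2 F := fun h => by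
    have := mem_triGL.1 h 1 0 (by simp); simp [lw] at this
  have hproper : ∀ h, bor h ≠ ⊤ := by
    intro h htop
    obtain ⟨g, rfl⟩ := QuotientGroup.mk'_surjective _ h
    have hx : proj 2 F (g * lw * g⁻¹) ∈ G := proj_mem_of_det G hG (by
      rw [Units.val_mul, Units.val_mul, det_units_conj]; simp [lw, Matrix.det_fin_two])
    have h1 := (hbor _ ⟨_, hx⟩).1 (htop ▸ Subgroup.mem_top _)
    rw [← map_inv, ← map_mul, ← map_mul, proj_mem_borelBar,
      show g⁻¹ * (g * lw * g⁻¹) * g = lw by group] at h1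
    exact hlw h1
  choose f hf hfm using fun h : PQ 2 F => hcov.2 ⟨h * jbar 2 F * h⁻¹, conj_jbar_mem G hG h⟩
  have hfB : ∀ h, f h ≤ bor h := fun h x hx =>
    nilpotent_le_conj (isNilpotent_map G (hnil _ (hf h))) (Subgroup.mem_map_of_mem G.subtype (hfm h))
      (Subgroup.mem_map_of_mem G.subtype hx)
  set 𝔅 : Finset (Subgroup G) := Finset.univ.image bor
  set 𝒮 := 𝓐.filter (fun A => HasElliptic A)
  have hcover : 𝓐.card ≤ (𝔅 ∪ 𝒮).card := hmin _ ⟨fun A hA => by
    rcases Finset.mem_union.1 hA with hA | hA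
    · obtain ⟨h, -, rfl⟩ := Finset.mem_image.1 hA; exact hproper h
    · exact hcov.1 A (Finset.mem_filter.1 hA).1, fun x => by
    by_cases hx : Elliptic (x : PQ 2 F)
    · obtain ⟨s, hs, hse, hs2, hxs⟩ : ∃ s ∈ G, Elliptic s ∧ s ^ 2 ≠ 1 ∧ (x : PQ 2 F) ∈ Subgroup.zpowers s := by
        by_cases hx2 : (x : PQ 2 F) ^ 2 = 1
        · exact exists_root G hG hq x.2 hx hx2
        · exact ⟨x, x.2, hx, hx2, Subgroup.mem_zpowers _⟩
      obtain ⟨A, hA, hsA⟩ := hcov.2 ⟨s, hs⟩
      refine ⟨A, Finset.mem_union_right _ (Finset.mem_filter.2 ⟨hA, ⟨s, hs⟩, hsA, hse, hs2⟩), ?_⟩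
      obtain ⟨i, hi⟩ := Subgroup.mem_zpowers_iff.1 hxs
      rw [show x = (⟨s, hs⟩ : G) ^ i from Subtype.ext hi.symm]
      exact zpow_mem hsA i
    · obtain ⟨h, hh⟩ : ∃ h, h⁻¹ * (x : PQ 2 F) * h ∈ borelBar 2 F := by simpa [Elliptic] using hx
      exact ⟨bor h, Finset.mem_union_left _ (Finset.mem_image_of_mem _ (Finset.mem_univ _)), (hbor h x).2 hh⟩⟩
  -- representatives of the Borel subgroups
  choose! r hr using fun C (hC : C ∈ 𝔅) => Finset.mem_image.1 hC
  have hinj : Set.InjOn (fun C => f (r C)) (𝔅 : Set (Subgroup G)) := by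
    intro C hC C' hC' he
    have h1 := (hbor _ _).1 (hfB (r C) (show (⟨r C' * jbar 2 F * (r C')⁻¹, _⟩ : G) ∈ f (r C) from
      (show f (r C) = f (r C') from he) ▸ hfm (r C')))
    have h2 : ((r C')⁻¹ * r C) ∈ borelBar 2 F := mem_borelBar_of_conj (by
      rwa [show ((r C')⁻¹ * r C)⁻¹ * jbar 2 F * ((r C')⁻¹ * r C) =
        (r C)⁻¹ * (r C' * jbar 2 F * (r C')⁻¹) * r C by group])
    rw [← (hr C hC).2, ← (hr C' hC').2]
    ext x
    rw [hbor, hbor]
    constructor
    · intro hx
      rw [show (r C')⁻¹ * (x : PQ 2 F) * r C' =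
        (r C')⁻¹ * r C * ((r C)⁻¹ * (x : PQ 2 F) * r C) * ((r C')⁻¹ * r C)⁻¹ by group]
      exact mul_mem (mul_mem h2 hx) (inv_mem h2)
    · intro hx
      rw [show (r C)⁻¹ * (x : PQ 2 F) * r C =
        ((r C')⁻¹ * r C)⁻¹ * ((r C')⁻¹ * (x : PQ 2 F) * r C') * ((r C')⁻¹ * r C) by group]
      exact mul_mem (mul_mem (inv_mem h2) hx) h2
  set 𝒰 := 𝔅.image (fun C => f (r C))
  have hU : 𝒰.card = 𝔅.card := Finset.card_image_of_injOn hinj
  -- the member containing a diagonal element
  obtain ⟨a, ha, ha4⟩ := exists_unit_diag hq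
  set t := proj 2 F (diagEl a) with ht
  have htG : t ∈ G := proj_mem_of_det G hG (by simp [coe_diagEl, Matrix.det_fin_two])
  obtain ⟨A, hA, htA⟩ := hcov.2 ⟨t, htG⟩
  have hAnil := isNilpotent_map G (hnil A hA)
  have htA' : t ∈ A.map G.subtype := Subgroup.mem_map_of_mem G.subtype htA
  have htord : t ^ (Fintype.card F - 1) = 1 := by
    have ha1 : a ^ (Fintype.card F - 1) = 1 := by
      rw [← Fintype.card_units]; exact pow_card_eq_one
    rw [ht, ← map_pow]
    have e : ((diagEl a ^ (Fintype.card F - 1) : GL (Fin 2) F) : Matrix (Fin 2) (Fin 2) F) = 1 := by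
      rw [Units.val_pow_eq_pow_val, coe_diagEl,
        show !![(a : F), 0; 0, ((a⁻¹ : Fˣ) : F)] = Matrix.diagonal ![(a : F), ((a⁻¹ : Fˣ) : F)] by
          ext i j; fin_cases i <;> fin_cases j <;> simp,
        Matrix.diagonal_pow, ← Matrix.diagonal_one]
      congr 1
      funext i
      fin_cases i
      · simp [← Units.val_pow_eq_pow_val, ha1]
      · simp only [Pi.pow_apply]
        show ((a⁻¹ : Fˣ) : F) ^ _ = 1
        rw [← Units.val_pow_eq_pow_val, inv_pow, ha1, inv_one, Units.val_one]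
    rw [show diagEl a ^ (Fintype.card F - 1) = 1 from Units.ext e, map_one]
  have hcomm : ∀ y ∈ A.map G.subtype, ∀ N : ℕ, y ^ N = 1 → N.Coprime (orderOf t) → Commute y t := by
    intro y hy N hyN hN
    exact congrArg Subtype.val (CfsgLib.OddLocal.commute_of_coprime_of_isNilpotent hAnil
      (x := ⟨y, hy⟩) (y := ⟨t, htA'⟩) (by
        rw [Subgroup.orderOf_mk, Subgroup.orderOf_mk]
        exact hN.coprime_dvd_left (orderOf_dvd_of_pow_eq_one hyN))).eq
  have hAU : A ∉ 𝒰 := by
    intro hAU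
    obtain ⟨C, -, hC⟩ := Finset.mem_image.1 hAU
    obtain ⟨g, hg⟩ := QuotientGroup.mk'_surjective _ (r C)
    have hyA : r C * jbar 2 F * (r C)⁻¹ ∈ A.map G.subtype :=
      hC ▸ Subgroup.mem_map_of_mem G.subtype (hfm (r C))
    set m := g * jordan 2 F * g⁻¹ with hm
    have hym : r C * jbar 2 F * (r C)⁻¹ = proj 2 F m := by
      rw [hm, map_mul, map_mul, map_inv, jbar, ← hg]
    have hmp : proj 2 F m ^ p = 1 := by
      rw [← map_pow, hm, conj_pow, show jordan 2 F ^ p = 1 from Units.ext (by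
        rw [Units.val_pow_eq_pow_val, pow_jordan, CharP.cast_eq_zero]; exact Matrix.one_fin_two.symm)]
      simp
    have hne : proj 2 F m ≠ 1 := by
      rw [← hym]
      intro h
      have h1 : jbar 2 F = 1 := conj_eq_one_iff.1 h
      have h2 := (entries_of_proj_eq_one h1).1
      rw [coe_jordan] at h2
      simp [shiftMat] at h2
    obtain ⟨n', -, hn'⟩ := FiniteField.card F p
    have hcop : p.Coprime (orderOf t) := by
      refine Nat.Coprime.coprime_dvd_right (orderOf_dvd_of_pow_eq_one htord) ?_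
      refine hpf.out.coprime_iff_not_dvd.2 fun hd => hpf.out.ne_one (Nat.dvd_one.1 ?_)
      have h1 : p ∣ Fintype.card F := hn' ▸ dvd_pow_self p n'.ne_zero
      have := Nat.dvd_sub h1 hd
      rwa [show Fintype.card F - (Fintype.card F - 1) = 1 by omega] at this
    rcases commute_diag ha (hym ▸ hcomm _ hyA p (hym ▸ hmp) hcop) with ⟨e01, e10⟩ | ⟨e00, e11, ha4'⟩
    · refine hne (proj_eq_one e01 e10 ?_)
      obtain ⟨-, -, e⟩ := entries_of_proj_eq_one (g := m ^ p) (by rw [map_pow]; exact hmp)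
      rw [Units.val_pow_eq_pow_val,
        show (m : Matrix (Fin 2) (Fin 2) F) = Matrix.diagonal ![(m : Matrix (Fin 2) (Fin 2) F) 0 0,
          (m : Matrix (Fin 2) (Fin 2) F) 1 1] by
          ext i j; fin_cases i <;> fin_cases j <;> simp [e01, e10],
        Matrix.diagonal_pow] at e
      simp at e
      exact frobenius_inj F p e
    · have hsq : proj 2 F m ^ 2 = 1 := by
        rw [← map_pow]
        apply proj_eq_one <;>
          simp [Units.val_pow_eq_pow_val, pow_two, Matrix.mul_apply, Matrix.vecMul, dotProduct, Fin.sum_univ_two, e00, e11, mul_comm]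
      by_cases hp2 : p = 2
      · rcases ha4 with ha4 | h5
        · exact ha4 ha4'
        · have : (2 : ℕ) ∣ 5 := h5 ▸ hn' ▸ hp2 ▸ dvd_pow_self p n'.ne_zero
          norm_num at this
      · have h1 := orderOf_dvd_of_pow_eq_one hmp
        have h2 := orderOf_dvd_of_pow_eq_one hsq
        exact hne (orderOf_eq_one_iff.1 (Nat.eq_one_of_dvd_coprimes
          ((Nat.coprime_primes hpf.out Nat.prime_two).2 hp2) h1 h2))
  have hAS : A ∉ 𝒮 := by
    intro hAS
    obtain ⟨-, s, hsA, hse, hs2⟩ := Finset.mem_filter.1 hAS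
    obtain ⟨g, hg⟩ := QuotientGroup.mk'_surjective _ (s : PQ 2 F)
    rw [← hg] at hse hs2
    have hsA' : proj 2 F g ∈ A.map G.subtype := hg ▸ Subgroup.mem_map_of_mem G.subtype hsA
    have hc := elliptic_lower hse
    rcases ha4 with ha4 | h5
    · set D := (monoGL F).map (proj 2 F)
      have hcm : Subgroup.center (GL (Fin 2) F) ≤ monoGL F := fun z hz => by
        obtain ⟨c, -, e⟩ := center_entries hz
        exact Or.inl (by simp [e])
      have hD : ∀ {m}, proj 2 F m ∈ D ↔ m ∈ monoGL F := fun {m} => by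
        rw [← Subgroup.mem_comap, Subgroup.comap_map_eq, QuotientGroup.ker_mk', sup_eq_left.2 hcm]
      have hAD : A.map G.subtype ≤ D := by
        refine nilpotent_le hAnil htA' (hD.2 (Or.inl (by simp [coe_diagEl]))) fun x _ hx => ?_
        obtain ⟨m, rfl⟩ := QuotientGroup.mk'_surjective _ x
        rw [ht, ← map_inv, ← map_mul, ← map_mul] at hx
        refine hD.2 ?_
        set M := m⁻¹ * diagEl a * m with hM
        have e : (diagEl a : Matrix (Fin 2) (Fin 2) F) * (m : Matrix (Fin 2) (Fin 2) F) =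
            (m : Matrix (Fin 2) (Fin 2) F) * (M : Matrix (Fin 2) (Fin 2) F) := by
          rw [← Units.val_mul, ← Units.val_mul, hM]; congr 1; group
        rcases hD.1 hx with ⟨M01, M10⟩ | ⟨M00, M11⟩
        · have hne : (a : F) ≠ ((a⁻¹ : Fˣ) : F) := fun h => ha (by
            rw [pow_two]; exact mul_eq_one_iff_eq_inv.2 (Units.ext h))
          have e00 := congrFun (congrFun e 0) 0
          have e10 := congrFun (congrFun e 1) 0
          have e01 := congrFun (congrFun e 0) 1
          have e11 := congrFun (congrFun e 1) 1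
          simp [coe_diagEl, Matrix.mul_apply, Matrix.vecMul, dotProduct, Fin.sum_univ_two, M01, M10] at e00 e10 e01 e11
          have hdet : (m : Matrix (Fin 2) (Fin 2) F) 0 0 * (m : Matrix (Fin 2) (Fin 2) F) 1 1 -
              (m : Matrix (Fin 2) (Fin 2) F) 0 1 * (m : Matrix (Fin 2) (Fin 2) F) 1 0 ≠ 0 := by
            rw [← Matrix.det_fin_two]
            exact ((Matrix.isUnit_iff_isUnit_det _).1 m.isUnit).ne_zero
          by_cases h00 : (m : Matrix (Fin 2) (Fin 2) F) 0 0 = 0
          · right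
            refine ⟨h00, ?_⟩
            have h01 : (m : Matrix (Fin 2) (Fin 2) F) 0 1 ≠ 0 := fun h => hdet (by rw [h00, h]; ring)
            by_contra h11
            exact hne (by
              have u1 : (a : F) = (M : Matrix (Fin 2) (Fin 2) F) 1 1 :=
                mul_left_cancel₀ h01 (by linear_combination e01)
              have u2 : ((a⁻¹ : Fˣ) : F) = (M : Matrix (Fin 2) (Fin 2) F) 1 1 :=
                mul_left_cancel₀ h11 (by rw [Units.val_inv_eq_inv_val]; linear_combination e11)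
              rw [u1, u2])
          · left
            have u0 : (a : F) = (M : Matrix (Fin 2) (Fin 2) F) 0 0 :=
              mul_left_cancel₀ h00 (by linear_combination e00)
            have h10 : (m : Matrix (Fin 2) (Fin 2) F) 1 0 = 0 := by
              by_contra h
              have u2 : ((a⁻¹ : Fˣ) : F) = (M : Matrix (Fin 2) (Fin 2) F) 0 0 :=
                mul_left_cancel₀ h (by rw [Units.val_inv_eq_inv_val]; linear_combination e10)
              exact hne (by rw [u0, u2])
            refine ⟨?_, h10⟩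
            have h11 : (m : Matrix (Fin 2) (Fin 2) F) 1 1 ≠ 0 := fun h => hdet (by rw [h10, h]; ring)
            by_contra h01
            exact hne (by
              have u1 : (a : F) = (M : Matrix (Fin 2) (Fin 2) F) 1 1 :=
                mul_left_cancel₀ h01 (by linear_combination e01)
              have u2 : ((a⁻¹ : Fˣ) : F) = (M : Matrix (Fin 2) (Fin 2) F) 1 1 :=
                mul_left_cancel₀ h11 (by rw [Units.val_inv_eq_inv_val]; linear_combination e11)
              rw [u1, u2])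
        · exfalso
          have h1 : proj 2 F M ^ 2 = 1 := by
            rw [← map_pow]
            apply proj_eq_one <;>
              simp [Units.val_pow_eq_pow_val, pow_two, Matrix.mul_apply, Matrix.vecMul, dotProduct, Fin.sum_univ_two, M00, M11, mul_comm]
          rw [hM, map_mul, map_mul, map_inv] at h1
          have h2 : t ^ 2 = 1 := by
            have e2 := conj_pow (i := 2) (a := (proj 2 F m)⁻¹) (b := t)
            rw [inv_inv] at e2
            rw [ht] at e2
            rw [e2] at h1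
            have := congrArg (fun z => proj 2 F m * z * (proj 2 F m)⁻¹) h1
            simpa [mul_assoc, ht] using this
          rw [ht, ← map_pow] at h2
          obtain ⟨-, -, e2⟩ := entries_of_proj_eq_one h2
          refine ha4 (Units.ext ?_)
          simp [Units.val_pow_eq_pow_val, pow_two, coe_diagEl, Matrix.mul_apply, Matrix.vecMul, dotProduct, Fin.sum_univ_two] at e2
          field_simp at e2
          simpa [Units.val_pow_eq_pow_val] using (show (a : F) ^ 4 = 1 by linear_combination e2)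
      rcases hD.1 (hAD hsA') with ⟨-, e10⟩ | ⟨e00, e11⟩
      · exact hc e10
      · refine hs2 ?_
        rw [← map_pow]
        apply proj_eq_one <;>
          simp [Units.val_pow_eq_pow_val, pow_two, Matrix.mul_apply, Matrix.vecMul, dotProduct, Fin.sum_univ_two, e00, e11, mul_comm]
    · have h6 := pow_six_eq_one h5 hse
      have hdvd : orderOf t ∣ 4 := by
        have := orderOf_dvd_of_pow_eq_one htord
        rwa [h5] at this
      have hcop : (3 : ℕ).Coprime (orderOf t) := Nat.Coprime.coprime_dvd_right hdvd (by decide)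
      have hcm : Commute (proj 2 F g ^ 2) t := hcomm _ (pow_mem hsA' 2) 3 (by rw [← pow_mul]; exact h6) hcop
      rw [← map_pow] at hcm
      have htr : (g : Matrix (Fin 2) (Fin 2) F).trace ≠ 0 := fun h0 => hs2 (by
        rw [← map_pow]
        apply proj_eq_one <;> rw [Units.val_pow_eq_pow_val, pow_two, sq_eq, h0] <;> simp)
      rcases commute_diag ha hcm with ⟨-, e10⟩ | ⟨e00, e11, -⟩
      · rw [Units.val_pow_eq_pow_val, pow_two, sq_eq] at e10
        simp at e10
        exact e10.elim htr hc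
      · refine hs2 ?_
        have h4 : (proj 2 F g ^ 2) ^ 2 = 1 := by
          rw [← map_pow, ← map_pow]
          have e : (((g ^ 2) ^ 2 : GL (Fin 2) F) : Matrix (Fin 2) (Fin 2) F) =
              ((g ^ 2 : GL (Fin 2) F) : Matrix (Fin 2) (Fin 2) F) * ((g ^ 2 : GL (Fin 2) F) : Matrix (Fin 2) (Fin 2) F) := by
            rw [← Units.val_mul, ← pow_two]
          apply proj_eq_one <;> rw [e] <;>
            simp [-Units.val_pow_eq_pow_val, Matrix.mul_apply, Fin.sum_univ_two, e00, e11, mul_comm]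
        have h3 : (proj 2 F g ^ 2) ^ 3 = 1 := by rw [← pow_mul]; exact h6
        rwa [pow_succ, h4, one_mul] at h3
  have hdisj : Disjoint 𝒰 𝒮 := Finset.disjoint_left.2 fun B hB hBS => by
    obtain ⟨C, hC, rfl⟩ := Finset.mem_image.1 hB
    obtain ⟨-, x, hx, hxe, -⟩ := Finset.mem_filter.1 hBS
    exact hxe (r C) ((hbor _ _).1 (hfB (r C) hx))
  have hsub : insert A (𝒰 ∪ 𝒮) ⊆ 𝓐 := by
    intro B hB
    rcases Finset.mem_insert.1 hB with rfl | hB
    · exact hA
    rcases Finset.mem_union.1 hB with hB | hB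
    · obtain ⟨C, -, rfl⟩ := Finset.mem_image.1 hB; exact hf _
    · exact (Finset.mem_filter.1 hB).1
  have h1 := Finset.card_le_card hsub
  rw [Finset.card_insert_of_notMem (by simp [hAU, hAS]), Finset.card_union_of_disjoint hdisj, hU] at h1
  have h2 := Finset.card_union_le 𝔅 𝒮
  omega

end Two

end CfsgLib.Coprime.CoverPGL
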