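import Cfsg.Agent.Lib.Transfer.Frobenius
import Mathlib.Algebra.Group.Conj
import Mathlib.GroupTheory.ClassEquation
import Mathlib.Tactic
set_option autoImplicit false

/-!
Counting classes of `p`-elements and `π`-elements.
-/

namespace CfsgLib.Coprime

open Subgroup

variable {G : Type*} [Group G] [Finite G]

/-- The classes of `p`-elements. -/
abbrev pClasses (p : ℕ) (G : Type*) [Group G] : Type _ :=
  {c : ConjClasses G // ∀ x ∈ c.carrier, ∃ k : ℕ, orderOf x = p ^ k}

theorem exists_sylow_rep {p : ℕ} [Fact p.Prime] (P : Sylow p G) (c : pClasses p G) :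
    ∃ x : P, ConjClasses.mk (x : G) = c.1 := by
  obtain ⟨⟨g⟩, hc⟩ := c
  obtain ⟨k, hk⟩ := hc g ConjClasses.mem_carrier_mk
  have hz : IsPGroup p (zpowers g) := IsPGroup.of_card (by rw [Nat.card_zpowers, hk])
  obtain ⟨Q, hQ⟩ := hz.exists_le_sylow
  obtain ⟨t, ht⟩ := MulAction.exists_smul_eq G Q P
  refine ⟨⟨t * g * t⁻¹, ?_⟩, ?_⟩
  · have h1 : (MulAut.conj t).toMonoidHom g ∈ (Q : Subgroup G).map (MulAut.conj t).toMonoidHom :=
      ⟨g, hQ (mem_zpowers g), rfl⟩
    rw [← ht]
    exact h1
  · exact (ConjClasses.mk_eq_mk_iff_isConj.mpr (isConj_iff.mpr ⟨t, rfl⟩)).symm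

theorem isConj_mem_pClasses {p : ℕ} [Fact p.Prime] {P : Subgroup G} (hP : IsPGroup p P)
    (x : P) : ∀ y ∈ (ConjClasses.mk (x : G)).carrier, ∃ k : ℕ, orderOf y = p ^ k := by
  intro y hy
  rw [ConjClasses.mem_carrier_iff_mk_eq, ConjClasses.mk_eq_mk_iff_isConj, isConj_iff] at hy
  obtain ⟨c, hc⟩ := hy
  obtain ⟨k, hk⟩ := (IsPGroup.iff_orderOf).mp hP x
  refine ⟨k, ?_⟩
  rw [← hk, Subgroup.orderOf_coe x |>.symm]
  rw [← hc]
  exact (MulEquiv.orderOf_eq (MulAut.conj c) y).symm

/-- `k_p(G) ≤ k(P)`. -/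
theorem card_pClasses_le_conjClasses {p : ℕ} [Fact p.Prime] (P : Sylow p G) :
    Nat.card (pClasses p G) ≤ Nat.card (ConjClasses (P : Subgroup G)) := by
  choose f hf using exists_sylow_rep P
  refine Nat.card_le_card_of_injective (fun c => ConjClasses.mk (f c)) fun a b h => Subtype.ext ?_
  obtain ⟨u, hu⟩ := isConj_iff.mp (ConjClasses.mk_eq_mk_iff_isConj.mp h)
  rw [← hf a, ← hf b, ConjClasses.mk_eq_mk_iff_isConj, isConj_iff]
  exact ⟨u, congrArg Subtype.val hu⟩

/-- If some `g ∈ N(P)` moves `P`, then `2 p k_p(G) ≤ (p+1) |P|`. -/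
theorem card_pClasses_mul_le_of_normalizer {p : ℕ} [hp : Fact p.Prime] (P : Sylow p G) {g : G}
    (hg : g ∈ normalizer ((P : Subgroup G) : Set G))
    (hgC : g ∉ centralizer ((P : Subgroup G) : Set G)) :
    2 * p * Nat.card (pClasses p G) ≤ (p + 1) * Nat.card (P : Subgroup G) := by
  classical
  let K : Subgroup G := (P : Subgroup G)
  have hgm : ∀ x : G, x ∈ K → g * x * g⁻¹ ∈ K := fun x hx => (mem_normalizer_iff.mp hg x).mp hx
  let C : Subgroup G := K ⊓ centralizer ({g} : Set G)
  have hCK : C ≤ K := inf_le_left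
  have hidx : p * Nat.card C ≤ Nat.card K := by
    obtain ⟨k, hk⟩ := IsPGroup.iff_card.mp P.isPGroup'
    have hdvd : Nat.card C ∣ p ^ k := hk ▸ card_dvd_of_le hCK
    obtain ⟨j, hjk, hj⟩ := (Nat.dvd_prime_pow hp.out).mp hdvd
    have hne : j ≠ k := fun he => hgC (by
      have h1 : C = K := eq_of_le_of_card_ge hCK (by rw [hj, he]; exact hk.le)
      rw [mem_centralizer_iff]
      intro x hx
      have h2 : x ∈ C := by rw [h1]; exact hx
      exact mem_centralizer_singleton_iff.mp (mem_inf.mp h2).2)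
    show p * Nat.card C ≤ Nat.card (P : Subgroup G)
    rw [hj, hk, ← pow_succ']
    exact Nat.pow_le_pow_right hp.out.pos (by omega)
  have := Fintype.ofFinite G
  have := Fintype.ofFinite (pClasses p G)
  let f : G → ConjClasses G := ConjClasses.mk
  let S₁ : Finset G := Finset.univ.filter (fun x => x ∈ C)
  let S₂ : Finset G := Finset.univ.filter (fun x => x ∈ K ∧ x ∉ C)
  have hk : Nat.card (pClasses p G) ≤ (S₁.image f).card + (S₂.image f).card := by
    refine le_trans ?_ (Finset.card_union_le _ _)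
    rw [Nat.card_eq_fintype_card, ← Finset.card_univ,
      ← Finset.card_image_of_injective Finset.univ (Subtype.val_injective)]
    refine Finset.card_le_card fun c hc => ?_
    obtain ⟨c', -, rfl⟩ := Finset.mem_image.mp hc
    obtain ⟨x, hx⟩ := exists_sylow_rep P c'
    rw [Finset.mem_union, Finset.mem_image, Finset.mem_image]
    by_cases hxC : (x : G) ∈ C
    · exact Or.inl ⟨x, by simp [S₁, hxC], hx⟩
    · exact Or.inr ⟨x, by simp [S₂, K, hxC], hx⟩
  have h2 : 2 * (S₂.image f).card ≤ S₂.card := by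
    have := Finset.mul_card_image_le_card (f := f) S₂ 2 (fun c hc => ?_)
    · exact this
    obtain ⟨x, hx, rfl⟩ := Finset.mem_image.mp hc
    obtain ⟨hxK, hxC⟩ := (Finset.mem_filter.mp hx).2
    have hne : g * x * g⁻¹ ≠ x := fun he => hxC (mem_inf.mpr ⟨hxK,
      mem_centralizer_singleton_iff.mpr (by
        calc x * g = g * x * g⁻¹ * g := by rw [he]
          _ = g * x := by group)⟩)
    have hC' : g * x * g⁻¹ ∉ C := fun hm => hne (by
      have h3 := mem_centralizer_singleton_iff.mp (mem_inf.mp hm).2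
      rw [show g * x * g⁻¹ * g = g * x by group] at h3
      have h4 : x = g * x * g⁻¹ := mul_left_cancel h3
      exact h4.symm)
    refine Finset.one_lt_card.mpr ⟨x, Finset.mem_filter.mpr ⟨hx, rfl⟩, g * x * g⁻¹,
      Finset.mem_filter.mpr ⟨by simp [S₂, hgm x hxK, hC'], ?_⟩, Ne.symm hne⟩
    exact (ConjClasses.mk_eq_mk_iff_isConj.mpr (isConj_iff.mpr ⟨g, rfl⟩)).symm
  have hS₁ : S₁.card = Nat.card C := by
    rw [Nat.card_eq_fintype_card, Fintype.card_subtype]
  have hS : S₁.card + S₂.card = Nat.card K := by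
    rw [Nat.card_eq_fintype_card, Fintype.card_subtype, ← Finset.card_union_of_disjoint]
    · congr 1
      ext x
      simp only [S₁, S₂, Finset.mem_union, Finset.mem_filter, Finset.mem_univ, true_and]
      exact ⟨fun h => h.elim (fun h => hCK h) And.left, fun h => by tauto⟩
    · rw [Finset.disjoint_filter]
      exact fun x _ h => fun h' => h'.2 h
  have h1 : (S₁.image f).card ≤ S₁.card := Finset.card_image_le
  show 2 * p * Nat.card (pClasses p G) ≤ (p + 1) * Nat.card K
  nlinarith [hidx, hS, hS₁, h2, h1, hk, hp.out.pos]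

/-- A nonabelian `p`-group has `2 p k(P) ≤ (p+1) |P|`. -/
theorem card_conjClasses_mul_le_of_not_comm {P : Type*} [Group P] [Finite P] {p : ℕ}
    [hp : Fact p.Prime] (hP : IsPGroup p P) (hna : ¬ IsMulCommutative P) :
    2 * p * Nat.card (ConjClasses P) ≤ (p + 1) * Nat.card P := by
  classical
  have := Fintype.ofFinite P
  have := Fintype.ofFinite (ConjClasses P)
  let Z : Subgroup P := center P
  have hZ : p ^ 2 * Nat.card Z ≤ Nat.card P := by
    obtain ⟨n, hn⟩ := IsPGroup.iff_card.mp hP
    rw [← Z.card_mul_index, mul_comm (p ^ 2)]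
    refine Nat.mul_le_mul_left _ ?_
    obtain ⟨j, hjn, hj⟩ := (Nat.dvd_prime_pow hp.out).mp (hn ▸ Z.index_dvd_card)
    rw [hj]
    refine Nat.pow_le_pow_right hp.out.pos ?_
    by_contra hlt
    apply hna
    have : IsCyclic (P ⧸ Z) := by
      interval_cases j
      · rw [pow_zero] at hj
        have : Subsingleton (P ⧸ Z) := by
          rw [← Finite.card_le_one_iff_subsingleton, ← index_eq_card, hj]
        infer_instance
      · exact isCyclic_of_prime_card (p := p) (by rw [← index_eq_card, hj, pow_one])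
    exact isMulCommutative_of_isCyclic_quotient_center_self P
  have key : ∀ c : ConjClasses P, p ≤ Nat.card c.carrier + if c.carrier ⊆ (Z : Set P) then p - 1 else 0 := by
    intro c
    obtain ⟨x, rfl⟩ := ConjClasses.exists_rep c
    by_cases hsub : (ConjClasses.mk x).carrier ⊆ (Z : Set P)
    · rw [if_pos hsub]
      have : 0 < Nat.card (ConjClasses.mk x).carrier := Nat.card_pos_iff.mpr
        ⟨⟨⟨x, ConjClasses.mem_carrier_mk⟩⟩, inferInstance⟩
      omega
    · rw [if_neg hsub, add_zero]
      have h1 : Nat.card (ConjClasses.mk x).carrier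
          = (MulAction.stabilizer (ConjAct P) x).index := by
        rw [MulAction.index_stabilizer, Nat.card_coe_set_eq]
        congr 1
        ext y
        rw [ConjClasses.mem_carrier_iff_mk_eq, ConjClasses.mk_eq_mk_iff_isConj,
          ConjAct.mem_orbit_conjAct]
      obtain ⟨j, hj⟩ := (IsPGroup.of_equiv hP ConjAct.toConjAct).index
        (MulAction.stabilizer (ConjAct P) x)
      rw [h1, hj]
      cases j with
      | zero =>
        exfalso
        apply hsub
        rw [pow_zero, Subgroup.index_eq_one] at hj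
        intro y hy
        rw [ConjClasses.mem_carrier_iff_mk_eq, ConjClasses.mk_eq_mk_iff_isConj, isConj_iff] at hy
        have hx : x ∈ center P := by
          rw [mem_center_iff]
          intro g
          have h2 : ConjAct.toConjAct g • x = x := by
            rw [← MulAction.mem_stabilizer_iff, hj]; exact mem_top _
          rw [ConjAct.toConjAct_smul] at h2
          calc g * x = g * x * g⁻¹ * g := by group
            _ = x * g := by rw [h2]
        obtain ⟨c, hc⟩ := hy
        have h3 : c⁻¹ * x * c = y := by rw [← hc]; group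
        have h4 : c⁻¹ * x * c = x := by
          rw [mem_center_iff.mp hx c⁻¹, inv_mul_cancel_right]
        show y ∈ center P
        rw [← h3, h4]; exact hx
      | succ j => exact Nat.le_self_pow (by omega) p
  have hsum : ∑ c : ConjClasses P, (Nat.card c.carrier + if c.carrier ⊆ (Z : Set P) then p - 1 else 0)
      ≤ Nat.card P + (p - 1) * Nat.card Z := by
    rw [Finset.sum_add_distrib]
    refine Nat.add_le_add ?_ ?_
    · rw [Nat.card_eq_fintype_card]
      exact le_of_eq ((Finset.sum_congr rfl fun c _ => by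
        rw [Nat.card_coe_set_eq, Set.ncard_eq_toFinset_card']).trans
        (sum_conjClasses_card_eq_card P))
    · rw [← Finset.sum_filter, Finset.sum_const, smul_eq_mul, mul_comm]
      refine Nat.mul_le_mul_left _ ?_
      choose r hr using fun c : ConjClasses P => ConjClasses.exists_rep c
      calc _ = ((Finset.univ.filter fun c : ConjClasses P => c.carrier ⊆ (Z : Set P)).image r).card :=
            (Finset.card_image_of_injective _ fun a b h => by rw [← hr a, ← hr b, h]).symm
        _ ≤ (Finset.univ.filter fun x : P => x ∈ Z).card := Finset.card_le_card fun x hx => by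
            obtain ⟨c, hc, rfl⟩ := Finset.mem_image.mp hx
            refine Finset.mem_filter.mpr ⟨Finset.mem_univ _, (Finset.mem_filter.mp hc).2 ?_⟩
            rw [ConjClasses.mem_carrier_iff_mk_eq, hr c]
        _ = Nat.card Z := by rw [Nat.card_eq_fintype_card, Fintype.card_subtype]
  have hk : p * Nat.card (ConjClasses P) ≤ Nat.card P + (p - 1) * Nat.card Z := by
    refine le_trans ?_ hsum
    rw [Nat.card_eq_fintype_card, mul_comm, ← Finset.card_univ, ← smul_eq_mul, ← Finset.sum_const]
    exact Finset.sum_le_sum fun c _ => key c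
  have hp2 := hp.out.two_le
  obtain ⟨q, rfl⟩ : ∃ q, p = q + 2 := ⟨p - 2, by omega⟩
  rw [show q + 2 - 1 = q + 1 by omega] at hk
  set k := Nat.card (ConjClasses P)
  set z := Nat.card Z
  set n := Nat.card P
  have h5 : 2 * (q + 2) ^ 2 * ((q + 2) * k) ≤ 2 * ((q + 2) ^ 2 * n) + 2 * (q + 1) * n := by
    nlinarith [Nat.mul_le_mul_left (2 * (q + 2) ^ 2) hk, Nat.mul_le_mul_left (2 * (q + 1)) hZ]
  have h7 : 0 ≤ (q * (q + 2) * (q + 3) + 2) * n := Nat.zero_le _
  have h6 : (q + 2) ^ 2 * (2 * (q + 2) * k) ≤ (q + 2) ^ 2 * ((q + 2 + 1) * n) := by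
    calc (q + 2) ^ 2 * (2 * (q + 2) * k) = 2 * (q + 2) ^ 2 * ((q + 2) * k) := by ring
      _ ≤ 2 * ((q + 2) ^ 2 * n) + 2 * (q + 1) * n := h5
      _ ≤ 2 * ((q + 2) ^ 2 * n) + 2 * (q + 1) * n + (q * (q + 2) * (q + 3) + 2) * n :=
          Nat.le_add_right _ _
      _ = (q + 2) ^ 2 * ((q + 2 + 1) * n) := by ring
  exact Nat.le_of_mul_le_mul_left h6 (by positivity)

/-- The `p`-class bound forces an abelian Sylow subgroup and a normal `p`-complement. -/
theorem abelian_and_complement_of_lt {p : ℕ} [Fact p.Prime] (P : Sylow p G)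
    (h : (p + 1) * Nat.card (P : Subgroup G) < 2 * p * Nat.card (pClasses p G)) :
    Cfsg.HasNormalPComplement p G ∧ IsMulCommutative (P : Subgroup G) := by
  have hab : IsMulCommutative (P : Subgroup G) := by
    by_contra hna
    refine absurd ?_ (not_le.mpr h)
    exact le_trans (Nat.mul_le_mul_left _ (card_pClasses_le_conjClasses P))
      (card_conjClasses_mul_le_of_not_comm P.isPGroup' hna)
  refine ⟨CfsgLib.Transfer.hasNormalPComplement_of_normalizer_le_centralizer P fun g hg => ?_, hab⟩
  by_contra hgC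
  exact absurd (card_pClasses_mul_le_of_normalizer P hg hgC) (not_le.mpr h)

theorem card_pClasses_le (p : ℕ) [Fact p.Prime] :
    Nat.card (pClasses p G) ≤ p ^ (Nat.card G).factorization p := by
  obtain ⟨P⟩ : Nonempty (Sylow p G) := inferInstance
  rw [← P.card_eq_multiplicity]
  exact (card_pClasses_le_conjClasses P).trans
    (Nat.card_le_card_of_surjective ConjClasses.mk ConjClasses.mk_surjective)

end CfsgLib.Coprime
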