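import Cfsg.Agent.Lib.Block.PSolvable
import Cfsg.Agent.Lib.StructC.PSolvableQuot
import Cfsg.Agent.Lib.Solvable.PCore
import Cfsg.Agent.Lib.PGroup.CyclicIndex
import Mathlib.GroupTheory.Sylow
import Mathlib.Tactic

/-!
Two elements of order `p` generating a `p`-solvable group with abelian `p`-subgroups: modulo the
`p'`-core they generate an elementary abelian group.
-/

set_option autoImplicit false
set_option linter.unusedSectionVars false

namespace CfsgLib.Coprime.PairPSolvable

open Cfsg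

variable {G : Type*} [Group G] [Finite G] {p : ℕ} [hp : Fact p.Prime]

/-- Every `p`-subgroup is commutative. -/
def AbelianPSub (p : ℕ) (G : Type*) [Group G] : Prop :=
  ∀ Q : Subgroup G, IsPGroup p Q → IsMulCommutative Q

theorem abelianPSub_of_sylow (P : Sylow p G) [IsMulCommutative (P : Subgroup G)] :
    AbelianPSub p G := by
  intro Q hQ
  obtain ⟨S, hS⟩ := hQ.exists_le_sylow
  have hSc : IsMulCommutative (S : Subgroup G) := by
    refine ⟨⟨fun a b => (S.equiv P).injective ?_⟩⟩
    rw [map_mul, map_mul]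
    exact (inferInstance : IsMulCommutative (P : Subgroup G)).is_comm.comm _ _
  exact ⟨⟨fun a b => Subtype.ext (congrArg Subtype.val
    (hSc.is_comm.comm ⟨a, hS a.2⟩ ⟨b, hS b.2⟩) : _)⟩⟩

theorem coprime_of_mem_pPrimeCore {x : G} (hx : x ∈ pPrimeCore p G) : ¬ p ∣ orderOf x := fun hd =>
  (hp.out.coprime_iff_not_dvd.1 (CfsgLib.Solvable.pPrimeCore_coprime p).symm)
    (hd.trans (Subgroup.orderOf_dvd_natCard _ hx))

/-- A `p`-solvable group generated by two elements of order `p`, with commutative `p`-subgroups. -/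
theorem pair_core (hab : AbelianPSub p G) (hs : IsPSolvable p G) {a b : G}
    (ha : orderOf a = p) (hb : orderOf b = p) (hgen : Subgroup.closure {a, b} = ⊤) :
    (∀ u : G, u ∈ pPrimeCore p G ↔ ¬ p ∣ orderOf u) ∧ (∀ u : G, u ^ p ∈ pPrimeCore p G) ∧
      (∀ u v : G, (u * v)⁻¹ * (v * u) ∈ pPrimeCore p G) := by
  have := CfsgLib.Solvable.pPrimeCore_normal p G
  set O := pPrimeCore p G with hO
  set π := QuotientGroup.mk' O with hπ
  have hcore : pPrimeCore p (G ⧸ O) = ⊥ := CfsgLib.Solvable.pPrimeCore_quotient_eq_bot p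
  obtain ⟨S⟩ := (inferInstance : Nonempty (Sylow p G))
  set Q := S.mapSurjective (f := π) (QuotientGroup.mk'_surjective O)
  have hQc : ∀ x ∈ (Q : Subgroup (G ⧸ O)), ∀ y ∈ (Q : Subgroup (G ⧸ O)), x * y = y * x := by
    intro x hx y hy
    obtain ⟨x, hx', rfl⟩ := hx
    obtain ⟨y, hy', rfl⟩ := hy
    rw [← map_mul, ← map_mul]
    exact congrArg π (congrArg Subtype.val ((hab _ S.2).is_comm.comm ⟨x, hx'⟩ ⟨y, hy'⟩))
  have := CfsgLib.Solvable.pCore_normal p (G ⧸ O)
  have hQn : (Q : Subgroup (G ⧸ O)) = pCore p (G ⧸ O) := by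
    refine le_antisymm (fun x hx => ?_) (CfsgLib.Solvable.pCore_le_sylow Q)
    refine CfsgLib.Block.centralizer_pCore_le_of_isPSolvable
      (CfsgLib.StructC.isPSolvable_quotient O hs) hcore ?_
    exact Subgroup.mem_centralizer_iff.2 fun y hy =>
      hQc y (CfsgLib.Solvable.pCore_le_sylow Q hy) x hx
  haveI : (Q : Subgroup (G ⧸ O)).Normal := hQn ▸ inferInstance
  have hmem : ∀ c : G, orderOf c = p → π c ∈ (Q : Subgroup (G ⧸ O)) := by
    intro c hc
    have h1 : IsPGroup p (Subgroup.zpowers c) :=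
      IsPGroup.of_card (n := 1) (by rw [Nat.card_zpowers, hc, pow_one])
    obtain ⟨T, hT⟩ := (h1.map π).exists_le_sylow
    obtain ⟨g, hg⟩ := MulAction.exists_smul_eq (G ⧸ O) T Q
    have h2 : π c ∈ (T : Subgroup (G ⧸ O)) :=
      hT ⟨c, Subgroup.mem_zpowers c, rfl⟩
    have h3 : g * π c * g⁻¹ ∈ (Q : Subgroup (G ⧸ O)) := by
      rw [← hg]
      exact Subgroup.smul_mem_pointwise_smul (π c) (MulAut.conj g) _ h2
    have h4 := (inferInstance : (Q : Subgroup (G ⧸ O)).Normal).conj_mem _ h3 g⁻¹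
    simpa [mul_assoc] using h4
  have hall : ∀ u : G, π u ∈ (Q : Subgroup (G ⧸ O)) := by
    intro u
    have h : Subgroup.closure {a, b} ≤ (Q : Subgroup (G ⧸ O)).comap π := by
      rw [Subgroup.closure_le]
      rintro x (rfl | rfl)
      exacts [hmem _ ha, hmem _ hb]
    exact h (hgen ▸ Subgroup.mem_top u)
  have hcomm : ∀ u v : G, π u * π v = π v * π u := fun u v => hQc _ (hall u) _ (hall v)
  have hpow : ∀ u : G, π u ^ p = 1 := by
    intro u
    let K : Subgroup G :=
      { carrier := {w | π w ^ p = 1}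
        one_mem' := by simp
        mul_mem' := fun {x y} hx hy => by
          show π (x * y) ^ p = 1
          rw [map_mul, Commute.mul_pow (hcomm x y), hx, hy, one_mul]
        inv_mem' := fun {x} hx => by
          show π x⁻¹ ^ p = 1
          rw [map_inv, inv_pow, hx, inv_one] }
    have h : Subgroup.closure {a, b} ≤ K := by
      rw [Subgroup.closure_le]
      rintro x (rfl | rfl)
      · show π x ^ p = 1
        rw [← map_pow, ← ha, pow_orderOf_eq_one, map_one]
      · show π x ^ p = 1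
        rw [← map_pow, ← hb, pow_orderOf_eq_one, map_one]
    exact h (hgen ▸ Subgroup.mem_top u)
  refine ⟨fun u => ⟨coprime_of_mem_pPrimeCore, fun hu => ?_⟩, fun u => ?_, fun u v => ?_⟩
  · rw [← QuotientGroup.eq_one_iff, ← orderOf_eq_one_iff]
    refine Nat.eq_one_of_dvd_coprimes (k := orderOf (π u)) ((hp.out.coprime_iff_not_dvd).2 hu) ?_
      (orderOf_map_dvd π u)
    exact orderOf_dvd_of_pow_eq_one (hpow u)
  · rw [← QuotientGroup.eq_one_iff]
    exact (map_pow π u p).trans (hpow u)
  · rw [← QuotientGroup.eq]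
    exact (map_mul π u v).trans ((hcomm u v).trans (map_mul π v u).symm)

section Pair

variable (hab : AbelianPSub p G) {a b : G} (ha : orderOf a = p) (hb : orderOf b = p)
  (hs : IsPSolvable p (Subgroup.closure ({a, b} : Set G)))

include hab ha hb hs

theorem pair_sub :
    ∃ O : Subgroup (Subgroup.closure ({a, b} : Set G)), O.Normal ∧
      (∀ u, u ∈ O ↔ ¬ p ∣ orderOf u) ∧ (∀ u, u ^ p ∈ O) ∧
      (∀ u v, (u * v)⁻¹ * (v * u) ∈ O) ∧ O = pPrimeCore p _ := by
  have hab' : AbelianPSub p (Subgroup.closure ({a, b} : Set G)) := by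
    intro Q hQ
    have hc := hab (Q.map (Subgroup.closure ({a, b} : Set G)).subtype) (hQ.map _)
    exact ⟨⟨fun u v => Subtype.ext (Subtype.ext (congrArg Subtype.val
      (hc.is_comm.comm ⟨_, Subgroup.mem_map_of_mem _ u.2⟩ ⟨_, Subgroup.mem_map_of_mem _ v.2⟩) : _))⟩⟩
  obtain ⟨h1, h2, h3⟩ := pair_core hab' hs
    (a := ⟨a, Subgroup.subset_closure (by simp)⟩) (b := ⟨b, Subgroup.subset_closure (by simp)⟩)
    (by rw [Subgroup.orderOf_mk, ha]) (by rw [Subgroup.orderOf_mk, hb]) (by
      refine Subgroup.map_injective (Subgroup.closure ({a, b} : Set G)).subtype_injective ?_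
      rw [MonoidHom.map_closure, ← MonoidHom.range_eq_map, Subgroup.range_subtype,
        Set.image_insert_eq, Set.image_singleton]
      rfl)
  exact ⟨_, CfsgLib.Solvable.pPrimeCore_normal p _, h1, h2, h3, rfl⟩

/-- Products in the generated group have `p`-part of order at most `p`. -/
theorem not_sq_dvd {u : G} (hu : u ∈ Subgroup.closure ({a, b} : Set G)) :
    ¬ p ^ 2 ∣ orderOf u := by
  obtain ⟨O, -, h1, h2, -, -⟩ := pair_sub hab ha hb hs
  intro hd
  have h := (h1 _).1 (h2 ⟨u, hu⟩)
  rw [← Subgroup.orderOf_coe, Subgroup.coe_pow] at h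
  apply h
  rw [orderOf_pow' _ hp.out.ne_zero, Nat.gcd_eq_right ((dvd_pow_self p two_ne_zero).trans hd)]
  exact (Nat.dvd_div_iff_mul_dvd ((dvd_pow_self p two_ne_zero).trans hd)).2 (by rwa [← sq])

/-- For odd `p` the products with `b` and with `b⁻¹` are not both regular. -/
theorem not_both_regular (h2p : p ≠ 2) (h1 : ¬ p ∣ orderOf (a * b)) :
    p ∣ orderOf (a * b⁻¹) := by
  obtain ⟨O, hn, hreg, -, -, -⟩ := pair_sub hab ha hb hs
  by_contra h
  set A : Subgroup.closure ({a, b} : Set G) := ⟨a, Subgroup.subset_closure (by simp)⟩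
  set B : Subgroup.closure ({a, b} : Set G) := ⟨b, Subgroup.subset_closure (by simp)⟩
  have e1 : A * B ∈ O := (hreg _).2 (by rwa [← Subgroup.orderOf_coe])
  have e2 : A * B⁻¹ ∈ O := (hreg _).2 (by rwa [← Subgroup.orderOf_coe])
  have e3 : B * B ∈ O := by
    have := O.mul_mem (O.inv_mem e2) e1
    simpa [mul_assoc] using this
  have hBo : orderOf B = p := by rw [← Subgroup.orderOf_coe]; exact hb
  have e4 : orderOf (B * B) = p := by
    rw [← sq, orderOf_pow' _ two_ne_zero, hBo,
      Nat.Coprime.gcd_eq_one ((hp.out.coprime_iff_not_dvd).2 fun hd => h2p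
        ((Nat.prime_dvd_prime_iff_eq hp.out Nat.prime_two).1 hd)), Nat.div_one]
  exact (hreg _).1 e3 (e4 ▸ dvd_rfl)

/-- A regular product forces conjugacy with the inverse. -/
theorem isConj_of_regular (h1 : ¬ p ∣ orderOf (a * b)) : IsConj a⁻¹ b := by
  obtain ⟨O, hn, hreg, -, -, hOdef⟩ := pair_sub hab ha hb hs
  set A : Subgroup.closure ({a, b} : Set G) := ⟨a, Subgroup.subset_closure (by simp)⟩ with hA
  set B : Subgroup.closure ({a, b} : Set G) := ⟨b, Subgroup.subset_closure (by simp)⟩ with hB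
  have hAo : orderOf A = p := by rw [← Subgroup.orderOf_coe]; exact ha
  have hBo : orderOf B = p := by rw [← Subgroup.orderOf_coe]; exact hb
  have hAB : A * B ∈ O := (hreg _).2 (by rwa [← Subgroup.orderOf_coe])
  set π := QuotientGroup.mk' O with hπ
  have eB : π B = (π A)⁻¹ := eq_inv_of_mul_eq_one_right (by
    rw [← map_mul]; exact (QuotientGroup.eq_one_iff _).2 hAB)
  have hπA : orderOf (π A) = p := by
    refine (hp.out.eq_one_or_self_of_dvd _ (hAo ▸ orderOf_map_dvd π A)).resolve_left fun h => ?_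
    rw [orderOf_eq_one_iff] at h
    exact (hreg A).1 ((QuotientGroup.eq_one_iff A).1 h) (hAo ▸ dvd_rfl)
  have htop : Subgroup.zpowers (π A) = ⊤ := by
    have h : (⊤ : Subgroup (Subgroup.closure ({a, b} : Set G))) ≤
        (Subgroup.zpowers (π A)).comap π := by
      have hg : Subgroup.closure ({A, B} : Set (Subgroup.closure ({a, b} : Set G))) = ⊤ := by
        refine Subgroup.map_injective (Subgroup.closure ({a, b} : Set G)).subtype_injective ?_
        rw [MonoidHom.map_closure, ← MonoidHom.range_eq_map, Subgroup.range_subtype,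
          Set.image_insert_eq, Set.image_singleton]
        rfl
      rw [← hg, Subgroup.closure_le]
      rintro x (rfl | rfl)
      · exact Subgroup.mem_zpowers (π A)
      · rw [SetLike.mem_coe, Subgroup.mem_comap, eB]
        exact Subgroup.inv_mem _ (Subgroup.mem_zpowers _)
    rw [eq_top_iff]
    intro x _
    obtain ⟨y, rfl⟩ := QuotientGroup.mk'_surjective O x
    exact h (Subgroup.mem_top y)
  have hidx : O.index = p := by
    rw [Subgroup.index_eq_card, ← hπA, ← Nat.card_zpowers, htop, Subgroup.card_top]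
  have hcard : Nat.card (Subgroup.closure ({a, b} : Set G)) = p * Nat.card O := by
    rw [← O.index_mul_card, hidx]
  have hsyl : ∀ C : Subgroup.closure ({a, b} : Set G), orderOf C = p →
      Nat.card (Subgroup.zpowers C) =
        p ^ (Nat.card (Subgroup.closure ({a, b} : Set G))).factorization p := by
    intro C hC
    have hcop : ¬ p ∣ Nat.card O := by
      rw [hOdef]
      exact hp.out.coprime_iff_not_dvd.1 (CfsgLib.Solvable.pPrimeCore_coprime p).symm
    rw [Nat.card_zpowers, hC, hcard, Nat.factorization_mul hp.out.ne_zero Nat.card_pos.ne',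
      Finsupp.add_apply, hp.out.factorization_self, Nat.factorization_eq_zero_of_not_dvd hcop,
      add_zero, pow_one]
  obtain ⟨g, hg⟩ := MulAction.exists_smul_eq (Subgroup.closure ({a, b} : Set G))
    (Sylow.ofCard (Subgroup.zpowers A) (hsyl A hAo)) (Sylow.ofCard (Subgroup.zpowers B) (hsyl B hBo))
  have hmem : g * A * g⁻¹ ∈ Subgroup.zpowers B := by
    have h := congrArg (fun S : Sylow p _ => (S : Subgroup (Subgroup.closure ({a, b} : Set G)))) hg
    simp only [Sylow.coe_ofCard, Sylow.coe_subgroup_smul] at h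
    rw [← h]
    exact Subgroup.smul_mem_pointwise_smul A (MulAut.conj g) _ (Subgroup.mem_zpowers A)
  obtain ⟨j, hj⟩ := Subgroup.mem_zpowers_iff.1 hmem
  have hcommA : π (g * A * g⁻¹) = π A := by
    obtain ⟨i, hi⟩ := Subgroup.mem_zpowers_iff.1 (htop ▸ Subgroup.mem_top (π g) :
      π g ∈ Subgroup.zpowers (π A))
    rw [map_mul, map_mul, map_inv, ← hi]
    group
  have hdiv : (p : ℤ) ∣ j + 1 := by
    rw [← hπA, orderOf_dvd_iff_zpow_eq_one, zpow_add, zpow_one]
    rw [← hj, map_zpow, eB, inv_zpow, inv_eq_iff_mul_eq_one] at hcommA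
    exact hcommA
  have hBj : g * A * g⁻¹ = B⁻¹ := by
    rw [← hj, ← mul_inv_eq_one, inv_inv, ← zpow_add_one, ← orderOf_dvd_iff_zpow_eq_one, hBo]
    exact hdiv
  refine isConj_iff.2 ⟨(g : G), ?_⟩
  have h := congrArg (fun x => ((x : Subgroup.closure ({a, b} : Set G)) : G)⁻¹) hBj
  simp only [Subgroup.coe_mul, Subgroup.coe_inv, inv_inv, hA, hB] at h
  exact Eq.trans (by group) h

omit hs

/-- With cyclic `p`-subgroups exactly one power of `b` makes the product regular. -/
theorem exists_unique_regular (hcyc : ∀ Q : Subgroup G, IsPGroup p Q → IsCyclic Q)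
    (hs : IsPSolvable p (Subgroup.closure ({a, b} : Set G))) :
    ∃! i : ℕ, i ∈ Finset.Ico 1 p ∧ ¬ p ∣ orderOf (a * b ^ i) := by
  obtain ⟨O, hn, hreg, hpow, hcomm, -⟩ := pair_sub hab ha hb hs
  set A : Subgroup.closure ({a, b} : Set G) := ⟨a, Subgroup.subset_closure (by simp)⟩ with hA
  set B : Subgroup.closure ({a, b} : Set G) := ⟨b, Subgroup.subset_closure (by simp)⟩ with hB
  have hAo : orderOf A = p := by rw [← Subgroup.orderOf_coe]; exact ha
  have hBo : orderOf B = p := by rw [← Subgroup.orderOf_coe]; exact hb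
  set π := QuotientGroup.mk' O with hπ
  have hne : ∀ C : Subgroup.closure ({a, b} : Set G), orderOf C = p → orderOf (π C) = p := by
    intro C hC
    refine (hp.out.eq_one_or_self_of_dvd _ (hC ▸ orderOf_map_dvd π C)).resolve_left fun h => ?_
    rw [orderOf_eq_one_iff] at h
    exact (hreg C).1 ((QuotientGroup.eq_one_iff C).1 h) (hC ▸ dvd_rfl)
  have hQp : IsPGroup p (Subgroup.closure ({a, b} : Set G) ⧸ O) := fun x => by
    obtain ⟨y, rfl⟩ := QuotientGroup.mk'_surjective O x
    exact ⟨1, by rw [pow_one, ← map_pow]; exact (QuotientGroup.eq_one_iff _).2 (hpow y)⟩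
  haveI : IsCyclic (Subgroup.closure ({a, b} : Set G) ⧸ O) := by
    obtain ⟨S⟩ := (inferInstance : Nonempty (Sylow p (Subgroup.closure ({a, b} : Set G))))
    have hSc : IsCyclic (S : Subgroup (Subgroup.closure ({a, b} : Set G))) := by
      have := hcyc ((S : Subgroup _).map (Subgroup.closure ({a, b} : Set G)).subtype) (S.2.map _)
      exact (((S : Subgroup (Subgroup.closure ({a, b} : Set G)))).equivMapOfInjective
        (Subgroup.closure ({a, b} : Set G)).subtype (Subtype.val_injective)).isCyclic.2 this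
    have htop : (S.mapSurjective (f := π) (QuotientGroup.mk'_surjective O)).toSubgroup = ⊤ := by
      obtain ⟨k, hk⟩ := IsPGroup.iff_card.1 hQp
      refine Subgroup.eq_top_of_card_eq _ ?_
      rw [(S.mapSurjective (f := π) (QuotientGroup.mk'_surjective O)).card_eq_multiplicity, hk,
        Nat.factorization_pow_self hp.out]
    haveI := hSc
    refine isCyclic_of_surjective (π.comp (S : Subgroup _).subtype) fun x => ?_
    have hx : x ∈ (S.mapSurjective (f := π) (QuotientGroup.mk'_surjective O)).toSubgroup :=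
      htop ▸ Subgroup.mem_top x
    obtain ⟨s, hs', rfl⟩ := hx
    exact ⟨⟨s, hs'⟩, rfl⟩
  obtain ⟨k, hk⟩ := Subgroup.mem_zpowers_iff.1 (CfsgLib.PGroup.mem_zpowers_of_pow_eq_one
    (z := π B) (w := π A) (hne B hBo) (by rw [← hne A hAo]; exact pow_orderOf_eq_one _))
  have key : ∀ i : ℕ, ¬ p ∣ orderOf (a * b ^ i) ↔ (p : ℤ) ∣ k + i := by
    intro i
    rw [show a * b ^ i = ((A * B ^ i : Subgroup.closure ({a, b} : Set G)) : G) by
      simp [hA, hB], Subgroup.orderOf_coe, ← hreg, ← QuotientGroup.eq_one_iff]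
    show π (A * B ^ i) = 1 ↔ _
    rw [map_mul, map_pow, ← hk, ← zpow_natCast, ← zpow_add, ← orderOf_dvd_iff_zpow_eq_one,
      hne B hBo]
  have hk0 : ¬ (p : ℤ) ∣ k := by
    intro h
    have h1 : π A = 1 := by
      rw [← hk, ← orderOf_dvd_iff_zpow_eq_one, hne B hBo]
      exact h
    have h2 := hne A hAo
    rw [h1, orderOf_one] at h2
    exact hp.out.ne_one h2.symm
  have hpz : (p : ℤ) ≠ 0 := by exact_mod_cast hp.out.ne_zero
  have hp0 : 0 < (p : ℤ) := by exact_mod_cast hp.out.pos
  have hr0 := Int.emod_nonneg (-k) hpz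
  have hr1 := Int.emod_lt_of_pos (-k) hp0
  refine ⟨((-k) % (p : ℤ)).toNat, ⟨?_, ?_⟩, ?_⟩
  · rw [Finset.mem_Ico]
    have : (-k) % (p : ℤ) ≠ 0 := fun h => hk0 (dvd_neg.1 (Int.dvd_of_emod_eq_zero h))
    omega
  · rw [key, Int.toNat_of_nonneg hr0]
    exact ⟨-((-k) / (p : ℤ)), by linarith [Int.mul_ediv_add_emod (-k) (p : ℤ)]⟩
  · rintro i ⟨hi, hreg'⟩
    rw [key] at hreg'
    rw [Finset.mem_Ico] at hi
    obtain ⟨c, hc⟩ := hreg'
    have : (-k) % (p : ℤ) = i := by
      rw [show -k = (i : ℤ) + p * (-c) by linarith, Int.add_mul_emod_self_left,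
        Int.emod_eq_of_lt (by omega) (by omega)]
    omega

end Pair

end CfsgLib.Coprime.PairPSolvable
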