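import Cfsg.Agent.Lib.Coprime.PairPSolvable
import Cfsg.Agent.Lib.BlockB.PairProducts
import Cfsg.Agent.Lib.BlockB.PModular
import Cfsg.Agent.Lib.Invol.CyclicSylow
import Cfsg.Agent.Lib.PLength.Series

/-!
Two-generator criterion for `p`-solvability with a cyclic Sylow subgroup, and its analogue for an
elementary abelian Sylow subgroup with one class of nonidentity elements.
-/

set_option autoImplicit false
set_option linter.unusedSectionVars false
set_option maxHeartbeats 1000000

namespace CfsgLib.Coprime.PairPSolvable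

open Cfsg CfsgLib.BlockB

universe u

variable {G : Type u} [Group G] [Finite G] {p : ℕ} [hp : Fact p.Prime]

/-- Every two elements of order `p` generate a `p`-solvable subgroup. -/
def PairSolvable (p : ℕ) (G : Type*) [Group G] : Prop :=
  ∀ a b : G, orderOf a = p → orderOf b = p → IsPSolvable p (Subgroup.closure ({a, b} : Set G))

theorem orderOf_conj_eq (g x : G) : orderOf (g * x * g⁻¹) = orderOf x :=
  (MulAut.conj g).orderOf_eq x

open scoped Classical in
/-- At most half of the products of two conjugates are regular. -/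
theorem half_bound [Fintype G] (hab : AbelianPSub p G) (hpair : PairSolvable p G) (h2 : p ≠ 2)
    {x : G} (hx : orderOf x = p) {n : G} (hn : n * x * n⁻¹ = x⁻¹) :
    2 * (Finset.univ.filter fun t : G => ¬ p ∣ orderOf (x * (t * x * t⁻¹))).card ≤ Nat.card G := by
  set F := Finset.univ.filter fun t : G => ¬ p ∣ orderOf (x * (t * x * t⁻¹))
  have h : (F.image fun t => t * n) ⊆ Fᶜ := by
    intro u hu
    obtain ⟨t, ht, rfl⟩ := Finset.mem_image.1 hu
    rw [Finset.mem_compl, Finset.mem_filter, and_iff_right (Finset.mem_univ _), not_not]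
    have hc := not_both_regular hab hx (by rw [orderOf_conj_eq, hx])
      (hpair x (t * x * t⁻¹) hx (by rw [orderOf_conj_eq, hx])) h2 (Finset.mem_filter.1 ht).2
    convert hc using 3
    rw [show t * n * x * (t * n)⁻¹ = t * (n * x * n⁻¹) * t⁻¹ by group, hn]
    group
  have h1 := Finset.card_le_card h
  rw [Finset.card_image_of_injective _ (mul_left_injective n), Finset.card_compl] at h1
  rw [Nat.card_eq_fintype_card]
  have := Finset.card_le_univ F
  omega

/-- No simple group has one class of nonidentity elements in its abelian Sylow subgroup for odd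
`p`, a `p`-nilpotent centralizer, and `p`-solvable pairs. -/
theorem false_of_one_class_pairs [IsSimpleGroup G] (hG : ¬ IsMulCommutative G) (h2 : p ≠ 2)
    (P : Sylow p G) (hab : IsMulCommutative (P : Subgroup G)) {x : (P : Subgroup G)}
    (hx : orderOf x = p) (hcl : ∀ y : (P : Subgroup G), y ≠ 1 → IsConj (x : G) (y : G))
    (hC : HasNormalPComplement p (Subgroup.centralizer ({(x : G)} : Set G)))
    (hpair : PairSolvable p G) : False := by
  classical
  have := Fintype.ofFinite G
  obtain ⟨M, hM⟩ := exists_isPModular hp.out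
  have hxne : x ≠ 1 := fun e => by
    rw [e, orderOf_one] at hx
    exact hp.out.ne_one hx.symm
  have hq : 3 ≤ Nat.card (P : Subgroup G) := by
    have h : p ≤ Nat.card (P : Subgroup G) :=
      Nat.le_of_dvd Nat.card_pos ((dvd_of_eq hx.symm).trans (orderOf_dvd_natCard x))
    have := hp.out.two_le
    omega
  obtain ⟨n, hn⟩ := isConj_iff.1 (hcl x⁻¹ (inv_ne_one.2 hxne))
  rw [Subgroup.coe_inv] at hn
  haveI := hab
  exact PairProd.false_of_one_class hM hG hab hq hxne hcl hC
    (half_bound (abelianPSub_of_sylow P) hpair h2 (by rw [Subgroup.orderOf_coe, hx]) hn)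

theorem centralizer_inf_normalizer {P : Sylow p G} (hP : IsCyclic (P : Subgroup G)) :
    ∀ y : G, y ∈ (P : Subgroup G) → y ≠ 1 →
      Subgroup.centralizer ({y} : Set G) ⊓ FrobP.nP P =
        Subgroup.centralizer ((P : Subgroup G) : Set G) := by
  intro y hy hy1
  haveI := hP
  have hPc : ∀ a ∈ (P : Subgroup G), ∀ b ∈ (P : Subgroup G), a * b = b * a := fun a ha b hb =>
    congrArg Subtype.val ((IsCyclic.commGroup (α := (P : Subgroup G))).mul_comm ⟨a, ha⟩ ⟨b, hb⟩)
  refine le_antisymm (fun g hg => ?_) (le_inf (Subgroup.centralizer_le (Set.singleton_subset_iff.2 hy))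
    (Subgroup.centralizer_le_normalizer _))
  obtain ⟨hgc, hgN⟩ := Subgroup.mem_inf.1 hg
  rw [Subgroup.mem_centralizer_singleton_iff] at hgc
  obtain ⟨w, hw⟩ := CfsgLib.Block.exists_isPPart hp.out g
  have hwz := CfsgLib.Block.isPPart_mem_zpowers hp.out hw
  obtain ⟨v, hv, -, ⟨k, hk⟩, hv'⟩ := hw
  have hwN : w ∈ FrobP.nP P := Subgroup.zpowers_le.2 hgN hwz
  have hvz : v ∈ Subgroup.zpowers g := by
    have := Subgroup.mul_mem _ (Subgroup.inv_mem _ hwz) (Subgroup.mem_zpowers g)
    rwa [← hv, inv_mul_cancel_left, hv] at this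
  have hvN : v ∈ FrobP.nP P := Subgroup.zpowers_le.2 hgN hvz
  have hwP : w ∈ (P : Subgroup G) := by
    have hWp : IsPGroup p (Subgroup.zpowers w) :=
      IsPGroup.of_card (n := k) (by rw [Nat.card_zpowers, hk])
    have hsup := hWp.to_sup_of_normal_right' P.2 (Subgroup.zpowers_le.2 hwN)
    rw [← P.3 hsup le_sup_right]
    exact Subgroup.mem_sup_left (Subgroup.mem_zpowers w)
  have hvc : v ∈ Subgroup.centralizer ((P : Subgroup G) : Set G) := by
    refine CfsgLib.Invol.mem_centralizer_of_cyclic P.2 hP hvN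
      ((hp.out.coprime_iff_not_dvd.2 hv').symm) hy hy1 ?_
    obtain ⟨i, hi⟩ := Subgroup.mem_zpowers_iff.1 hvz
    rw [← hi]
    exact (Commute.zpow_left hgc i)
  rw [← hv]
  refine Subgroup.mul_mem _ ?_ hvc
  exact Subgroup.mem_centralizer_iff.2 fun b hb => hPc b hb w hwP

/-- A nonabelian simple group with cyclic Sylow `p`-subgroup has a non-`p`-solvable pair. -/
theorem false_of_simple_cyclic [IsSimpleGroup G] (hG : ¬ IsMulCommutative G)
    (hd : p ∣ Nat.card G) (P : Sylow p G) (hP : IsCyclic (P : Subgroup G))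
    (hpair : PairSolvable p G) : False := by
  classical
  have := Fintype.ofFinite G
  obtain ⟨M, hM⟩ := exists_isPModular hp.out
  haveI := hP
  have hab : IsMulCommutative (P : Subgroup G) :=
    ⟨⟨(IsCyclic.commGroup (α := (P : Subgroup G))).mul_comm⟩⟩
  have hfrob := centralizer_inf_normalizer hP
  set m := (Subgroup.centralizer ((P : Subgroup G) : Set G)).relIndex (FrobP.nP P) with hCN
  -- a generator and an element of order `p`
  obtain ⟨x, hx⟩ := exists_prime_orderOf_dvd_card' (G := (P : Subgroup G)) p (P.dvd_card_of_dvd_card hd)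
  have hxne : x ≠ 1 := fun e => by
    rw [e, orderOf_one] at hx
    exact hp.out.ne_one hx.symm
  have hxG : orderOf (x : G) = p := by rw [Subgroup.orderOf_coe, hx]
  have hP1 : Nat.card (P : Subgroup G) ≠ 1 := fun h => by
    have := orderOf_dvd_natCard x
    rw [h, hx] at this
    exact hp.out.not_dvd_one this
  have hm1 : m ≠ 1 := by
    intro h
    have hle : FrobP.nP P ≤ Subgroup.centralizer ((P : Subgroup G) : Set G) :=
      Subgroup.relIndex_eq_one.1 h
    obtain ⟨K, hK, hKc, hKq⟩ := CfsgLib.Transfer.hasNormalPComplement_iff_exists.1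
      (CfsgLib.Transfer.hasNormalPComplement_of_normalizer_le_centralizer P hle)
    rcases hK.eq_bot_or_eq_top with e | e
    · subst e
      have hGp : IsPGroup p G :=
        hKq.of_equiv (QuotientGroup.quotientBot (G := G))
      haveI : Nontrivial (Subgroup.center G) := hGp.center_nontrivial
      apply hG
      rcases (inferInstance : (Subgroup.center G).Normal).eq_bot_or_eq_top with c | c
      · exact absurd c (Subgroup.nontrivial_iff_ne_bot _ |>.1 inferInstance)
      · exact ⟨⟨fun a b => Subgroup.mem_center_iff.1 (c ▸ Subgroup.mem_top b) a⟩⟩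
    · subst e
      rw [Subgroup.card_top] at hKc
      exact hp.out.ne_one (Nat.eq_one_of_dvd_coprimes hKc hd dvd_rfl)
  -- conjugates of `x` in `P`
  set T := Finset.univ.filter fun w : (P : Subgroup G) => IsConj (x : G) (w : G) with hT
  have hTm : T.card = m := by
    have h1 := FrobP.sum_isConj hab hfrob hxne (fun _ => (1 : ℂ))
    simp only [Finset.sum_boole, Finset.sum_const] at h1
    rw [Finset.card_univ,
      ← Nat.card_eq_fintype_card, FrobP.card_nP hCN.symm, nsmul_one, Nat.cast_mul,
      mul_comm ((m : ℕ) : ℂ)] at h1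
    have h2 := mul_left_cancel₀ (by exact_mod_cast Nat.card_pos.ne') h1
    rw [hT]
    apply Nat.cast_injective (R := ℂ)
    rw [← h2, Finset.card_filter, Nat.cast_sum]
    exact Finset.sum_congr rfl fun w _ => by split_ifs <;> simp_all
  set Pw := (Finset.Ico 1 p).image fun i => x ^ i with hPw
  have hPwc : Pw.card = p - 1 := by
    rw [hPw, Finset.card_image_of_injOn, Nat.card_Ico]
    intro i hi j hj hij
    rw [Finset.mem_coe, Finset.mem_Ico] at hi hj
    exact pow_injOn_Iio_orderOf (Set.mem_Iio.2 (hx.symm ▸ hi.2))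
      (Set.mem_Iio.2 (hx.symm ▸ hj.2)) hij
  have hordp : ∀ w : (P : Subgroup G), orderOf w = p → w ∈ Pw := by
    intro w hw
    obtain ⟨i, hi⟩ := Subgroup.mem_zpowers_iff.1 (CfsgLib.PGroup.mem_zpowers_of_pow_eq_one hx
      (orderOf_dvd_iff_pow_eq_one.1 (dvd_of_eq hw)))
    have hpz : (p : ℤ) ≠ 0 := by exact_mod_cast hp.out.ne_zero
    have hr0 := Int.emod_nonneg i hpz
    have hr1 := Int.emod_lt_of_pos i (b := (p : ℤ)) (by exact_mod_cast hp.out.pos)
    have he : x ^ (i % (p : ℤ)).toNat = w := by
      rw [← hi, ← zpow_natCast, Int.toNat_of_nonneg hr0, zpow_eq_zpow_iff_modEq, hx]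
      exact Int.mod_modEq i p
    refine Finset.mem_image.2 ⟨_, Finset.mem_Ico.2 ⟨?_, by omega⟩, he⟩
    by_contra h0
    have : (i % (p : ℤ)).toNat = 0 := by omega
    rw [this, pow_zero] at he
    rw [← he, orderOf_one] at hw
    exact hp.out.ne_one hw.symm
  have hPwo : ∀ w ∈ Pw, orderOf w = p := by
    intro w hw
    obtain ⟨i, hi, rfl⟩ := Finset.mem_image.1 hw
    rw [Finset.mem_Ico] at hi
    rw [Nat.Coprime.orderOf_pow (hx.symm ▸ (hp.out.coprime_iff_not_dvd.2 fun hd' => by
      have := Nat.le_of_dvd (by omega) hd'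
      omega)), hx]
  have hTsub : T ⊆ Pw := by
    intro w hw
    apply hordp
    obtain ⟨c, hc⟩ := isConj_iff.1 (Finset.mem_filter.1 hw).2
    rw [← Subgroup.orderOf_coe, ← hc, orderOf_conj_eq, hxG]
  have hm0 : m ≠ 0 := by
    rw [← hTm]
    exact Finset.card_ne_zero.2 ⟨x, Finset.mem_filter.2 ⟨Finset.mem_univ _, IsConj.refl _⟩⟩
  have hmle : m ≤ p - 1 := hTm ▸ hPwc ▸ Finset.card_le_card hTsub
  have hpq : p ≤ Nat.card (P : Subgroup G) :=
    Nat.le_of_dvd Nat.card_pos ((dvd_of_eq hx.symm).trans (orderOf_dvd_natCard x))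
  have habp := abelianPSub_of_sylow P
  by_cases hfull : T = Pw
  · have hm : m = p - 1 := by rw [← hTm, hfull, hPwc]
    have h2 : p ≠ 2 := by omega
    rcases hpq.lt_or_eq with hlt | heq
    · -- larger cyclic subgroup
      obtain ⟨y, hy⟩ := hP.exists_generator
      have hyp : ¬ y ^ p = 1 := by
        intro h
        have h1 : orderOf y = Nat.card (P : Subgroup G) := orderOf_eq_card_of_forall_mem_zpowers hy
        have h2 := Nat.le_of_dvd hp.out.pos (orderOf_dvd_of_pow_eq_one h)
        omega
      have horb : ∀ w : (P : Subgroup G),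
          IsConj (x : G) (w : G) ↔ ∃ i ∈ Finset.Ico 1 p, w = x ^ i := by
        intro w
        have h := Finset.ext_iff.1 hfull w
        rw [hT, hPw, Finset.mem_filter, and_iff_right (Finset.mem_univ _), Finset.mem_image] at h
        rw [h]
        exact ⟨fun ⟨i, hi, e⟩ => ⟨i, hi, e.symm⟩, fun ⟨i, hi, e⟩ => ⟨i, hi, e.symm⟩⟩
      have hcyc : ∀ Q : Subgroup G, IsPGroup p Q → IsCyclic Q := fun Q hQ =>
        CfsgLib.Invol.isCyclic_pGroup hP hQ
      have hord : ∀ t : G, orderOf (t * (x : G) * t⁻¹) = p := fun t => by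
        rw [orderOf_conj_eq, hxG]
      have hcount : (p - 1) * (Finset.univ.filter fun t : G =>
          ¬ p ∣ orderOf ((x : G) * (t * (x : G) * t⁻¹))).card = Nat.card G := by
        have h1 : ∀ i ∈ Finset.Ico 1 p,
            (Finset.univ.filter fun t : G => ¬ p ∣ orderOf ((x : G) * (t * (x : G) * t⁻¹) ^ i)).card =
            (Finset.univ.filter fun t : G => ¬ p ∣ orderOf ((x : G) * (t * (x : G) * t⁻¹))).card := by
          intro i hi
          obtain ⟨c, hc⟩ := isConj_iff.1 ((horb (x ^ i)).2 ⟨i, hi, rfl⟩)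
          rw [Subgroup.coe_pow] at hc
          refine Finset.card_equiv (Equiv.mulRight c) fun t => ?_
          simp only [Finset.mem_filter, Finset.mem_univ, true_and, Equiv.coe_mulRight]
          rw [conj_pow, ← hc, show t * (c * (x : G) * c⁻¹) * t⁻¹ = t * c * (x : G) * (t * c)⁻¹ by
            group]
        have h2 : ∑ i ∈ Finset.Ico 1 p, (Finset.univ.filter fun t : G =>
            ¬ p ∣ orderOf ((x : G) * (t * (x : G) * t⁻¹) ^ i)).card = Nat.card G := by
          simp only [Finset.card_filter]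
          rw [Finset.sum_comm, Nat.card_eq_fintype_card, Fintype.card_eq_sum_ones]
          refine Finset.sum_congr rfl fun t _ => ?_
          obtain ⟨i, ⟨hi, hi'⟩, huniq⟩ := exists_unique_regular habp hxG (hord t) hcyc
            (hpair _ _ hxG (hord t))
          rw [Finset.sum_eq_single i (fun j hj hne => if_neg fun h => hne (huniq j ⟨hj, h⟩))
            (fun h => absurd hi h), if_pos hi']
        rw [Finset.sum_congr rfl h1, Finset.sum_const, Nat.card_Ico, smul_eq_mul] at h2
        exact h2
      exact PairProd.false_of_cyclic_full hM hG hab hP1 hfrob (hCN.symm.trans hm) h2 hlt hx horb hyp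
        (fun t => not_sq_dvd habp hxG (hord t) (hpair _ _ hxG (hord t))
          (Subgroup.mul_mem _ (Subgroup.subset_closure (by simp))
            (Subgroup.subset_closure (by simp)))) hcount
    · -- order `p`
      refine false_of_one_class_pairs hG h2 P hab hx (fun w hw => ?_)
        (FrobP.hasNormalPComplement_cen hab hfrob hxne) hpair
      have hw' : orderOf w = p :=
        orderOf_eq_prime ((congrArg (w ^ ·) heq).trans pow_card_eq_one') hw
      have : w ∈ T := hfull ▸ hordp w hw'
      exact (Finset.mem_filter.1 this).2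
  · obtain ⟨w, hwP, hwT⟩ := Finset.not_subset.1 fun h => hfull (Finset.Subset.antisymm hTsub h)
    have hlt : T.card < Pw.card := Finset.card_lt_card
      ⟨hTsub, fun h => hfull (Finset.Subset.antisymm hTsub h)⟩
    rw [hTm, hPwc] at hlt
    have hw : orderOf w = p := hPwo w hwP
    have hwi : w⁻¹ ≠ 1 := fun e => hp.out.ne_one (by
      rw [← hw, ← orderOf_inv, e, orderOf_one])
    refine PairProd.false_of_all_singular hM hG hab hP1 hfrob hCN.symm (by omega) (by omega) hxne
      hwi fun t => ?_
    by_contra hreg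
    apply hwT
    rw [hT, Finset.mem_filter]
    refine ⟨Finset.mem_univ _, ?_⟩
    have hto : orderOf (t * ((w⁻¹ : (P : Subgroup G)) : G) * t⁻¹) = p := by
      rw [orderOf_conj_eq, Subgroup.orderOf_coe, orderOf_inv, hw]
    have h1 : IsConj (x : G)⁻¹ ((w⁻¹ : (P : Subgroup G)) : G) :=
      (isConj_of_regular habp hxG hto (hpair _ _ hxG hto) hreg).trans
        (IsConj.symm (isConj_iff.2 ⟨t, rfl⟩))
    obtain ⟨c, hc⟩ := isConj_iff.1 h1
    refine isConj_iff.2 ⟨c, ?_⟩
    rw [Subgroup.coe_inv] at hc
    have h2 := congrArg (fun z : G => z⁻¹) hc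
    simp only [inv_inv, mul_inv_rev, ← mul_assoc] at h2
    exact h2

theorem pairSolvable_subgroup (hpair : PairSolvable p G) (K : Subgroup G) : PairSolvable p K := by
  intro a b ha hb
  have h := hpair (a : G) (b : G) (by rw [Subgroup.orderOf_coe, ha]) (by rw [Subgroup.orderOf_coe, hb])
  refine CfsgLib.PLength.PSeriesLE.isPSolvable
    ((CfsgLib.PLength.exists_pSeriesLE_of_isPSolvable h).choose_spec.of_injective
      ((K.subtype.comp (Subgroup.closure ({a, b} : Set K)).subtype).codRestrict
        (Subgroup.closure ({(a : G), (b : G)} : Set G)) fun u => ?_) ?_)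
  · have h1 : (Subgroup.closure ({a, b} : Set K)).map K.subtype =
        Subgroup.closure ({(a : G), (b : G)} : Set G) := by
      rw [MonoidHom.map_closure, Set.image_insert_eq, Set.image_singleton]
      rfl
    rw [← h1]
    exact ⟨_, u.2, rfl⟩
  · intro u v huv
    exact Subtype.ext (Subtype.ext (congrArg (fun z : Subgroup.closure ({(a : G), (b : G)} : Set G) =>
      (z : G)) huv))

theorem pairSolvable_quotient (hpair : PairSolvable p G) (N : Subgroup G) [N.Normal]
    (hN : (Nat.card N).Coprime p) : PairSolvable p (G ⧸ N) := by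
  intro a b ha hb
  have lift : ∀ c : G ⧸ N, orderOf c = p → ∃ g : G, orderOf g = p ∧ QuotientGroup.mk' N g = c := by
    intro c hc
    obtain ⟨g, hg⟩ := QuotientGroup.mk'_surjective N c
    obtain ⟨w, v, hwv, hcomm, ⟨k, hk⟩, hv⟩ := CfsgLib.Block.exists_isPPart hp.out g
    have hπv : QuotientGroup.mk' N v = 1 := by
      refine orderOf_eq_one_iff.1 (Nat.eq_one_of_dvd_coprimes
        (hp.out.coprime_iff_not_dvd.2 hv).symm (orderOf_map_dvd _ v) ?_)
      refine orderOf_dvd_of_pow_eq_one ?_
      have h1 : (QuotientGroup.mk' N v) = (QuotientGroup.mk' N w)⁻¹ * c := by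
        rw [← hg, ← hwv, map_mul, inv_mul_cancel_left]
      have h2 : QuotientGroup.mk' N w * c = c * QuotientGroup.mk' N w := by
        rw [← hg, ← hwv, ← map_mul, ← map_mul, mul_assoc, hcomm.eq]
      have hcp : c ^ p = 1 := orderOf_dvd_iff_pow_eq_one.1 (dvd_of_eq hc)
      have hwp : QuotientGroup.mk' N w ^ p = 1 := by
        have e1 : orderOf (QuotientGroup.mk' N v ^ p) ∣ orderOf v :=
          (orderOf_pow_dvd p).trans (orderOf_map_dvd _ v)
        have e2 : QuotientGroup.mk' N v ^ p = (QuotientGroup.mk' N w ^ p)⁻¹ := by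
          rw [h1, (Commute.inv_left h2).mul_pow, hcp, mul_one, inv_pow]
        rw [e2, orderOf_inv] at e1
        refine orderOf_eq_one_iff.1 (Nat.eq_one_of_dvd_coprimes
          (((hp.out.coprime_iff_not_dvd.2 hv).pow_left k).symm) e1 ?_)
        exact (orderOf_pow_dvd p).trans (hk ▸ orderOf_map_dvd _ w)
      rw [h1, (Commute.inv_left h2).mul_pow, hcp, mul_one, inv_pow, hwp, inv_one]
    have hw : QuotientGroup.mk' N w = c := by rw [← hg, ← hwv, map_mul, hπv, mul_one]
    refine ⟨w, ?_, hw⟩
    have h1 : w ^ p ∈ N := by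
      rw [← QuotientGroup.eq_one_iff]
      show QuotientGroup.mk' N (w ^ p) = 1
      rw [map_pow, hw, ← hc, pow_orderOf_eq_one]
    have h2 : w ^ p = 1 := orderOf_eq_one_iff.1 (Nat.eq_one_of_dvd_coprimes (hN.pow_right k)
      (Subgroup.orderOf_dvd_natCard _ h1) (hk ▸ orderOf_pow_dvd p))
    exact orderOf_eq_prime h2 fun e => hp.out.ne_one (by rw [← hc, ← hw, e, map_one, orderOf_one])
  obtain ⟨g, hg, rfl⟩ := lift a ha
  obtain ⟨g', hg', rfl⟩ := lift b hb
  have h := hpair g g' hg hg'
  obtain ⟨k, hk⟩ := CfsgLib.PLength.exists_pSeriesLE_of_isPSolvable h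
  have hmap : (Subgroup.closure ({g, g'} : Set G)).map (QuotientGroup.mk' N) =
      Subgroup.closure ({QuotientGroup.mk' N g, QuotientGroup.mk' N g'} : Set (G ⧸ N)) := by
    rw [MonoidHom.map_closure, Set.image_insert_eq, Set.image_singleton]
  refine (hk.of_surjective (((QuotientGroup.mk' N).comp
    (Subgroup.closure ({g, g'} : Set G)).subtype).codRestrict _ fun u => hmap ▸ ⟨_, u.2, rfl⟩) ?_).isPSolvable
  rintro ⟨z, hz⟩
  rw [← hmap] at hz
  obtain ⟨u, hu, rfl⟩ := hz
  exact ⟨⟨u, hu⟩, rfl⟩

theorem isPSolvable_of_core_trivial (hO : pPrimeCore p G = ⊥) (P : Sylow p G)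
    (hP : IsCyclic (P : Subgroup G)) (hpair : PairSolvable p G) : IsPSolvable p G := by
  by_cases hd : p ∣ Nat.card G
  · by_cases hE : layer G = ⊥
    · obtain ⟨hn, -, -, -⟩ := CfsgLib.Invol.cyclicSylow_of_no_component hd hO P hP hE
      haveI := hn
      refine (CfsgLib.PLength.PSeriesLE.of_normal (P : Subgroup G)
        (CfsgLib.PLength.pSeriesLE_one_of_isPGroup P.2) (CfsgLib.PLength.pSeriesLE_zero.2 ?_)).isPSolvable
      rw [← Subgroup.index_eq_card]
      exact (hp.out.coprime_iff_not_dvd.2 P.not_dvd_index).symm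
    · obtain ⟨L, hL⟩ : ∃ L : Subgroup G, IsComponent L := by
        by_contra h
        push Not at h
        refine hE (le_antisymm (sSup_le fun L hL => absurd hL (h L)) bot_le)
      obtain ⟨hs, hnc, hidx⟩ := CfsgLib.Invol.cyclicSylow_of_component hO P hP hL
      exfalso
      set F := generalizedFittingSubgroup G
      haveI := hs
      have hdF : p ∣ Nat.card F :=
        (hp.out.dvd_mul.1 (F.index_mul_card.symm ▸ hd)).resolve_left hidx
      obtain ⟨S⟩ := (inferInstance : Nonempty (Sylow p F))
      have hS : IsCyclic (S : Subgroup F) :=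
        ((S : Subgroup F).equivMapOfInjective F.subtype Subtype.val_injective).isCyclic.2
          (CfsgLib.Invol.isCyclic_pGroup hP (S.2.map F.subtype))
      exact false_of_simple_cyclic hnc hdF S hS (pairSolvable_subgroup hpair F)
  · exact (CfsgLib.PLength.pSeriesLE_zero.2
      ((hp.out.coprime_iff_not_dvd.2 hd).symm)).isPSolvable

/-- The `p`-solvability criterion. -/
theorem isPSolvable_of_pairs (P : Sylow p G) (hP : IsCyclic (P : Subgroup G))
    (hpair : PairSolvable p G) : IsPSolvable p G := by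
  haveI := CfsgLib.Solvable.pPrimeCore_normal p G
  set N := pPrimeCore p G
  have hN : (Nat.card N).Coprime p := CfsgLib.Solvable.pPrimeCore_coprime p
  set Q := P.mapSurjective (f := QuotientGroup.mk' N) (QuotientGroup.mk'_surjective N)
  have hQ : IsCyclic Q.toSubgroup := by
    haveI := hP
    refine isCyclic_of_surjective
      (((QuotientGroup.mk' N).comp (P : Subgroup G).subtype).codRestrict Q.toSubgroup
        fun u => ⟨_, u.2, rfl⟩) ?_
    rintro ⟨z, u, hu, rfl⟩
    exact ⟨⟨u, hu⟩, rfl⟩
  suffices h : IsPSolvable p (G ⧸ N) by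
    obtain ⟨k, hk⟩ := CfsgLib.PLength.exists_pSeriesLE_of_isPSolvable h
    exact (CfsgLib.PLength.PSeriesLE.of_quotient_pPrime N hN hk).isPSolvable
  exact isPSolvable_of_core_trivial (CfsgLib.Solvable.pPrimeCore_quotient_eq_bot p) Q hQ
    (pairSolvable_quotient hpair N hN)

end CfsgLib.Coprime.PairPSolvable
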