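import Cfsg.Agent.Lib.Coprime.ClassBound
import Cfsg.Prelude.Def_OddOrderLocal
set_option autoImplicit false

/-!
Groups with many conjugacy classes of `π`-elements.
-/

namespace CfsgLib.Coprime

open Subgroup CfsgLib.Transfer
open scoped commutatorElement

universe u

/-- The number of classes of `σ`-elements. -/
noncomputable def piClassNumber (σ : Finset ℕ) (G : Type*) [Group G] : ℕ :=
  Nat.card {c : ConjClasses G // ∀ x ∈ c.carrier, ∀ r : ℕ, r.Prime → r ∣ orderOf x → r ∈ σ}

variable {G : Type u} [Group G] [Finite G]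

omit [Finite G] in
theorem order_class_congr {x y : G} (h : ConjClasses.mk x = ConjClasses.mk y) : orderOf x = orderOf y := by
  obtain ⟨g, hg⟩ := isConj_iff.1 (ConjClasses.mk_eq_mk_iff_isConj.1 h)
  rw [← hg, ← MulAut.conj_apply, MulEquiv.orderOf_eq]

theorem exists_split_bound (x : G) {p : ℕ} (hp : p.Prime) :
    ∃ v ∈ zpowers x, ∃ w ∈ zpowers x, x = v * w ∧ (∃ b : ℕ, orderOf v = p ^ b) ∧ ¬ p ∣ orderOf w := by
  set j := (orderOf x).factorization p
  set m := orderOf x / p ^ j
  have hjm : p ^ j * m = orderOf x := Nat.ordProj_mul_ordCompl_eq_self _ p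
  have hmr : ¬ p ∣ m := Nat.not_dvd_ordCompl hp (orderOf_pos x).ne'
  obtain ⟨s, t, hst⟩ := Nat.isCoprime_iff_coprime.2 (((hp.coprime_iff_not_dvd).2 hmr).pow_left j)
  refine ⟨(x ^ m) ^ t, zpow_mem (pow_mem (mem_zpowers x) _) _, (x ^ p ^ j) ^ s,
    zpow_mem (pow_mem (mem_zpowers x) _) _, ?_, ?_, ?_⟩
  · rw [← zpow_natCast x, ← zpow_natCast x (p ^ j), ← zpow_mul, ← zpow_mul, ← zpow_add,
      show (m : ℤ) * t + ((p ^ j : ℕ) : ℤ) * s = 1 by linear_combination hst, zpow_one]
  · obtain ⟨b, -, hb⟩ := (Nat.dvd_prime_pow hp).1 (orderOf_dvd_of_pow_eq_one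
      (x := (x ^ m) ^ t) (n := p ^ j) (by
        rw [← zpow_natCast, ← zpow_mul, mul_comm t, zpow_mul, zpow_natCast, ← pow_mul, mul_comm m, hjm,
          pow_orderOf_eq_one, one_zpow]))
    exact ⟨b, hb⟩
  · intro hd
    refine hmr (hd.trans (orderOf_dvd_of_pow_eq_one ?_))
    rw [← zpow_natCast, ← zpow_mul, mul_comm s, zpow_mul, zpow_natCast, ← pow_mul, hjm, pow_orderOf_eq_one,
      one_zpow]

theorem piClassNumber_le_mul {p : ℕ} (hp : p.Prime) {σ : Finset ℕ}
    (hIH : ∀ H : Subgroup G, piClassNumber (σ.erase p) H ≤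
      ∏ r ∈ σ.erase p, r ^ (Nat.card H).factorization r) (hσ : ∀ r ∈ σ, r.Prime) :
    piClassNumber σ G ≤ pClassNumber p G * ∏ r ∈ σ.erase p, r ^ (Nat.card G).factorization r := by
  classical
  have := Fintype.ofFinite G
  have := Fact.mk hp
  let A := {c : ConjClasses G // ∀ x ∈ c.carrier, ∃ k : ℕ, orderOf x = p ^ k}
  have := Fintype.ofFinite A
  let β : A → Type u := fun a => {d : ConjClasses (centralizer ({a.1.out} : Set G)) //
    ∀ x ∈ d.carrier, ∀ r : ℕ, r.Prime → r ∣ orderOf x → r ∈ σ.erase p}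
  let f : (Σ a : A, β a) → ConjClasses G := fun z => ConjClasses.mk (z.1.1.out * (z.2.1.out : G))
  have hsub : ∀ c : {c : ConjClasses G // ∀ x ∈ c.carrier, ∀ r : ℕ, r.Prime → r ∣ orderOf x → r ∈ σ},
      ∃ z, f z = c.1 := by
    rintro ⟨c, hc⟩
    obtain ⟨x, rfl⟩ := ConjClasses.exists_rep c
    obtain ⟨v, hv, w, hw, hvw, ⟨b, hb⟩, hwp⟩ := exists_split_bound x hp
    have hcvw : Commute v w := by
      obtain ⟨i, rfl⟩ := mem_zpowers_iff.1 hv
      obtain ⟨j, rfl⟩ := mem_zpowers_iff.1 hw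
      exact (Commute.refl x).zpow_zpow i j
    let a : A := ⟨ConjClasses.mk v, fun y hy => ⟨b, by
      rw [order_class_congr (ConjClasses.mem_carrier_iff_mk_eq.1 hy), hb]⟩⟩
    obtain ⟨g, hg⟩ := isConj_iff.1 (ConjClasses.mk_eq_mk_iff_isConj.1
      (show ConjClasses.mk v = ConjClasses.mk a.1.out from (Quotient.out_eq a.1).symm))
    have hw' : g * w * g⁻¹ ∈ centralizer ({a.1.out} : Set G) := mem_centralizer_singleton_iff.2 (by
      rw [← hg]
      calc g * w * g⁻¹ * (g * v * g⁻¹) = g * (w * v) * g⁻¹ := by group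
        _ = _ := by rw [← hcvw.eq]; group)
    let d : β a := ⟨ConjClasses.mk ⟨g * w * g⁻¹, hw'⟩, fun y hy r hr hry => by
      rw [order_class_congr (ConjClasses.mem_carrier_iff_mk_eq.1 hy), Subgroup.orderOf_mk, ← MulAut.conj_apply,
        MulEquiv.orderOf_eq] at hry
      refine Finset.mem_erase.2 ⟨fun e => hwp (e ▸ hry), hc x ConjClasses.mem_carrier_mk r hr ?_⟩
      obtain ⟨j, rfl⟩ := mem_zpowers_iff.1 hw
      exact hry.trans (orderOf_dvd_of_mem_zpowers (zpow_mem (mem_zpowers x) j))⟩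
    refine ⟨⟨a, d⟩, ?_⟩
    obtain ⟨h', hh'⟩ := isConj_iff.1 (ConjClasses.mk_eq_mk_iff_isConj.1
      (show ConjClasses.mk (⟨g * w * g⁻¹, hw'⟩ : centralizer ({a.1.out} : Set G)) = ConjClasses.mk d.1.out from
        (Quotient.out_eq d.1).symm))
    show ConjClasses.mk (a.1.out * (d.1.out : G)) = ConjClasses.mk x
    refine ConjClasses.mk_eq_mk_iff_isConj.2 (IsConj.symm (isConj_iff.2 ⟨(h' : G) * g, ?_⟩))
    rw [← hh', hvw]
    push_cast
    have e : (h' : G) * a.1.out = a.1.out * h' := mem_centralizer_singleton_iff.1 h'.2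
    calc (h' : G) * g * (v * w) * ((h' : G) * g)⁻¹
        = (h' : G) * (g * v * g⁻¹) * (g * w * g⁻¹) * (h' : G)⁻¹ := by group
      _ = _ := by rw [hg, e]; group
  choose sec hsec using hsub
  have hinj : Function.Injective sec := fun c d e => Subtype.ext (by rw [← hsec c, ← hsec d, e])
  have h1 : piClassNumber σ G ≤ Nat.card (Σ a : A, β a) := Nat.card_le_card_of_injective sec hinj
  rw [Nat.card_sigma] at h1
  refine h1.trans ((Finset.sum_le_card_nsmul _ _ (∏ r ∈ σ.erase p, r ^ (Nat.card G).factorization r)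
    fun a _ => ?_).trans (le_of_eq ?_))
  · refine (hIH (centralizer ({a.1.out} : Set G))).trans (Finset.prod_le_prod' fun r hr => ?_)
    exact Nat.pow_le_pow_right (hσ r (Finset.mem_of_mem_erase hr)).pos
      ((Nat.factorization_le_iff_dvd Nat.card_pos.ne' Nat.card_pos.ne').2 (card_subgroup_dvd_card _) r)
  · rw [smul_eq_mul, Finset.card_univ, ← Nat.card_eq_fintype_card]; rfl

theorem piClassNumber_le_prod (σ : Finset ℕ) (hσ : ∀ r ∈ σ, r.Prime) :
    ∀ (H : Type u) [Group H] [Finite H], piClassNumber σ H ≤ ∏ r ∈ σ, r ^ (Nat.card H).factorization r := by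
  induction σ using Finset.strongInduction with
  | H σ ih =>
    intro H _ _
    rcases σ.eq_empty_or_nonempty with rfl | ⟨p, hpσ⟩
    · have hone : ∀ c : {c : ConjClasses H // ∀ x ∈ c.carrier, ∀ r : ℕ, r.Prime → r ∣ orderOf x → r ∈ (∅ : Finset ℕ)},
          c.1 = ConjClasses.mk 1 := by
        rintro ⟨c, hc⟩
        obtain ⟨x, rfl⟩ := ConjClasses.exists_rep c
        by_contra hne
        have hx1 : orderOf x ≠ 1 := fun e => hne (congrArg ConjClasses.mk (orderOf_eq_one_iff.1 e))
        exact absurd (hc x ConjClasses.mem_carrier_mk _ (Nat.minFac_prime hx1) (Nat.minFac_dvd _))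
          (Finset.notMem_empty _)
      have : Subsingleton {c : ConjClasses H // ∀ x ∈ c.carrier, ∀ r : ℕ, r.Prime → r ∣ orderOf x → r ∈ (∅ : Finset ℕ)} :=
        ⟨fun a b => Subtype.ext ((hone a).trans (hone b).symm)⟩
      rw [Finset.prod_empty, piClassNumber]
      exact Finite.card_le_one_iff_subsingleton.2 this
    · have hp := hσ p hpσ
      have := Fact.mk hp
      have h1 := piClassNumber_le_mul (G := H) hp (σ := σ)
        (fun K => ih _ (Finset.erase_ssubset hpσ) (fun r hr => hσ r (Finset.mem_of_mem_erase hr)) K) hσ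
      refine h1.trans ?_
      rw [← Finset.mul_prod_erase σ (fun r => r ^ (Nat.card H).factorization r) hpσ]
      refine Nat.mul_le_mul_right _ ?_
      obtain ⟨P⟩ := (inferInstance : Nonempty (Sylow p H))
      exact (pClassNumber_le_card P).trans_eq P.card_eq_multiplicity

theorem lt_two_mul_pClassNumber {π : Finset ℕ} (hπ : ∀ r ∈ π, r.Prime) {p : ℕ} (hpπ : p ∈ π)
    (hk : π.prod (fun r => r ^ (Nat.card G).factorization r) < 2 * piClassNumber π G) :
    p ^ (Nat.card G).factorization p < 2 * pClassNumber p G := by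
  have h1 := piClassNumber_le_mul (G := G) (hπ p hpπ) (σ := π)
    (fun K => piClassNumber_le_prod _ (fun r hr => hπ r (Finset.mem_of_mem_erase hr)) K) hπ
  rw [← Finset.mul_prod_erase π (fun r => r ^ (Nat.card G).factorization r) hpπ] at hk
  set X := ∏ r ∈ π.erase p, r ^ (Nat.card G).factorization r
  by_contra hle
  have h2 : 2 * (pClassNumber p G * X) ≤ p ^ (Nat.card G).factorization p * X := by
    rw [← mul_assoc]; exact Nat.mul_le_mul_right _ (not_lt.1 hle)
  omega

/-- In a group of odd order many classes of `p`-elements force an abelian Sylow subgroup and a normal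
`p`-complement. -/
theorem odd_many_pClasses {p : ℕ} [Fact p.Prime] (hodd : Odd (Nat.card G)) (hp2 : p ≠ 2) (P : Sylow p G)
    (hk : Nat.card (P : Subgroup G) < 2 * pClassNumber p G) :
    IsMulCommutative (P : Subgroup G) ∧ Cfsg.HasNormalPComplement p G := by
  classical
  have := Fintype.ofFinite G
  have hp : p.Prime := Fact.out
  have hp3 : 3 ≤ p := lt_of_le_of_ne hp.two_le (Ne.symm hp2)
  have cs : ∀ A : Subgroup G, (Finset.univ.filter fun x => x ∈ A).card = Nat.card A := fun A => by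
    rw [Nat.card_eq_fintype_card, Fintype.card_subtype]
  rw [pClassNumber_eq P] at hk
  set s := Finset.univ.filter fun x => x ∈ (P : Subgroup G) with hs
  have hs' : s.card = Nat.card (P : Subgroup G) := cs _
  have hoddg : ∀ t : G, Odd (orderOf t) := fun t => Odd.of_dvd_nat hodd (orderOf_dvd_natCard t)
  have key : ∀ F : Subgroup G, F ≤ (P : Subgroup G) →
      (∀ x ∈ (P : Subgroup G), x ∉ F → ∃ t : G, t * x ≠ x * t ∧ ∀ y ∈ (P : Subgroup G), t * y * t⁻¹ ∈ (P : Subgroup G)) →
      F.relIndex (P : Subgroup G) ≤ 3 := by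
    intro F hF hmove
    have h3 := three_mul_classes_le (s := s) (f := Finset.univ.filter fun x => x ∈ F)
      (fun x hx => by simp only [hs, Finset.mem_filter, Finset.mem_univ, true_and] at hx ⊢; exact hF hx)
      (fun x hx hxf => by
        simp only [hs, Finset.mem_filter, Finset.mem_univ, true_and] at hx hxf
        obtain ⟨t, ht, htP⟩ := hmove x hx hxf
        exact ⟨t, hoddg t, ht, fun y hy => by
          simp only [hs, Finset.mem_filter, Finset.mem_univ, true_and] at hy ⊢; exact htP y hy⟩)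
    rw [cs F] at h3
    have hmul : Nat.card F * F.relIndex (P : Subgroup G) = Nat.card (P : Subgroup G) := by
      have := card_mul_index (F.subgroupOf (P : Subgroup G))
      rwa [Nat.card_congr (subgroupOfEquivOfLe hF).toEquiv] at this
    by_contra hlt
    have h4 : Nat.card F * 4 ≤ Nat.card (P : Subgroup G) := hmul ▸ Nat.mul_le_mul_left _ (by omega)
    omega
  -- `P` is abelian
  have hab : IsMulCommutative (P : Subgroup G) := by
    set F := (P : Subgroup G) ⊓ centralizer ((P : Subgroup G) : Set G) with hF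
    have h1 := key F inf_le_left fun x hx hxF => by
      obtain ⟨t, ht, htx⟩ : ∃ t ∈ (P : Subgroup G), t * x ≠ x * t := by
        by_contra! hall
        exact hxF ⟨hx, mem_centralizer_iff.2 hall⟩
      exact ⟨t, htx, fun y hy => mul_mem (mul_mem ht hy) (inv_mem ht)⟩
    let F' := F.subgroupOf (P : Subgroup G)
    have hFc : F' ≤ center (P : Subgroup G) := fun c hc => mem_center_iff.2 fun u =>
      Subtype.ext (mem_centralizer_iff.1 hc.2 u u.2)
    have : F'.Normal := ⟨fun n hn g => by rw [mem_center_iff.1 (hFc hn) g, mul_inv_cancel_right]; exact hn⟩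
    have hq : IsPGroup p ((P : Subgroup G) ⧸ F') := P.2.to_quotient F'
    obtain ⟨k, hk'⟩ := IsPGroup.iff_card.1 hq
    have hcardq : Nat.card ((P : Subgroup G) ⧸ F') ≤ 3 := by rw [← index_eq_card]; exact h1
    have hcyc : IsCyclic ((P : Subgroup G) ⧸ F') := by
      have hk1 : k ≤ 1 := by
        by_contra hlt
        have := Nat.pow_le_pow_right hp.pos (show 2 ≤ k by omega)
        nlinarith
      interval_cases k
      · have : Subsingleton ((P : Subgroup G) ⧸ F') := (Nat.card_eq_one_iff_unique.1 (by rw [hk', pow_zero])).1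
        infer_instance
      · exact isCyclic_of_prime_card (p := p) (by rw [hk', pow_one])
    exact MonoidHom.isMulCommutative_of_isCyclic_of_ker_le_center (QuotientGroup.mk' F')
      ((QuotientGroup.ker_mk' F').le.trans hFc)
  refine ⟨hab, ?_⟩
  by_contra hnc
  have hnle : ¬ normalizer ((P : Subgroup G) : Set G) ≤ centralizer ((P : Subgroup G) : Set G) :=
    fun hle => hnc (hasNormalPComplement_of_normalizer_le_centralizer P hle)
  obtain ⟨g, hg, hgC⟩ := SetLike.not_le_iff_exists.1 hnle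
  have hPC : (P : Subgroup G) ≤ centralizer ((P : Subgroup G) : Set G) := fun x hx =>
    mem_centralizer_iff.2 fun y hy => congrArg Subtype.val (hab.is_comm.comm ⟨y, hy⟩ ⟨x, hx⟩)
  obtain ⟨v, hv, t, ht, hgvt, ⟨b, hb⟩, htp⟩ := exists_split_bound g hp
  have hvN : v ∈ normalizer ((P : Subgroup G) : Set G) := zpowers_le.2 hg hv
  have htN : t ∈ normalizer ((P : Subgroup G) : Set G) := zpowers_le.2 hg ht
  have hvP : v ∈ (P : Subgroup G) := by
    rw [← P.3 ((IsPGroup.of_card (n := b) (by rw [Nat.card_zpowers, hb]) : IsPGroup p (zpowers v)).to_sup_of_normal_right'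
      P.2 (zpowers_le.2 hvN)) le_sup_right]
    exact mem_sup_left (mem_zpowers v)
  have htC : t ∉ centralizer ((P : Subgroup G) : Set G) := fun hc => hgC (hgvt ▸ mul_mem (hPC hvP) hc)
  have htP : ∀ y ∈ (P : Subgroup G), t * y * t⁻¹ ∈ (P : Subgroup G) := fun y hy => (mem_normalizer_iff.1 htN y).1 hy
  set F := (P : Subgroup G) ⊓ centralizer ({t} : Set G) with hF
  have h1 := key F inf_le_left fun x hx hxF =>
    ⟨t, fun e => hxF ⟨hx, mem_centralizer_singleton_iff.2 e.symm⟩, htP⟩
  have : (F.subgroupOf (P : Subgroup G)).Normal := ⟨fun n hn g => by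
    rw [hab.is_comm.comm g n, mul_inv_cancel_right]; exact hn⟩
  obtain ⟨k, hk'⟩ := IsPGroup.iff_card.1 P.2
  have hd : F.relIndex (P : Subgroup G) ∣ p ^ k := by rw [← hk']; exact index_dvd_card _
  obtain ⟨i, -, hi⟩ := (Nat.dvd_prime_pow hp).1 hd
  rcases Nat.lt_or_ge i 1 with hi0 | hi1
  · have hle : (P : Subgroup G) ≤ F := relIndex_eq_one.1 (by rw [hi, show i = 0 by omega, pow_zero])
    exact htC (mem_centralizer_iff.2 fun x hx =>
      mem_centralizer_singleton_iff.1 (hle hx).2)
  · have h3 : p ^ i ≤ 3 := hi ▸ h1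
    have hp3' : p = 3 ∧ i = 1 := by
      rcases Nat.lt_or_ge i 2 with h | h
      · obtain rfl : i = 1 := by omega
        rw [pow_one] at h3
        exact ⟨by omega, rfl⟩
      · have := Nat.pow_le_pow_right hp.pos h
        nlinarith
    obtain ⟨rfl, rfl⟩ := hp3'
    have hc3 : (orderOf t).Coprime (Nat.card (P : Subgroup G)) := by
      rw [hk']; exact (((Nat.Prime.coprime_iff_not_dvd hp).2 htp).symm).pow_right k
    exact relIndex_fixed_ne htP (hoddg t) hc3 (Or.inr rfl) (by rw [hi, pow_one])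

/-- Many classes of `π`-elements. -/
theorem exists_complement_of_many_piClasses {π : Finset ℕ} (hπ : ∀ r ∈ π, r.Prime) (h2 : 2 ∈ π)
    (hk : π.prod (fun r => r ^ (Nat.card G).factorization r) < 2 * piClassNumber π G) :
    (∃ N : Subgroup G, N.Normal ∧ (∀ r : ℕ, r.Prime → r ∣ Nat.card ↥N → r ∉ π) ∧
      ∀ r : ℕ, r.Prime → r ∣ N.index → r ∈ π) ∧
      ∃ H : Subgroup G, Cfsg.IsPiHall ((↑π : Set ℕ) \ {2}) H ∧ IsMulCommutative ↥H := by
  classical
  have := Fintype.ofFinite G
  have hf2 : Fact (Nat.Prime 2) := ⟨Nat.prime_two⟩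
  obtain ⟨P2⟩ := (inferInstance : Nonempty (Sylow 2 G))
  have hc2 : Cfsg.HasNormalPComplement 2 G := by
    by_contra hn
    have h1 := two_mul_pClassNumber_le hn P2
    have h3 := lt_two_mul_pClassNumber hπ h2 hk
    rw [P2.card_eq_multiplicity] at h1
    omega
  set K := Cfsg.pResidual 2 G with hKdef
  have hKn : K.Normal := pResidual_normal
  have hKodd : Odd (Nat.card K) := by
    have h1 := hasNormalPComplement_iff_coprime_pResidual.1 hc2
    rw [← Nat.not_even_iff_odd, even_iff_two_dvd]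
    exact Nat.prime_two.coprime_iff_not_dvd.1 h1.symm
  have hKmem : ∀ g : G, g ∈ K ↔ ¬ 2 ∣ orderOf g := fun g => by
    rw [mem_pResidual_iff hc2, Nat.coprime_comm, Nat.prime_two.coprime_iff_not_dvd]
  have hKfac : ∀ p : ℕ, p ≠ 2 → (Nat.card K).factorization p = (Nat.card G).factorization p := by
    intro p hp
    obtain ⟨N, hN, hc, hq⟩ := hasNormalPComplement_iff_exists.1 hc2
    obtain ⟨a, ha⟩ := IsPGroup.iff_card.1 hq
    rw [← pResidual_eq_of_coprime_isPGroup_quotient hc hq, ← hKdef] at ha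
    rw [← card_mul_index K, index_eq_card, ha,
      Nat.factorization_mul Nat.card_pos.ne' (pow_ne_zero _ two_ne_zero), Finsupp.add_apply,
      Nat.Prime.factorization_pow Nat.prime_two, Finsupp.single_eq_of_ne hp, add_zero]
  -- the odd primes
  have hgood : ∀ p ∈ π, p ≠ 2 → ∀ [Fact p.Prime], Cfsg.HasNormalPComplement p K ∧
      ∀ S : Sylow p K, IsMulCommutative (S : Subgroup K) := by
    intro p hp hp2 _
    have h3 := lt_two_mul_pClassNumber hπ hp hk
    have h4 : pClassNumber p G ≤ pClassNumber p K := by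
      refine Nat.card_le_card_of_surjective
        (fun c => ⟨ConjClasses.map K.subtype c.1, fun y hy => ?_⟩) ?_
      · obtain ⟨x, hx⟩ := ConjClasses.exists_rep c.1
        obtain ⟨k, hk'⟩ := c.2 x (by rw [← hx]; exact ConjClasses.mem_carrier_mk)
        refine ⟨k, ?_⟩
        rw [← hx] at hy
        rw [order_class_congr (ConjClasses.mem_carrier_iff_mk_eq.1 hy), Subgroup.coe_subtype, Subgroup.orderOf_coe, hk']
      · rintro ⟨c, hc⟩
        obtain ⟨x, rfl⟩ := ConjClasses.exists_rep c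
        obtain ⟨k, hk'⟩ := hc x ConjClasses.mem_carrier_mk
        have hxK : x ∈ K := (hKmem x).2 (by
          rw [hk']
          exact fun hd => hp2 ((Nat.prime_dvd_prime_iff_eq Nat.prime_two (hπ p hp)).1 (Nat.prime_two.dvd_of_dvd_pow hd)).symm)
        refine ⟨⟨ConjClasses.mk ⟨x, hxK⟩, fun y hy => ⟨k, ?_⟩⟩, Subtype.ext rfl⟩
        rw [order_class_congr (ConjClasses.mem_carrier_iff_mk_eq.1 hy), Subgroup.orderOf_mk, hk']
    have hS : ∀ S : Sylow p K, Nat.card (S : Subgroup K) < 2 * pClassNumber p K := fun S => by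
      rw [S.card_eq_multiplicity, hKfac p hp2]; omega
    obtain ⟨S₀⟩ := (inferInstance : Nonempty (Sylow p K))
    exact ⟨(odd_many_pClasses hKodd hp2 S₀ (hS S₀)).2, fun S => (odd_many_pClasses hKodd hp2 S (hS S)).1⟩
  -- the complement
  let N : Subgroup G :=
    { carrier := {g | g ∈ K ∧ ∀ p ∈ π, p ≠ 2 → ¬ p ∣ orderOf g}
      one_mem' := ⟨one_mem K, fun p hp _ hd => (hπ p hp).ne_one (Nat.dvd_one.1 (orderOf_one (G := G) ▸ hd))⟩
      inv_mem' := fun {g} hg => ⟨inv_mem hg.1, fun p hp hp2 => by rw [orderOf_inv]; exact hg.2 p hp hp2⟩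
      mul_mem' := fun {a b} ha hb => ⟨mul_mem ha.1 hb.1, fun p hp hp2 => by
        have := Fact.mk (hπ p hp)
        have hc := (hgood p hp hp2).1
        have hpm : ∀ z : K, z ∈ Cfsg.pResidual p K ↔ ¬ p ∣ orderOf (z : G) := fun z => by
          rw [mem_pResidual_iff hc, Subgroup.orderOf_coe, Nat.coprime_comm, (hπ p hp).coprime_iff_not_dvd]
        exact (hpm ⟨a * b, mul_mem ha.1 hb.1⟩).1 (mul_mem (a := (⟨a, ha.1⟩ : K)) (b := ⟨b, hb.1⟩)
          ((hpm _).2 (ha.2 p hp hp2)) ((hpm _).2 (hb.2 p hp hp2)))⟩ }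
  have hNn : N.Normal := ⟨fun n hn g => ⟨hKn.conj_mem n hn.1 g, fun p hp hp2 => by
    rw [← MulAut.conj_apply, MulEquiv.orderOf_eq]; exact hn.2 p hp hp2⟩⟩
  have hNπ : ∀ g ∈ N, ∀ r : ℕ, r.Prime → r ∈ π → ¬ r ∣ orderOf g := by
    intro g hg r _ hrπ
    by_cases hr2 : r = 2
    · subst hr2; exact (hKmem g).1 hg.1
    · exact hg.2 r hrπ hr2
  have hNcop : ∀ r : ℕ, r.Prime → r ∣ Nat.card ↥N → r ∉ π := by
    intro r hr hd hrπ
    have := Fact.mk hr
    obtain ⟨x, hx⟩ := exists_prime_orderOf_dvd_card' r hd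
    rw [← Subgroup.orderOf_coe] at hx
    exact hNπ x x.2 r hr hrπ (dvd_of_eq hx.symm)
  have hNindex : ∀ r : ℕ, r.Prime → r ∣ N.index → r ∈ π := by
    intro r hr hd
    have := Fact.mk hr
    rw [index_eq_card] at hd
    obtain ⟨x, hx⟩ := exists_prime_orderOf_dvd_card' r hd
    obtain ⟨g, rfl⟩ := QuotientGroup.mk'_surjective N x
    obtain ⟨v, hv, w, hw, hgvw, ⟨b, hb⟩, hwr⟩ := exists_split_bound g hr
    by_contra hrπ
    have hvN : v ∈ N := by
      have hne : ∀ p ∈ π, ¬ p ∣ orderOf v := fun p hp hd => by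
        rw [hb] at hd
        exact hrπ ((Nat.prime_dvd_prime_iff_eq (hπ p hp) hr).1 ((hπ p hp).dvd_of_dvd_pow hd) ▸ hp)
      exact ⟨(hKmem v).2 (hne 2 h2), fun p hp _ => hne p hp⟩
    have e : QuotientGroup.mk' N g = QuotientGroup.mk' N w := by
      rw [hgvw, map_mul, show QuotientGroup.mk' N v = 1 from (QuotientGroup.eq_one_iff v).2 hvN, one_mul]
    rw [e] at hx
    exact hwr (hx ▸ orderOf_map_dvd (QuotientGroup.mk' N) w)
  refine ⟨⟨N, hNn, hNcop, hNindex⟩, ?_⟩
  have hNK : N ≤ K := fun g hg => hg.1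
  set N' := N.subgroupOf K
  have : N'.Normal := hNn.subgroupOf K
  have hcard : Nat.card N' = Nat.card N := Nat.card_congr (subgroupOfEquivOfLe hNK).toEquiv
  have hidx : N'.index ∣ N.index := relIndex_dvd_index_of_normal N K
  have hcop : (Nat.card N').Coprime N'.index := Nat.coprime_of_dvd fun r hr h1 h3 =>
    hNcop r hr (hcard ▸ h1) (hNindex r hr (h3.trans hidx))
  obtain ⟨H, hH⟩ := exists_right_complement'_of_coprime hcop
  have hHcard : Nat.card H = N'.index := hH.symm.index_eq_card.symm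
  refine ⟨H.map K.subtype, ⟨fun r hr hd => ?_, fun r hr hrπ hd => ?_⟩, ?_⟩
  · rw [card_map_of_injective K.subtype_injective] at hd
    refine ⟨hNindex r hr ((hHcard ▸ hd).trans hidx), fun e => ?_⟩
    rw [Set.mem_singleton_iff] at e
    subst e
    exact (Nat.not_even_iff_odd.2 hKodd) (even_iff_two_dvd.2 (hd.trans (card_subgroup_dvd_card H)))
  · have hr2 : r ≠ 2 := fun e => hrπ.2 e
    rw [index_map_of_injective _ K.subtype_injective, range_subtype] at hd
    rcases hr.dvd_mul.1 hd with h1 | h1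
    · rw [hH.index_eq_card, hcard] at h1
      exact hNcop r hr h1 hrπ.1
    · have h3 := hKfac r hr2
      rw [← card_mul_index K, Nat.factorization_mul Nat.card_pos.ne' (index_ne_zero_of_finite),
        Finsupp.add_apply] at h3
      have h4 := (hr.dvd_iff_one_le_factorization index_ne_zero_of_finite).1 h1
      omega
  · have hHab : IsMulCommutative H := by
      refine ⟨⟨fun a b => Subtype.ext ?_⟩⟩
      have hc : ⁅(a : K), (b : K)⁆ ∈ N' := by
        refine ⟨(⁅(a : K), (b : K)⁆).2, fun p hp hp2 => ?_⟩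
        have := Fact.mk (hπ p hp)
        obtain ⟨hc, hS⟩ := hgood p hp hp2
        have hpm : ∀ z : K, z ∈ Cfsg.pResidual p K ↔ ¬ p ∣ orderOf (z : G) := fun z => by
          rw [mem_pResidual_iff hc, Subgroup.orderOf_coe, Nat.coprime_comm, (hπ p hp).coprime_iff_not_dvd]
        refine (hpm ⁅(a : K), (b : K)⁆).1 ?_
        have := pResidual_normal (G := K) (p := p)
        obtain ⟨S⟩ := (inferInstance : Nonempty (Sylow p K))
        have hdec := exists_mem_sylow_mul S (C := Cfsg.pResidual p K) fun z hz => mem_pResidual_of_coprime hz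
        obtain ⟨u1, hu1, c1, hc1, e1⟩ := hdec (a : K)
        obtain ⟨u2, hu2, c2, hc2, e2⟩ := hdec (b : K)
        rw [← QuotientGroup.eq_one_iff, ← QuotientGroup.mk'_apply, map_commutatorElement, e1, e2, map_mul, map_mul,
          show QuotientGroup.mk' (Cfsg.pResidual p K) c1 = 1 from (QuotientGroup.eq_one_iff c1).2 hc1,
          show QuotientGroup.mk' (Cfsg.pResidual p K) c2 = 1 from (QuotientGroup.eq_one_iff c2).2 hc2,
          mul_one, mul_one, ← map_commutatorElement,
          show ⁅u1, u2⁆ = 1 from commutatorElement_eq_one_iff_mul_comm.2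
            (congrArg Subtype.val ((hS S).is_comm.comm ⟨u1, hu1⟩ ⟨u2, hu2⟩)), map_one]
      have hmem : ⁅(a : K), (b : K)⁆ ∈ H := by
        rw [commutatorElement_def]
        exact mul_mem (mul_mem (mul_mem a.2 b.2) (inv_mem a.2)) (inv_mem b.2)
      have h1 : ⁅(a : K), (b : K)⁆ = 1 := mem_bot.1 (hH.disjoint.le_bot ⟨hc, hmem⟩)
      exact commutatorElement_eq_one_iff_mul_comm.1 h1
    infer_instance

end CfsgLib.Coprime
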