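import Cfsg.Agent.Lib.Coprime.PClasses
set_option autoImplicit false

/-!
`k_π(G) ≤ k_r(G) · |G|_{π - r}`.
-/

namespace CfsgLib.Coprime

universe u

variable {G : Type u} [Group G] [Finite G]

/-- The classes of `π`-elements. -/
abbrev piClasses (π : Finset ℕ) (G : Type*) [Group G] : Type _ :=
  {c : ConjClasses G // ∀ x ∈ c.carrier, ∀ r : ℕ, r.Prime → r ∣ orderOf x → r ∈ π}

/-- The `π`-part of a natural number. -/
def piPart (π : Finset ℕ) (n : ℕ) : ℕ := π.prod (fun r => r ^ n.factorization r)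

theorem piPart_mono {π : Finset ℕ} {m n : ℕ} (h : m ∣ n) (hn : n ≠ 0) (hπ : ∀ r ∈ π, r.Prime) :
    piPart π m ≤ piPart π n :=
  Finset.prod_le_prod' fun r hr => Nat.pow_le_pow_right (hπ r hr).pos
    (((Nat.factorization_le_iff_dvd (ne_zero_of_dvd_ne_zero hn h) hn).mpr h) r)

theorem exists_split {π : Finset ℕ} (r : ℕ) (hr : r.Prime) (x : G)
    (hx : ∀ s : ℕ, s.Prime → s ∣ orderOf x → s ∈ π) :
    ∃ u v : G, u * v = x ∧ Commute u v ∧ (∃ k, orderOf u = r ^ k) ∧
      (∀ s : ℕ, s.Prime → s ∣ orderOf v → s ∈ π.erase r) := by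
  obtain ⟨k, m, hm, hkm⟩ := Nat.exists_eq_pow_mul_and_not_dvd (orderOf_pos x).ne' r hr.ne_one
  have hcop : (r ^ k).Coprime m := Nat.Coprime.pow_left k ((hr.coprime_iff_not_dvd).mpr hm)
  have hb := Nat.gcd_eq_gcd_ab (r ^ k) m
  rw [hcop.gcd_eq_one, Nat.cast_one] at hb
  refine ⟨x ^ ((m : ℤ) * (r ^ k).gcdB m), x ^ (((r ^ k : ℕ) : ℤ) * (r ^ k).gcdA m), ?_,
    (Commute.refl x).zpow_zpow _ _, ?_, ?_⟩
  · rw [← zpow_add, add_comm, ← hb, zpow_one]
  · have h1 : orderOf (x ^ ((m : ℤ) * (r ^ k).gcdB m)) ∣ r ^ k := by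
      apply orderOf_dvd_of_pow_eq_one
      rw [← zpow_natCast, ← zpow_mul]
      apply orderOf_dvd_iff_zpow_eq_one.mp
      rw [hkm]; push_cast; exact ⟨(r ^ k).gcdB m, by ring⟩
    obtain ⟨j, -, hj⟩ := (Nat.dvd_prime_pow hr).mp h1
    exact ⟨j, hj⟩
  · intro s hs hsd
    have h1 : orderOf (x ^ (((r ^ k : ℕ) : ℤ) * (r ^ k).gcdA m)) ∣ m := by
      apply orderOf_dvd_of_pow_eq_one
      rw [← zpow_natCast, ← zpow_mul]
      apply orderOf_dvd_iff_zpow_eq_one.mp
      rw [hkm]; push_cast; exact ⟨(r ^ k).gcdA m, by ring⟩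
    have h2 : s ∣ m := hsd.trans h1
    exact Finset.mem_erase.mpr ⟨fun h => hm (h ▸ h2), hx s hs (hkm ▸ h2.mul_left _)⟩

theorem card_piClasses_le_mul {π : Finset ℕ} {r : ℕ} (hr : r.Prime) (M : ℕ)
    (hM : ∀ H : Subgroup G, Nat.card (piClasses (π.erase r) H) ≤ M) :
    Nat.card (piClasses π G) ≤ Nat.card (pClasses r G) * M := by
  classical
  have := Fintype.ofFinite (pClasses r G)
  choose rep hrep using fun c : ConjClasses G => ConjClasses.exists_rep c
  let C : pClasses r G → Subgroup G := fun c => Subgroup.centralizer ({rep c.1} : Set G)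
  choose repH hrepH using fun (H : Subgroup G) (c : ConjClasses H) => ConjClasses.exists_rep c
  let F : (Σ c : pClasses r G, piClasses (π.erase r) (C c)) → ConjClasses G :=
    fun q => ConjClasses.mk (rep q.1.1 * (repH (C q.1) q.2.1 : G))
  have hsub : {c : ConjClasses G | ∀ x ∈ c.carrier, ∀ r : ℕ, r.Prime → r ∣ orderOf x → r ∈ π}
      ⊆ Set.range F := by
    intro c hc
    obtain ⟨x, rfl⟩ := ConjClasses.exists_rep c
    obtain ⟨u, v, huv, hcomm, ⟨k, hk⟩, hv⟩ :=
      exists_split r hr x (hc x ConjClasses.mem_carrier_mk)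
    have hconj : ∀ y ∈ (ConjClasses.mk u).carrier, ∃ j, orderOf y = r ^ j := by
      intro y hy
      rw [ConjClasses.mem_carrier_iff_mk_eq, ConjClasses.mk_eq_mk_iff_isConj, isConj_iff] at hy
      obtain ⟨t, ht⟩ := hy
      refine ⟨k, ?_⟩
      rw [← hk, ← ht]
      exact (MulEquiv.orderOf_eq (MulAut.conj t) y).symm
    let cu : pClasses r G := ⟨ConjClasses.mk u, hconj⟩
    obtain ⟨t, ht⟩ := isConj_iff.mp (ConjClasses.mk_eq_mk_iff_isConj.mp (hrep cu.1).symm)
    have hw : t * v * t⁻¹ ∈ C cu := by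
      refine Subgroup.mem_centralizer_singleton_iff.mpr ?_
      rw [← ht]
      calc t * v * t⁻¹ * (t * u * t⁻¹) = t * (v * u) * t⁻¹ := by group
        _ = t * (u * v) * t⁻¹ := by rw [hcomm.eq]
        _ = t * u * t⁻¹ * (t * v * t⁻¹) := by group
    have hd : ∀ z ∈ (ConjClasses.mk (⟨_, hw⟩ : C cu)).carrier,
        ∀ s : ℕ, s.Prime → s ∣ orderOf z → s ∈ π.erase r := by
      intro z hz s hs hsd
      rw [ConjClasses.mem_carrier_iff_mk_eq, ConjClasses.mk_eq_mk_iff_isConj, isConj_iff] at hz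
      obtain ⟨a, ha⟩ := hz
      apply hv s hs
      have h1 : orderOf (a * z * a⁻¹) = orderOf z := MulEquiv.orderOf_eq (MulAut.conj a) z
      rw [ha, ← Subgroup.orderOf_coe] at h1
      have h2 : orderOf (t * v * t⁻¹) = orderOf v := MulEquiv.orderOf_eq (MulAut.conj t) v
      rw [← h2]
      exact hsd.trans (dvd_of_eq h1.symm)
    refine ⟨⟨cu, ConjClasses.mk ⟨_, hw⟩, hd⟩, ?_⟩
    obtain ⟨b, hb⟩ := isConj_iff.mp (ConjClasses.mk_eq_mk_iff_isConj.mp
      (hrepH (C cu) (ConjClasses.mk ⟨_, hw⟩)).symm)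
    refine (ConjClasses.mk_eq_mk_iff_isConj.mpr (isConj_iff.mpr ⟨(b : G) * t, ?_⟩)).symm
    show (b : G) * t * x * ((b : G) * t)⁻¹ = _
    have hb' : (b : G) * (t * v * t⁻¹) * (b : G)⁻¹ = (repH (C cu) (ConjClasses.mk ⟨_, hw⟩) : G) :=
      congrArg Subtype.val hb
    have hbc : (b : G) * rep cu.1 * (b : G)⁻¹ = rep cu.1 := by
      rw [Subgroup.mem_centralizer_singleton_iff.mp b.2, mul_inv_cancel_right]
    show _ = rep cu.1 * (repH (C cu) (ConjClasses.mk ⟨_, hw⟩) : G)
    calc (b : G) * t * x * ((b : G) * t)⁻¹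
        = ((b : G) * (t * u * t⁻¹) * (b : G)⁻¹) * ((b : G) * (t * v * t⁻¹) * (b : G)⁻¹) := by
          rw [← huv]; group
      _ = _ := by rw [ht, hb', hbc]
  calc Nat.card (piClasses π G)
      ≤ Nat.card (Set.range F) := Nat.card_mono (Set.toFinite _) hsub
    _ ≤ Nat.card (Σ c : pClasses r G, piClasses (π.erase r) (C c)) :=
        Nat.card_le_card_of_surjective (Set.rangeFactorization F) Set.rangeFactorization_surjective
    _ = ∑ c : pClasses r G, Nat.card (piClasses (π.erase r) (C c)) := Nat.card_sigma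
    _ ≤ ∑ _c : pClasses r G, M := Finset.sum_le_sum fun c _ => hM (C c)
    _ = Nat.card (pClasses r G) * M := by
        rw [Finset.sum_const, Finset.card_univ, smul_eq_mul, Nat.card_eq_fintype_card]

/-- `k_π(G) ≤ |G|_π`. -/
theorem card_piClasses_le (π : Finset ℕ) (hπ : ∀ r ∈ π, r.Prime) (G : Type u) [Group G] [Finite G] :
    Nat.card (piClasses π G) ≤ piPart π (Nat.card G) := by
  induction π using Finset.induction generalizing G with
  | empty =>
    have : ∀ c : piClasses ∅ G, c.1 = ConjClasses.mk 1 := by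
      rintro ⟨c, hc⟩
      obtain ⟨x, rfl⟩ := ConjClasses.exists_rep c
      have hx : orderOf x = 1 := by
        by_contra h
        obtain ⟨s, hs, hsd⟩ := Nat.exists_prime_and_dvd h
        exact absurd (hc x ConjClasses.mem_carrier_mk s hs hsd) (Finset.notMem_empty s)
      exact congrArg ConjClasses.mk (orderOf_eq_one_iff.mp hx)
    have hs : Subsingleton (piClasses ∅ G) :=
      ⟨fun a b => Subtype.ext ((this a).trans (this b).symm)⟩
    simpa [piPart] using Finite.card_le_one_iff_subsingleton.mpr hs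
  | insert r π hr ih =>
    have hrp : r.Prime := hπ r (Finset.mem_insert_self r π)
    have := Fact.mk hrp
    have hπ' : ∀ s ∈ π, s.Prime := fun s hs => hπ s (Finset.mem_insert_of_mem hs)
    have h1 := card_piClasses_le_mul (G := G) (π := insert r π) hrp (piPart π (Nat.card G))
      (fun H => by
        rw [Finset.erase_insert hr]
        exact (ih hπ' H).trans (piPart_mono H.card_subgroup_dvd_card Nat.card_pos.ne' hπ'))
    refine h1.trans ?_
    rw [piPart, piPart, Finset.prod_insert hr]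
    exact Nat.mul_le_mul_right _ (card_pClasses_le r)

theorem card_piClasses_le_pClasses_mul {π : Finset ℕ} (hπ : ∀ r ∈ π, r.Prime) {r : ℕ}
    (hr : r ∈ π) :
    Nat.card (piClasses π G) ≤ Nat.card (pClasses r G) * piPart (π.erase r) (Nat.card G) :=
  card_piClasses_le_mul (hπ r hr) _ fun H =>
    (card_piClasses_le _ (fun s hs => hπ s (Finset.mem_of_mem_erase hs)) H).trans
      (piPart_mono H.card_subgroup_dvd_card Nat.card_pos.ne'
        (fun s hs => hπ s (Finset.mem_of_mem_erase hs)))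

end CfsgLib.Coprime
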