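import Mathlib.GroupTheory.PGroup
import Mathlib.GroupTheory.Commutator.Basic
import Mathlib.GroupTheory.FiniteAbelian.Duality
import Mathlib.RingTheory.IntegralDomain
import Mathlib.RingTheory.RootsOfUnity.EnoughRootsOfUnity
import Mathlib.Algebra.CharP.Basic
import Mathlib.Tactic

/-!
A bound for `2`-groups of class two with few involutions: if all squares lie in the central
elementary abelian subgroup `H` and the square roots of `1` form the central subgroup `N`, then
`|X| ≤ |H|² |N|`. The proof evaluates the sums `∑ χ (x²)` over the characters `χ` of `H`.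
-/

set_option autoImplicit false

open Subgroup
open scoped commutatorElement

namespace CfsgLib.Coprime

theorem hasEnoughRootsOfUnity_int {n : ℕ} [NeZero n] (hn : n ∣ 2) : HasEnoughRootsOfUnity ℤ n := by
  have : IsCyclic (rootsOfUnity n ℤ) := rootsOfUnity.isCyclic ℤ n
  refine ⟨?_, this⟩
  rcases (Nat.dvd_prime Nat.prime_two).mp hn with rfl | rfl
  · exact ⟨1, IsPrimitiveRoot.one⟩
  · exact ⟨-1, IsPrimitiveRoot.neg_one 0 (by norm_num)⟩

theorem pow_dvd_of_sq_eq {s : ℤ} {e m : ℕ} (hs : s ^ 2 = 2 ^ e) (hm : 2 * m ≤ e + 1) :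
    (2 : ℤ) ^ m ∣ s := by
  have h1 : s.natAbs ^ 2 = 2 ^ e := by
    have := congrArg Int.natAbs hs
    rwa [Int.natAbs_pow, Int.natAbs_pow] at this
  obtain ⟨j, -, hj⟩ := (Nat.dvd_prime_pow Nat.prime_two).mp (h1 ▸ dvd_pow_self s.natAbs two_ne_zero)
  rw [hj, ← pow_mul] at h1
  have h2 := Nat.pow_right_injective le_rfl h1
  rw [← Int.natAbs_dvd_natAbs, Int.natAbs_pow, hj]
  exact pow_dvd_pow 2 (by omega)

/-- The bound `|X| ≤ |H|² |N|`. -/
theorem card_le_of_squares {X : Type*} [Group X] [Finite X] (hX : IsPGroup 2 X) (H N : Subgroup X)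
    (hHc : H ≤ center X) (hNc : N ≤ center X) (hHe : ∀ h ∈ H, h ^ 2 = 1) (hsq : ∀ x : X, x ^ 2 ∈ H)
    (hcomm : ∀ x y : X, ⁅x, y⁆ ∈ H) (hN : ∀ x : X, x ^ 2 = 1 ↔ x ∈ N) :
    Nat.card X ≤ Nat.card H ^ 2 * Nat.card N := by
  classical
  have := Fintype.ofFinite X
  let _ : CommGroup H :=
    { (inferInstance : Group H) with
      mul_comm := fun a b => Subtype.ext (mem_center_iff.mp (hHc b.2) a) }
  have hexp : Monoid.exponent H ∣ 2 :=
    Monoid.exponent_dvd_of_forall_pow_eq_one fun h => Subtype.ext (hHe h h.2)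
  have hne : NeZero (Monoid.exponent H) := ⟨Monoid.exponent_ne_zero_of_finite⟩
  have := hasEnoughRootsOfUnity_int hexp
  obtain ⟨eH⟩ := CommGroup.monoidHom_mulEquiv_of_hasEnoughRootsOfUnity H ℤ
  have : Finite (H →* ℤˣ) := Finite.of_equiv _ eH.symm.toEquiv
  have := Fintype.ofFinite (H →* ℤˣ)
  let q : X → H := fun x => ⟨x ^ 2, hsq x⟩
  let c : X → X → H := fun h x => ⟨⁅h, x⁆, hcomm h x⟩
  have hq : ∀ x h : X, q (x * h) = c h x * q x * q h := fun x h => by
    apply Subtype.ext
    show (x * h) ^ 2 = ⁅h, x⁆ * x ^ 2 * h ^ 2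
    have hc := mem_center_iff.mp (hHc (hcomm h x)) x
    calc (x * h) ^ 2 = x * ⁅h, x⁆ * x * h * h := by rw [commutatorElement_def, sq]; group
      _ = ⁅h, x⁆ * x * x * h * h := by rw [hc]
      _ = ⁅h, x⁆ * x ^ 2 * h ^ 2 := by rw [sq, sq]; group
  have hc1 : ∀ h x y : X, c h (x * y) = c h x * c h y := fun h x y => by
    apply Subtype.ext
    show ⁅h, x * y⁆ = ⁅h, x⁆ * ⁅h, y⁆
    rw [show ⁅h, x * y⁆ = ⁅h, x⁆ * (x * ⁅h, y⁆ * x⁻¹) by simp only [commutatorElement_def]; group,
      mem_center_iff.mp (hHc (hcomm h y)) x, mul_inv_cancel_right]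
  have hc2 : ∀ h k x : X, c (h * k) x = c h x * c k x := fun h k x => by
    apply Subtype.ext
    show ⁅h * k, x⁆ = ⁅h, x⁆ * ⁅k, x⁆
    rw [show ⁅h * k, x⁆ = h * ⁅k, x⁆ * h⁻¹ * ⁅h, x⁆ by simp only [commutatorElement_def]; group,
      mem_center_iff.mp (hHc (hcomm k x)) h, mul_inv_cancel_right,
      mem_center_iff.mp (hHc (hcomm k x)) ⁅h, x⁆]
  obtain ⟨a, ha⟩ := IsPGroup.iff_card.mp hX
  obtain ⟨b, hb⟩ := IsPGroup.iff_card.mp (hX.to_subgroup N)
  obtain ⟨d, hd⟩ := IsPGroup.iff_card.mp (hX.to_subgroup H)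
  let S : (H →* ℤˣ) → ℤ := fun χ => ∑ x : X, (χ (q x) : ℤ)
  set m := (a + b + 1) / 2 with hm
  -- each sum is divisible by `2^m`
  have hdiv : ∀ χ : H →* ℤˣ, (2 : ℤ) ^ m ∣ S χ := by
    intro χ
    let R : Subgroup X :=
      { carrier := {h | ∀ x, χ (c h x) = 1}
        one_mem' := fun x => by rw [show c 1 x = 1 from Subtype.ext (commutatorElement_one_left x), map_one]
        mul_mem' := fun {h k} hh hk x => by rw [hc2, map_mul, hh x, hk x, one_mul]
        inv_mem' := fun {h} hh x => by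
          have h1 := hc2 h⁻¹ h x
          rw [inv_mul_cancel, show c 1 x = 1 from Subtype.ext (commutatorElement_one_left x)] at h1
          have h2 := congrArg χ h1
          rwa [map_one, map_mul, hh x, mul_one, eq_comm] at h2 }
    have hinner : ∀ h : X, (∑ x : X, (χ (c h x) : ℤ)) = if h ∈ R then (Fintype.card X : ℤ) else 0 := by
      intro h
      let f : X →* ℤˣ := MonoidHom.mk' (fun x => χ (c h x)) fun x y => by rw [hc1, map_mul]
      have hf := sum_hom_units ((Units.coeHom ℤ).comp f)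
      rw [show (∑ x : X, (χ (c h x) : ℤ)) = ∑ x : X, ((Units.coeHom ℤ).comp f) x from rfl, hf]
      by_cases hR : h ∈ R
      · rw [if_pos hR, if_pos (MonoidHom.ext fun x => by
          show ((χ (c h x) : ℤˣ) : ℤ) = 1
          rw [hR x, Units.val_one])]
      · rw [if_neg hR, if_neg, Nat.cast_zero]
        intro he
        exact hR fun x => Units.ext (DFunLike.congr_fun he x)
    have hS2 : S χ ^ 2 = (Fintype.card X : ℤ) * ∑ h : R, (χ (q h) : ℤ) := by
      calc S χ ^ 2 = ∑ x : X, ∑ h : X, (χ (q x) : ℤ) * χ (q (x * h)) := by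
            rw [sq, Finset.sum_mul_sum]
            exact Finset.sum_congr rfl fun x _ => (Equiv.sum_comp (Equiv.mulLeft x)
              (fun y => (χ (q x) : ℤ) * χ (q y))).symm
        _ = ∑ h : X, (χ (q h) : ℤ) * ∑ x : X, (χ (c h x) : ℤ) := by
            rw [Finset.sum_comm]
            refine Finset.sum_congr rfl fun h _ => ?_
            rw [Finset.mul_sum]
            refine Finset.sum_congr rfl fun x _ => ?_
            rw [hq, map_mul, map_mul, Units.val_mul, Units.val_mul]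
            have h1 : ((χ (q x) : ℤˣ) : ℤ) * χ (q x) = 1 := Int.units_coe_mul_self _
            linear_combination ((χ (c h x) : ℤ) * (χ (q h) : ℤ)) * h1
        _ = _ := by
            rw [Finset.mul_sum]
            simp only [hinner, mul_ite, mul_zero]
            rw [Finset.sum_ite, Finset.sum_const_zero, add_zero,
              Finset.sum_subtype (Finset.univ.filter (· ∈ R)) (p := (· ∈ R)) (fun x => by simp)]
            exact Finset.sum_congr rfl fun h _ => mul_comm _ _
    let g : R →* ℤˣ := MonoidHom.mk' (fun h => χ (q (h : X))) fun h k => by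
      show χ (q ((h : X) * k)) = χ (q h) * χ (q k)
      rw [hq, map_mul, map_mul, k.2 (h : X), one_mul]
    have hg := sum_hom_units ((Units.coeHom ℤ).comp g)
    rw [show (∑ h : R, (χ (q h) : ℤ)) = ∑ h : R, ((Units.coeHom ℤ).comp g) h from rfl, hg] at hS2
    split_ifs at hS2
    · obtain ⟨r, hr⟩ := IsPGroup.iff_card.mp (hX.to_subgroup R)
      have hNR : N ≤ R := fun h hh x => by
        rw [show c h x = 1 from Subtype.ext (commutatorElement_eq_one_iff_mul_comm.mpr
          (mem_center_iff.mp (hNc hh) x).symm), map_one]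
      have hbr : b ≤ r := by
        rw [← Nat.pow_le_pow_iff_right (Nat.one_lt_two), ← hb, ← hr]
        exact card_le_of_le hNR
      rw [← Nat.card_eq_fintype_card, ← Nat.card_eq_fintype_card, ha, hr] at hS2
      refine pow_dvd_of_sq_eq (e := a + r) ?_ (by omega)
      rw [hS2, Nat.cast_pow, Nat.cast_pow, ← pow_add]; rfl
    · rw [Nat.cast_zero, mul_zero, sq_eq_zero_iff] at hS2
      rw [hS2]; exact dvd_zero _
  -- the total
  have htot : ∑ χ : H →* ℤˣ, S χ = ((Nat.card H * Nat.card N : ℕ) : ℤ) := by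
    simp only [S]
    rw [Finset.sum_comm]
    have hinner : ∀ x : X, (∑ χ : H →* ℤˣ, (χ (q x) : ℤ)) = if x ∈ N then (Nat.card H : ℤ) else 0 := by
      intro x
      let ev : (H →* ℤˣ) →* ℤˣ := MonoidHom.mk' (fun χ => χ (q x)) fun _ _ => rfl
      have hf := sum_hom_units ((Units.coeHom ℤ).comp ev)
      rw [show (∑ χ : H →* ℤˣ, (χ (q x) : ℤ)) = ∑ χ, ((Units.coeHom ℤ).comp ev) χ from rfl, hf]
      by_cases hx : x ∈ N
      · rw [if_pos hx, if_pos (MonoidHom.ext fun χ => by
          show ((χ (q x) : ℤˣ) : ℤ) = 1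
          rw [show q x = 1 from Subtype.ext ((hN x).mpr hx), map_one, Units.val_one]),
          ← Nat.card_eq_fintype_card, Nat.card_congr eH.toEquiv]
      · rw [if_neg hx, if_neg, Nat.cast_zero]
        intro he
        have hqx : q x ≠ 1 := fun h => hx ((hN x).mp (congrArg Subtype.val h))
        obtain ⟨φ, hφ⟩ := CommGroup.exists_apply_ne_one_of_hasEnoughRootsOfUnity H ℤ hqx
        exact hφ (Units.ext (DFunLike.congr_fun he φ))
    simp only [hinner]
    rw [Finset.sum_ite, Finset.sum_const_zero, add_zero, Finset.sum_const,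
      ← Fintype.card_subtype, ← Nat.card_eq_fintype_card, nsmul_eq_mul, Nat.cast_mul, mul_comm]
  have h1 : (2 : ℤ) ^ m ∣ ((Nat.card H * Nat.card N : ℕ) : ℤ) := htot ▸ Finset.dvd_sum fun χ _ => hdiv χ
  rw [hd, hb, ← pow_add] at h1
  have h2 : 2 ^ m ∣ 2 ^ (d + b) := by exact_mod_cast h1
  rw [Nat.pow_dvd_pow_iff_le_right Nat.one_lt_two] at h2
  rw [ha, hb, hd, ← pow_mul, ← pow_add]
  exact Nat.pow_le_pow_right two_pos (by omega)

end CfsgLib.Coprime
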