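import Mathlib
import Cfsg.Agent.Lib.Transfer.Frobenius
import Cfsg.Agent.Lib.StructB.Ambivalent
import Cfsg.Agent.Lib.StructB.NormalTwo

/-!
# Real elements of order four

If all involutions of a finite group are central, then an element of odd order inducing a
non-trivial automorphism of a 2-subgroup `D` yields a non-central real element of `D`.
-/

set_option autoImplicit false

namespace CfsgLib.Coprime

open Subgroup
open scoped Pointwise commutatorElement

universe u

variable {G : Type u} [Group G]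

/-- A subgroup invariant under `g` containing all `d⁻¹ * g d g⁻¹` is the whole of `D`, if every
proper invariant subgroup is centralised by `g` but `D` is not. -/
theorem eq_of_moves [Finite G] {D : Subgroup G} (hD : IsPGroup 2 D) {g : G} (hg : Odd (orderOf g))
    (hnc : ¬ ∀ d ∈ D, g * d * g⁻¹ = d) {E : Subgroup G} (hE : E ≤ D)
    (hfix : E ≠ D → ∀ e ∈ E, g * e * g⁻¹ = e)
    (hmove : ∀ d ∈ D, d⁻¹ * (g * d * g⁻¹) ∈ E) : E = D := by
  by_contra hne
  apply hnc
  intro d hd
  set e := d⁻¹ * (g * d * g⁻¹) with he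
  have hge : g * e * g⁻¹ = e := hfix hne e (hmove d hd)
  have key : ∀ i : ℕ, g ^ i * d * (g ^ i)⁻¹ = d * e ^ i := by
    intro i
    induction i with
    | zero => simp
    | succ i ih =>
      have hgd : g * d * g⁻¹ = d * e := by rw [he]; group
      calc g ^ (i + 1) * d * (g ^ (i + 1))⁻¹ = g * (g ^ i * d * (g ^ i)⁻¹) * g⁻¹ := by
            rw [pow_succ']; group
        _ = (g * d * g⁻¹) * (g * e ^ i * g⁻¹) := by rw [ih]; group
        _ = d * e * e ^ i := by rw [← conj_pow, hge, hgd]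
        _ = d * e ^ (i + 1) := by rw [pow_succ', mul_assoc]
  have hn : e ^ orderOf g = 1 := by
    have := key (orderOf g)
    rw [pow_orderOf_eq_one, inv_one, mul_one, one_mul] at this
    exact left_eq_mul.1 this
  obtain ⟨k, hk⟩ := IsPGroup.iff_orderOf.1 hD ⟨e, hE (hmove d hd)⟩
  rw [← orderOf_coe] at hk
  have h1 : orderOf e ∣ orderOf g := orderOf_dvd_of_pow_eq_one hn
  have h2 : orderOf e = 1 := by
    have h2 : orderOf e = 2 ^ k := hk
    rcases Nat.eq_zero_or_pos k with h0 | h0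
    · rw [h2, h0, pow_zero]
    · exact absurd ((dvd_pow_self 2 h0.ne').trans (h2 ▸ h1)) hg.not_two_dvd_nat
  have h3 : e = 1 := orderOf_eq_one_iff.1 h2
  rw [he, inv_mul_eq_one] at h3
  exact h3.symm

/-- In a finite group an element mapping `E` into itself normalises it. -/
theorem mem_normalizer_of_conj_mem [Finite G] {E : Subgroup G} {g : G}
    (h : ∀ e ∈ E, g * e * g⁻¹ ∈ E) : g ∈ normalizer (E : Set G) := by
  have hle : E.map (MulAut.conj g).toMonoidHom ≤ E := by
    rintro _ ⟨e, he, rfl⟩; exact h e he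
  have heq := eq_of_le_of_card_ge hle
    (by rw [card_map_of_injective (MulAut.conj g).injective])
  refine mem_normalizer_iff.2 fun e => ⟨h e, fun he => ?_⟩
  rw [← heq] at he
  obtain ⟨f, hf, hfe⟩ := he
  have : f = e := (MulAut.conj g).injective hfe
  exact this ▸ hf

/-- A non-trivial action of an element of odd order on a 2-subgroup gives a real element. -/
theorem exists_real_of_action [Finite G] (hcen : ∀ t : G, t * t = 1 → t ∈ center G) :
    ∀ (n : ℕ) (D : Subgroup G), Nat.card D = n → IsPGroup 2 D → ∀ g ∈ normalizer (D : Set G),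
      Odd (orderOf g) → (¬ ∀ d ∈ D, g * d * g⁻¹ = d) →
      ∃ x ∈ D, ∃ b ∈ D, b * x * b⁻¹ = x⁻¹ ∧ b * x ≠ x * b := by
  intro n
  induction n using Nat.strong_induction_on with
  | _ n ih =>
  intro D hn hD g hgN hg hnc
  subst hn
  by_contra hcon
  have hinv : ∀ d ∈ D, g * d * g⁻¹ ∈ D := fun d hd => (mem_normalizer_iff.1 hgN d).1 hd
  have hfix : ∀ E : Subgroup G, E ≤ D → E ≠ D → (∀ e ∈ E, g * e * g⁻¹ ∈ E) →
      ∀ e ∈ E, g * e * g⁻¹ = e := by
    intro E hE hne hEg
    by_contra hnot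
    have hlt : Nat.card E < Nat.card D := lt_of_le_of_ne (card_le_of_le hE)
      fun h => hne (eq_of_le_of_card_ge hE h.ge)
    obtain ⟨x, hx, b, hb, h1, h2⟩ := ih _ hlt E rfl (hD.to_le hE) g
      (mem_normalizer_of_conj_mem hEg) hg hnot
    exact hcon ⟨x, hE hx, b, hE hb, h1, h2⟩
  -- the derived subgroup
  set K : Subgroup G := ⁅D, D⁆ with hK
  have hKD : K ≤ D := commutator_le.2 fun a ha b hb => by
    rw [commutatorElement_def]
    exact mul_mem (mul_mem (mul_mem ha hb) (inv_mem ha)) (inv_mem hb)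
  have hconjc : ∀ u a b : G, u * ⁅a, b⁆ * u⁻¹ = ⁅u * a * u⁻¹, u * b * u⁻¹⁆ := fun u a b => by
    simp only [commutatorElement_def]; group
  have hKinv : ∀ u : G, (∀ d ∈ D, u * d * u⁻¹ ∈ D) → ∀ k ∈ K, u * k * u⁻¹ ∈ K := by
    intro u hu
    show K ≤ K.comap (MulAut.conj u).toMonoidHom
    refine commutator_le.2 fun a ha b hb => ?_
    show u * ⁅a, b⁆ * u⁻¹ ∈ K
    rw [hconjc]
    exact commutator_mem_commutator (hu a ha) (hu b hb)
  have hKne : K ≠ D := by
    intro h
    haveI : Fact (Nat.Prime 2) := ⟨Nat.prime_two⟩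
    have : Group.IsNilpotent D := hD.isNilpotent
    rcases eq_or_ne D ⊥ with hb | hb
    · exact hnc fun d hd => by rw [hb, mem_bot] at hd; simp [hd]
    have : Nontrivial D := (nontrivial_iff_ne_bot D).2 hb
    refine (Group.IsSolvable.commutator_lt_top_of_nontrivial D).ne ?_
    refine map_injective D.subtype_injective ?_
    rw [map_subtype_commutator, ← MonoidHom.range_eq_map, range_subtype]
    exact h
  have hKfix : ∀ k ∈ K, g * k * g⁻¹ = k := hfix K hKD hKne (hKinv g hinv)
  -- it is central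
  have hKcen : ∀ k ∈ K, ∀ d ∈ D, d * k = k * d := by
    let E : Subgroup G := D ⊓ centralizer (K : Set G)
    have hEg : ∀ e ∈ E, g * e * g⁻¹ ∈ E := fun e he => mem_inf.2 ⟨hinv e he.1,
      mem_centralizer_iff.2 fun k hk => by
        have := mem_centralizer_iff.1 he.2 k hk
        calc k * (g * e * g⁻¹) = (g * k * g⁻¹) * (g * e * g⁻¹) := by rw [hKfix k hk]
          _ = g * (k * e) * g⁻¹ := by group
          _ = g * (e * k) * g⁻¹ := by rw [this]
          _ = (g * e * g⁻¹) * (g * k * g⁻¹) := by group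
          _ = (g * e * g⁻¹) * k := by rw [hKfix k hk]⟩
    have hE : E = D := by
      refine eq_of_moves hD hg hnc inf_le_left (fun hne => hfix E inf_le_left hne hEg) fun d hd => ?_
      refine mem_inf.2 ⟨mul_mem (inv_mem hd) (hinv d hd), mem_centralizer_iff.2 fun k hk => ?_⟩
      have h1 : d * k * d⁻¹ ∈ K := hKinv d (fun x hx => mul_mem (mul_mem hd hx) (inv_mem hd)) k hk
      have h2 := hKfix _ h1
      have h3 : d * k * d⁻¹ = (g * d * g⁻¹) * k * (g * d * g⁻¹)⁻¹ := by
        conv_lhs => rw [← h2]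
        conv_rhs => rw [← hKfix k hk]
        group
      calc k * (d⁻¹ * (g * d * g⁻¹)) = d⁻¹ * (d * k * d⁻¹) * (g * d * g⁻¹) := by group
        _ = d⁻¹ * ((g * d * g⁻¹) * k * (g * d * g⁻¹)⁻¹) * (g * d * g⁻¹) := by rw [h3]
        _ = d⁻¹ * (g * d * g⁻¹) * k := by group
    intro k hk d hd
    exact (mem_centralizer_iff.1 (hE.ge hd).2 k hk).symm
  have hKm : ∀ a ∈ D, ∀ b ∈ D, ⁅a, b⁆ ∈ K := fun a ha b hb => commutator_mem_commutator ha hb
  -- squares lie in the derived subgroup
  have hsq : ∀ d ∈ D, d * d ∈ K := by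
    let E : Subgroup G :=
      { carrier := {d | d ∈ D ∧ d * d ∈ K}
        one_mem' := ⟨one_mem D, by simp⟩
        mul_mem' := by
          rintro a b ⟨ha, ha2⟩ ⟨hb, hb2⟩
          refine ⟨mul_mem ha hb, ?_⟩
          have : a * b * (a * b) = a * a * ⁅a⁻¹, b⁆ * (b * b) := by
            simp only [commutatorElement_def]; group
          rw [this]
          exact mul_mem (mul_mem ha2 (hKm _ (inv_mem ha) _ hb)) hb2
        inv_mem' := by
          rintro a ⟨ha, ha2⟩
          refine ⟨inv_mem ha, ?_⟩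
          rw [← mul_inv_rev]
          exact inv_mem ha2 }
    have hEg : ∀ e ∈ E, g * e * g⁻¹ ∈ E := fun e he => ⟨hinv e he.1, by
      rw [show g * e * g⁻¹ * (g * e * g⁻¹) = g * (e * e) * g⁻¹ by group]
      exact hKinv g hinv _ he.2⟩
    suffices h : E = D from fun d hd => (h.ge hd).2
    by_contra hne
    have hEfix := hfix E (fun d hd => hd.1) hne hEg
    apply hnc
    have key : ∀ (k : ℕ) (d : G), d ∈ D → d ^ (2 ^ k) ∈ K → g * d * g⁻¹ = d := by
      intro k
      induction k with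
      | zero =>
        intro d hd hdk
        rw [pow_zero, pow_one] at hdk
        exact hKfix d hdk
      | succ k ihk =>
        intro d hd hdk
        have h1 : g * (d * d) * g⁻¹ = d * d := by
          refine ihk _ (mul_mem hd hd) ?_
          rwa [← pow_two, ← pow_mul, ← pow_succ']
        have he : d⁻¹ * (g * d * g⁻¹) ∈ E := by
          refine ⟨mul_mem (inv_mem hd) (hinv d hd), ?_⟩
          set c := g * d * g⁻¹ with hc
          have hcD : c ∈ D := hinv d hd
          have hcc : c * c = d * d := by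
            calc c * c = g * (d * d) * g⁻¹ := by rw [hc]; group
              _ = d * d := h1
          have e1 : d⁻¹ * c * (d⁻¹ * c) = d⁻¹ * ⁅c, d⁻¹⁆ * d⁻¹ * (c * c) := by
            simp only [commutatorElement_def]; group
          rw [e1, hcc, hKcen _ (hKm _ hcD _ (inv_mem hd)) _ (inv_mem hd)]
          have e2 : ⁅c, d⁻¹⁆ * d⁻¹ * d⁻¹ * (d * d) = ⁅c, d⁻¹⁆ := by group
          rw [e2]
          exact hKm _ hcD _ (inv_mem hd)
        have h3 := hEfix _ he
        by_contra hd'
        have hall : ∀ i : ℕ, g ^ i * d * (g ^ i)⁻¹ = d * (d⁻¹ * (g * d * g⁻¹)) ^ i := by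
          intro i
          induction i with
          | zero => simp
          | succ i ihi =>
            calc g ^ (i + 1) * d * (g ^ (i + 1))⁻¹ = g * (g ^ i * d * (g ^ i)⁻¹) * g⁻¹ := by
                  rw [pow_succ']; group
              _ = (g * d * g⁻¹) * (g * (d⁻¹ * (g * d * g⁻¹)) ^ i * g⁻¹) := by rw [ihi]; group
              _ = (g * d * g⁻¹) * (d⁻¹ * (g * d * g⁻¹)) ^ i := by rw [← conj_pow, h3]
              _ = d * (d⁻¹ * (g * d * g⁻¹)) ^ (i + 1) := by rw [pow_succ', ← mul_assoc d, mul_inv_cancel_left]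
        have hn := hall (orderOf g)
        rw [pow_orderOf_eq_one, inv_one, mul_one, one_mul] at hn
        have hn' : (d⁻¹ * (g * d * g⁻¹)) ^ orderOf g = 1 := left_eq_mul.1 hn
        obtain ⟨m, hm⟩ := IsPGroup.iff_orderOf.1 hD ⟨_, mul_mem (inv_mem hd) (hinv d hd)⟩
        rw [← orderOf_coe] at hm
        have hm' : orderOf (d⁻¹ * (g * d * g⁻¹)) = 2 ^ m := hm
        have hdvd := orderOf_dvd_of_pow_eq_one hn'
        rcases Nat.eq_zero_or_pos m with h0 | h0
        · rw [h0, pow_zero, orderOf_eq_one_iff, inv_mul_eq_one] at hm'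
          exact hd' hm'.symm
        · exact absurd ((dvd_pow_self 2 h0.ne').trans (hm' ▸ hdvd)) hg.not_two_dvd_nat
    intro d hd
    obtain ⟨k, hk⟩ := hD ⟨d, hd⟩
    exact key k d hd (by
      have : d ^ (2 ^ k) = 1 := congrArg Subtype.val hk
      rw [this]; exact one_mem K)
  -- a moved element
  obtain ⟨x, hx, hxg⟩ : ∃ x ∈ D, g * x * g⁻¹ ≠ x := by
    by_contra h
    exact hnc fun d hd => by_contra fun h1 => h ⟨d, hd, h1⟩
  let B : Subgroup G :=
    { carrier := {k | ∃ b ∈ D, ⁅b, x⁆ = k}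
      one_mem' := ⟨1, one_mem D, commutatorElement_one_left x⟩
      mul_mem' := by
        rintro _ _ ⟨a, ha, rfl⟩ ⟨b, hb, rfl⟩
        refine ⟨b * a, mul_mem hb ha, ?_⟩
        have : ⁅b * a, x⁆ = b * ⁅a, x⁆ * b⁻¹ * ⁅b, x⁆ := by simp only [commutatorElement_def]; group
        rw [this, hKcen _ (hKm a ha x hx) b hb, mul_inv_cancel_right]
      inv_mem' := by
        rintro _ ⟨a, ha, rfl⟩
        refine ⟨a⁻¹, inv_mem ha, ?_⟩
        have : ⁅a⁻¹, x⁆ = a⁻¹ * ⁅a, x⁆⁻¹ * a := by simp only [commutatorElement_def]; group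
        rw [this, ← hKcen _ (inv_mem (hKm a ha x hx)) a⁻¹ (inv_mem ha) |>.symm]
        group }
  have hBK : B ≤ K := by rintro _ ⟨b, hb, rfl⟩; exact hKm b hb x hx
  let R : Subgroup G :=
    { carrier := {v | v ∈ D ∧ ∀ d ∈ D, ⁅d, v⁆ ∈ B}
      one_mem' := ⟨one_mem D, fun d _ => by rw [commutatorElement_one_right]; exact one_mem B⟩
      mul_mem' := by
        rintro a b ⟨ha, ha2⟩ ⟨hb, hb2⟩
        refine ⟨mul_mem ha hb, fun d hd => ?_⟩
        have : ⁅d, a * b⁆ = ⁅d, a⁆ * (a * ⁅d, b⁆ * a⁻¹) := by simp only [commutatorElement_def]; group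
        rw [this, hKcen _ (hBK (hb2 d hd)) a ha, mul_inv_cancel_right]
        exact mul_mem (ha2 d hd) (hb2 d hd)
      inv_mem' := by
        rintro a ⟨ha, ha2⟩
        refine ⟨inv_mem ha, fun d hd => ?_⟩
        have : ⁅d, a⁻¹⁆ = a⁻¹ * ⁅d, a⁆⁻¹ * a := by simp only [commutatorElement_def]; group
        rw [this, hKcen _ (inv_mem (hBK (ha2 d hd))) a⁻¹ (inv_mem ha)]
        have h1 : ⁅d, a⁆⁻¹ * a⁻¹ * a = ⁅d, a⁆⁻¹ := by group
        rw [h1]
        exact inv_mem (ha2 d hd) }
  have hRg : ∀ v ∈ R, g * v * g⁻¹ ∈ R := fun v hv => ⟨hinv v hv.1, fun d hd => by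
    have hd' : g⁻¹ * d * g ∈ D := by
      have := (mem_normalizer_iff.1 (inv_mem hgN) d).1 hd
      rwa [inv_inv] at this
    have h1 : ⁅d, g * v * g⁻¹⁆ = g * ⁅g⁻¹ * d * g, v⁆ * g⁻¹ := by
      simp only [commutatorElement_def]; group
    rw [h1, hKfix _ (hBK (hv.2 _ hd'))]
    exact hv.2 _ hd'⟩
  have hR : R = D := by
    by_contra hne
    exact hxg (hfix R (fun v hv => hv.1) hne hRg x ⟨hx, fun d hd => ⟨d, hd, rfl⟩⟩)
  have hKB : K ≤ B := commutator_le.2 fun a ha b hb => (hR.ge hb).2 a ha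
  obtain ⟨b, hb, hbx⟩ := inv_mem (hKB (hsq x hx))
  have hbx' : b * x * b⁻¹ = x⁻¹ := by
    rw [commutatorElement_def] at hbx
    calc b * x * b⁻¹ = (b * x * b⁻¹ * x⁻¹) * x := by group
      _ = (x * x)⁻¹ * x := by rw [hbx]
      _ = x⁻¹ := by group
  refine hcon ⟨x, hx, b, hb, hbx', fun hc => hxg ?_⟩
  rw [hc, mul_inv_cancel_right] at hbx'
  have hxx : x * x = 1 := mul_eq_one_iff_eq_inv.2 hbx'
  rw [mem_center_iff.1 (hcen x hxx) g, mul_inv_cancel_right]

end CfsgLib.Coprime
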