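import Mathlib
import Cfsg.Agent.Lib.Coprime.Basic
import Cfsg.Agent.Lib.Coprime.Sylow

/-!
# Subgroups with normal Sylow subgroup and cyclic quotient

Shared lemmas for the characterisations of groups with restricted `p`-by-cyclic subgroups.
-/

namespace CfsgLib.PByCyclic

open Subgroup

variable {G : Type*} [Group G] [Finite G] {p : ℕ} [Fact p.Prime]

/-- If a normal `p`-subgroup has cyclic quotient, so has every Sylow `p`-subgroup, which is
normal. -/
theorem sylow_normal_and_cyclic {N : Subgroup G} [N.Normal] (hN : IsPGroup p N)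
    (hc : IsCyclic (G ⧸ N)) (S : Sylow p G) :
    (S : Subgroup G).Normal ∧ ∀ [(S : Subgroup G).Normal], IsCyclic (G ⧸ (S : Subgroup G)) := by
  have hle : N ≤ (S : Subgroup G) := by
    obtain ⟨T, hT⟩ := hN.exists_le_sylow
    obtain ⟨g, hg⟩ := MulAction.exists_smul_eq G T S
    intro x hx
    rw [← hg]
    have h1 : g⁻¹ * x * g ∈ N := by simpa using Subgroup.Normal.conj_mem ‹_› x hx g⁻¹
    refine ⟨g⁻¹ * x * g, hT h1, ?_⟩
    simp [mul_assoc]
  let := hc.commGroup
  have hn : (S : Subgroup G).Normal := by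
    have h : ((S : Subgroup G).map (QuotientGroup.mk' N)).comap (QuotientGroup.mk' N) = S := by
      rw [Subgroup.comap_map_eq, QuotientGroup.ker_mk', sup_eq_left.2 hle]
    rw [← h]
    exact Subgroup.Normal.comap (Subgroup.normal_of_comm _) _
  refine ⟨hn, fun {_} => ?_⟩
  refine isCyclic_of_surjective (QuotientGroup.map N (S : Subgroup G) (MonoidHom.id G) hle) ?_
  intro x
  obtain ⟨g, rfl⟩ := QuotientGroup.mk_surjective x
  exact ⟨(g : G ⧸ N), rfl⟩

/-- `Q⟨x⟩` is a test subgroup when `x` normalizes the `p`-group `Q`. -/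
theorem sup_zpowers_hyp (Q : Subgroup G) (hQ : IsPGroup p Q) {x : G}
    (hx : x ∈ normalizer (Q : Set G)) (S : Sylow p ↥(Q ⊔ zpowers x)) :
    (S : Subgroup ↥(Q ⊔ zpowers x)).Normal ∧
      ∀ [(S : Subgroup ↥(Q ⊔ zpowers x)).Normal],
        IsCyclic (↥(Q ⊔ zpowers x) ⧸ (S : Subgroup ↥(Q ⊔ zpowers x))) := by
  have hxle : zpowers x ≤ normalizer (Q : Set G) := zpowers_le.2 hx
  have : (Q.subgroupOf (Q ⊔ zpowers x)).Normal :=
    normal_subgroupOf_of_le_normalizer (sup_le Subgroup.le_normalizer hxle)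
  refine sylow_normal_and_cyclic (N := Q.subgroupOf (Q ⊔ zpowers x))
    (hQ.of_equiv (Subgroup.subgroupOfEquivOfLe (le_sup_left : Q ≤ Q ⊔ zpowers x)).symm) ?_ S
  have hxH : x ∈ Q ⊔ zpowers x := mem_sup_right (mem_zpowers x)
  rw [isCyclic_iff_exists_zpowers_eq_top]
  refine ⟨((⟨x, hxH⟩ : ↥(Q ⊔ zpowers x)) : ↥(Q ⊔ zpowers x) ⧸ Q.subgroupOf (Q ⊔ zpowers x)), ?_⟩
  rw [eq_top_iff]
  intro z _
  obtain ⟨⟨w, hw⟩, rfl⟩ := QuotientGroup.mk_surjective z
  obtain ⟨n, hn, a, ha, rfl⟩ := (CfsgLib.Coprime.mem_sup_of_le_normalizer hxle).1 hw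
  obtain ⟨k, rfl⟩ := ha
  refine ⟨k, ?_⟩
  simp only
  rw [← QuotientGroup.mk_zpow, QuotientGroup.eq, Subgroup.mem_subgroupOf]
  simp only [Subgroup.coe_mul, Subgroup.coe_inv, Subgroup.coe_zpow]
  have hxk : (x ^ k)⁻¹ ∈ normalizer (Q : Set G) := inv_mem (zpow_mem hx k)
  rw [← mul_assoc]
  have h1 := (Subgroup.mem_normalizer_iff.1 hxk n).1 hn
  rwa [inv_inv] at h1

/-- An element of a cyclic group commuting with a generator of a normal cyclic Sylow subgroup
with cyclic quotient. -/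
theorem isCyclic_of_cyclic_sylow (S : Sylow p G) [(S : Subgroup G).Normal]
    (hS : IsCyclic (S : Subgroup G)) (hQ : IsCyclic (G ⧸ (S : Subgroup G))) {s h : G}
    (hs : Subgroup.zpowers s = (S : Subgroup G))
    (hh : Subgroup.zpowers (h : G ⧸ (S : Subgroup G)) = ⊤) (hc : Commute s h) : IsCyclic G := by
  set m := Nat.card (G ⧸ (S : Subgroup G)) with hm
  have hm' : orderOf (h : G ⧸ (S : Subgroup G)) = m := by
    rw [← Nat.card_zpowers, hh, Subgroup.card_top]
  have hdvd : m ∣ orderOf h := hm' ▸ orderOf_map_dvd (QuotientGroup.mk' (S : Subgroup G)) h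
  have ho : orderOf (h ^ (orderOf h / m)) = m :=
    orderOf_pow_orderOf_div (orderOf_pos h).ne' hdvd
  have hso : orderOf s = Nat.card (S : Subgroup G) := by rw [← Nat.card_zpowers, hs]
  have hcop : (orderOf s).Coprime (orderOf (h ^ (orderOf h / m))) := by
    rw [ho, hso, hm, ← Subgroup.index_eq_card]
    exact S.card_coprime_index
  refine isCyclic_of_orderOf_eq_card (s * h ^ (orderOf h / m)) ?_
  rw [(hc.pow_right _).orderOf_mul_eq_mul_orderOf_of_coprime hcop, ho, hso, hm,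
    ← Subgroup.index_eq_card, Subgroup.card_mul_index]

/-- Elements are `s ^ i * h ^ k`. -/
theorem exists_decomp {N : Subgroup G} [N.Normal] {s h : G} (hs : Subgroup.zpowers s = N)
    (hh : Subgroup.zpowers (h : G ⧸ N) = ⊤) (x : G) : ∃ i k : ℤ, s ^ i * h ^ k = x := by
  have hx : (x : G ⧸ N) ∈ Subgroup.zpowers (h : G ⧸ N) := hh ▸ Subgroup.mem_top _
  obtain ⟨k, hk⟩ := hx
  have hk' : ((h ^ k : G) : G ⧸ N) = (x : G ⧸ N) := by rw [QuotientGroup.mk_zpow]; exact hk
  have h1 : x * (h ^ k)⁻¹ ∈ N := by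
    rw [← QuotientGroup.eq_one_iff, QuotientGroup.mk_mul, QuotientGroup.mk_inv, hk', mul_inv_cancel]
  rw [← hs] at h1
  obtain ⟨i, hi⟩ := h1
  exact ⟨i, k, by simp only at hi; rw [hi, inv_mul_cancel_right]⟩

omit [Finite G] in
/-- An element inverting a group of elements makes it commute. -/
theorem commute_of_inverted {x a b : G} (ha : x * a * x⁻¹ = a⁻¹) (hb : x * b * x⁻¹ = b⁻¹)
    (hab : x * (a * b) * x⁻¹ = (a * b)⁻¹) : Commute a b := by
  have h1 : x * (a * b) * x⁻¹ = a⁻¹ * b⁻¹ := by rw [← ha, ← hb]; group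
  rw [hab, mul_inv_rev] at h1
  have h2 := congrArg Inv.inv h1
  simp only [mul_inv_rev, inv_inv] at h2
  exact h2

omit [Finite G] in
/-- An involution `x` with `x * c` an involution inverts `c`. -/
theorem conj_eq_inv_of_invol {x c : G} (hx : orderOf x = 2) (hxc : orderOf (x * c) = 2) :
    x * c * x⁻¹ = c⁻¹ := by
  have h1 : x * x = 1 := by rw [← pow_two, ← hx, pow_orderOf_eq_one]
  have h2 : (x * c) * (x * c) = 1 := by rw [← pow_two, ← hxc, pow_orderOf_eq_one]
  rw [inv_eq_of_mul_eq_one_right h1]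
  apply eq_inv_of_mul_eq_one_left
  rw [← h2]; group

end CfsgLib.PByCyclic
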