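import Cfsg.Agent.Lib.Coprime.Schur
import Cfsg.Agent.Lib.KnownA.Stem
import Mathlib.LinearAlgebra.TensorProduct.Basic
import Mathlib.RingTheory.TensorProduct.Finite
import Mathlib.GroupTheory.FiniteAbelian.Basic
import Mathlib.GroupTheory.Abelianization.Finite
import Mathlib.Algebra.Group.MinimalAxioms
import Mathlib.Tactic

/-!
The Schur multiplier of a direct product.
-/

set_option autoImplicit false

open Subgroup TensorProduct
open scoped commutatorElement

universe u v w w'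

namespace CfsgLib.Schur

section twisted

variable {X : Type u} {Y : Type v} {T : Type w} [Group X] [Group Y] [CommGroup T]

/-- The product of `X`, `Y` and `T` twisted by a bilinear pairing. -/
@[ext] structure TwProd (φ : X →* (Y →* T)) where
  x : X
  y : Y
  t : T

namespace TwProd

variable {φ : X →* (Y →* T)}

instance : Mul (TwProd φ) := ⟨fun a b => ⟨a.x * b.x, a.y * b.y, a.t * b.t * φ a.x b.y⟩⟩
instance : One (TwProd φ) := ⟨⟨1, 1, 1⟩⟩
instance : Inv (TwProd φ) := ⟨fun a => ⟨a.x⁻¹, a.y⁻¹, a.t⁻¹ * φ a.x a.y⟩⟩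

theorem mul_def (a b : TwProd φ) : a * b = ⟨a.x * b.x, a.y * b.y, a.t * b.t * φ a.x b.y⟩ := rfl
theorem one_def : (1 : TwProd φ) = ⟨1, 1, 1⟩ := rfl
theorem inv_def (a : TwProd φ) : a⁻¹ = ⟨a.x⁻¹, a.y⁻¹, a.t⁻¹ * φ a.x a.y⟩ := rfl

instance : Group (TwProd φ) :=
  Group.ofLeftAxioms
    (fun a b c => by
      ext
      · simp [mul_def, mul_assoc]
      · simp [mul_def, mul_assoc]
      · simp [mul_def, map_mul, mul_comm, mul_left_comm, mul_assoc])
    (fun a => by ext <;> simp [mul_def, one_def])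
    (fun a => by
      ext
      · simp [mul_def, one_def, inv_def]
      · simp [mul_def, one_def, inv_def]
      · simp [mul_def, one_def, inv_def, mul_comm, mul_left_comm, mul_assoc])

/-- The inclusion of the first factor. -/
def inl : X →* TwProd φ where
  toFun x := ⟨x, 1, 1⟩
  map_one' := rfl
  map_mul' a b := by ext <;> simp [mul_def]

/-- The inclusion of the second factor. -/
def inr : Y →* TwProd φ where
  toFun y := ⟨1, y, 1⟩
  map_one' := rfl
  map_mul' a b := by ext <;> simp [mul_def]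

/-- The inclusion of the pairing group. -/
def inT : T →* TwProd φ where
  toFun t := ⟨1, 1, t⟩
  map_one' := rfl
  map_mul' a b := by ext <;> simp [mul_def]

theorem commutator_inl_inr (x : X) (y : Y) :
    ⁅(inl x : TwProd φ), (inr y : TwProd φ)⁆ = (inT (φ x y) : TwProd φ) := by
  rw [commutatorElement_def]
  ext <;> simp [mul_def, inv_def, inl, inr, inT]

theorem eq_prod (a : TwProd φ) : a = inT a.t * inr a.y * inl a.x := by
  ext <;> simp [mul_def, inl, inr, inT]

instance [Finite X] [Finite Y] [Finite T] : Finite (TwProd φ) :=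
  Finite.of_injective (fun a => (a.x, a.y, a.t)) fun a b h => by
    simp only [Prod.mk.injEq] at h
    exact TwProd.ext h.1 h.2.1 h.2.2

/-- The projection of a twisted product of two extensions. -/
def proj {Q₁ : Type*} {Q₂ : Type*} [Group Q₁] [Group Q₂] (σ₁ : X →* Q₁) (σ₂ : Y →* Q₂) :
    TwProd φ →* Q₁ × Q₂ where
  toFun a := (σ₁ a.x, σ₂ a.y)
  map_one' := by simp [one_def]
  map_mul' a b := by simp [mul_def]

end TwProd

end twisted

/-- The pairing `(x, y) ↦ x̄ ⊗ ȳ` written multiplicatively. -/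
noncomputable def tensorPair (Q₁ : Type u) (Q₂ : Type v) [Group Q₁] [Group Q₂] :
    Q₁ →* (Q₂ →* Multiplicative (Additive (Abelianization Q₁) ⊗[ℤ] Additive (Abelianization Q₂))) where
  toFun x :=
    { toFun := fun y => Multiplicative.ofAdd
        (Additive.ofMul (Abelianization.of x) ⊗ₜ[ℤ] Additive.ofMul (Abelianization.of y))
      map_one' := by simp
      map_mul' := fun y y' => by rw [← ofAdd_add, ← TensorProduct.tmul_add, map_mul]; rfl }
  map_one' := by
    refine MonoidHom.ext fun y => ?_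
    simp
  map_mul' x x' := by
    refine MonoidHom.ext fun y => Multiplicative.toAdd.injective ?_
    simp [map_mul, TensorProduct.add_tmul]

theorem tensorPair_apply {Q₁ : Type u} {Q₂ : Type v} [Group Q₁] [Group Q₂] (x : Q₁) (y : Q₂) :
    tensorPair Q₁ Q₂ x y = Multiplicative.ofAdd
      (Additive.ofMul (Abelianization.of x) ⊗ₜ[ℤ] Additive.ofMul (Abelianization.of y)) := rfl

theorem finite_tensor (A : Type u) (B : Type v) [AddCommGroup A] [AddCommGroup B] [Finite A]
    [Finite B] : Finite (A ⊗[ℤ] B) := by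
  have hA : ∀ a : A, (Nat.card A) • a = 0 := fun a => card_nsmul_eq_zero'
  have : Module.Finite ℤ A := Module.Finite.of_finite
  have : Module.Finite ℤ B := Module.Finite.of_finite
  have : Module.Finite ℤ (A ⊗[ℤ] B) := Module.Finite.tensorProduct ℤ A B
  refine Module.finite_of_fg_torsion _ (fun x => ?_)
  refine ⟨⟨(Nat.card A : ℤ), mem_nonZeroDivisors_of_ne_zero (by exact_mod_cast Nat.card_pos.ne')⟩, ?_⟩
  show (Nat.card A : ℤ) • x = 0
  induction x using TensorProduct.induction_on with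
  | zero => simp
  | tmul a b => rw [TensorProduct.smul_tmul', natCast_zsmul, hA, TensorProduct.zero_tmul]
  | add a b ha hb => rw [smul_add, ha, hb, add_zero]

/-- The product theorem. -/
theorem hasSchurMultiplier_prod {Q₁ : Type u} {Q₂ : Type v} [Group Q₁] [Group Q₂] [Finite Q₁]
    [Finite Q₂] {A : Type w} {B : Type w'} [CommGroup A] [CommGroup B]
    (hA : Cfsg.HasSchurMultiplier Q₁ A) (hB : Cfsg.HasSchurMultiplier Q₂ B) :
    Cfsg.HasSchurMultiplier (Q₁ × Q₂)
      (A × B × Multiplicative (Additive (Abelianization Q₁) ⊗[ℤ] Additive (Abelianization Q₂))) := by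
  classical
  obtain ⟨eA⟩ := mulEquiv_mult hA
  obtain ⟨eB⟩ := mulEquiv_mult hB
  constructor
  · obtain ⟨Γ₁, _, _, σ₁, hσ₁, ⟨e₁⟩⟩ := hA.1
    obtain ⟨Γ₂, _, _, σ₂, hσ₂, ⟨e₂⟩⟩ := hB.1
    let φ : Γ₁ →* (Γ₂ →* Multiplicative (Additive (Abelianization Q₁) ⊗[ℤ] Additive (Abelianization Q₂))) :=
      { toFun := fun x => (tensorPair Q₁ Q₂ (σ₁ x)).comp σ₂
        map_one' := by rw [map_one, map_one]; rfl
        map_mul' := fun a b => by rw [map_mul, map_mul]; rfl }
    have : Finite (Additive (Abelianization Q₁) ⊗[ℤ] Additive (Abelianization Q₂)) := finite_tensor _ _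
    have : Finite (Multiplicative (Additive (Abelianization Q₁) ⊗[ℤ] Additive (Abelianization Q₂))) :=
      Finite.of_equiv _ Multiplicative.ofAdd
    let σ : TwProd φ →* Q₁ × Q₂ := TwProd.proj σ₁ σ₂
    have hk : ∀ a : TwProd φ, a ∈ σ.ker ↔ a.x ∈ σ₁.ker ∧ a.y ∈ σ₂.ker := fun a => by
      rw [MonoidHom.mem_ker, MonoidHom.mem_ker, MonoidHom.mem_ker]
      exact Prod.mk_eq_one
    have hφ1 : ∀ (x : Γ₁) (y : Γ₂), x ∈ σ₁.ker → φ x y = 1 := fun x y hx => by
      show tensorPair Q₁ Q₂ (σ₁ x) (σ₂ y) = 1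
      rw [MonoidHom.mem_ker.mp hx, map_one, MonoidHom.one_apply]
    have hφ2 : ∀ (x : Γ₁) (y : Γ₂), y ∈ σ₂.ker → φ x y = 1 := fun x y hy => by
      show tensorPair Q₁ Q₂ (σ₁ x) (σ₂ y) = 1
      rw [MonoidHom.mem_ker.mp hy, map_one]
    have hT : ∀ t, (TwProd.inT t : TwProd φ) ∈ commutator (TwProd φ) := by
      intro t
      have hadd : ∀ u : Additive (Abelianization Q₁) ⊗[ℤ] Additive (Abelianization Q₂),
          (TwProd.inT (Multiplicative.ofAdd u) : TwProd φ) ∈ commutator (TwProd φ) := by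
        intro u
        induction u using TensorProduct.induction_on with
        | zero => rw [ofAdd_zero, map_one]; exact one_mem _
        | tmul a b =>
          obtain ⟨x, hx⟩ := QuotientGroup.mk_surjective a.toMul
          obtain ⟨y, hy⟩ := QuotientGroup.mk_surjective b.toMul
          obtain ⟨x', rfl⟩ := hσ₁.1 x
          obtain ⟨y', rfl⟩ := hσ₂.1 y
          have : φ x' y' = Multiplicative.ofAdd (a ⊗ₜ[ℤ] b) := by
            show tensorPair Q₁ Q₂ (σ₁ x') (σ₂ y') = _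
            rw [tensorPair_apply, show Abelianization.of (σ₁ x') = a.toMul from hx,
              show Abelianization.of (σ₂ y') = b.toMul from hy, ofMul_toMul, ofMul_toMul]
          rw [← this, ← TwProd.commutator_inl_inr]
          exact commutator_mem_commutator (mem_top _) (mem_top _)
        | add a b ha hb => rw [ofAdd_add, map_mul]; exact mul_mem ha hb
      exact hadd t.toAdd
    obtain ⟨Γ', hg', hf', ⟨e'⟩⟩ := exists_equiv_type.{max u v, max u v} (TwProd φ)
    refine ⟨Γ', hg', hf', σ.comp e'.toMonoidHom, ?_, ?_⟩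
    · refine isStemExtension_comp_equiv e' ⟨fun q => ?_, fun a ha => ?_, fun a ha => ?_⟩
      · obtain ⟨x, hx⟩ := hσ₁.1 q.1
        obtain ⟨y, hy⟩ := hσ₂.1 q.2
        exact ⟨⟨x, y, 1⟩, Prod.ext hx hy⟩
      · obtain ⟨h1, h2⟩ := (hk a).mp ha
        refine mem_center_iff.mpr fun b => ?_
        ext
        · exact mem_center_iff.mp (hσ₁.2.1 h1) b.x
        · exact mem_center_iff.mp (hσ₂.2.1 h2) b.y
        · simp [TwProd.mul_def, hφ1 _ _ h1, hφ2 _ _ h2, mul_comm]
      · obtain ⟨h1, h2⟩ := (hk a).mp ha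
        rw [a.eq_prod]
        refine mul_mem (mul_mem (hT _) ?_) ?_
        · have h := mem_map_of_mem (TwProd.inr (φ := φ)) (hσ₂.2.2 h2)
          rw [_root_.commutator_def, map_commutator] at h
          exact commutator_mono le_top le_top h
        · have h := mem_map_of_mem (TwProd.inl (φ := φ)) (hσ₁.2.2 h1)
          rw [_root_.commutator_def, map_commutator] at h
          exact commutator_mono le_top le_top h
    · let f : (σ.comp e'.toMonoidHom).ker →* σ₁.ker × σ₂.ker ×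
          Multiplicative (Additive (Abelianization Q₁) ⊗[ℤ] Additive (Abelianization Q₂)) :=
        { toFun := fun a => (⟨(e' a).x, ((hk _).mp a.2).1⟩, ⟨(e' a).y, ((hk _).mp a.2).2⟩, (e' a).t)
          map_one' := by
            simp [TwProd.one_def]
          map_mul' := fun a b => by
            refine Prod.ext (Subtype.ext ?_) (Prod.ext (Subtype.ext ?_) ?_)
            · show (e' ((a : Γ') * (b : Γ'))).x = (e' a).x * (e' b).x
              rw [map_mul]; rfl
            · show (e' ((a : Γ') * (b : Γ'))).y = (e' a).y * (e' b).y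
              rw [map_mul]; rfl
            · show (e' ((a : Γ') * (b : Γ'))).t = (e' a).t * (e' b).t
              rw [map_mul]
              show _ * _ * φ _ _ = _
              rw [show φ (e' (a : Γ')).x (e' (b : Γ')).y = 1 from hφ1 _ _ ((hk _).mp a.2).1, mul_one] }
      have hf : Function.Bijective f := by
        refine ⟨fun a b h => ?_, fun c => ?_⟩
        · simp only [f, MonoidHom.coe_mk, OneHom.coe_mk, Prod.mk.injEq, Subtype.mk.injEq] at h
          exact Subtype.ext (e'.injective (TwProd.ext (congrArg Subtype.val h.1) (congrArg Subtype.val h.2.1) h.2.2))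
        · refine ⟨⟨e'.symm ⟨c.1, c.2.1, c.2.2⟩, ?_⟩, ?_⟩
          · show σ (e' (e'.symm _)) = 1
            rw [e'.apply_symm_apply]
            exact (hk _).mpr ⟨c.1.2, c.2.1.2⟩
          · refine Prod.ext (Subtype.ext ?_) (Prod.ext (Subtype.ext ?_) ?_)
            · exact congrArg TwProd.x (e'.apply_symm_apply _)
            · exact congrArg TwProd.y (e'.apply_symm_apply _)
            · exact congrArg TwProd.t (e'.apply_symm_apply _)
      exact ⟨(MulEquiv.ofBijective f hf).trans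
        (MulEquiv.prodCongr e₁ (MulEquiv.prodCongr e₂ (MulEquiv.refl _)))⟩
  · intro Δ _ _ τ hτ
    let Δ₁ : Subgroup Δ := ((MonoidHom.snd Q₁ Q₂).comp τ).ker
    let Δ₂ : Subgroup Δ := ((MonoidHom.fst Q₁ Q₂).comp τ).ker
    let τ₁ : Δ₁ →* Q₁ := ((MonoidHom.fst Q₁ Q₂).comp τ).comp Δ₁.subtype
    let τ₂ : Δ₂ →* Q₂ := ((MonoidHom.snd Q₁ Q₂).comp τ).comp Δ₂.subtype
    have hs₁ : Function.Surjective τ₁ := fun q => by
      obtain ⟨d, hd⟩ := hτ.1 (q, 1)
      exact ⟨⟨d, congrArg Prod.snd hd⟩, congrArg Prod.fst hd⟩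
    have hs₂ : Function.Surjective τ₂ := fun q => by
      obtain ⟨d, hd⟩ := hτ.1 (1, q)
      exact ⟨⟨d, congrArg Prod.fst hd⟩, congrArg Prod.snd hd⟩
    have hker₁ : ∀ d : Δ₁, d ∈ τ₁.ker ↔ (d : Δ) ∈ τ.ker := fun d =>
      ⟨fun h => MonoidHom.mem_ker.mpr (Prod.ext h d.2), fun h => by
        show (τ d).1 = 1
        rw [MonoidHom.mem_ker.mp h]; rfl⟩
    have hker₂ : ∀ d : Δ₂, d ∈ τ₂.ker ↔ (d : Δ) ∈ τ.ker := fun d =>
      ⟨fun h => MonoidHom.mem_ker.mpr (Prod.ext d.2 h), fun h => by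
        show (τ d).2 = 1
        rw [MonoidHom.mem_ker.mp h]; rfl⟩
    have hc₁ : τ₁.ker ≤ center Δ₁ := fun d hd => mem_center_iff.mpr fun g =>
      Subtype.ext (mem_center_iff.mp (hτ.2.1 ((hker₁ d).mp hd)) g)
    have hc₂ : τ₂.ker ≤ center Δ₂ := fun d hd => mem_center_iff.mpr fun g =>
      Subtype.ext (mem_center_iff.mp (hτ.2.1 ((hker₂ d).mp hd)) g)
    obtain ⟨β₁, hβ₁⟩ := exists_lift (MonoidHom.id Q₁) τ₁ hs₁ hc₁
    obtain ⟨β₂, hβ₂⟩ := exists_lift (MonoidHom.id Q₂) τ₂ hs₂ hc₂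
    rw [MonoidHom.id_comp] at hβ₁ hβ₂
    let _ : CommGroup τ.ker :=
      { (inferInstance : Group τ.ker) with
        mul_comm := fun a b => Subtype.ext (mem_center_iff.mp (hτ.2.1 b.2) a) }
    have hcomm : ∀ (a : Δ₁) (b : Δ₂), ⁅(a : Δ), (b : Δ)⁆ ∈ τ.ker := fun a b => by
      rw [MonoidHom.mem_ker, map_commutatorElement, commutatorElement_eq_one_iff_mul_comm]
      exact Prod.ext (by rw [Prod.fst_mul, Prod.fst_mul, show (τ (b : Δ)).1 = 1 from b.2, one_mul, mul_one])
        (by rw [Prod.snd_mul, Prod.snd_mul, show (τ (a : Δ)).2 = 1 from a.2, one_mul, mul_one])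
    have hcong : ∀ (a a' : Δ₁) (b b' : Δ₂), τ₁ a = τ₁ a' → τ₂ b = τ₂ b' →
        ⁅(a : Δ), (b : Δ)⁆ = ⁅(a' : Δ), (b' : Δ)⁆ := fun a a' b b' ha hb => by
      refine commutatorElement_congr (hτ.2.1 ((hker₁ (a⁻¹ * a')).mp ?_)) (hτ.2.1 ((hker₂ (b⁻¹ * b')).mp ?_))
      · rw [MonoidHom.mem_ker, map_mul, map_inv, ha, inv_mul_cancel]
      · rw [MonoidHom.mem_ker, map_mul, map_inv, hb, inv_mul_cancel]
    let c : Q₁ → Q₂ → τ.ker := fun p q =>
      ⟨⁅((Function.surjInv hs₁ p : Δ₁) : Δ), ((Function.surjInv hs₂ q : Δ₂) : Δ)⁆, hcomm (Function.surjInv hs₁ p) (Function.surjInv hs₂ q)⟩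
    have hcmul1 : ∀ p p' q, c (p * p') q = c p q * c p' q := fun p p' q => Subtype.ext (by
      show ⁅((Function.surjInv hs₁ (p * p') : Δ₁) : Δ), _⁆ = _ * _
      rw [hcong _ (Function.surjInv hs₁ p * Function.surjInv hs₁ p') _ _
        (by rw [map_mul, Function.surjInv_eq hs₁, Function.surjInv_eq hs₁, Function.surjInv_eq hs₁]) rfl]
      set a : Δ := ((Function.surjInv hs₁ p : Δ₁) : Δ)
      set a' : Δ := ((Function.surjInv hs₁ p' : Δ₁) : Δ)
      set b : Δ := ((Function.surjInv hs₂ q : Δ₂) : Δ)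
      have hz := mem_center_iff.mp (hτ.2.1 (hcomm (Function.surjInv hs₁ p') (Function.surjInv hs₂ q)))
      show ⁅a * a', b⁆ = ⁅a, b⁆ * ⁅a', b⁆
      have e : ⁅a * a', b⁆ = a * ⁅a', b⁆ * a⁻¹ * ⁅a, b⁆ := by simp only [commutatorElement_def]; group
      rw [e, hz a, mul_inv_cancel_right, hz])
    have hcmul2 : ∀ p q q', c p (q * q') = c p q * c p q' := fun p q q' => Subtype.ext (by
      show ⁅_, ((Function.surjInv hs₂ (q * q') : Δ₂) : Δ)⁆ = _ * _
      rw [hcong _ (Function.surjInv hs₁ p) _ (Function.surjInv hs₂ q * Function.surjInv hs₂ q') rfl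
        (by rw [map_mul, Function.surjInv_eq hs₂, Function.surjInv_eq hs₂, Function.surjInv_eq hs₂])]
      set a : Δ := ((Function.surjInv hs₁ p : Δ₁) : Δ)
      set b : Δ := ((Function.surjInv hs₂ q : Δ₂) : Δ)
      set b' : Δ := ((Function.surjInv hs₂ q' : Δ₂) : Δ)
      have hz := mem_center_iff.mp (hτ.2.1 (hcomm (Function.surjInv hs₁ p) (Function.surjInv hs₂ q')))
      show ⁅a, b * b'⁆ = ⁅a, b⁆ * ⁅a, b'⁆
      have e : ⁅a, b * b'⁆ = ⁅a, b⁆ * (b * ⁅a, b'⁆ * b⁻¹) := by simp only [commutatorElement_def]; group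
      rw [e, hz b, mul_inv_cancel_right])
    let cQ : Q₁ →* (Abelianization Q₂ →* τ.ker) := MonoidHom.mk'
      (fun p => Abelianization.lift (MonoidHom.mk' (c p) (hcmul2 p)))
      (fun p p' => Abelianization.hom_ext _ _ (MonoidHom.ext fun q => hcmul1 p p' q))
    let cA : Abelianization Q₁ →* (Abelianization Q₂ →* τ.ker) := Abelianization.lift cQ
    let fA : Additive (Abelianization Q₁) →+ (Additive (Abelianization Q₂) →+ Additive τ.ker) :=
      AddMonoidHom.mk' (fun a => MonoidHom.toAdditive (cA a.toMul)) (fun a b => AddMonoidHom.ext fun x => by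
        show Additive.ofMul (cA (a.toMul * b.toMul) x.toMul) = _
        rw [map_mul]; rfl)
    let L := TensorProduct.liftAddHom (R := ℤ) fA (fun r m n => by
      rw [map_zsmul fA r m, map_zsmul (fA m) r n]; rfl)
    let LT : Multiplicative (Additive (Abelianization Q₁) ⊗[ℤ] Additive (Abelianization Q₂)) →* τ.ker :=
      MonoidHom.mk' (fun t => (L t.toAdd).toMul) (fun s t => by rw [toAdd_mul, map_add]; rfl)
    have hLT : ∀ p q, LT (tensorPair Q₁ Q₂ p q) = c p q := fun p q => by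
      show (L (Additive.ofMul (Abelianization.of p) ⊗ₜ[ℤ] Additive.ofMul (Abelianization.of q))).toMul = _
      rw [TensorProduct.liftAddHom_tmul]
      rfl
    let π₁ : ↥(mult Q₁) →* τ.ker := ((Δ₁.subtype.comp β₁).comp (mult Q₁).subtype).codRestrict τ.ker
      fun x => (hker₁ _).mp (show τ₁ (β₁ x) = 1 by rw [← MonoidHom.comp_apply, hβ₁]; exact x.2.1)
    let π₂ : ↥(mult Q₂) →* τ.ker := ((Δ₂.subtype.comp β₂).comp (mult Q₂).subtype).codRestrict τ.ker
      fun x => (hker₂ _).mp (show τ₂ (β₂ x) = 1 by rw [← MonoidHom.comp_apply, hβ₂]; exact x.2.1)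
    refine ⟨(π₁.comp eA.toMonoidHom).coprod ((π₂.comp eB.toMonoidHom).coprod LT), fun k => ?_⟩
    let C : Subgroup Δ := LT.range.map τ.ker.subtype
    have hCle : C ≤ τ.ker := map_subtype_le _
    let D₁ : Subgroup Δ := (commutator Δ₁).map Δ₁.subtype
    let D₂ : Subgroup Δ := (commutator Δ₂).map Δ₂.subtype
    have hD₁n : D₁.Normal := by
      have h : D₁ = ⁅Δ₁, Δ₁⁆ := map_subtype_commutator Δ₁
      rw [h]; infer_instance
    have hD₂n : D₂.Normal := by
      have h : D₂ = ⁅Δ₂, Δ₂⁆ := map_subtype_commutator Δ₂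
      rw [h]; infer_instance
    have hCn : C.Normal := ⟨fun x hx g => by
      rwa [mem_center_iff.mp (hτ.2.1 (hCle hx)) g, mul_inv_cancel_right]⟩
    have hgen : closure ((Δ₁ : Set Δ) ∪ Δ₂) = ⊤ := by
      refine eq_top_iff.mpr fun d _ => ?_
      obtain ⟨a, ha⟩ := hs₁ (τ d).1
      have hb : (a : Δ)⁻¹ * d ∈ Δ₂ := by
        show (τ ((a : Δ)⁻¹ * d)).1 = 1
        rw [map_mul, map_inv, Prod.fst_mul, Prod.fst_inv,
          show (τ (a : Δ)).1 = (τ d).1 from ha, inv_mul_cancel]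
      have := mul_mem (subset_closure (Or.inl a.2) : (a : Δ) ∈ closure ((Δ₁ : Set Δ) ∪ Δ₂))
        (subset_closure (Or.inr hb))
      rwa [mul_inv_cancel_left] at this
    have hderiv : commutator Δ ≤ D₁ ⊔ D₂ ⊔ C := by
      have hn : (D₁ ⊔ D₂ ⊔ C).Normal := inferInstance
      rw [_root_.commutator_def, ← hgen]
      refine CfsgLib.KnownA.commutator_closure_le _ _ (fun s _ => by
        rw [Subgroup.normalizer_eq_top]; exact mem_top s) ?_
      have hmix : ∀ (a : Δ₁) (b : Δ₂), ⁅(a : Δ), (b : Δ)⁆ ∈ C := fun a b => by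
        refine ⟨c (τ₁ a) (τ₂ b), ⟨tensorPair Q₁ Q₂ (τ₁ a) (τ₂ b), hLT _ _⟩, ?_⟩
        exact hcong _ a _ b (Function.surjInv_eq hs₁ _) (Function.surjInv_eq hs₂ _)
      intro s hs t ht
      rcases hs with hs | hs <;> rcases ht with ht | ht
      · exact mem_sup_left (mem_sup_left ⟨⁅⟨s, hs⟩, ⟨t, ht⟩⁆,
          commutator_mem_commutator (mem_top _) (mem_top _), map_commutatorElement _ _ _⟩)
      · exact mem_sup_right (hmix ⟨s, hs⟩ ⟨t, ht⟩)
      · rw [← commutatorElement_inv t s]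
        exact mem_sup_right (C.inv_mem (hmix ⟨t, ht⟩ ⟨s, hs⟩))
      · exact mem_sup_left (mem_sup_right ⟨⁅⟨s, hs⟩, ⟨t, ht⟩⁆,
          commutator_mem_commutator (mem_top _) (mem_top _), map_commutatorElement _ _ _⟩)
    obtain ⟨d, hd, z, hz, hdz⟩ := mem_sup_of_normal_right.mp (hderiv (hτ.2.2 k.2))
    obtain ⟨d₁, ⟨a, ha, rfl⟩, d₂, ⟨b, hb, rfl⟩, rfl⟩ := mem_sup_of_normal_right.mp hd
    have hprod : τ ((a : Δ) * b) = 1 := by
      have h : τ (k : Δ) = 1 := k.2
      rw [← hdz, map_mul, MonoidHom.mem_ker.mp (hCle hz), mul_one] at h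
      exact h
    have ha' : a ∈ τ₁.ker := by
      show (τ (a : Δ)).1 = 1
      have h := congrArg Prod.fst hprod
      rwa [map_mul, Prod.fst_mul, show (τ (b : Δ)).1 = 1 from b.2, mul_one] at h
    have hb' : b ∈ τ₂.ker := by
      show (τ (b : Δ)).2 = 1
      have h := congrArg Prod.snd hprod
      rwa [map_mul, Prod.snd_mul, show (τ (a : Δ)).2 = 1 from a.2, one_mul] at h
    obtain ⟨x, hx, hxa⟩ : a ∈ (mult Q₁).map β₁ := (map_mult hc₁ hβ₁).symm ▸ ⟨ha', ha⟩
    obtain ⟨y, hy, hyb⟩ : b ∈ (mult Q₂).map β₂ := (map_mult hc₂ hβ₂).symm ▸ ⟨hb', hb⟩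
    obtain ⟨zz, ⟨t, rfl⟩, rfl⟩ := hz
    refine ⟨(eA.symm ⟨x, hx⟩, eB.symm ⟨y, hy⟩, t), Subtype.ext ?_⟩
    simp only [MonoidHom.coprod_apply, MonoidHom.comp_apply, MulEquiv.coe_toMonoidHom,
      MulEquiv.apply_symm_apply, Subgroup.coe_mul]
    rw [← hdz]
    show ((β₁ x : Δ₁) : Δ) * (((β₂ y : Δ₂) : Δ) * (LT t : Δ)) = _
    rw [hxa, hyb, ← mul_assoc]
    rfl

end CfsgLib.Schur
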