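import Cfsg.Agent.Lib.Coprime.Schur
import Mathlib.GroupTheory.Transfer
import Mathlib.GroupTheory.FreeGroup.NielsenSchreier
import Mathlib.Tactic

/-!
Corestriction and transfer between the Schur multipliers of a group and a subgroup.
-/

set_option autoImplicit false

open Subgroup
open scoped commutatorElement

universe u

namespace CfsgLib.Schur

/-- Corestriction `res : M(U) → M(G)` and transfer `T : M(G) → M(U)` compose to the power map
by the index of `U`. -/
theorem exists_res_transfer {G : Type u} [Group G] [Finite G] (U : Subgroup G) :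
    ∃ (res : ↥(mult ↥U) →* ↥(mult G)) (T : ↥(mult G) →* ↥(mult ↥U)),
      ∀ a, res (T a) = a ^ U.index := by
  classical
  let π : FreeGroup G →* G := FreeGroup.lift id
  have hπ : Function.Surjective π := fun g => ⟨FreeGroup.of g, FreeGroup.lift_apply_of⟩
  let H : Subgroup (FreeGroup G) := U.comap π
  have hidx : H.index = U.index := U.index_comap_of_surjective hπ
  have : H.FiniteIndex := ⟨hidx ▸ U.index_ne_zero_of_finite⟩
  have hRH : presKer G ≤ H := fun x hx => by
    show π x ∈ U
    rw [show π x = 1 from hx]; exact U.one_mem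
  have hRn : (presKer G).Normal := MonoidHom.normal_ker _
  let R' : Subgroup H := (presKer G).subgroupOf H
  let C : Subgroup H := ⁅R', (⊤ : Subgroup H)⁆
  let mkX := QuotientGroup.mk' C
  let KX := R'.map mkX
  have hKX : ∀ k ∈ KX, ∀ y : H ⧸ C, y * k = k * y := by
    rintro _ ⟨r, hr, rfl⟩ y
    obtain ⟨h, rfl⟩ := QuotientGroup.mk'_surjective C y
    have h1 : ⁅r, h⁆ ∈ C := commutator_mem_commutator hr (mem_top h)
    rw [← QuotientGroup.eq_one_iff] at h1
    have h' : ⁅mkX r, mkX h⁆ = 1 := by rw [← map_commutatorElement]; exact h1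
    exact (commutatorElement_eq_one_iff_mul_comm.mp h').symm
  let _ : CommGroup KX :=
    { (inferInstance : Group KX) with mul_comm := fun a b => Subtype.ext (hKX b b.2 a) }
  let s : FreeGroup G ⧸ H → FreeGroup G := fun q => q.out
  have hs : ∀ q, ((s q : FreeGroup G) : FreeGroup G ⧸ H) = q := fun q => Quotient.out_eq' q
  have hmem : ∀ (q : FreeGroup G ⧸ H) {x : FreeGroup G}, x ∈ presKer G →
      (s q)⁻¹ * x * s q ∈ presKer G := fun q x hx => hRn.conj_mem' x hx (s q)
  let v : (FreeGroup G ⧸ H) → ↥(presKer G) →* KX := fun q => MonoidHom.mk'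
    (fun x => ⟨mkX ⟨(s q)⁻¹ * x * s q, hRH (hmem q x.2)⟩, mem_map_of_mem mkX (hmem q x.2)⟩)
    (fun x y => Subtype.ext (by
      show mkX _ = mkX _ * mkX _
      rw [← map_mul]
      congr 1
      apply Subtype.ext
      show (s q)⁻¹ * ((x : FreeGroup G) * y) * s q = ((s q)⁻¹ * x * s q) * ((s q)⁻¹ * y * s q)
      group))
  let _ := H.fintypeQuotientOfFiniteIndex
  let t : ↥(presKer G) →* KX := ∏ q, v q
  have ht : ∀ x, t x = ∏ q, v q x := fun x => MonoidHom.finsetProd_apply _ _ _
  have hconj : ∀ (x : ↥(presKer G)) (f : FreeGroup G),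
      t ⟨f * x * f⁻¹, hRn.conj_mem _ x.2 f⟩ = t x := by
    intro x f
    rw [ht, ht]
    refine Fintype.prod_equiv (MulAction.toPerm f⁻¹) _ _ fun q => Subtype.ext ?_
    show mkX _ = mkX _
    have hh : (s (f⁻¹ • q))⁻¹ * (f⁻¹ * s q) ∈ H := by
      rw [← QuotientGroup.eq, hs]
      conv_lhs => rw [← hs q]
      rfl
    have hk := hKX (mkX ⟨(s (f⁻¹ • q))⁻¹ * x * s (f⁻¹ • q), hRH (hmem _ x.2)⟩)
      (mem_map_of_mem mkX (hmem _ x.2)) (mkX ⟨_, hh⟩⁻¹)
    rw [MulAction.toPerm_apply]
    calc mkX _ = mkX (⟨_, hh⟩⁻¹ * ⟨(s (f⁻¹ • q))⁻¹ * x * s (f⁻¹ • q), hRH (hmem _ x.2)⟩ * ⟨_, hh⟩) := by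
          congr 1
          apply Subtype.ext
          show (s q)⁻¹ * (f * x * f⁻¹) * s q =
            ((s (f⁻¹ • q))⁻¹ * (f⁻¹ * s q))⁻¹ * ((s (f⁻¹ • q))⁻¹ * x * s (f⁻¹ • q)) *
              ((s (f⁻¹ • q))⁻¹ * (f⁻¹ * s q))
          group
      _ = _ := by rw [map_mul, map_mul, hk, map_inv, inv_mul_cancel_right]
  have ht_rel : ∀ (x : ↥(presKer G)), (x : FreeGroup G) ∈ presRel G → t x = 1 := by
    intro x hx
    have hle : presRel G ≤ t.ker.map (presKer G).subtype := by
      rw [commutator_le]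
      intro r hr f _
      refine ⟨⟨r, hr⟩ * ⟨f * r⁻¹ * f⁻¹, hRn.conj_mem _ (inv_mem hr) f⟩, ?_, ?_⟩
      · rw [SetLike.mem_coe, MonoidHom.mem_ker, map_mul, hconj ⟨r⁻¹, inv_mem hr⟩ f,
          show (⟨r⁻¹, inv_mem hr⟩ : ↥(presKer G)) = ⟨r, hr⟩⁻¹ from rfl, map_inv, mul_inv_cancel]
      · rw [commutatorElement_def]
        show r * (f * r⁻¹ * f⁻¹) = r * f * r⁻¹ * f⁻¹
        group
    obtain ⟨y, hy, hyx⟩ := hle hx
    rw [← show y = x from Subtype.ext hyx]
    exact hy
  have ht_comm : ∀ (x : ↥(presKer G)), (x : FreeGroup G) ∈ commutator (FreeGroup G) →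
      (t x : H ⧸ C) ∈ commutator (H ⧸ C) := by
    intro x hx
    let ψ : H →* Abelianization (H ⧸ C) := Abelianization.of.comp mkX
    have h1 : MonoidHom.transfer ψ (x : FreeGroup G) = 1 :=
      MonoidHom.mem_ker.mp (Abelianization.commutator_subset_ker _ hx)
    let T : H.LeftTransversal := ⟨Set.range s, isComplement_range_left hs⟩
    rw [MonoidHom.transfer_def ψ T] at h1
    rw [← Abelianization.ker_of, MonoidHom.mem_ker, ← h1, ht]
    rw [show Abelianization.of ((∏ q, v q x : KX) : H ⧸ C)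
      = (Abelianization.of.comp KX.subtype) (∏ q, v q x) from rfl, map_prod]
    unfold Subgroup.leftTransversals.diff
    refine Finset.prod_congr rfl fun q _ => ?_
    show Abelianization.of (mkX _) = Abelianization.of (mkX _)
    congr 2
    apply Subtype.ext
    show (s q)⁻¹ * (x : FreeGroup G) * s q = _
    have hfix : (x : FreeGroup G)⁻¹ • q = q := by
      conv_lhs => rw [← hs q]
      conv_rhs => rw [← hs q]
      refine QuotientGroup.eq.mpr ?_
      show ((x : FreeGroup G)⁻¹ * s q)⁻¹ * s q ∈ H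
      rw [show ((x : FreeGroup G)⁻¹ * s q)⁻¹ * s q = (s q)⁻¹ * x * s q by group]
      exact hRH (hmem q x.2)
    have hα : (T.2.leftQuotientEquiv q : FreeGroup G) = s q := IsComplement.leftQuotientEquiv_apply hs q
    have hβ : (((x : FreeGroup G) • T).2.leftQuotientEquiv q : FreeGroup G) = x * s q := by
      rw [Subgroup.smul_apply_eq_smul_apply_inv_smul, hfix, hα]; rfl
    change (s q)⁻¹ * (x : FreeGroup G) * s q =
      (T.2.leftQuotientEquiv q : FreeGroup G)⁻¹ * (((x : FreeGroup G) • T).2.leftQuotientEquiv q : FreeGroup G)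
    rw [hα, hβ, mul_assoc]
  -- the maps between the extensions
  let πU : H →* U := (π.comp H.subtype).codRestrict U fun h => h.2
  let γ₀ : H →* UExt ↥U :=
    IsFreeGroup.lift fun a => Function.surjInv (proj_surjective (Q := ↥U)) (πU (IsFreeGroup.of a))
  have hγ₀ : (proj ↥U).comp γ₀ = πU := IsFreeGroup.ext_hom fun a => by
    rw [MonoidHom.comp_apply, IsFreeGroup.lift_of]
    exact Function.surjInv_eq (proj_surjective (Q := ↥U)) _
  have hC : C ≤ γ₀.ker := by
    rw [commutator_le]
    intro r hr h _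
    have hc : γ₀ r ∈ center (UExt ↥U) := ker_proj_le_center (by
      rw [MonoidHom.mem_ker, ← MonoidHom.comp_apply, hγ₀]
      exact Subtype.ext hr)
    rw [MonoidHom.mem_ker, map_commutatorElement]
    exact commutatorElement_eq_one_iff_mul_comm.mpr (mem_center_iff.mp hc _).symm
  let γ : H ⧸ C →* UExt ↥U := QuotientGroup.lift C γ₀ hC
  let ι₀ : H →* UExt G := (QuotientGroup.mk' (presRel G)).comp H.subtype
  have hC' : C ≤ ι₀.ker := by
    rw [commutator_le]
    intro r hr h _
    exact (QuotientGroup.eq_one_iff _).mpr (commutator_mem_commutator hr (mem_top (h : FreeGroup G)))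
  let ι : H ⧸ C →* UExt G := QuotientGroup.lift C ι₀ hC'
  obtain ⟨β, hβ⟩ := exists_lift U.subtype (proj G) proj_surjective ker_proj_le_center
  have hagree : commutator (H ⧸ C) ≤ (β.comp γ).eqLocus ι := by
    rw [_root_.commutator_def, commutator_le]
    intro a _ b _
    show β (γ ⁅a, b⁆) = ι ⁅a, b⁆
    rw [map_commutatorElement, map_commutatorElement, map_commutatorElement]
    have key : ∀ y : H ⧸ C, (β (γ y))⁻¹ * ι y ∈ center (UExt G) := fun y => ker_proj_le_center (by
      obtain ⟨h, rfl⟩ := QuotientGroup.mk'_surjective C y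
      rw [MonoidHom.mem_ker, map_mul, map_inv]
      have h1 : proj G (β (γ (QuotientGroup.mk' C h))) = π h := by
        rw [← MonoidHom.comp_apply, hβ, MonoidHom.comp_apply]
        exact congrArg Subtype.val (DFunLike.congr_fun hγ₀ h)
      have h2 : proj G (ι (QuotientGroup.mk' C h)) = π h := rfl
      rw [h1, h2, inv_mul_cancel])
    exact commutatorElement_congr (key a) (key b)
  let res : ↥(mult ↥U) →* ↥(mult G) := (β.comp (mult ↥U).subtype).codRestrict (mult G) fun x =>
    ⟨show proj G (β x) = 1 by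
      rw [← MonoidHom.comp_apply, hβ, MonoidHom.comp_apply,
        show proj ↥U (x : UExt ↥U) = 1 from x.2.1, map_one],
     show β x ∈ commutator (UExt G) by
      have h := mem_map_of_mem β x.2.2
      rw [_root_.commutator_def, map_commutator] at h
      exact commutator_mono le_top le_top h⟩
  let D : Subgroup (FreeGroup G) := presKer G ⊓ commutator (FreeGroup G)
  let p₀ : D →* ↥(mult G) := ((QuotientGroup.mk' (presRel G)).comp D.subtype).codRestrict (mult G)
    fun x => ⟨x.2.1, by
      have h := mem_map_of_mem (QuotientGroup.mk' (presRel G)) x.2.2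
      rw [_root_.commutator_def, map_commutator] at h
      exact commutator_mono le_top le_top h⟩
  have hp₀ : Function.Surjective p₀ := by
    rintro ⟨e, he1, he2⟩
    have h : e ∈ (commutator (FreeGroup G)).map (QuotientGroup.mk' (presRel G)) := by
      rw [_root_.commutator_def, map_commutator, map_top_of_surjective _ (QuotientGroup.mk'_surjective _),
        ← _root_.commutator_def]
      exact he2
    obtain ⟨x, hx, rfl⟩ := h
    exact ⟨⟨x, he1, hx⟩, rfl⟩
  let T₀ : D →* ↥(mult ↥U) :=
    ((γ.comp KX.subtype).comp (t.comp (Subgroup.inclusion (inf_le_left : D ≤ presKer G)))).codRestrict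
      (mult ↥U) fun x => ⟨by
        obtain ⟨r, hr, hrx⟩ := (t (Subgroup.inclusion inf_le_left x)).2
        show proj ↥U (γ (t (Subgroup.inclusion inf_le_left x) : H ⧸ C)) = 1
        rw [← hrx]
        show ((proj ↥U).comp γ₀) r = 1
        rw [hγ₀]
        exact Subtype.ext hr, by
        have h := mem_map_of_mem γ (ht_comm (Subgroup.inclusion inf_le_left x) x.2.2)
        rw [_root_.commutator_def, map_commutator] at h
        exact commutator_mono le_top le_top h⟩
  have hker : p₀.ker ≤ T₀.ker := fun x hx => by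
    apply Subtype.ext
    have hx' : (x : FreeGroup G) ∈ presRel G := (QuotientGroup.eq_one_iff _).mp (congrArg Subtype.val hx :)
    show γ (t (Subgroup.inclusion inf_le_left x) : H ⧸ C) = 1
    rw [ht_rel _ hx', OneMemClass.coe_one, map_one]
  refine ⟨res, p₀.liftOfSurjective hp₀ ⟨T₀, hker⟩, fun a => ?_⟩
  obtain ⟨x, rfl⟩ := hp₀ a
  rw [show p₀.liftOfSurjective hp₀ ⟨T₀, hker⟩ (p₀ x) = T₀ x from
    MonoidHom.liftOfRightInverse_comp_apply _ _ _ _ x]
  apply Subtype.ext
  show β (γ (t (Subgroup.inclusion inf_le_left x) : H ⧸ C)) = ((p₀ x ^ U.index : ↥(mult G)) : UExt G)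
  rw [show β (γ (t (Subgroup.inclusion inf_le_left x) : H ⧸ C))
    = ι (t (Subgroup.inclusion inf_le_left x) : H ⧸ C) from hagree (ht_comm _ x.2.2)]
  let _ : CommGroup (proj G).ker :=
    { (inferInstance : Group (proj G).ker) with
      mul_comm := fun a b => Subtype.ext (mem_center_iff.mp (ker_proj_le_center b.2) a) }
  let ιK : KX →* (proj G).ker := (ι.comp KX.subtype).codRestrict _ fun k => by
    obtain ⟨r, hr, hrk⟩ := k.2
    show proj G (ι (k : H ⧸ C)) = 1
    rw [← hrk]
    exact hr
  have hv : ∀ q, ιK (v q (Subgroup.inclusion inf_le_left x))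
      = ⟨QuotientGroup.mk' (presRel G) x, x.2.1⟩ := fun q => by
    apply Subtype.ext
    show QuotientGroup.mk' (presRel G) ((s q)⁻¹ * x * s q) = QuotientGroup.mk' (presRel G) x
    rw [map_mul, map_mul, map_inv,
      mul_assoc, ← mem_center_iff.mp (ker_proj_le_center (show QuotientGroup.mk' (presRel G) x ∈ (proj G).ker from x.2.1)),
      inv_mul_cancel_left]
  show (ιK (t (Subgroup.inclusion inf_le_left x)) : UExt G) = _
  rw [ht, map_prod, Finset.prod_congr rfl (fun q _ => hv q), Finset.prod_const, Finset.card_univ,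
    ← Nat.card_eq_fintype_card, ← Subgroup.index_eq_card, hidx]
  simp [p₀]
  rfl

end CfsgLib.Schur
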