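import Mathlib
set_option autoImplicit false

/-!
Soft subgroups of `p`-groups: the overgroups form the normalizer tower.
-/

namespace CfsgLib.Coprime.Soft

open Subgroup
open scoped commutatorElement

universe u

variable {P : Type u} [Group P]

/-- A soft subgroup. -/
def IsSoft (p : ℕ) (E : Subgroup P) : Prop :=
  IsMulCommutative E ∧ centralizer (E : Set P) ≤ E ∧ E.relIndex (normalizer (E : Set P)) = p ∧ p ^ 2 ≤ E.index

/-- What is to be proved about the overgroups. -/
def Tower (p : ℕ) (E : Subgroup P) : Prop :=
  (∀ K : Subgroup P, E ≤ K → K ≠ ⊤ → K.relIndex (normalizer (K : Set P)) = p) ∧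
    ∀ (i : ℕ) (K : Subgroup P), E ≤ K → K ≠ ⊤ → K.index * p ^ i = E.index → K.lowerCentralSeries (i + 1) = ⊥

theorem relIndex_mul_card_eq {H K : Subgroup P} (h : H ≤ K) : H.relIndex K * Nat.card H = Nat.card K := by
  rw [← relIndex_bot_left, ← relIndex_bot_left, mul_comm]
  exact relIndex_mul_relIndex ⊥ H K bot_le h

variable [Finite P] {p : ℕ} [hp : Fact p.Prime]

omit [Finite P] hp in
theorem mul_comm_of {E : Subgroup P} (h : IsMulCommutative E) {a b : P} (ha : a ∈ E) (hb : b ∈ E) : a * b = b * a :=
  congrArg Subtype.val (h.is_comm.comm ⟨a, ha⟩ ⟨b, hb⟩)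

theorem lt_inf_normalizer (hP : IsPGroup p P) {J K : Subgroup P} (h : J < K) :
    J < K ⊓ normalizer (J : Set P) := by
  refine lt_of_le_of_ne (le_inf h.le le_normalizer) fun e => ?_
  have := (hP.to_subgroup K).isNilpotent
  have h1 := Group.normalizerCondition_of_isNilpotent (J.subgroupOf K)
    (lt_of_le_of_ne le_top fun e1 => h.not_ge (subgroupOf_eq_top.1 e1))
  obtain ⟨y, hy, hyJ⟩ := SetLike.exists_of_lt h1
  refine hyJ ?_
  show (y : P) ∈ J
  rw [e]
  refine mem_inf.2 ⟨y.2, mem_normalizer_iff.2 fun z => ?_⟩
  constructor <;> intro hz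
  · exact (mem_normalizer_iff.1 hy ⟨z, h.le hz⟩).1 hz
  · have hzK : z ∈ K := by
      have := mul_mem (mul_mem (inv_mem y.2) (h.le hz)) y.2
      simpa [mul_assoc] using this
    exact (mem_normalizer_iff.1 hy ⟨z, hzK⟩).2 hz

omit hp in
/-- A subgroup of prime index in its normalizer. -/
theorem eq_or_eq_of_le (hpp : p.Prime) {J : Subgroup P} (h : J.relIndex (normalizer (J : Set P)) = p) {L : Subgroup P}
    (h1 : J ≤ L) (h2 : L ≤ normalizer (J : Set P)) : L = J ∨ L = normalizer (J : Set P) := by
  have := relIndex_mul_relIndex J L _ h1 h2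
  rw [h] at this
  rcases hpp.eq_one_or_self_of_dvd _ (Dvd.intro _ this) with e | e
  · exact Or.inl (le_antisymm (relIndex_eq_one.1 e) h1)
  · rw [e] at this
    exact Or.inr (le_antisymm h2 (relIndex_eq_one.1 (Nat.eq_of_mul_eq_mul_left hpp.pos (this.trans (mul_one p).symm))))

theorem total_of_steps (hP : IsPGroup p P) {E : Subgroup P}
    (hstep : ∀ K : Subgroup P, E ≤ K → K ≠ ⊤ → K.relIndex (normalizer (K : Set P)) = p)
    {K L : Subgroup P} (hK : E ≤ K) (hL : E ≤ L) : K ≤ L ∨ L ≤ K := by
  by_contra! hc
  have h1 : K ⊓ L < K := lt_of_le_of_ne inf_le_left fun e => hc.1 (inf_eq_left.1 e)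
  have h2 : K ⊓ L < L := lt_of_le_of_ne inf_le_right fun e => hc.2 (inf_eq_right.1 e)
  set J := K ⊓ L
  have hi := hstep J (le_inf hK hL) (fun e => h1.not_ge (e ▸ le_top))
  have key : ∀ M : Subgroup P, J < M → normalizer (J : Set P) ≤ M := fun M hM => by
    rcases eq_or_eq_of_le hp.out hi (le_inf hM.le le_normalizer) inf_le_right with e | e
    · exact absurd e (lt_inf_normalizer hP hM).ne'
    · exact inf_eq_right.1 e
  have h3 : normalizer (J : Set P) ≤ J := le_inf (key K h1) (key L h2)
  rw [le_antisymm h3 le_normalizer, relIndex_self] at hi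
  exact hp.out.one_lt.ne hi

omit [Finite P] hp in
theorem conj_normalizer_le {J K : Subgroup P} (hJ : J ≤ K) : normalizer (J : Set P) ⊓ K ≤ normalizer (J : Set P) :=
  inf_le_left

/-- The normalizer of `N(E)` when it is abelian modulo a central subgroup of order `p`. -/
theorem relIndex_normalizer_normalizer (hP : IsPGroup p P) {E : Subgroup P} (hE : IsSoft p E) {z : P}
    (hzc : z ∈ center P) (hzp : orderOf z = p)
    (hcom : ∀ a ∈ normalizer (E : Set P), ∀ b ∈ normalizer (E : Set P), ⁅a, b⁆ ∈ zpowers z) :
    (normalizer (E : Set P)).relIndex (normalizer ((normalizer (E : Set P)) : Set P)) = p := by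
  classical
  obtain ⟨hab, hC, hidx, hp2⟩ := hE
  set N := normalizer (E : Set P) with hN
  set T := normalizer (N : Set P) with hT
  have hEN : E ≤ N := le_normalizer
  -- the centre of `N`
  set Z := E ⊓ centralizer (N : Set P) with hZ
  obtain ⟨a, haN, haE⟩ := SetLike.exists_of_lt (show E < N from lt_of_le_of_ne hEN fun e => by
    rw [← e, relIndex_self] at hidx; exact hp.out.one_lt.ne hidx)
  have hNgen : N = E ⊔ zpowers a := by
    rcases eq_or_eq_of_le hp.out hidx (le_sup_left (b := zpowers a)) (sup_le hEN (zpowers_le.2 haN)) with e | e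
    · exact absurd (e ▸ mem_sup_right (mem_zpowers a)) haE
    · exact e.symm
  have hZa : ∀ e ∈ E, ⁅e, a⁆ = 1 → e ∈ Z := by
    intro e he h1
    refine mem_inf.2 ⟨he, ?_⟩
    have : N ≤ centralizer ({e} : Set P) := by
      rw [hNgen]
      refine sup_le (fun b hb => mem_centralizer_singleton_iff.2 (mul_comm_of hab hb he)) (zpowers_le.2 ?_)
      exact mem_centralizer_singleton_iff.2 (commutatorElement_eq_one_iff_mul_comm.1 h1).symm
    exact mem_centralizer_iff.2 fun b hb => mem_centralizer_singleton_iff.1 (this hb)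
  have hZidx : Nat.card E ≤ p * Nat.card Z := by
    let f : E →* zpowers z :=
      { toFun := fun e => ⟨⁅(e : P), a⁆, hcom _ (hEN e.2) _ haN⟩
        map_one' := Subtype.ext (by simp)
        map_mul' := fun e₁ e₂ => Subtype.ext (by
          show ⁅(e₁ : P) * e₂, a⁆ = ⁅(e₁ : P), a⁆ * ⁅(e₂ : P), a⁆
          obtain ⟨i, hi⟩ := mem_zpowers_iff.1 (hcom _ (hEN e₂.2) _ haN)
          have hc : (e₁ : P) * ⁅(e₂ : P), a⁆ = ⁅(e₂ : P), a⁆ * e₁ := by
            rw [← hi]; exact (mem_center_iff.1 (zpow_mem hzc i) e₁)
          have hc' : ⁅(e₂ : P), a⁆ * ⁅(e₁ : P), a⁆ = ⁅(e₁ : P), a⁆ * ⁅(e₂ : P), a⁆ := by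
            rw [← hi]; exact (mem_center_iff.1 (zpow_mem hzc i) _).symm
          calc ⁅(e₁ : P) * e₂, a⁆ = (e₁ : P) * ⁅(e₂ : P), a⁆ * (e₁ : P)⁻¹ * ⁅(e₁ : P), a⁆ := by
                simp only [commutatorElement_def]; group
            _ = ⁅(e₂ : P), a⁆ * ⁅(e₁ : P), a⁆ := by rw [hc, mul_inv_cancel_right]
            _ = _ := hc') }
    have h1 : Nat.card E = Nat.card f.ker * Nat.card f.range := by rw [← index_ker, card_mul_index]
    have h2 : Nat.card f.range ≤ p := (card_le_card_group _).trans_eq (by rw [Nat.card_zpowers, hzp])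
    have h3 : Nat.card f.ker ≤ Nat.card Z :=
      Nat.card_le_card_of_injective (fun e => (⟨e.1.1, hZa _ e.1.2 (congrArg Subtype.val e.2)⟩ : Z))
        (fun e₁ e₂ h => Subtype.ext (Subtype.ext (congrArg Subtype.val h :)))
    calc Nat.card E = Nat.card f.ker * Nat.card f.range := h1
      _ ≤ Nat.card Z * p := Nat.mul_le_mul h3 h2
      _ = _ := mul_comm _ _
  have hcardN : Nat.card N = p * Nat.card E := by
    rw [← relIndex_mul_card_eq hEN, hidx]
  -- conjugates of `E` in `N`
  have := Fintype.ofFinite P
  let orb : Finset (Subgroup P) := (Finset.univ.filter (· ∈ T)).image fun t => E.map (MulAut.conj t).toMonoidHom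
  have hZinv : ∀ t ∈ T, ∀ y ∈ Z, t * y * t⁻¹ ∈ E := by
    intro t ht y hy
    refine hC (mem_centralizer_iff.2 fun e he => ?_)
    have hte : t⁻¹ * e * t ∈ N := (mem_normalizer_iff''.1 ht e).1 (hEN he)
    have := mem_centralizer_iff.1 hy.2 _ hte
    calc e * (t * y * t⁻¹) = t * ((t⁻¹ * e * t) * y) * t⁻¹ := by group
      _ = _ := by rw [this]; group
  have hmemF : ∀ F ∈ orb, F ≤ N ∧ Z ≤ F ∧ Nat.card F = Nat.card E ∧ IsMulCommutative F := by
    intro F hF
    simp only [orb, Finset.mem_image, Finset.mem_filter, Finset.mem_univ, true_and] at hF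
    obtain ⟨t, ht, rfl⟩ := hF
    refine ⟨?_, fun y hy => ?_, card_map_of_injective (MulAut.conj t).injective, ?_⟩
    · rintro _ ⟨e, he, rfl⟩; exact (mem_normalizer_iff.1 ht e).1 (hEN he)
    · exact ⟨t⁻¹ * y * t, by simpa using hZinv t⁻¹ (inv_mem ht) y hy, by simp [mul_assoc]⟩
    · exact ⟨⟨fun u v => Subtype.ext (by
        obtain ⟨e, he, hu⟩ := u.2; obtain ⟨e', he', hv⟩ := v.2
        show (u : P) * v = v * u
        rw [← hu, ← hv, ← map_mul, ← map_mul, mul_comm_of hab he he'])⟩⟩
  -- distinct conjugates meet in `Z`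
  have hmeet : ∀ F ∈ orb, ∀ G ∈ orb, F ≠ G → F ⊓ G ≤ Z := by
    intro F hF G hG hne y hy
    obtain ⟨hFN, hZF, hFc, hFab⟩ := hmemF F hF
    obtain ⟨hGN, hZG, hGc, hGab⟩ := hmemF G hG
    have htop : F ⊔ G = N := by
      have hd : F.relIndex N = p := by
        have := relIndex_mul_card_eq hFN
        rw [hcardN, hFc] at this
        exact Nat.eq_of_mul_eq_mul_right Nat.card_pos this
      have h1 := relIndex_mul_relIndex F (F ⊔ G) N le_sup_left (sup_le hFN hGN)
      rw [hd] at h1
      rcases hp.out.eq_one_or_self_of_dvd _ (Dvd.intro _ h1) with e | e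
      · exfalso
        refine hne (eq_of_le_of_card_ge ?_ (by rw [hFc, hGc])).symm
        exact (le_sup_right).trans (relIndex_eq_one.1 e)
      · rw [e] at h1
        exact le_antisymm (sup_le hFN hGN)
          (relIndex_eq_one.1 (Nat.eq_of_mul_eq_mul_left hp.out.pos (h1.trans (mul_one p).symm)))
    have hyN : y ∈ centralizer (N : Set P) := by
      have : N ≤ centralizer ({y} : Set P) := htop ▸ sup_le
        (fun b hb => mem_centralizer_singleton_iff.2 (mul_comm_of hFab hb hy.1))
        (fun b hb => mem_centralizer_singleton_iff.2 (mul_comm_of hGab hb hy.2))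
      exact mem_centralizer_iff.2 fun b hb => mem_centralizer_singleton_iff.1 (this hb)
    exact mem_inf.2 ⟨hC (mem_centralizer_iff.2 fun e he => mem_centralizer_iff.1 hyN e (hEN he)), hyN⟩
  have hcount : orb.card * (Nat.card E - Nat.card Z) ≤ Nat.card N - Nat.card Z := by
    have cs : ∀ A : Subgroup P, (Finset.univ.filter fun x => x ∈ A).card = Nat.card A := fun A => by
      rw [Nat.card_eq_fintype_card, Fintype.card_subtype]
    let pc : Subgroup P → Finset P := fun F =>
      (Finset.univ.filter fun x => x ∈ F) \ (Finset.univ.filter fun x => x ∈ Z)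
    have hcardpc : ∀ F ∈ orb, (pc F).card = Nat.card E - Nat.card Z := fun F hF => by
      obtain ⟨-, hZF, hFc, -⟩ := hmemF F hF
      rw [Finset.card_sdiff_of_subset (fun x hx => by simp at hx ⊢; exact hZF hx), cs, cs, hFc]
    calc orb.card * (Nat.card E - Nat.card Z) = ∑ F ∈ orb, (pc F).card := by
          rw [Finset.sum_congr rfl hcardpc, Finset.sum_const, smul_eq_mul]
      _ = (orb.biUnion pc).card := (Finset.card_biUnion (fun F hF G hG hne => by
          refine Finset.disjoint_left.2 fun x hxF hxG => ?_
          simp [pc] at hxF hxG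
          exact hxF.2 (hmeet F hF G hG hne ⟨hxF.1, hxG.1⟩))).symm
      _ ≤ ((Finset.univ.filter fun x => x ∈ N) \ (Finset.univ.filter fun x => x ∈ Z)).card := by
          refine Finset.card_le_card fun x hx => ?_
          simp [pc] at hx ⊢
          obtain ⟨F, hF, hxF, hxZ⟩ := hx
          exact ⟨(hmemF F hF).1 hxF, hxZ⟩
      _ = _ := by rw [Finset.card_sdiff_of_subset (fun x hx => by simp at hx ⊢; exact hEN hx.1), cs, cs]
  -- the orbit has size `[T : N]`
  have horb : orb.card = N.relIndex T := by
    have hinj : ∀ t₁ t₂ : P, E.map (MulAut.conj t₁).toMonoidHom = E.map (MulAut.conj t₂).toMonoidHom ↔ t₁⁻¹ * t₂ ∈ N := by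
      intro t₁ t₂
      constructor
      · intro h
        refine mem_normalizer_iff.2 fun e => ?_
        have h' : t₂ * e * t₂⁻¹ ∈ E.map (MulAut.conj t₂).toMonoidHom ↔ e ∈ E :=
          ⟨fun ⟨e', he', h2⟩ => (MulAut.conj t₂).injective h2 ▸ he', fun he => ⟨e, he, rfl⟩⟩
        rw [← h', ← h]
        constructor
        · rintro ⟨e', he', h2⟩
          rw [show t₁⁻¹ * t₂ * e * (t₁⁻¹ * t₂)⁻¹ = t₁⁻¹ * (t₂ * e * t₂⁻¹) * t₁ by group, ← h2]
          simpa [mul_assoc] using he'
        · intro h2
          exact ⟨_, h2, by simp [mul_assoc]⟩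
      · intro h
        ext y
        constructor
        · rintro ⟨e, he, rfl⟩
          exact ⟨_, (mem_normalizer_iff''.1 h e).1 he, by simp [mul_assoc]⟩
        · rintro ⟨e, he, rfl⟩
          exact ⟨_, (mem_normalizer_iff.1 h e).1 he, by simp [mul_assoc]⟩
    let φ : T ⧸ N.subgroupOf T → Subgroup P :=
      Quotient.lift (fun t : T => E.map (MulAut.conj (t : P)).toMonoidHom) fun t₁ t₂ h =>
        (hinj _ _).2 ((QuotientGroup.leftRel_apply.1 h) : _)
    have hφ : Function.Injective φ := by
      intro q₁ q₂ h
      induction q₁ using Quotient.inductionOn with | h t₁ => induction q₂ using Quotient.inductionOn with | h t₂ =>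
        exact Quotient.sound (QuotientGroup.leftRel_apply.2 ((hinj _ _).1 h))
    show orb.card = Nat.card (T ⧸ N.subgroupOf T)
    rw [← Nat.card_eq_finsetCard]
    refine (Nat.card_eq_of_bijective (fun q => (⟨φ q, ?_⟩ : orb)) ⟨fun q₁ q₂ h => hφ (congrArg Subtype.val h), ?_⟩).symm
    · induction q using Quotient.inductionOn with | h t => exact Finset.mem_image.2 ⟨t, by simp, rfl⟩
    · rintro ⟨F, hF⟩
      simp only [orb, Finset.mem_image, Finset.mem_filter, Finset.mem_univ, true_and] at hF
      obtain ⟨t, ht, rfl⟩ := hF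
      exact ⟨Quotient.mk _ ⟨t, ht⟩, rfl⟩
  obtain ⟨n, hn⟩ : ∃ n, N.relIndex T = p ^ n := by
    obtain ⟨m, hm⟩ := IsPGroup.iff_card.1 (hP.to_subgroup T)
    have hd : N.relIndex T ∣ p ^ m := hm ▸ index_dvd_card _
    obtain ⟨n, -, hn⟩ := (Nat.dvd_prime_pow hp.out).1 hd
    exact ⟨n, hn⟩
  have hNtop : N ≠ ⊤ := by
    intro e
    have h1 : E.index = p := by rw [← relIndex_top_right, ← e]; exact hidx
    rw [h1] at hp2
    nlinarith [hp.out.two_le]
  have hne1 : n ≠ 0 := by
    rintro rfl
    rw [pow_zero] at hn
    have hlt := lt_inf_normalizer hP (lt_of_le_of_ne le_top hNtop)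
    exact hlt.not_ge (inf_le_right.trans (relIndex_eq_one.1 hn))
  have hZle : Nat.card Z < Nat.card E := by
    refine lt_of_le_of_ne (card_le_of_le inf_le_left) fun e => ?_
    have : E ≤ centralizer (N : Set P) := (eq_of_le_of_card_ge inf_le_left e.ge).symm.le.trans inf_le_right
    exact haE (hC (mem_centralizer_iff.2 fun b hb => (mem_centralizer_iff.1 (this hb) a haN).symm))
  have hle : p ^ n ≤ p + 1 := by
    by_contra hlt
    rw [horb, hn, hcardN] at hcount
    have hZd : Nat.card Z * p ≤ Nat.card E := by
      have h1 := relIndex_mul_card_eq (inf_le_left : Z ≤ E)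
      obtain ⟨m, hm⟩ := IsPGroup.iff_card.1 (hP.to_subgroup E)
      have hd : Z.relIndex E ∣ p ^ m := hm ▸ index_dvd_card _
      obtain ⟨k, -, hk⟩ := (Nat.dvd_prime_pow hp.out).1 hd
      rw [hk] at h1
      rcases k with _ | k
      · rw [pow_zero, one_mul] at h1; exact absurd h1 hZle.ne
      · rw [← h1, mul_comm]; exact Nat.mul_le_mul_right _ (Nat.le_self_pow (Nat.succ_ne_zero k) p)
    have hE' : Nat.card E = p * Nat.card Z := le_antisymm hZidx (mul_comm p _ ▸ hZd)
    rw [hE'] at hcount
    obtain ⟨c, hc⟩ : ∃ c, p = c + 2 := ⟨p - 2, by have := hp.out.two_le; omega⟩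
    have h1 : (p + 2) * (p * Nat.card Z - Nat.card Z) ≤ p * (p * Nat.card Z) - Nat.card Z :=
      (Nat.mul_le_mul_right _ (by omega)).trans hcount
    rw [show p * Nat.card Z - Nat.card Z = (c + 1) * Nat.card Z by
      rw [hc]; exact Nat.sub_eq_of_eq_add (by ring),
      show p * (p * Nat.card Z) - Nat.card Z = (c + 3) * (c + 1) * Nat.card Z by
        rw [hc]; exact Nat.sub_eq_of_eq_add (by ring),
      hc] at h1
    have : 0 < Nat.card Z := Nat.card_pos
    nlinarith
  rcases Nat.lt_or_ge n 2 with h | h
  · rw [hn, show n = 1 by omega, pow_one]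
  · exfalso
    have h1 := Nat.pow_le_pow_right hp.out.pos h
    have h2 : p + 2 ≤ p ^ 2 := by nlinarith [hp.out.two_le]
    omega

omit hp in
theorem quotient_card_lt {z : P} [(zpowers z).Normal] (h : z ≠ 1) : Nat.card (P ⧸ zpowers z) < Nat.card P := by
  rw [← card_mul_index (zpowers z), ← index_eq_card]
  have h1 : 2 ≤ Nat.card (zpowers z) := by
    rw [Nat.card_zpowers]
    rcases Nat.lt_or_ge (orderOf z) 2 with h2 | h2
    · exact absurd (orderOf_eq_one_iff.1 (by have := orderOf_pos z; omega)) h
    · exact h2
  have h2 : 0 < (zpowers z).index := Nat.pos_of_ne_zero index_ne_zero_of_finite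
  nlinarith

theorem class_lower (hP : IsPGroup p P) {E K : Subgroup P} (hC : centralizer (E : Set P) ≤ E)
    (hstep : ∀ K : Subgroup P, E ≤ K → K ≠ ⊤ → K.relIndex (normalizer (K : Set P)) = p)
    (hEK : E ≤ K) (hK : K ≠ ⊤) {c : ℕ} (hc : K.lowerCentralSeries (c + 1) = ⊥) :
    Nat.card K ≤ p ^ c * Nat.card E := by
  have hKn := K.self_le_normalizer_lowerCentralSeries
  have key : ∀ j ≤ c, Nat.card ↥(E ⊔ K.lowerCentralSeries (c - j)) ≤ p ^ j * Nat.card E := by
    intro j
    induction j with
    | zero =>
      intro _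
      rw [pow_zero, one_mul, Nat.sub_zero]
      refine card_le_of_le (sup_le le_rfl ?_)
      refine le_trans ?_ hC
      rw [← commutator_eq_bot_iff_le_centralizer]
      exact le_bot_iff.1 ((commutator_mono le_rfl hEK).trans_eq hc)
    | succ j ih =>
      intro hj
      set W := E ⊔ K.lowerCentralSeries (c - j) with hW
      set V := E ⊔ K.lowerCentralSeries (c - (j + 1)) with hV
      have e : c - j = c - (j + 1) + 1 := by omega
      have hVK : V ≤ K := sup_le hEK (lowerCentralSeries_le_self K _)
      have hWK : W ≤ K := sup_le hEK (lowerCentralSeries_le_self K _)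
      have hVW : V ≤ normalizer (W : Set P) := by
        refine sup_le (le_sup_left.trans le_normalizer) fun y hy => ?_
        have hcomm : ∀ w ∈ W, ⁅y, w⁆ ∈ W := fun w hw => mem_sup_right (by
          rw [e]
          exact commutator_mem_commutator hy (hWK hw))
        have hconj : ∀ w ∈ W, y * w * y⁻¹ ∈ W := fun w hw => by
          rw [show y * w * y⁻¹ = ⁅y, w⁆ * w by rw [commutatorElement_def]; group]
          exact mul_mem (hcomm w hw) hw
        exact mem_normalizer_fintype hconj
      have hWV : W ≤ V := sup_le_sup_left (Subgroup.lowerCentralSeries_antitone K (by omega)) _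
      have hW' := hstep W le_sup_left (fun e1 => hK (top_le_iff.1 (e1 ▸ hWK)))
      have h1 := relIndex_mul_relIndex W V (normalizer (W : Set P)) hWV hVW
      rw [hW'] at h1
      have h2 := relIndex_mul_card_eq hWV
      have h3 : W.relIndex V ≤ p := Nat.le_of_dvd hp.out.pos (Dvd.intro _ h1)
      calc Nat.card V = W.relIndex V * Nat.card W := h2.symm
        _ ≤ p * (p ^ j * Nat.card E) := Nat.mul_le_mul h3 (ih (by omega))
        _ = _ := by ring
  have h := key c le_rfl
  rw [Nat.sub_self, Subgroup.lowerCentralSeries_zero, sup_eq_right.2 hEK] at h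
  exact h

theorem tower_all : ∀ (n : ℕ) (P : Type u) [Group P] [Finite P], Nat.card P = n → IsPGroup p P →
    ∀ E : Subgroup P, IsSoft p E → Tower p E := by
  intro n
  induction n using Nat.strong_induction_on with
  | _ n ih =>
    intro P _ _ hn hP E hE
    obtain ⟨hab, hC, hidx, hp2⟩ := hE
    set N := normalizer (E : Set P) with hN
    have : Nontrivial P := Finite.one_lt_card_iff_nontrivial.1 (by
      rw [← card_mul_index E]
      nlinarith [hp.out.two_le, Nat.card_pos (α := E)])
    have : Nontrivial (center P) := hP.center_nontrivial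
    obtain ⟨⟨z, hzc⟩, hz⟩ := exists_prime_orderOf_dvd_card' (G := center P) p (by
      obtain ⟨k, hk⟩ := IsPGroup.iff_card.1 (hP.to_subgroup (center P))
      rcases k with _ | k
      · exact absurd hk (by rw [pow_zero]; exact (Finite.one_lt_card (α := center P)).ne')
      · rw [hk]; exact dvd_pow_self p (Nat.succ_ne_zero k))
    rw [Subgroup.orderOf_mk] at hz
    have hzn : (zpowers z).Normal := ⟨fun m hm g => by
      rw [mem_center_iff.1 ((zpowers_le.2 hzc) hm) g, mul_inv_cancel_right]; exact hm⟩
    set f := QuotientGroup.mk' (zpowers z) with hf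
    have hfs : Function.Surjective f := QuotientGroup.mk'_surjective _
    have hker : f.ker = zpowers z := QuotientGroup.ker_mk' _
    have hzE : zpowers z ≤ E := zpowers_le.2 (hC (mem_centralizer_iff.2 fun e _ => mem_center_iff.1 hzc e))
    have hsat : ∀ K : Subgroup P, E ≤ K → (K.map f).comap f = K := fun K hK =>
      comap_map_eq_self (hker.le.trans (hzE.trans hK))
    have hidxmap : ∀ K : Subgroup P, E ≤ K → (K.map f).index = K.index := fun K hK => by
      rw [← index_comap_of_surjective _ hfs, hsat K hK]
    have hnorm : ∀ K : Subgroup P, E ≤ K → (normalizer ((K.map f : Subgroup (P ⧸ zpowers z)) : Set (P ⧸ zpowers z))).comap f =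
        normalizer (K : Set P) := fun K hK => by
      rw [comap_normalizer_eq_of_surjective _ hfs, hsat K hK]
    have hrel : ∀ K : Subgroup P, E ≤ K → K.relIndex (normalizer (K : Set P)) =
        (K.map f).relIndex (normalizer ((K.map f : Subgroup (P ⧸ zpowers z)) : Set (P ⧸ zpowers z))) := fun K hK => by
      conv_lhs => rw [← hnorm K hK, ← hsat K hK]
      rw [relIndex_comap, map_comap_eq_self_of_surjective hfs]
      rw [hsat K hK]
    have hlt : Nat.card (P ⧸ zpowers z) < n := hn ▸ quotient_card_lt (fun e => by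
      rw [e, orderOf_one] at hz; exact hp.out.one_lt.ne hz)
    have hP' : IsPGroup p (P ⧸ zpowers z) := hP.to_quotient _
    have hzcen : ∀ w ∈ zpowers z, ∀ g : P, w * g = g * w := fun w hw g =>
      (mem_center_iff.1 ((zpowers_le.2 hzc) hw) g).symm
    -- centralizer of the image of `E`
    have hCE : (centralizer ((E.map f : Subgroup (P ⧸ zpowers z)) : Set (P ⧸ zpowers z))).comap f ≤ N := by
      intro c hc
      rw [hN]
      refine mem_normalizer_fintype fun e he => ?_
      have h1 := mem_centralizer_iff.1 hc (f e) ⟨e, he, rfl⟩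
      have h2 : f ⁅c, e⁆ = 1 := by
        rw [map_commutatorElement, commutatorElement_eq_one_iff_mul_comm]; exact h1.symm
      rw [show c * e * c⁻¹ = ⁅c, e⁆ * e by rw [commutatorElement_def]; group]
      exact mul_mem (hzE (hker ▸ h2)) he
    have hEC : E ≤ (centralizer ((E.map f : Subgroup (P ⧸ zpowers z)) : Set (P ⧸ zpowers z))).comap f := fun e he =>
      mem_centralizer_iff.2 (by rintro _ ⟨e', he', rfl⟩; rw [← map_mul, ← map_mul, mul_comm_of hab he' he])
    have habmap : IsMulCommutative (E.map f) := ⟨⟨fun u v => Subtype.ext (by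
        obtain ⟨e, he, hu⟩ := u.2; obtain ⟨e', he', hv⟩ := v.2
        show (u : P ⧸ zpowers z) * v = v * u
        rw [← hu, ← hv, ← map_mul, ← map_mul, mul_comm_of hab he he'])⟩⟩
    have finish : ∀ (i : ℕ) (K : Subgroup P), K.lowerCentralSeries i ≤ zpowers z → K.lowerCentralSeries (i + 1) = ⊥ :=
      fun i K h => le_bot_iff.1 (by
        rw [Subgroup.lowerCentralSeries_succ]
        refine commutator_le.2 fun d hd k _ => ?_
        rw [mem_bot, commutatorElement_eq_one_iff_mul_comm]
        exact hzcen d (h hd) k)
    have hmapz : ∀ (L : Subgroup P), L.map f = ⊥ → L ≤ zpowers z := fun L h => by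
      rw [← hker]; exact (map_eq_bot_iff L).1 h
    rcases eq_or_eq_of_le hp.out hidx hEC hCE with hA | hB
    · -- the image of `E` is soft
      have hT := ih _ hlt (P ⧸ zpowers z) rfl hP' (E.map f) ⟨habmap, fun y hy => by
        obtain ⟨y, rfl⟩ := hfs y
        exact mem_map_of_mem f (hA.le hy), (hrel E le_rfl).symm.trans hidx, (hidxmap E le_rfl).symm ▸ hp2⟩
      have hstep : ∀ K : Subgroup P, E ≤ K → K ≠ ⊤ → K.relIndex (normalizer (K : Set P)) = p := fun K hK hKt => by
        rw [hrel K hK]
        exact hT.1 _ (map_mono hK) fun e => hKt (by rw [← hsat K hK, e, comap_top])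
      refine ⟨hstep, fun i K hK hKt hiK => ?_⟩
      have h1 := hT.2 i (K.map f) (map_mono hK) (fun e => hKt (by rw [← hsat K hK, e, comap_top]))
        (by rw [hidxmap K hK, hidxmap E le_rfl]; exact hiK)
      rw [← map_lowerCentralSeries] at h1
      have hle := hmapz _ h1
      set D := K.lowerCentralSeries i with hD
      have hDE : D ≤ E := fun d hd => hA.le (mem_centralizer_iff.2 (by
        rintro _ ⟨e, he, rfl⟩
        have : f ⁅d, e⁆ = 1 := hker.ge (hle (commutator_mem_commutator hd (hK he)))
        rw [map_commutatorElement, commutatorElement_eq_one_iff_mul_comm] at this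
        exact this.symm))
      set J := K ⊓ centralizer (D : Set P) with hJ
      have hEJ : E ≤ J := le_inf hK fun e he => mem_centralizer_iff.2 fun d hd => mul_comm_of hab (hDE hd) he
      have hJK : J = K := by
        by_contra hne
        have hJlt : J < K := lt_of_le_of_ne inf_le_left hne
        have hJ' := hstep J hEJ (fun e => hKt (top_le_iff.1 (e ▸ inf_le_left)))
        have hNJ : normalizer (J : Set P) ≤ K := by
          rcases eq_or_eq_of_le hp.out hJ' (le_inf hJlt.le le_normalizer) inf_le_right with e | e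
          · exact absurd e (lt_inf_normalizer hP hJlt).ne'
          · exact inf_eq_right.1 e
        have hNKJ : normalizer (K : Set P) ≤ normalizer (J : Set P) := by
          intro t ht
          refine mem_normalizer_fintype fun y hy => ?_
          refine mem_inf.2 ⟨(mem_normalizer_iff.1 ht y).1 hy.1, mem_centralizer_iff.2 fun d hd => ?_⟩
          have hd' : t⁻¹ * d * t ∈ D := by
            have e1 : D.map (MulAut.conj t⁻¹).toMonoidHom = D := by
              rw [hD, map_lowerCentralSeries]
              congr 1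
              refine eq_of_le_of_card_ge ?_ (card_map_of_injective (MulAut.conj t⁻¹).injective).ge
              rintro _ ⟨k, hk, rfl⟩
              exact (mem_normalizer_iff.1 (inv_mem ht) k).1 hk
            exact e1 ▸ ⟨d, hd, by simp⟩
          have := mem_centralizer_iff.1 hy.2 _ hd'
          calc d * (t * y * t⁻¹) = t * ((t⁻¹ * d * t) * y) * t⁻¹ := by group
            _ = _ := by rw [this]; group
        have h2 := hstep K hK hKt
        rw [le_antisymm (hNKJ.trans hNJ) le_normalizer, relIndex_self] at h2
        exact hp.out.one_lt.ne h2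
      rw [Subgroup.lowerCentralSeries_succ, commutator_eq_bot_iff_le_centralizer]
      intro d hd
      refine mem_centralizer_iff.2 fun k hk => ?_
      exact (mem_centralizer_iff.1 ((hJK.ge.trans inf_le_right) hk) d hd).symm
    · -- `N(E)` is abelian modulo `z`
      have hNC : ∀ a ∈ N, ∀ e ∈ E, f e * f a = f a * f e := fun a ha e he =>
        mem_centralizer_iff.1 (hB.ge ha) (f e) ⟨e, he, rfl⟩
      have hEN : E ≤ N := le_normalizer
      have hNab : IsMulCommutative (N.map f) := by
        obtain ⟨a, haN, haE⟩ := SetLike.exists_of_lt (show E < N from lt_of_le_of_ne hEN fun e => by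
          rw [← e, relIndex_self] at hidx; exact hp.out.one_lt.ne hidx)
        have hNgen : N ≤ E ⊔ zpowers a := by
          rcases eq_or_eq_of_le hp.out hidx (le_sup_left (b := zpowers a)) (sup_le hEN (zpowers_le.2 haN)) with e | e
          · exact absurd (e ▸ mem_sup_right (mem_zpowers a)) haE
          · exact e.ge
        have h1 : N.map f ≤ closure ((E : Set P).image f ∪ {f a}) := by
          refine (map_mono hNgen).trans ?_
          rw [Subgroup.map_sup, MonoidHom.map_zpowers, Subgroup.closure_union, zpowers_eq_closure (f a)]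
          exact sup_le_sup_right (fun y hy => Subgroup.subset_closure hy) _
        have h2 : IsMulCommutative (closure ((E : Set P).image f ∪ {f a})) := by
          refine isMulCommutative_closure fun u hu v hv => ?_
          simp only [Set.mem_union, Set.mem_image, Set.mem_singleton_iff, SetLike.mem_coe] at hu hv
          rcases hu with ⟨e, he, rfl⟩ | rfl <;> rcases hv with ⟨e', he', rfl⟩ | rfl
          · rw [← map_mul, ← map_mul, mul_comm_of hab he he']
          · exact hNC a haN e he
          · exact (hNC a haN e' he').symm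
          · rfl
        exact ⟨⟨fun u v => Subtype.ext (congrArg Subtype.val (h2.is_comm.comm ⟨u, h1 u.2⟩ ⟨v, h1 v.2⟩) :)⟩⟩
      have hcom : ∀ a ∈ N, ∀ b ∈ N, ⁅a, b⁆ ∈ zpowers z := fun a ha b hb => hker ▸ (by
        rw [MonoidHom.mem_ker, map_commutatorElement, commutatorElement_eq_one_iff_mul_comm]
        exact mul_comm_of hNab (mem_map_of_mem f ha) (mem_map_of_mem f hb))
      have hi1 := relIndex_normalizer_normalizer hP ⟨hab, hC, hidx, hp2⟩ hzc hz hcom
      have hNi : N.index * p = E.index := by rw [← relIndex_mul_index hEN, hidx, mul_comm]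
      -- overgroups of `E`
      have hover : ∀ K : Subgroup P, E ≤ K → K ≠ E → N ≤ K := fun K hK hne => by
        have hlt' : E < K := lt_of_le_of_ne hK (Ne.symm hne)
        rcases eq_or_eq_of_le hp.out hidx (le_inf hlt'.le le_normalizer) inf_le_right with e | e
        · exact absurd e (lt_inf_normalizer hP hlt').ne'
        · exact inf_eq_right.1 e
      have hclassE : E.lowerCentralSeries 1 = ⊥ := by
        rw [Subgroup.lowerCentralSeries_succ, Subgroup.lowerCentralSeries_zero]
        exact le_bot_iff.1 (commutator_le.2 fun a ha b hb => mem_bot.2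
          (commutatorElement_eq_one_iff_mul_comm.2 (mul_comm_of hab ha hb)))
      have hclassN : N.lowerCentralSeries 2 = ⊥ := finish 1 N (by
        rw [Subgroup.lowerCentralSeries_succ, Subgroup.lowerCentralSeries_zero]
        exact commutator_le.2 hcom)
      by_cases hbig : p ^ 2 ≤ N.index
      · have hT := ih _ hlt (P ⧸ zpowers z) rfl hP' (N.map f) ⟨hNab, fun y hy => by
          obtain ⟨y, rfl⟩ := hfs y
          refine mem_map_of_mem f (hB.le ?_)
          exact mem_centralizer_iff.2 fun w hw => mem_centralizer_iff.1 hy w (map_mono hEN hw),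
          (hrel N hEN).symm.trans hi1, (hidxmap N hEN).symm ▸ hbig⟩
        refine ⟨fun K hK hKt => ?_, fun i K hK hKt hiK => ?_⟩
        · by_cases hKE : K = E
          · rw [hKE]; exact hidx
          · rw [hrel K hK]
            exact hT.1 _ (map_mono (hover K hK hKE)) fun e => hKt (by rw [← hsat K hK, e, comap_top])
        · by_cases hKE : K = E
          · subst hKE
            have : i = 0 := by
              by_contra hi
              have := Nat.le_self_pow hi p
              have h0 : 0 < K.index := Nat.pos_of_ne_zero index_ne_zero_of_finite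
              nlinarith [hp.out.two_le]
            subst this; exact hclassE
          · have hNK := hover K hK hKE
            obtain ⟨j, rfl⟩ : ∃ j, i = j + 1 := by
              refine ⟨i - 1, ?_⟩
              by_contra hi
              obtain rfl : i = 0 := by omega
              rw [pow_zero, mul_one] at hiK
              refine hKE (eq_of_le_of_card_ge hK ?_).symm
              have e1 := card_mul_index K
              have e2 := card_mul_index E
              rw [hiK] at e1
              exact (Nat.eq_of_mul_eq_mul_right (Nat.pos_of_ne_zero index_ne_zero_of_finite) (e1.trans e2.symm)).le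
            have h1 := hT.2 j (K.map f) (map_mono hNK) (fun e => hKt (by rw [← hsat K hK, e, comap_top]))
              (by
                rw [hidxmap K hK, hidxmap N hEN]
                refine Nat.eq_of_mul_eq_mul_right hp.out.pos ?_
                rw [hNi, ← hiK, pow_succ]; ring)
            rw [← map_lowerCentralSeries] at h1
            exact finish (j + 1) K (hmapz _ h1)
      · have hNidx : N.index = p := by
          obtain ⟨k, hk⟩ := hP.index N
          rcases k with _ | _ | k
          · rw [pow_zero] at hk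
            rw [hk, one_mul] at hNi
            rw [← hNi] at hp2
            nlinarith [hp.out.two_le]
          · rw [hk, zero_add, pow_one]
          · exact absurd (hk ▸ Nat.pow_le_pow_right hp.out.pos (show 2 ≤ k + 1 + 1 by omega)) hbig
        have hcases : ∀ K : Subgroup P, E ≤ K → K ≠ ⊤ → K = E ∨ K = N := fun K hK hKt => by
          by_cases hKE : K = E
          · exact Or.inl hKE
          · refine Or.inr ?_
            have h1 := relIndex_mul_index (hover K hK hKE)
            rw [hNidx] at h1
            rcases hp.out.eq_one_or_self_of_dvd _ (Dvd.intro _ h1) with e | e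
            · exact le_antisymm (relIndex_eq_one.1 e) (hover K hK hKE)
            · rw [e] at h1
              exact absurd (index_eq_one.1 (Nat.eq_of_mul_eq_mul_left hp.out.pos (h1.trans (mul_one p).symm))) hKt
        refine ⟨fun K hK hKt => ?_, fun i K hK hKt hiK => ?_⟩
        · rcases hcases K hK hKt with rfl | rfl
          · exact hidx
          · exact hi1
        · rcases hcases K hK hKt with rfl | rfl
          · have : i = 0 := by
              by_contra hi
              have := Nat.le_self_pow hi p
              have h0 : 0 < K.index := Nat.pos_of_ne_zero index_ne_zero_of_finite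
              nlinarith [hp.out.two_le]
            subst this; exact hclassE
          · rw [hNidx, ← hNi, hNidx] at hiK
            have : p ^ i = p := Nat.eq_of_mul_eq_mul_left hp.out.pos hiK
            obtain rfl : i = 1 := Nat.pow_right_injective hp.out.two_le (this.trans (pow_one p).symm)
            exact hclassN

end CfsgLib.Coprime.Soft
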