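import Mathlib
import Cfsg.Agent.Lib.PLocal.QuotientStableMain
import Cfsg.Agent.Lib.Fusion.PStableGroup

/-!
# Quotients of `p`-stable groups for every odd `p`

The case `p = 3` of the irreducible quadratic pair: with `u` of order 3 and `i` of order 4 inside a copy of
`SL₂(3)` one has `u - 1 = i + u i u⁻¹ + u⁻¹ i u`, so a commutator form fixed by the elements of order prime
to `p` is fixed by `u`.
-/

set_option autoImplicit false
set_option linter.style.haveILetI false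

namespace CfsgLib.PLocal

open Subgroup
open scoped commutatorElement MatrixGroups

universe u v

/-- The element of order 4 of `SL₂(3)`. -/
def quarterTurn : SL(2, ZMod 3) := ⟨!![0, -1; 1, 0], by decide⟩

theorem neg_one_cube : (-1 : SL(2, ZMod 3)) ^ 3 = -1 := by decide

theorem neg_one_ne_one : ¬ (-1 : SL(2, ZMod 3)) = 1 := by decide

theorem quarterTurn_cube : quarterTurn ^ 3 = quarterTurn⁻¹ := by decide

theorem quarterTurn_sq : quarterTurn * quarterTurn = -1 := by decide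

theorem neg_upU_quarterTurn_cube : (-1 * (upU (1 : ZMod 3) * quarterTurn)) ^ 3 = 1 := by decide

theorem upU_quarterTurn_rel : (upU (1 : ZMod 3))⁻¹ * (quarterTurn * upU 1 * quarterTurn⁻¹) *
    ((upU 1)⁻¹ * (quarterTurn * upU 1 * quarterTurn⁻¹)) = -1 := by decide

theorem three_eq_ones : (3 : ZMod 3) = 1 + 1 + 1 := by decide

/-- The elements of a copy of `SL₂(3)` needed for `p = 3`. -/
theorem exists_torus_elements_three {p : ℕ} [hp : Fact p.Prime] (hp3 : p = 3) {H : Type u} [Group H]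
    [Finite H] {a b : H} (hgen : Subgroup.closure {a, b} = ⊤) {V : Type v} [AddCommGroup V]
    [Module (ZMod p) V] [Finite V] (ρ : H →* Module.End (ZMod p) V)
    (ha : (ρ a - 1) * (ρ a - 1) = 0) (hb : (ρ b - 1) * (ρ b - 1) = 0)
    (hnp : ¬ ∀ g, ∃ k : ℕ, ρ g ^ p ^ k = 1)
    (hirr : ∀ U : Submodule (ZMod p) V, (∀ g, ∀ x ∈ U, ρ g x ∈ U) → U = ⊥ ∨ U = ⊤) :
    ∃ t i s : H, (orderOf t).Coprime p ∧ (orderOf i).Coprime p ∧ ρ t = -1 ∧ ρ i * ρ i = -1 ∧
      (ρ s - 1) * (ρ s - 1) = 0 ∧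
      ρ s = 1 + (ρ i + ρ (s * i * s⁻¹) + ρ (s⁻¹ * i * s)) ∧
      ρ (s⁻¹ * (i * s * i⁻¹) * (s⁻¹ * (i * s * i⁻¹))) = -1 := by
  classical
  subst hp3
  obtain ⟨m, φ, x, hx, hφa, hφb, hneg, hquad, hone⟩ := exists_slTwo_factor hgen ρ ha hb hnp hirr
  haveI : Fintype (GaloisField 3 m) := Fintype.ofFinite _
  obtain ⟨ψ, hψ, hle⟩ := exists_slTwo_le_of_two_sylow (p := 3) (by omega) φ.range
    (one_lt_card_sylow_of_opposite φ.range hx ⟨a, hφa⟩ ⟨b, hφb⟩)
  have hlift : ∀ M : SL(2, ZMod 3), (M ^ 3 = M ∨ M ^ 3 = M⁻¹) →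
      ∃ h : H, (orderOf h).Coprime 3 ∧ φ h = ψ M := by
    intro M hM
    obtain ⟨h, hh⟩ := hle ⟨M, rfl⟩
    have hord : (orderOf (h ^ 3 ^ (orderOf h).factorization 3)).Coprime 3 := by
      rw [orderOf_pow' h (pow_ne_zero _ (by norm_num)),
        Nat.gcd_eq_right (Nat.ordProj_dvd (orderOf h) 3)]
      exact (Nat.coprime_ordCompl Nat.prime_three (orderOf_pos h).ne').symm
    have hiter : ∀ i : ℕ, M ^ 3 ^ i = M ∨ M ^ 3 ^ i = M⁻¹ := by
      intro i
      induction i with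
      | zero => simp
      | succ i ih =>
        rw [pow_succ, pow_mul]
        rcases ih with e | e <;> rw [e] <;> rcases hM with e' | e'
        · exact Or.inl e'
        · exact Or.inr e'
        · exact Or.inr (by rw [inv_pow, e'])
        · exact Or.inl (by rw [inv_pow, e', inv_inv])
    have himg : φ (h ^ 3 ^ (orderOf h).factorization 3) =
        ψ (M ^ 3 ^ (orderOf h).factorization 3) := by rw [map_pow, hh, ← map_pow]
    rcases hiter ((orderOf h).factorization 3) with e | e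
    · exact ⟨_, hord, by rw [himg, e]⟩
    · exact ⟨_, by rw [orderOf_inv]; exact hord, by rw [map_inv, himg, e, map_inv, inv_inv]⟩
  obtain ⟨t, ht, hφt⟩ := hlift (-1) (Or.inl neg_one_cube)
  obtain ⟨i, hi, hφi⟩ := hlift quarterTurn (Or.inr quarterTurn_cube)
  obtain ⟨s, hs⟩ := hle ⟨upU 1, rfl⟩
  have hm1 : ψ (-1) = -1 := by
    refine sl2_eq_neg_one_of_sq (Ring.two_ne_zero (R := GaloisField 3 m)
      (by rw [ringChar.eq (GaloisField 3 m) 3]; omega)) ?_ fun h => ?_
    · rw [← map_mul, neg_mul_neg, one_mul, map_one]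
    · exact neg_one_ne_one (hψ (h.trans (map_one ψ).symm))
  have hρt : ρ t = -1 := hneg t (by rw [hφt, hm1])
  have hsq : ∀ (g : H) (M : SL(2, ZMod 3)), φ g = ψ M → M ^ 3 = 1 →
      (ρ g - 1) * (ρ g - 1) = 0 := fun g M hg hM => by
    refine hquad g ?_
    rw [hg]
    exact sl2_sub_one_sq_of_pow (p := 3) (by rw [← map_pow, hM, map_one])
  have hN : (ρ s - 1) * (ρ s - 1) = 0 := hsq s _ hs (by
    rw [upU_pow, ZMod.natCast_self, zero_mul, upU_zero])
  have hii : ρ i * ρ i = -1 := by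
    rw [← map_mul]
    refine hneg _ ?_
    rw [map_mul, hφi, ← map_mul, quarterTurn_sq, hm1]
  have hg : (ρ (t * (s * i)) - 1) * (ρ (t * (s * i)) - 1) = 0 :=
    hsq _ (-1 * (upU 1 * quarterTurn)) (by rw [map_mul, map_mul, hφt, hs, hφi, ← map_mul, ← map_mul])
      neg_upU_quarterTurn_cube
  refine ⟨t, i, s, ht, hi, hρt, hii, hN, ?_, ?_⟩
  · have h3 : ∀ A : Module.End (ZMod 3) V, A + A + A = 0 := fun A => by
      refine LinearMap.ext fun v => ?_
      have e : ((3 : ZMod 3)) • A v = 0 := by rw [show (3 : ZMod 3) = 0 from rfl, zero_smul]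
      rw [three_eq_ones, add_smul, add_smul, one_smul] at e
      simpa using e
    set N := ρ s - 1 with hNdef
    set I := ρ i with hI
    have hs1 : ρ s = 1 + N := by rw [hNdef]; abel
    have hs2 : ρ s⁻¹ = 1 - N := by
      have e1 : ρ s⁻¹ * ρ s = 1 := by rw [← map_mul, inv_mul_cancel, map_one]
      calc ρ s⁻¹ = ρ s⁻¹ * (1 - N * N) := by rw [hN, sub_zero, mul_one]
        _ = ρ s⁻¹ * ((1 + N) * (1 - N)) := by congr 1; noncomm_ring
        _ = 1 - N := by rw [← hs1, ← mul_assoc, e1, one_mul]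
    have hrel : N * I + I * N = 1 := by
      rw [map_mul, map_mul, hρt, hs1, ← hI] at hg
      set A := (1 + N) * I with hA
      have e1 : A * A + A + A + 1 = 0 := by
        rw [← hg]; noncomm_ring
      have e2 : A * (-(I * (1 - N))) = 1 := by
        calc A * (-(I * (1 - N))) = -((1 + N) * (I * I) * (1 - N)) := by rw [hA]; noncomm_ring
          _ = (1 + N) * (1 - N) := by rw [hii]; noncomm_ring
          _ = 1 - N * N := by noncomm_ring
          _ = 1 := by rw [hN, sub_zero]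
      have e3 : A + 1 + 1 + -(I * (1 - N)) = 0 := by
        calc A + 1 + 1 + -(I * (1 - N)) = A * 1 + 1 + 1 + -(I * (1 - N)) := by rw [mul_one]
          _ = A * (A * -(I * (1 - N))) + A * -(I * (1 - N)) + A * -(I * (1 - N)) +
              -(I * (1 - N)) := by rw [e2]
          _ = (A * A + A + A + 1) * -(I * (1 - N)) := by noncomm_ring
          _ = 0 := by rw [e1, zero_mul]
      have e4 := h3 (1 : Module.End (ZMod 3) V)
      rw [hA] at e3
      calc N * I + I * N = ((1 + N) * I + 1 + 1 + -(I * (1 - N))) - (1 + 1) := by noncomm_ring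
        _ = -(1 + 1) := by rw [e3]; abel
        _ = (1 + 1 + 1 : Module.End (ZMod 3) V) - (1 + 1) := by rw [e4]; abel
        _ = 1 := by abel
    have hNIN : N * I * N = N := by
      calc N * I * N = N * (N * I + I * N) - N * N * I := by noncomm_ring
        _ = N := by rw [hrel, hN]; simp
    have e5 := h3 I
    have e6 := h3 (N * I * N)
    calc ρ s = 1 + N := hs1
      _ = 1 + (I + I + I - (N * I * N + N * I * N + N * I * N) + N) := by rw [e5, e6]; abel
      _ = 1 + (I + I + I - (N * I * N + N * I * N)) := by rw [hNIN]; abel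
      _ = 1 + (I + (1 + N) * I * (1 - N) + (1 - N) * I * (1 + N)) := by noncomm_ring
      _ = _ := by rw [map_mul, map_mul, map_mul, map_mul, hs2, hs1]
  · refine hneg _ ?_
    rw [map_mul, map_mul, map_mul, map_mul, map_inv, map_inv, hs, hφi]
    simp only [← map_inv, ← map_mul]
    exact (congrArg ψ upU_quarterTurn_rel).trans hm1

variable {p : ℕ} [hp : Fact p.Prime]

/-- An element commuting with an inverting involution, quadratic modulo a central subgroup. -/
theorem fixes_of_inverted {G : Type u} [Group G] {t e w z : G} (hew : e * w * e⁻¹ = w * z)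
    (hzw : Commute z w) (htz : t * z * t⁻¹ = z) (hem : e * (w * (t * w * t⁻¹)) * e⁻¹ = w * (t * w * t⁻¹))
    (hzm : Commute z (w * (t * w * t⁻¹)))
    (hcomm : e * (t * w * t⁻¹) * e⁻¹ = t * (e * w * e⁻¹) * t⁻¹) : z * z = 1 := by
  set m := w * (t * w * t⁻¹) with hm
  have htw : t * w * t⁻¹ = w⁻¹ * m := by rw [hm]; group
  have hr : t * (e * w * e⁻¹) * t⁻¹ = w⁻¹ * m * z := by
    rw [hew, show t * (w * z) * t⁻¹ = t * w * t⁻¹ * (t * z * t⁻¹) by group, htw, htz]
  have hl : e * (t * w * t⁻¹) * e⁻¹ = z⁻¹ * w⁻¹ * m := by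
    rw [htw, show e * (w⁻¹ * m) * e⁻¹ = (e * w * e⁻¹)⁻¹ * (e * m * e⁻¹) by group, hem, hew]
    group
  rw [hl, hr] at hcomm
  rw [(hzw.inv_inv).eq, mul_assoc w⁻¹ m z, ← hzm.eq, mul_assoc] at hcomm
  have h3 : z⁻¹ = z := mul_right_cancel (mul_left_cancel hcomm)
  calc z * z = z⁻¹ * z := by rw [h3]
    _ = 1 := inv_mul_cancel z

/-- The core for `p = 3`: no bad irreducible quadratic pair on `W / Z` in a `p`-stable group. -/
theorem not_irreducible_bad_pair_three (hp3 : p = 3) {G : Type u} [Group G] [Finite G]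
    (hst : Cfsg.IsNormalizerPStable p G) {W Z : Subgroup G} [W.Normal] [Z.Normal]
    (hW : IsPGroup p W) (hZW : Z ≤ W) (hfix : CoprimeFixes p Z)
    (hab : Cfsg.IsElementaryAbelian p (W.map (QuotientGroup.mk' Z)))
    {a b : G} (ha : ⁅⁅W, zpowers a⁆, zpowers a⁆ ≤ Z) (hb : ⁅⁅W, zpowers b⁆, zpowers b⁆ ≤ Z)
    (hirr : ∀ N : Subgroup G, Z ≤ N → N ≤ W → closure {a, b} ≤ normalizer (N : Set G) →
      N = Z ∨ N = W)
    (hbad : ¬ ∀ h ∈ closure {a, b}, ∃ k : ℕ, ∀ x ∈ W, x⁻¹ * (h ^ p ^ k * x * (h ^ p ^ k)⁻¹) ∈ Z) :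
    False := by
  classical
  set π := QuotientGroup.mk' Z with hπ
  set V := W.map π with hV
  haveI : V.Normal := Normal.map ‹W.Normal› π (QuotientGroup.mk'_surjective Z)
  let iV : CommGroup V := { (inferInstance : Group V) with mul_comm := fun x y => hab.1.1.comm x y }
  haveI iM : Module (ZMod p) (Additive V) := AddCommGroup.zmodModule (n := p) fun x => by
    show Additive.ofMul ((Additive.toMul x) ^ p) = 0
    rw [show (Additive.toMul x) ^ p = 1 from Subtype.ext (hab.2 _ (Additive.toMul x).2), ofMul_one]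
  set H := closure ({a, b} : Set G) with hH
  have haH : a ∈ H := subset_closure (Set.mem_insert _ _)
  have hbH : b ∈ H := subset_closure (Set.mem_insert_of_mem _ rfl)
  have hgen : closure {(⟨a, haH⟩ : H), ⟨b, hbH⟩} = ⊤ := by
    apply map_injective H.subtype_injective
    rw [MonoidHom.map_closure, Set.image_pair, ← MonoidHom.range_eq_map, range_subtype]
    rfl
  let ρ : H →* Module.End (ZMod p) (Additive V) :=
    (autRep p V).comp ((MulAut.conjNormal (H := V)).comp (π.comp H.subtype))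
  have hρ : ∀ (g : H) (x : Additive V), ((Additive.toMul (ρ g x) : V) : G ⧸ Z) =
      π g * (Additive.toMul x : V) * (π g)⁻¹ := fun g x => MulAut.conjNormal_apply (π g) _
  have helt : ∀ x : G, x ∈ W → ∃ v : Additive V, ((Additive.toMul v : V) : G ⧸ Z) = π x :=
    fun x hx => ⟨Additive.ofMul ⟨π x, x, hx, rfl⟩, rfl⟩
  have hone : ∀ g : H, ρ g = 1 ↔ ∀ x ∈ W, x⁻¹ * ((g : G) * x * (g : G)⁻¹) ∈ Z := by
    intro g
    constructor
    · intro h x hx
      obtain ⟨v, hv⟩ := helt x hx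
      have h1 := hρ g v
      rw [h, Module.End.one_apply, hv, ← map_inv, ← map_mul, ← map_mul] at h1
      exact QuotientGroup.eq.1 h1
    · intro h
      refine LinearMap.ext fun v => Additive.toMul.injective (Subtype.ext ?_)
      obtain ⟨x, hx, hxe⟩ := (Additive.toMul v : V).2
      rw [hρ, Module.End.one_apply, ← hxe, ← map_inv, ← map_mul, ← map_mul]
      exact (QuotientGroup.eq.2 (h x hx)).symm
  have hsq : ∀ g : H, ⁅⁅W, zpowers (g : G)⁆, zpowers (g : G)⁆ ≤ Z → (ρ g - 1) * (ρ g - 1) = 0 := by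
    intro g hq
    refine LinearMap.ext fun v => ?_
    rw [Module.End.mul_apply, LinearMap.sub_apply, Module.End.one_apply, LinearMap.zero_apply,
      sub_eq_zero]
    refine Additive.toMul.injective (Subtype.ext ?_)
    obtain ⟨x, hx, hxe⟩ := (Additive.toMul v : V).2
    have hc : ((Additive.toMul ((ρ g - 1) v) : V) : G ⧸ Z) = π ⁅(g : G), x⁆ := by
      rw [LinearMap.sub_apply, Module.End.one_apply, toMul_sub, Subgroup.coe_div, hρ, ← hxe,
        div_eq_mul_inv, commutatorElement_def, map_mul, map_mul, map_mul, map_inv, map_inv]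
    rw [hρ, hc, ← map_inv, ← map_mul, ← map_mul]
    refine (QuotientGroup.eq.2 ?_).symm
    have h1 : ⁅⁅(g : G), x⁆, (g : G)⁆ ∈ Z := hq (commutator_mem_commutator
      (by rw [commutator_comm]; exact commutator_mem_commutator (mem_zpowers _) hx) (mem_zpowers _))
    have h2 := Z.inv_mem (Normal.conj_mem inferInstance _ h1 (⁅(g : G), x⁆)⁻¹)
    convert h2 using 1
    simp only [commutatorElement_def]
    group
  have hnp : ¬ ∀ g : H, ∃ k : ℕ, ρ g ^ p ^ k = 1 := fun hall => hbad fun h hh => by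
    obtain ⟨k, hk⟩ := hall ⟨h, hh⟩
    rw [← map_pow, hone] at hk
    exact ⟨k, hk⟩
  have hirr' : ∀ U : Submodule (ZMod p) (Additive V), (∀ g, ∀ x ∈ U, ρ g x ∈ U) → U = ⊥ ∨ U = ⊤ := by
    intro U hU
    set N := ((U.toAddSubgroup.toSubgroup'.map V.subtype).comap π) with hN
    have hmemN : ∀ x ∈ W, (x ∈ N ↔ ∃ v ∈ U, ((Additive.toMul v : V) : G ⧸ Z) = π x) := fun x _ => by
      constructor
      · rintro ⟨y, hy, hye⟩
        exact ⟨Additive.ofMul y, hy, hye⟩
      · rintro ⟨v, hv, hve⟩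
        exact ⟨Additive.toMul v, hv, hve⟩
    have hNW : N ≤ W := by
      intro x hx
      obtain ⟨y, -, hye⟩ := hx
      have h1 : π x ∈ V := hye ▸ y.2
      rw [← mem_comap, hV, comap_map_eq, hπ, QuotientGroup.ker_mk', sup_eq_left.2 hZW] at h1
      exact h1
    have hZN : Z ≤ N := fun z hz => ⟨1, U.zero_mem, by
      rw [map_one]; exact ((QuotientGroup.eq_one_iff z).2 hz).symm⟩
    have hHN : H ≤ normalizer (N : Set G) := by
      intro g hg
      rw [mem_normalizer_iff_map_conj_eq]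
      refine eq_of_le_of_card_ge ?_ (le_of_eq (card_map_of_injective (MulAut.conj g).injective).symm)
      rintro _ ⟨x, hx, rfl⟩
      have hxW := hNW hx
      obtain ⟨v, hv, hve⟩ := (hmemN x hxW).1 hx
      refine (hmemN _ (Normal.conj_mem ‹W.Normal› x hxW g)).2 ⟨ρ ⟨g, hg⟩ v, hU _ v hv, ?_⟩
      rw [hρ, hve]
      show π g * π x * (π g)⁻¹ = π (g * x * g⁻¹)
      rw [map_mul, map_mul, map_inv]
    rcases hirr N hZN hNW hHN with h | h
    · left
      rw [eq_bot_iff]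
      intro v hv
      rw [Submodule.mem_bot]
      obtain ⟨x, hx, hxe⟩ := (Additive.toMul v : V).2
      have h1 : x ∈ N := (hmemN x hx).2 ⟨v, hv, hxe.symm⟩
      rw [h] at h1
      refine Additive.toMul.injective (Subtype.ext ?_)
      rw [← hxe]
      exact (QuotientGroup.eq_one_iff x).2 h1
    · right
      rw [eq_top_iff]
      intro v _
      obtain ⟨x, hx, hxe⟩ := (Additive.toMul v : V).2
      obtain ⟨v', hv', hve⟩ := (hmemN x hx).1 (h.symm ▸ hx)
      rwa [show v = v' from Additive.toMul.injective (Subtype.ext (hxe.symm.trans hve.symm))]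
  obtain ⟨t, q, s, ht, hq, hρt, hqq, hs2, hsN, hsf⟩ :=
    exists_torus_elements_three hp3 hgen ρ (hsq ⟨a, haH⟩ ha) (hsq ⟨b, hbH⟩ hb) hnp hirr'
  have hp2 : p ≠ 2 := by omega
  have hneg : (-1 : Module.End (ZMod p) (Additive V)) * -1 = 1 :=
    LinearMap.ext fun v => neg_neg v
  have hZc : ∀ g : H, (orderOf g).Coprime p → ∀ z ∈ Z, (g : G) * z * (g : G)⁻¹ = z := fun g hg z hz => by
    rw [← mem_centralizer_iff.1 (hfix (g : G) (by rwa [Subgroup.orderOf_coe])) z hz,
      mul_inv_cancel_right]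
  have htZ := hZc t ht
  -- `t ^ 2` fixes `W`
  have ht2 : ((t * t : H) : G) ∈ centralizer (W : Set G) := by
    refine centralizes_of_fixes hW hZW ?_ ?_ ((hone (t * t)).1 ?_)
    · rw [Subgroup.orderOf_coe, ← sq]
      exact Nat.Coprime.coprime_dvd_left (orderOf_pow_dvd 2) ht
    · rw [Subgroup.coe_mul]
      exact mul_mem (hfix _ (by rwa [Subgroup.orderOf_coe])) (hfix _ (by rwa [Subgroup.orderOf_coe]))
    · rw [map_mul, hρt, hneg]
  set M := W ⊓ centralizer (Z : Set G) with hMdef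
  haveI : M.Normal := inferInstance
  have hMW : M ⊔ Z = W := by
    rcases hirr (M ⊔ Z) le_sup_right (sup_le inf_le_left hZW)
      (fun g _ => normalizer_eq_top (M ⊔ Z) ▸ mem_top g) with h | h
    swap
    · exact h
    exfalso
    have hMZ : M ≤ Z := le_sup_left.trans h.le
    have hρ1 : ρ t = 1 := (hone t).2 fun x hx => hMZ ⟨W.mul_mem (W.inv_mem hx)
      (Normal.conj_mem ‹W.Normal› x hx (t : G)), mem_centralizer_iff.2 fun z hz => ?_⟩
    · rw [hρt] at hρ1
      refine hnp fun g => ⟨0, ?_⟩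
      refine LinearMap.ext fun v => ?_
      have h1 := LinearMap.congr_fun hρ1 v
      rw [LinearMap.neg_apply, Module.End.one_apply] at h1
      have h2 : (2 : ZMod p) • v = 0 := by rw [two_smul]; exact neg_eq_iff_add_eq_zero.1 h1
      rcases smul_eq_zero.1 h2 with h3 | h3
      · have := (ZMod.natCast_eq_zero_iff 2 p).1 (by exact_mod_cast h3)
        have := Nat.le_of_dvd (by norm_num) this
        omega
      · rw [h3, map_zero, map_zero]
    · have hzx : x * z * x⁻¹ ∈ Z := Normal.conj_mem ‹Z.Normal› z hz x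
      have h1 := htZ _ hzx
      have h2 : (t : G)⁻¹ * z * (t : G) = z := by
        conv_lhs => rw [← htZ z hz]
        group
      have h3 : (x⁻¹ * ((t : G) * x * (t : G)⁻¹)) * z * (x⁻¹ * ((t : G) * x * (t : G)⁻¹))⁻¹ = z := by
        calc _ = x⁻¹ * ((t : G) * (x * ((t : G)⁻¹ * z * (t : G)) * x⁻¹) * (t : G)⁻¹) * x := by group
          _ = x⁻¹ * ((t : G) * (x * z * x⁻¹) * (t : G)⁻¹) * x := by rw [h2]
          _ = x⁻¹ * (x * z * x⁻¹) * x := by rw [h1]
          _ = z := by group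
      exact (mul_inv_eq_iff_eq_mul.1 h3).symm
  let θ : G →* MulAut M := MulAut.conjNormal
  have hθ : ∀ (g : G) (x : M), ((θ g x : M) : G) = g * x * g⁻¹ := fun g x => MulAut.conjNormal_apply g x
  have hθ1 : ∀ g : G, g ∈ centralizer (M : Set G) → θ g = 1 := fun g hg => MulEquiv.ext fun x =>
    Subtype.ext (by rw [hθ, MulAut.one_apply, ← mem_centralizer_iff.1 hg _ x.2, mul_inv_cancel_right])
  have hθt : θ (t : G) * θ (t : G) = 1 := by
    rw [← map_mul, ← Subgroup.coe_mul]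
    exact hθ1 _ (centralizer_le (inf_le_left : M ≤ W) ht2)
  -- every element of `H` agrees on `V` with one whose action on `M` commutes with that of `t`
  have hcorr : ∀ u : H, ∃ e : H, ρ e = ρ u ∧ θ (e : G) * θ (t : G) = θ (t : G) * θ (e : G) := by
    intro u
    set t' := u * t * u⁻¹ with ht'
    set σ := t⁻¹ * t' with hσ
    have hρσ : ρ σ = 1 := by
      have h1 : ρ t' = -1 := by
        rw [ht', map_mul, map_mul, hρt]
        refine LinearMap.ext fun v => ?_
        show ρ u (-(ρ u⁻¹ v)) = -v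
        rw [map_neg, ← Module.End.mul_apply, ← map_mul, mul_inv_cancel, map_one, Module.End.one_apply]
      have h2 : ρ t⁻¹ * ρ t = 1 := by rw [← map_mul, inv_mul_cancel, map_one]
      rw [hρt] at h2
      have h3 : ρ t⁻¹ = -1 := by
        calc ρ t⁻¹ = ρ t⁻¹ * (-1 * -1) := by rw [hneg, mul_one]
          _ = ρ t⁻¹ * -1 * -1 := (mul_assoc _ _ _).symm
          _ = -1 := by rw [h2, one_mul]
      rw [hσ, map_mul, h1, h3, hneg]
    have hσZ : ∀ z ∈ Z, (σ : G) * z * (σ : G)⁻¹ = z := by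
      intro z hz
      have h1 : (t' : G) * z * (t' : G)⁻¹ = z := by
        refine hZc t' ?_ z hz
        rw [ht', (SemiconjBy.conj_mk u t).orderOf_eq.symm]
        exact ht
      have h2 : ((t : G))⁻¹ * z * (t : G) = z := by
        conv_lhs => rw [← htZ z hz]
        group
      rw [hσ, Subgroup.coe_mul, InvMemClass.coe_inv, mul_inv_rev, inv_inv,
        show ∀ A : G, (t : G)⁻¹ * A * z * (A⁻¹ * (t : G)) = (t : G)⁻¹ * (A * z * A⁻¹) * (t : G) from
          fun A => by group, h1, h2]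
    obtain ⟨k, hk⟩ := hW.exists_card_eq
    have hσW : θ ((σ : G) ^ (p ^ k)) = 1 := by
      refine hθ1 _ (mem_centralizer_iff.2 fun x hx => ?_)
      have hc : x⁻¹ * ((σ : G) * x * (σ : G)⁻¹) ∈ Z := (hone σ).1 hρσ x hx.1
      have h2 := conj_iterate (y := (σ : G)) (x := x) (hσZ _ hc) (by group) (p ^ k)
      have hzn : (x⁻¹ * ((σ : G) * x * (σ : G)⁻¹)) ^ (p ^ k) = 1 := by
        rw [← hk]
        exact congrArg Subtype.val (pow_card_eq_one' (x := (⟨_, hZW hc⟩ : W)))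
      rw [hzn, mul_one] at h2
      exact (mul_inv_eq_iff_eq_mul.1 h2).symm
    obtain ⟨i, hi⟩ : ∃ i : ℕ, 2 * i = p ^ k + 1 :=
      ⟨(p ^ k + 1) / 2, Nat.two_mul_div_two_of_even (by
        have : Odd (p ^ k) := (hp.out.odd_of_ne_two (by omega)).pow
        exact this.add_one)⟩
    set e := σ ^ i * u with he
    have hσi : θ (σ : G) ^ i * θ (σ : G) ^ i = θ (σ : G) := by
      rw [← pow_add, ← two_mul, hi, pow_succ, ← map_pow, hσW, one_mul]
    have hθt' : θ (t' : G) * θ (t' : G) = 1 := by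
      rw [ht', Subgroup.coe_mul, Subgroup.coe_mul, InvMemClass.coe_inv, map_mul, map_mul, map_inv,
        show ∀ A B : MulAut M, A * B * A⁻¹ * (A * B * A⁻¹) = A * (B * B) * A⁻¹ from
          fun A B => by group, hθt, mul_one, mul_inv_cancel]
    have hflip : θ (t : G) * θ (σ : G) * θ (t : G) = (θ (σ : G))⁻¹ := by
      have e1 : θ (σ : G) = θ (t : G) * θ (t' : G) := by
        rw [hσ, Subgroup.coe_mul, InvMemClass.coe_inv, map_mul, map_inv, inv_eq_of_mul_eq_one_right hθt]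
      rw [e1, mul_inv_rev, inv_eq_of_mul_eq_one_right hθt, inv_eq_of_mul_eq_one_right hθt',
        ← mul_assoc, hθt, one_mul]
    have hecomm : θ (e : G) * θ (t : G) = θ (t : G) * θ (e : G) := by
      have e1 : θ (u : G) * θ (t : G) = θ (t : G) * θ (σ : G) * θ (u : G) := by
        have e2 : θ (t : G) * θ (σ : G) = θ (t' : G) := by
          rw [hσ, Subgroup.coe_mul, InvMemClass.coe_inv, map_mul, map_inv, mul_inv_cancel_left]
        rw [e2, ← map_mul, ← map_mul, ← Subgroup.coe_mul, ← Subgroup.coe_mul, ht',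
          inv_mul_cancel_right]
      have e3 : θ (σ : G) ^ i * θ (t : G) = θ (t : G) * (θ (σ : G) ^ i)⁻¹ := by
        have e4 : (θ (t : G) * θ (σ : G) * (θ (t : G))⁻¹) ^ i = (θ (σ : G) ^ i)⁻¹ := by
          rw [inv_eq_of_mul_eq_one_right hθt, hflip, inv_pow]
        rw [conj_pow] at e4
        have e5 := congrArg (fun A => A * θ (t : G)) e4
        simp only [inv_mul_cancel_right] at e5
        rw [← inv_eq_of_mul_eq_one_right hθt] at e5 ⊢
        calc θ (σ : G) ^ i * (θ (t : G))⁻¹ = (θ (t : G))⁻¹ * (θ (t : G) * θ (σ : G) ^ i) * (θ (t : G))⁻¹ := by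
              group
          _ = (θ (t : G))⁻¹ * (θ (t : G) * θ (σ : G) ^ i * (θ (t : G))⁻¹) := by group
          _ = _ := by rw [← conj_pow, inv_eq_of_mul_eq_one_right hθt, hflip, inv_pow]
      rw [he, Subgroup.coe_mul, SubmonoidClass.coe_pow, map_mul, map_pow]
      calc θ (σ : G) ^ i * θ (u : G) * θ (t : G) = θ (σ : G) ^ i * (θ (u : G) * θ (t : G)) := by
            rw [mul_assoc]
        _ = θ (σ : G) ^ i * θ (t : G) * θ (σ : G) * θ (u : G) := by rw [e1]; group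
        _ = θ (t : G) * ((θ (σ : G) ^ i)⁻¹ * θ (σ : G)) * θ (u : G) := by rw [e3]; group
        _ = θ (t : G) * (θ (σ : G) ^ i * θ (u : G)) := by
            rw [show (θ (σ : G) ^ i)⁻¹ * θ (σ : G) = θ (σ : G) ^ i by
              conv_lhs => arg 2; rw [← hσi]
              group]
            group
    exact ⟨e, by rw [he, map_mul, map_pow, hρσ, one_pow, one_mul], hecomm⟩
  have hpi : ∀ x ∈ M, ∀ y ∈ M, x⁻¹ * y ∈ Z → x⁻¹ * y ∈ M ⊓ Z := fun x hx y hy h =>
    mem_inf.2 ⟨M.mul_mem (M.inv_mem hx) hy, h⟩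
  -- commutators in `M` are central and lie in `Z`
  have hcen : ∀ z ∈ M ⊓ Z, ∀ x ∈ M, Commute z x := fun z hz x hx =>
    mem_centralizer_iff.1 hx.2 z hz.2
  have hcZ : ∀ x ∈ M, ∀ y ∈ M, ⁅x, y⁆ ∈ M ⊓ Z := by
    intro x hx y hy
    refine mem_inf.2 ⟨?_, (QuotientGroup.eq_one_iff _).1 ?_⟩
    · rw [commutatorElement_def]
      exact M.mul_mem (M.mul_mem (M.mul_mem hx hy) (M.inv_mem hx)) (M.inv_mem hy)
    · show π ⁅x, y⁆ = 1
      rw [map_commutatorElement, commutatorElement_eq_one_iff_mul_comm]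
      exact congrArg Subtype.val
        (hab.1.1.comm (⟨π x, x, hx.1, rfl⟩ : V) ⟨π y, y, hy.1, rfl⟩)
  have hmulL : ∀ x ∈ M, ∀ x' ∈ M, ∀ y ∈ M, ⁅x * x', y⁆ = ⁅x, y⁆ * ⁅x', y⁆ := by
    intro x hx x' hx' y hy
    have h1 := (hcen _ (hcZ x' hx' y hy) x hx).eq
    have h2 := (hcen _ (hcZ x' hx' y hy) _ (hcZ x hx y hy).1).eq
    calc ⁅x * x', y⁆ = x * ⁅x', y⁆ * x⁻¹ * ⁅x, y⁆ := by simp only [commutatorElement_def]; group
      _ = ⁅x', y⁆ * ⁅x, y⁆ := by rw [← h1, mul_inv_cancel_right]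
      _ = _ := h2
  have hzero : ∀ z ∈ M ⊓ Z, ∀ y ∈ M, ⁅z, y⁆ = 1 := fun z hz y hy =>
    commutatorElement_eq_one_iff_mul_comm.2 (hcen z hz y hy).eq
  have hcongrL : ∀ x ∈ M, ∀ x' ∈ M, ∀ y ∈ M, π x = π x' → ⁅x, y⁆ = ⁅x', y⁆ := by
    intro x hx x' hx' y hy h
    have h1 := hpi x hx x' hx' (QuotientGroup.eq.1 h)
    have h2 := hmulL x hx _ h1.1 y hy
    rw [hzero _ h1 y hy, mul_one, mul_inv_cancel_left] at h2
    exact h2.symm
  have hswap : ∀ x y : G, ⁅x, y⁆ = ⁅y, x⁆⁻¹ := fun x y => (commutatorElement_inv y x).symm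
  have hrep : ∀ v : Additive V, ∃ x : M, π (x : G) = ((Additive.toMul v : V) : G ⧸ Z) := by
    intro v
    obtain ⟨x, hx, hxe⟩ := (Additive.toMul v : V).2
    obtain ⟨m, hm, z, hz, rfl⟩ : ∃ m ∈ M, ∃ z ∈ Z, m * z = x :=
      mem_sup_of_normal_right.1 (hMW.symm ▸ hx)
    refine ⟨⟨m, hm⟩, ?_⟩
    have hz1 : π z = 1 := (QuotientGroup.eq_one_iff z).2 hz
    rw [map_mul, hz1, mul_one] at hxe
    exact hxe
  choose rep hrep using hrep
  -- the commutator form on `V`
  let B : Additive V → Additive V → G := fun v v' => ⁅(rep v : G), (rep v' : G)⁆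
  have hB : ∀ v v', ∀ x ∈ M, ∀ y ∈ M, π x = ((Additive.toMul v : V) : G ⧸ Z) →
      π y = ((Additive.toMul v' : V) : G ⧸ Z) → B v v' = ⁅x, y⁆ := by
    intro v v' x hx y hy h1 h2
    show ⁅(rep v : G), (rep v' : G)⁆ = _
    rw [hcongrL _ (rep v).2 x hx _ (rep v').2 ((hrep v).trans h1.symm), hswap,
      hcongrL _ (rep v').2 y hy x hx ((hrep v').trans h2.symm), ← hswap]
  have haddL : ∀ u v w, B (u + v) w = B u w * B v w := by
    intro u v w
    rw [hB (u + v) w _ (M.mul_mem (rep u).2 (rep v).2) _ (rep w).2 ?_ (hrep w)]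
    · exact hmulL _ (rep u).2 _ (rep v).2 _ (rep w).2
    · rw [map_mul, hrep, hrep, toMul_add, Subgroup.coe_mul]
  have hBswap : ∀ u v, B u v = (B v u)⁻¹ := fun u v => hswap _ _
  have hBM : ∀ u v, B u v ∈ M ⊓ Z := fun u v => hcZ _ (rep u).2 _ (rep v).2
  have haddR : ∀ u v w, B u (v + w) = B u v * B u w := by
    intro u v w
    rw [hBswap, haddL, mul_inv_rev, ← hBswap, ← hBswap]
    exact (hcen _ (hBM u w) _ (hBM u v).1).eq
  have hBzR : ∀ u, B u 0 = 1 := by
    intro u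
    have h1 := haddR u 0 0
    rw [add_zero] at h1
    exact left_eq_mul.1 h1
  have hBnegR : ∀ u v, B u (-v) = (B u v)⁻¹ := by
    intro u v
    refine eq_inv_of_mul_eq_one_left ?_
    rw [← haddR, neg_add_cancel, hBzR]
  have hconjB : ∀ (h : H) u v, (h : G) * B u v * (h : G)⁻¹ = B (ρ h u) (ρ h v) := by
    intro h u v
    rw [hB (ρ h u) (ρ h v) ((h : G) * (rep u : G) * (h : G)⁻¹)
      (Normal.conj_mem inferInstance _ (rep u).2 _) ((h : G) * (rep v : G) * (h : G)⁻¹)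
      (Normal.conj_mem inferInstance _ (rep v).2 _) ?_ ?_]
    · show (h : G) * ⁅(rep u : G), (rep v : G)⁆ * (h : G)⁻¹ = _
      simp only [commutatorElement_def]; group
    · rw [map_mul, map_mul, map_inv, hρ, hrep]
    · rw [map_mul, map_mul, map_inv, hρ, hrep]
  have hadj : ∀ h : H, (orderOf h).Coprime p → ρ h * ρ h = -1 →
      ∀ u v, B (ρ h u) v = (B u (ρ h v))⁻¹ := by
    intro h hh hsq' u v
    have h1 : v = ρ h (-(ρ h v)) := by
      rw [map_neg, ← Module.End.mul_apply, hsq', LinearMap.neg_apply, Module.End.one_apply, neg_neg]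
    conv_lhs => rw [h1]
    rw [← hconjB, hZc h hh _ (hBM _ _).2, hBnegR]
  have hconj_sq : ∀ h g : H, ρ h * ρ h = -1 → ρ (g * h * g⁻¹) * ρ (g * h * g⁻¹) = -1 := by
    intro h g hh
    have e : ρ g * ρ g⁻¹ = 1 := by rw [← map_mul, mul_inv_cancel, map_one]
    rw [← map_mul, show g * h * g⁻¹ * (g * h * g⁻¹) = g * (h * h) * g⁻¹ by group, map_mul, map_mul,
      map_mul, hh]
    refine LinearMap.ext fun v => ?_
    show ρ g (-(ρ g⁻¹ v)) = -v
    rw [map_neg, ← Module.End.mul_apply, e, Module.End.one_apply]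
  have hq1 : (orderOf (s * q * s⁻¹)).Coprime p := by
    rw [(SemiconjBy.conj_mk s q).orderOf_eq.symm]; exact hq
  have hq2 : (orderOf (s⁻¹ * q * s)).Coprime p := by
    have e := (SemiconjBy.conj_mk s⁻¹ q).orderOf_eq
    rw [inv_inv] at e; rw [← e]; exact hq
  have hqq2 : ρ (s⁻¹ * q * s) * ρ (s⁻¹ * q * s) = -1 := by
    have e := hconj_sq q s⁻¹ hqq
    rwa [inv_inv] at e
  set N := ρ q + ρ (s * q * s⁻¹) + ρ (s⁻¹ * q * s) with hNdef
  have hNadj : ∀ u v, B (N u) v = (B u (N v))⁻¹ := by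
    intro u v
    simp only [hNdef, LinearMap.add_apply]
    rw [haddL, haddL, haddR, haddR, hadj q hq hqq, hadj _ hq1 (hconj_sq q s hqq),
      hadj _ hq2 hqq2, mul_inv_rev, mul_inv_rev]
    have c1 := hcen _ ((M ⊓ Z).inv_mem (hBM u (ρ q v)))
    have c2 := hcen _ ((M ⊓ Z).inv_mem (hBM u (ρ (s * q * s⁻¹) v)))
    have m2 := M.inv_mem (hBM u (ρ (s * q * s⁻¹) v)).1
    have m3 := M.inv_mem (hBM u (ρ (s⁻¹ * q * s) v)).1
    rw [(c1 _ m2).eq]
    exact ((hcen _ ((M ⊓ Z).mul_mem ((M ⊓ Z).inv_mem (hBM u (ρ (s * q * s⁻¹) v)))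
      ((M ⊓ Z).inv_mem (hBM u (ρ q v)))) _ m3).eq)
  have hsN' : ρ s = 1 + N := hsN
  have hNN : ∀ v, N (N v) = 0 := fun v => by
    have h1 := LinearMap.congr_fun hs2 v
    rw [hsN', add_sub_cancel_left] at h1
    exact h1
  have hBs : ∀ u v, B (ρ s u) (ρ s v) = B u v := by
    intro u v
    simp only [hsN', LinearMap.add_apply, Module.End.one_apply]
    rw [haddL, haddR, haddR, hNadj u v, hNadj u (N v), hNN, hBzR]
    group
  obtain ⟨e, hρe, hecomm⟩ := hcorr s
  obtain ⟨f, hρf, hfcomm⟩ := hcorr q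
  have hefix : ∀ x ∈ M, ∀ y ∈ M, (e : G) * ⁅x, y⁆ * (e : G)⁻¹ = ⁅x, y⁆ := by
    intro x hx y hy
    have h1 : ⁅x, y⁆ = B (Additive.ofMul ⟨π x, x, hx.1, rfl⟩) (Additive.ofMul ⟨π y, y, hy.1, rfl⟩) :=
      (hB _ _ x hx y hy rfl rfl).symm
    rw [h1, hconjB, hρe, hBs]
  -- the elements inverted by `t`
  set D : Set G := {x | x ∈ M ∧ (t : G) * x * (t : G)⁻¹ = x⁻¹} with hD
  set W₁ := closure D with hW₁
  have hW₁M : W₁ ≤ M := (closure_le M).2 fun x hx => hx.1
  have hcomm' : ∀ h : H, θ (h : G) * θ (t : G) = θ (t : G) * θ (h : G) → ∀ x ∈ M,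
      (h : G) * ((t : G) * x * (t : G)⁻¹) * (h : G)⁻¹ = (t : G) * ((h : G) * x * (h : G)⁻¹) * (t : G)⁻¹ := by
    intro h hh x hx
    have h1 := congrArg (fun A : MulAut M => ((A ⟨x, hx⟩ : M) : G)) hh
    simpa only [MulAut.mul_apply, hθ] using h1
  have hnorm : ∀ h : H, θ (h : G) * θ (t : G) = θ (t : G) * θ (h : G) →
      (h : G) ∈ normalizer (W₁ : Set G) := by
    intro h hh
    rw [mem_normalizer_iff_map_conj_eq]
    refine eq_of_le_of_card_ge ?_ (le_of_eq (card_map_of_injective (MulAut.conj (h : G)).injective).symm)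
    rw [hW₁, MonoidHom.map_closure, closure_le]
    rintro _ ⟨x, ⟨hx, hxt⟩, rfl⟩
    refine subset_closure ⟨Normal.conj_mem inferInstance x hx _, ?_⟩
    show (t : G) * ((h : G) * x * (h : G)⁻¹) * (t : G)⁻¹ = ((h : G) * x * (h : G)⁻¹)⁻¹
    rw [← hcomm' h hh x hx, hxt]; group
  have hwM : ∀ x ∈ M, x⁻¹ * ((e : G) * x * (e : G)⁻¹) ∈ M := fun x hx =>
    M.mul_mem (M.inv_mem hx) (Normal.conj_mem inferInstance x hx _)
  have hw : ∀ x ∈ W₁, (e : G) * (x⁻¹ * ((e : G) * x * (e : G)⁻¹)) * (e : G)⁻¹ =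
      x⁻¹ * ((e : G) * x * (e : G)⁻¹) := by
    intro x hx
    induction hx using closure_induction with
    | mem x hx =>
      obtain ⟨hx, hxt⟩ := hx
      set w := x⁻¹ * ((e : G) * x * (e : G)⁻¹) with hwdef
      have hwm : w ∈ M := hwM x hx
      have hewm : (e : G) * w * (e : G)⁻¹ ∈ M := Normal.conj_mem inferInstance w hwm _
      have hzZ : w⁻¹ * ((e : G) * w * (e : G)⁻¹) ∈ Z := by
        refine QuotientGroup.eq.1 ?_
        show π w = π ((e : G) * w * (e : G)⁻¹)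
        set v : Additive V := Additive.ofMul ⟨π x, x, hx.1, rfl⟩ with hv
        have h0 : π w = ((Additive.toMul (N v) : V) : G ⧸ Z) := by
          have h1 : ((Additive.toMul (ρ e v) : V) : G ⧸ Z) = π ((e : G) * x * (e : G)⁻¹) := by
            rw [hρ, map_mul, map_mul, map_inv]; rfl
          rw [hρe, hsN', LinearMap.add_apply, Module.End.one_apply, toMul_add, Subgroup.coe_mul] at h1
          rw [hwdef, map_mul, map_inv, ← h1]
          exact inv_mul_cancel_left _ _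
        rw [map_mul π ((e : G) * w) _, map_mul π (e : G) w, map_inv π (e : G), h0, ← hρ, hρe]
        have h2 : ρ s (N v) = N v := by rw [hsN']; show N v + N (N v) = N v; rw [hNN, add_zero]
        rw [h2]
      have hz := hpi w hwm _ hewm hzZ
      set z := w⁻¹ * ((e : G) * w * (e : G)⁻¹) with hzdef
      have hmdef : w * ((t : G) * w * (t : G)⁻¹) = ⁅x⁻¹, (e : G) * x * (e : G)⁻¹⁆ := by
        have h1 : (t : G) * ((e : G) * x * (e : G)⁻¹) * (t : G)⁻¹ = ((e : G) * x * (e : G)⁻¹)⁻¹ := by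
          rw [← hcomm' e hecomm x hx, hxt]; group
        have h2 : (t : G) * w * (t : G)⁻¹ = x * ((e : G) * x * (e : G)⁻¹)⁻¹ := by
          rw [hwdef, show (t : G) * (x⁻¹ * ((e : G) * x * (e : G)⁻¹)) * (t : G)⁻¹ =
            ((t : G) * x * (t : G)⁻¹)⁻¹ * ((t : G) * ((e : G) * x * (e : G)⁻¹) * (t : G)⁻¹) by group,
            h1, hxt, inv_inv]
        rw [h2, hwdef, commutatorElement_def]; group
      have hzz : z * z = 1 := fixes_of_inverted (t := (t : G)) (e := (e : G)) (w := w) (z := z)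
        (by rw [hzdef]; group) (hcen z hz w hwm) (htZ z hz.2)
        (by rw [hmdef]; exact hefix _ (M.inv_mem hx) _ (Normal.conj_mem inferInstance x hx _))
        (by rw [hmdef]; exact hcen z hz _ (hcZ _ (M.inv_mem hx) _ (Normal.conj_mem inferInstance x hx _)).1)
        (hcomm' e hecomm w hwm)
      obtain ⟨j, hj⟩ := hW ⟨z, hz.1.1⟩
      have h1 : z = 1 := orderOf_eq_one_iff.1 (Nat.eq_one_of_dvd_coprimes
        (((Nat.coprime_primes Nat.prime_two hp.out).2 (Ne.symm hp2)).pow_right j)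
        (orderOf_dvd_of_pow_eq_one (by rw [sq, hzz]))
        (orderOf_dvd_of_pow_eq_one (congrArg Subtype.val hj)))
      rw [hzdef, inv_mul_eq_one] at h1
      exact h1.symm
    | one => simp
    | mul x y hxc hyc ihx ihy =>
      set wx := x⁻¹ * ((e : G) * x * (e : G)⁻¹) with hwx
      set wy := y⁻¹ * ((e : G) * y * (e : G)⁻¹) with hwy
      have hxm : wx ∈ M := hwM x (hW₁M hxc)
      have h1 : (x * y)⁻¹ * ((e : G) * (x * y) * (e : G)⁻¹) = wx * ⁅wx⁻¹, y⁻¹⁆ * wy := by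
        simp only [hwx, hwy, commutatorElement_def]; group
      rw [h1, show (e : G) * (wx * ⁅wx⁻¹, y⁻¹⁆ * wy) * (e : G)⁻¹ = ((e : G) * wx * (e : G)⁻¹) *
        ((e : G) * ⁅wx⁻¹, y⁻¹⁆ * (e : G)⁻¹) * ((e : G) * wy * (e : G)⁻¹) by group, ihx, ihy,
        hefix _ (M.inv_mem hxm) _ (M.inv_mem (hW₁M hyc))]
    | inv x hxc ihx =>
      set wx := x⁻¹ * ((e : G) * x * (e : G)⁻¹) with hwx
      have hxm : wx ∈ M := hwM x (hW₁M hxc)
      have h1 : x⁻¹⁻¹ * ((e : G) * x⁻¹ * (e : G)⁻¹) = wx⁻¹ * ⁅wx, x⁆ := by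
        simp only [hwx, commutatorElement_def]; group
      rw [h1, show (e : G) * (wx⁻¹ * ⁅wx, x⁆) * (e : G)⁻¹ = ((e : G) * wx * (e : G)⁻¹)⁻¹ *
        ((e : G) * ⁅wx, x⁆ * (e : G)⁻¹) by group, ihx, hefix _ hxm _ (hW₁M hxc)]
  have hquadW : ⁅⁅W₁, zpowers (e : G)⁆, zpowers (e : G)⁆ = ⊥ := by
    refine CfsgLib.Fusion.quad_bot_iff.2 fun x hx => ?_
    have h1 := hw x⁻¹ (W₁.inv_mem hx)
    rw [inv_inv] at h1
    have e1 : ⁅x, (e : G)⁆ = x * ((e : G) * x⁻¹ * (e : G)⁻¹) := by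
      simp only [commutatorElement_def]; group
    rw [e1]
    exact mul_inv_eq_iff_eq_mul.1 h1
  have hW₁p : IsPGroup p W₁ := hW.to_le (hW₁M.trans inf_le_left)
  set N₁ := normalizer (W₁ : Set G) with hN₁
  have heN : (e : G) ∈ N₁ := hnorm e hecomm
  have hfN : (f : G) ∈ N₁ := hnorm f hfcomm
  set C₁ := (centralizer (W₁ : Set G)).subgroupOf N₁ with hC₁
  have hstW := hst W₁ hW₁p (e : G) heN hquadW
  haveI := Cfsg.pCore_normal p (↥N₁ ⧸ C₁)
  have hmem : ((⟨(e : G), heN⟩⁻¹ * (⟨(f : G), hfN⟩ * ⟨(e : G), heN⟩ * ⟨(f : G), hfN⟩⁻¹) : N₁) :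
      ↥N₁ ⧸ C₁) ∈ Cfsg.pCore p (↥N₁ ⧸ C₁) := by
    rw [QuotientGroup.mk_mul, QuotientGroup.mk_mul, QuotientGroup.mk_mul, QuotientGroup.mk_inv,
      QuotientGroup.mk_inv]
    exact mul_mem (inv_mem hstW) (Normal.conj_mem inferInstance _ hstW _)
  set g : H := e⁻¹ * (f * e * f⁻¹) with hg
  obtain ⟨k, hk⟩ := CfsgLib.Solvable.pCore_isPGroup (G := ↥N₁ ⧸ C₁) p ⟨_, hmem⟩
  have hk' : (g : G) ^ p ^ k ∈ centralizer (W₁ : Set G) := by
    have h1 := congrArg Subtype.val hk
    simp only [SubmonoidClass.coe_pow, OneMemClass.coe_one, ← QuotientGroup.mk_pow,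
      QuotientGroup.eq_one_iff, hC₁, mem_subgroupOf] at h1
    simpa [hg] using h1
  have hρg : ρ (g ^ p ^ k) = 1 := by
    refine LinearMap.ext fun v => Additive.toMul.injective (Subtype.ext ?_)
    rw [hρ, Module.End.one_apply, ← hrep v]
    set x := ((rep v : M) : G) with hxdef
    have hxM : x ∈ M := (rep v).2
    set m0 := x * ((t : G) * x * (t : G)⁻¹) with hm0
    have hm0M : m0 ∈ M := M.mul_mem hxM (Normal.conj_mem inferInstance x hxM _)
    have hm0Z : m0 ∈ M ⊓ Z := by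
      refine mem_inf.2 ⟨hm0M, (QuotientGroup.eq_one_iff _).1 ?_⟩
      show π m0 = 1
      rw [hm0, map_mul, hxdef, hrep, map_mul, map_mul, map_inv, hrep, ← hρ, hρt, LinearMap.neg_apply,
        Module.End.one_apply, toMul_neg, InvMemClass.coe_inv, mul_inv_cancel]
    obtain ⟨j, hj⟩ := hW ⟨m0, hm0M.1⟩
    have hj' : m0 ^ p ^ j = 1 := congrArg Subtype.val hj
    obtain ⟨i, hi⟩ : ∃ i : ℕ, p ^ j = 2 * i + 1 := (hp.out.odd_of_ne_two hp2).pow
    have hx0 : Commute m0 x := hcen m0 hm0Z x hxM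
    set d := x * m0 ^ i with hd
    have hdD : d ∈ D := by
      refine ⟨M.mul_mem hxM (M.pow_mem hm0M i), ?_⟩
      have h1 : (t : G) * m0 ^ i * (t : G)⁻¹ = m0 ^ i := by rw [← conj_pow, htZ m0 hm0Z.2]
      rw [hd, show (t : G) * (x * m0 ^ i) * (t : G)⁻¹ =
          ((t : G) * x * (t : G)⁻¹) * ((t : G) * m0 ^ i * (t : G)⁻¹) by group, h1,
        show (t : G) * x * (t : G)⁻¹ = x⁻¹ * m0 by rw [hm0]; group]
      apply eq_inv_of_mul_eq_one_left
      calc x⁻¹ * m0 * m0 ^ i * (x * m0 ^ i) = x⁻¹ * (m0 ^ (i + 1) * x) * m0 ^ i := by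
            rw [pow_succ']; group
        _ = m0 ^ (i + 1 + i) := by
            rw [(hx0.pow_left (i + 1)).eq, inv_mul_cancel_left, ← pow_add]
        _ = 1 := by rw [show i + 1 + i = p ^ j by omega, hj']
    have hπd : π d = π x := by
      rw [hd, map_mul, show π (m0 ^ i) = 1 from (QuotientGroup.eq_one_iff _).2 (Z.pow_mem hm0Z.2 i),
        mul_one]
    rw [← hπd, ← map_inv, ← map_mul, ← map_mul, Subgroup.coe_pow,
      ← mem_centralizer_iff.1 hk' d (subset_closure hdD), mul_inv_cancel_right]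
  rw [map_pow] at hρg
  have hρg2 : ρ g * ρ g = -1 := by
    have hinv : ρ e⁻¹ = ρ s⁻¹ := by
      calc ρ e⁻¹ = ρ e⁻¹ * (ρ s * ρ s⁻¹) := by rw [← map_mul ρ s, mul_inv_cancel, map_one, mul_one]
        _ = ρ s⁻¹ := by rw [← hρe, ← mul_assoc, ← map_mul, inv_mul_cancel, map_one, one_mul]
    have hinvf : ρ f⁻¹ = ρ q⁻¹ := by
      calc ρ f⁻¹ = ρ f⁻¹ * (ρ q * ρ q⁻¹) := by rw [← map_mul ρ q, mul_inv_cancel, map_one, mul_one]
        _ = ρ q⁻¹ := by rw [← hρf, ← mul_assoc, ← map_mul, inv_mul_cancel, map_one, one_mul]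
    have h1 : ρ g = ρ (s⁻¹ * (q * s * q⁻¹)) := by
      simp only [hg, map_mul, hinv, hinvf, hρe, hρf]
    rw [h1, ← map_mul, hsf]
  have hfinal : (-1 : Module.End (ZMod p) (Additive V)) = 1 := by
    have h1 : (ρ g * ρ g) ^ p ^ k = 1 := by
      rw [(Commute.refl (ρ g)).mul_pow, hρg, one_mul]
    obtain ⟨j, hj⟩ : ∃ j : ℕ, p ^ k = 2 * j + 1 := (hp.out.odd_of_ne_two hp2).pow
    rw [hρg2, hj, pow_succ, pow_mul, pow_two, hneg, one_pow, one_mul] at h1
    exact h1
  refine hnp fun g => ⟨0, LinearMap.ext fun v => ?_⟩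
  have h1 := LinearMap.congr_fun hfinal v
  rw [LinearMap.neg_apply, Module.End.one_apply] at h1
  have h2 : (2 : ZMod p) • v = 0 := by rw [two_smul]; exact neg_eq_iff_add_eq_zero.1 h1
  rcases smul_eq_zero.1 h2 with h3 | h3
  · have := (ZMod.natCast_eq_zero_iff 2 p).1 (by exact_mod_cast h3)
    have := Nat.le_of_dvd (by norm_num) this
    omega
  · rw [h3, map_zero, map_zero]

/-- The core for every odd `p`. -/
theorem not_irreducible_bad_pair_odd (h2 : p ≠ 2) {G : Type u} [Group G] [Finite G]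
    (hst : Cfsg.IsNormalizerPStable p G) {W Z : Subgroup G} [W.Normal] [Z.Normal]
    (hW : IsPGroup p W) (hZW : Z ≤ W) (hfix : CoprimeFixes p Z)
    (hab : Cfsg.IsElementaryAbelian p (W.map (QuotientGroup.mk' Z)))
    {a b : G} (ha : ⁅⁅W, zpowers a⁆, zpowers a⁆ ≤ Z) (hb : ⁅⁅W, zpowers b⁆, zpowers b⁆ ≤ Z)
    (hirr : ∀ N : Subgroup G, Z ≤ N → N ≤ W → closure {a, b} ≤ normalizer (N : Set G) →
      N = Z ∨ N = W)
    (hbad : ¬ ∀ h ∈ closure {a, b}, ∃ k : ℕ, ∀ x ∈ W, x⁻¹ * (h ^ p ^ k * x * (h ^ p ^ k)⁻¹) ∈ Z) :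
    False := by
  have := hp.out.two_le
  rcases (by omega : p = 3 ∨ 3 < p) with h | h
  · exact not_irreducible_bad_pair_three h hst hW hZW hfix hab ha hb hirr hbad
  · exact not_irreducible_bad_pair h hst hW hZW hfix hab ha hb hirr hbad

/-- Two quadratic elements act as a `p`-group on `W / Z`. -/
theorem pair_pow_fixes_aux_odd (h2 : p ≠ 2) :
    ∀ (n : ℕ) {G : Type u} [Group G] [Finite G], Cfsg.IsNormalizerPStable p G →
      ∀ {W Z : Subgroup G} [W.Normal] [Z.Normal], IsPGroup p W → Z ≤ W → CoprimeFixes p Z →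
      ∀ {a b : G}, W ⊔ closure {a, b} = ⊤ → ⁅⁅W, zpowers a⁆, zpowers a⁆ ≤ Z →
        ⁅⁅W, zpowers b⁆, zpowers b⁆ ≤ Z → Nat.card W - Nat.card Z = n →
        ∀ h ∈ closure {a, b}, ∃ k : ℕ, ∀ x ∈ W, x⁻¹ * (h ^ p ^ k * x * (h ^ p ^ k)⁻¹) ∈ Z := by
  intro n
  induction n using Nat.strong_induction_on with
  | _ n ih =>
    intro G _ _ hst W Z _ _ hW hZW hfix a b htop ha hb hn
    set H := closure ({a, b} : Set G) with hH
    by_cases hWZ : W = Z
    · refine fun h _ => ⟨0, fun x hx => ?_⟩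
      have := ‹Z.Normal›.conj_mem x (hWZ ▸ hx) (h ^ p ^ 0)
      exact Z.mul_mem (Z.inv_mem (hWZ ▸ hx)) this
    obtain ⟨U, hU⟩ := (Set.toFinite {N : Subgroup G | N.Normal ∧ Z < N ∧ N ≤ W}).exists_minimal
      ⟨W, ‹_›, lt_of_le_of_ne hZW (Ne.symm hWZ), le_rfl⟩
    obtain ⟨⟨hUn, hZU, hUW⟩, hmin⟩ := hU
    set π := QuotientGroup.mk' Z with hπ
    haveI : (U.map π).Normal := hUn.map π (QuotientGroup.mk'_surjective Z)
    have hUp : IsPGroup p (U.map π) := (hW.to_le hUW).map π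
    have hUne : U.map π ≠ ⊥ := fun h0 => hZU.not_ge fun x hx =>
      (QuotientGroup.eq_one_iff x).1 (mem_bot.1 (h0 ▸ mem_map_of_mem π hx))
    have hUmin : ∀ N : Subgroup (G ⧸ Z), N.Normal → N ≤ U.map π → N = ⊥ ∨ N = U.map π := by
      intro N hN hNU
      have h1 : N.comap π ≤ U := (comap_mono hNU).trans (by
        rw [comap_map_eq, hπ, QuotientGroup.ker_mk', sup_eq_left.2 hZU.le])
      have h2 : Z ≤ N.comap π := fun z hz => by
        rw [mem_comap, hπ, QuotientGroup.mk'_apply, (QuotientGroup.eq_one_iff z).2 hz]; exact N.one_mem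
      rcases eq_or_lt_of_le h2 with h3 | h3
      · left
        rw [← map_comap_eq_self_of_surjective (QuotientGroup.mk'_surjective Z) N, ← h3, Subgroup.map_eq_bot_iff,
          QuotientGroup.ker_mk']
      · right
        rw [← map_comap_eq_self_of_surjective (QuotientGroup.mk'_surjective Z) N,
          le_antisymm h1 (hmin ⟨Normal.comap hN π, h3, h1.trans hUW⟩ h1)]
    have hab := elemAb_of_minimal hUp hUne hUmin
    have htriv : ∀ w ∈ W, ∀ x ∈ U, x⁻¹ * (w * x * w⁻¹) ∈ Z := by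
      intro w hw x hx
      haveI : (W.map π).Normal := ‹W.Normal›.map π (QuotientGroup.mk'_surjective Z)
      haveI := Cfsg.pCore_normal p ((G ⧸ Z) ⧸ centralizer (U.map π : Set (G ⧸ Z)))
      have h1 : π w ∈ centralizer (U.map π : Set (G ⧸ Z)) := mem_centralizer_of_mem_pCore hUp hUne hUmin
        (CfsgLib.Solvable.le_pCore (Normal.map ‹(W.map π).Normal› _ (QuotientGroup.mk'_surjective _))
          ((hW.map π).map _) ⟨π w, mem_map_of_mem π hw, rfl⟩)
      refine (QuotientGroup.eq_one_iff _).1 ?_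
      show π _ = 1
      rw [map_mul, map_mul, map_mul, map_inv, map_inv,
        ← mem_centralizer_iff.1 h1 _ (mem_map_of_mem π hx), mul_inv_cancel_right, inv_mul_cancel]
    have hirr : ∀ N : Subgroup G, Z ≤ N → N ≤ U → H ≤ normalizer (N : Set G) → N = Z ∨ N = U := by
      intro N hZN hNU hHN
      have hN : N.Normal := normalizer_eq_top_iff.1 <| top_le_iff.1 <| htop ▸ sup_le
        (fun w hw => mem_normalizer_iff.2 fun x =>
          have hcl : ∀ v ∈ W, ∀ x ∈ N, v * x * v⁻¹ ∈ N := fun v hv x hx => by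
            have := N.mul_mem hx (hZN (htriv v hv x (hNU hx)))
            rwa [mul_inv_cancel_left] at this
          ⟨hcl w hw x, fun hx => by
            have := hcl w⁻¹ (W.inv_mem hw) _ hx
            simpa [mul_assoc] using this⟩) hHN
      rcases eq_or_lt_of_le hZN with h | h
      · exact Or.inl h.symm
      · exact Or.inr (le_antisymm hNU (hmin ⟨hN, h, hNU.trans hUW⟩ hNU))
    have hmono : ∀ c : G, ⁅⁅W, zpowers c⁆, zpowers c⁆ ≤ Z → ⁅⁅U, zpowers c⁆, zpowers c⁆ ≤ Z :=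
      fun c hc => (commutator_mono (commutator_mono hUW le_rfl) le_rfl).trans hc
    have hstep : ∀ h ∈ H, ∃ k : ℕ, ∀ x ∈ U, x⁻¹ * (h ^ p ^ k * x * (h ^ p ^ k)⁻¹) ∈ Z := by
      by_contra hbad
      exact not_irreducible_bad_pair_odd h2 hst (hW.to_le hUW) hZU.le hfix hab (hmono a ha) (hmono b hb)
        hirr hbad
    have hfixU := coprimeFixes_of_section hW hUW hZU.le hfix hUn htriv htop hstep
    have hlt : Nat.card W - Nat.card U < n := by
      have h1 : Nat.card Z < Nat.card U := lt_of_le_of_ne (card_le_of_le hZU.le)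
        fun hc => hZU.ne (eq_of_le_of_card_ge hZU.le hc.ge)
      have h2 := card_le_of_le (G := G) hUW
      omega
    intro h hh
    obtain ⟨k, hk⟩ := hstep h hh
    obtain ⟨l, hl⟩ := ih _ hlt hst hW hUW hfixU htop (ha.trans hZU.le) (hb.trans hZU.le) rfl h hh
    obtain ⟨m, hm⟩ := hW.exists_card_eq
    refine ⟨k + l + m, fun x hx => ?_⟩
    set y := h ^ p ^ (k + l) with hy
    have e1 : (h ^ p ^ l) ^ p ^ k = y := by rw [← pow_mul, ← pow_add, add_comm]
    have e2 : (h ^ p ^ k) ^ p ^ l = y := by rw [← pow_mul, ← pow_add]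
    set u := x⁻¹ * (y * x * y⁻¹) with hu
    have key : ∀ {c : G} {A B : Subgroup G}, B.Normal →
        (∀ x ∈ A, x⁻¹ * (c * x * c⁻¹) ∈ B) → ∀ j : ℕ, ∀ x ∈ A, x⁻¹ * (c ^ j * x * (c ^ j)⁻¹) ∈ B := by
      intro c A B hB hc j x hx
      induction j with
      | zero => simp
      | succ j ihj =>
        have h1 := B.mul_mem (hc x hx) (hB.conj_mem _ ihj c)
        convert h1 using 1
        rw [pow_succ']
        group
    have huU : u ∈ U := by rw [hu, ← e1]; exact key hUn hl _ x hx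
    have huZ : u⁻¹ * (y * u * y⁻¹) ∈ Z := by rw [← e2]; exact key ‹Z.Normal› hk _ u huU
    have q1 : π y * π u * (π y)⁻¹ = π u := by
      have h1 : π (u⁻¹ * (y * u * y⁻¹)) = 1 := (QuotientGroup.eq_one_iff _).2 huZ
      rw [map_mul, map_mul, map_mul, map_inv, map_inv, inv_mul_eq_one] at h1
      exact h1.symm
    have q2 : π y * π x * (π y)⁻¹ = π x * π u := by
      rw [hu, map_mul π x⁻¹, map_mul, map_mul, map_inv, map_inv, mul_inv_cancel_left]
    have q3 := conj_iterate q1 q2 (p ^ m)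
    have q4 : π u ^ p ^ m = 1 := by
      rw [← map_pow, ← hm, show u ^ Nat.card W = 1 from
        congrArg Subtype.val (pow_card_eq_one' (x := (⟨u, hUW huU⟩ : W))), map_one]
    rw [q4, mul_one] at q3
    refine (QuotientGroup.eq_one_iff _).1 ?_
    show π _ = 1
    rw [show h ^ p ^ (k + l + m) = y ^ p ^ m by rw [hy, ← pow_mul, ← pow_add], map_mul, map_mul,
      map_mul, map_inv, map_inv, map_pow, q3, inv_mul_cancel]

theorem pair_pow_fixes_odd (h2 : p ≠ 2) {G : Type u} [Group G] [Finite G]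
    (hst : Cfsg.IsNormalizerPStable p G) {W Z : Subgroup G} [hWn : W.Normal] [hZn : Z.Normal]
    (hW : IsPGroup p W) (hZW : Z ≤ W) (hfix : CoprimeFixes p Z)
    {a b : G} (ha : ⁅⁅W, zpowers a⁆, zpowers a⁆ ≤ Z) (hb : ⁅⁅W, zpowers b⁆, zpowers b⁆ ≤ Z) :
    ∀ h ∈ closure {a, b}, ∃ k : ℕ, ∀ x ∈ W, x⁻¹ * (h ^ p ^ k * x * (h ^ p ^ k)⁻¹) ∈ Z := by
  intro h hh
  set R := W ⊔ closure ({a, b} : Set G) with hR
  have hWR : W ≤ R := le_sup_left
  have hmem : ∀ {c : G}, c ∈ closure ({a, b} : Set G) → c ∈ R := fun hc => mem_sup_right hc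
  let a' : R := ⟨a, hmem (subset_closure (Set.mem_insert _ _))⟩
  let b' : R := ⟨b, hmem (subset_closure (Set.mem_insert_of_mem _ rfl))⟩
  have hcl : (closure {a', b'}).map R.subtype = closure ({a, b} : Set G) := by
    rw [MonoidHom.map_closure, Set.image_pair]; rfl
  have hquad : ∀ c : R, ⁅⁅W, zpowers (c : G)⁆, zpowers (c : G)⁆ ≤ Z →
      ⁅⁅W.subgroupOf R, zpowers c⁆, zpowers c⁆ ≤ Z.subgroupOf R := by
    intro c hc
    rw [subgroupOf, subgroupOf, ← map_le_iff_le_comap, map_commutator, map_commutator, MonoidHom.map_zpowers]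
    refine (commutator_mono (commutator_mono ?_ le_rfl) le_rfl).trans hc
    exact map_comap_le _ _
  obtain ⟨k, hk⟩ := pair_pow_fixes_aux_odd h2 _ (isNormalizerPStable_subgroup hst R)
    (W := W.subgroupOf R) (Z := Z.subgroupOf R) hW.comap_subtype (comap_mono hZW) (hfix.subgroupOf R)
    (a := a') (b := b') (map_injective R.subtype_injective (by
      rw [Subgroup.map_sup, hcl, map_subgroupOf_eq_of_le hWR, ← MonoidHom.range_eq_map, range_subtype]))
    (hquad a' ha) (hquad b' hb) rfl ⟨h, hmem hh⟩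
    (by
      rw [← mem_map_iff_mem R.subtype_injective, hcl]
      exact hh)
  exact ⟨k, fun x hx => hk ⟨x, hWR hx⟩ hx⟩

/-- Quadratic elements on `W / Z` lie in `O_p` of the group induced there. -/
theorem quad_mem_pCore_of_kernel_odd (h2 : p ≠ 2) {G : Type u} [Group G] [Finite G]
    (hst : Cfsg.IsNormalizerPStable p G) {W Z : Subgroup G} [hWn : W.Normal] [hZn : Z.Normal]
    (hW : IsPGroup p W) (hZW : Z ≤ W) (hfix : CoprimeFixes p Z) {K : Subgroup G} [K.Normal]
    (hK : ∀ g : G, (∀ x ∈ W, x⁻¹ * (g * x * g⁻¹) ∈ Z) → g ∈ K)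
    {a : G} (ha : ⁅⁅W, zpowers a⁆, zpowers a⁆ ≤ Z) :
    QuotientGroup.mk' K a ∈ Cfsg.pCore p (G ⧸ K) := by
  refine CfsgLib.Invol.baer_suzuki_mem_pCore fun g' => ?_
  obtain ⟨g, rfl⟩ := QuotientGroup.mk'_surjective K g'
  rw [← map_inv, ← map_mul, ← map_mul, ← Set.image_pair, ← MonoidHom.map_closure]
  have hb : ⁅⁅W, zpowers (g * a * g⁻¹)⁆, zpowers (g * a * g⁻¹)⁆ ≤ Z := by
    have h1 := map_mono (f := (MulAut.conj g).toMonoidHom) ha
    rw [map_commutator, map_commutator, MonoidHom.map_zpowers,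
      CfsgLib.Comp.map_conj_eq_iff.2 (normalizer_eq_top W ▸ mem_top g),
      CfsgLib.Comp.map_conj_eq_iff.2 (normalizer_eq_top Z ▸ mem_top g)] at h1
    exact h1
  rintro ⟨_, h, hh, rfl⟩
  obtain ⟨k, hk⟩ := pair_pow_fixes_odd h2 hst hW hZW hfix ha hb h hh
  refine ⟨k, Subtype.ext ?_⟩
  show (QuotientGroup.mk' K h) ^ p ^ k = 1
  rw [← map_pow]
  exact (QuotientGroup.eq_one_iff _).2 (hK _ hk)

/-- Quotients by `p`-subgroups fixed by the elements of order prime to `p`. -/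
theorem isNormalizerPStable_quotient_odd (h2 : p ≠ 2) {G : Type u} [Group G] [Finite G]
    (hst : Cfsg.IsNormalizerPStable p G) {Z : Subgroup G} [hZn : Z.Normal] (hZ : IsPGroup p Z)
    (hfix : CoprimeFixes p Z) : Cfsg.IsNormalizerPStable p (G ⧸ Z) := by
  intro P hP g' hg' hq
  obtain ⟨g, rfl⟩ := QuotientGroup.mk'_surjective Z g'
  set π := QuotientGroup.mk' Z with hπ
  set W := P.comap π with hW
  have hWp : IsPGroup p W := hP.comap_of_ker_isPGroup π (by rwa [QuotientGroup.ker_mk'])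
  have hZW : Z ≤ W := fun z hz => by
    rw [hW, mem_comap, hπ, QuotientGroup.mk'_apply, (QuotientGroup.eq_one_iff z).2 hz]; exact P.one_mem
  set N := normalizer (W : Set G) with hN
  have hNP : N = (normalizer (P : Set (G ⧸ Z))).comap π :=
    (comap_normalizer_eq_of_surjective P (QuotientGroup.mk'_surjective Z)).symm
  haveI : (W.subgroupOf N).Normal := normal_in_normalizer
  set C := (centralizer (P : Set (G ⧸ Z))).subgroupOf (normalizer (P : Set (G ⧸ Z))) with hC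
  let f : ↥N →* ↥(normalizer (P : Set (G ⧸ Z))) :=
    (π.comp N.subtype).codRestrict _ fun x => (hNP.le x.2 : (x : G) ∈ _)
  have hf : Function.Surjective f := by
    rintro ⟨y, hy⟩
    obtain ⟨x, rfl⟩ := QuotientGroup.mk'_surjective Z y
    exact ⟨⟨x, hNP.ge hy⟩, rfl⟩
  let q := (QuotientGroup.mk' C).comp f
  have hqs : Function.Surjective q := (QuotientGroup.mk'_surjective C).comp hf
  have hgN : g ∈ N := hNP.ge hg'
  have ha : ⁅⁅W.subgroupOf N, zpowers (⟨g, hgN⟩ : N)⁆, zpowers (⟨g, hgN⟩ : N)⁆ ≤ Z.subgroupOf N := by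
    rw [subgroupOf, subgroupOf, ← map_le_iff_le_comap, map_commutator, map_commutator, MonoidHom.map_zpowers]
    refine (commutator_mono (commutator_mono (map_comap_le _ _) le_rfl) le_rfl).trans ?_
    show ⁅⁅W, zpowers g⁆, zpowers g⁆ ≤ Z
    rw [← QuotientGroup.ker_mk' Z, ← MonoidHom.comap_bot, ← map_le_iff_le_comap, map_commutator,
      map_commutator, MonoidHom.map_zpowers, hW,
      map_comap_eq_self_of_surjective (QuotientGroup.mk'_surjective Z), hq]
  have hK : ∀ n : N, (∀ x ∈ W.subgroupOf N, x⁻¹ * (n * x * n⁻¹) ∈ Z.subgroupOf N) → n ∈ q.ker := by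
    intro n hn
    refine (QuotientGroup.eq_one_iff (f n)).2 (mem_subgroupOf.2 (mem_centralizer_iff.2 fun y hy => ?_))
    obtain ⟨x, rfl⟩ := QuotientGroup.mk'_surjective Z y
    have h1 := hn ⟨x, le_normalizer (show x ∈ W from hy)⟩ (show x ∈ W from hy)
    have h2 : π (x⁻¹ * ((n : G) * x * (n : G)⁻¹)) = 1 := (QuotientGroup.eq_one_iff _).2 h1
    rw [map_mul, map_mul, map_mul, map_inv, map_inv, inv_mul_eq_one] at h2
    exact eq_mul_inv_iff_mul_eq.1 h2
  have h1 := quad_mem_pCore_of_kernel_odd h2 (isNormalizerPStable_subgroup hst N) hWp.comap_subtype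
    (W := W.subgroupOf N) (Z := Z.subgroupOf N) (comap_mono hZW) (hfix.subgroupOf N) hK ha
  haveI := Cfsg.pCore_normal p (↥N ⧸ q.ker)
  exact CfsgLib.Solvable.le_pCore
    ((Cfsg.pCore_normal p (↥N ⧸ q.ker)).map (QuotientGroup.kerLift q) fun y => by
      obtain ⟨x, rfl⟩ := hqs y
      exact ⟨QuotientGroup.mk x, rfl⟩)
    ((CfsgLib.Solvable.pCore_isPGroup p).map _) ⟨_, h1, rfl⟩

end CfsgLib.PLocal
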