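import Mathlib
import Cfsg.Agent.Lib.Coprime.StableQuotientOdd
import Cfsg.Agent.Lib.PLocal.KControl
import Cfsg.Agent.Lib.PLocal.ZJControl

/-!
# `Z(J)` controls fusion in `p`-stable groups, `p` odd
-/

set_option autoImplicit false

namespace CfsgLib.PLocal

open Subgroup

universe u

variable {p : ℕ} [hp : Fact p.Prime]

theorem ctrl_zj_of_isNormalizerPStable_aux_odd (h2 : p ≠ 2) :
    ∀ (n : ℕ) (G : Type u) [Group G] [Finite G], Nat.card G = n →
      Cfsg.IsNormalizerPStable p G →
      Ctrl p ({zjFunctor} : Set (∀ (Q : Type u) [Group Q], Subgroup Q)) G := by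
  have h𝓦 : ∀ W ∈ ({zjFunctor} : Set (∀ (Q : Type u) [Group Q], Subgroup Q)),
      Cfsg.IsCharPFunctor.{u} p W := fun W h => by
    rw [Set.mem_singleton_iff] at h; subst h; exact zjFunctor_isCharPFunctor
  intro n
  induction n using Nat.strong_induction_on with
  | _ n ih =>
    intro G _ _ hn hst
    have ihH : ∀ H : Subgroup G, H ≠ ⊤ →
        Ctrl p ({zjFunctor} : Set (∀ (Q : Type u) [Group Q], Subgroup Q)) H := fun H hH =>
      ih _ (hn ▸ lt_of_le_of_ne (card_le_card_group H) fun hc => hH (eq_top_of_card_eq _ hc)) H rfl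
        (isNormalizerPStable_subgroup hst H)
    have hlt : ∀ (N : Subgroup G) [N.Normal], N ≠ ⊥ → Nat.card (G ⧸ N) < n := fun N _ hN => by
      rw [← hn, card_eq_card_quotient_mul_card_subgroup N]
      exact lt_mul_of_one_lt_right Nat.card_pos ((one_lt_card_iff_ne_bot _).2 hN)
    by_cases hO : Cfsg.pPrimeCore p G = ⊥
    swap
    · haveI := Cfsg.pPrimeCore_normal p G
      have hcop := CfsgLib.Comp.coprime_card_pPrimeCore p G
      exact ctrl_of_quotient_coprime h𝓦 hcop
        (ih _ (hlt _ hO) _ rfl (isNormalizerPStable_quotient_coprime hst hcop))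
    by_cases hQ : Cfsg.pCore p G = ⊥
    · obtain ⟨S⟩ : Nonempty (Sylow p G) := inferInstance
      refine familyControls_top S _ (indSet_functor h𝓦) (fullNormSet p (S : Subgroup G))
        (fun U hU => hU) (fun T hT => exists_fullNormalized S hT) fun U hU hne => ?_
      refine familyControls_of_ctrl h𝓦 (ihH _ fun htop => hne (eq_bot_iff.2 ?_))
      rw [← hQ]
      exact CfsgLib.Solvable.le_pCore (normalizer_eq_top_iff.1 htop) (S.2.to_le hU.1)
    by_cases hc : Constrained p G
    · obtain ⟨S⟩ : Nonempty (Sylow p G) := inferInstance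
      refine ctrl_of_normal S ?_
      rw [inducedFunctor_zj]
      exact centerThompsonAOf_normal h2 hc
        (fun B _ hB => isPStableOn_of_isNormalizerPStable hst B hB) S
    refine ctrl_of_not_constrained_quot h𝓦 ihH ?_ hO hQ hc
    intro S hS inst
    have hQp : IsPGroup p (Cfsg.pCore p G) := CfsgLib.Solvable.pCore_isPGroup p
    refine ih _ (hlt _ hQ) _ rfl (isNormalizerPStable_quotient_odd h2 hst hQp fun g hg => ?_)
    set C := centralizer ((Cfsg.pCore p G : Subgroup G) : Set G) with hC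
    have h1 : IsPGroup p (G ⧸ C) := by
      intro y
      obtain ⟨y, rfl⟩ := QuotientGroup.mk_surjective y
      obtain ⟨c, hc', s, hs, rfl⟩ := mem_sup_of_normal_left.1
        ((sup_comm (S : Subgroup G) C ▸ hS) ▸ mem_top y)
      obtain ⟨k, hk⟩ := S.2 ⟨s, hs⟩
      refine ⟨k, ?_⟩
      rw [QuotientGroup.mk_mul, (QuotientGroup.eq_one_iff c).2 hc', one_mul, ← QuotientGroup.mk_pow,
        show s ^ p ^ k = 1 from congrArg Subtype.val hk, QuotientGroup.mk_one]
    obtain ⟨k, hk⟩ := h1 (QuotientGroup.mk' C g)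
    exact (QuotientGroup.eq_one_iff g).1 (orderOf_eq_one_iff.1 (Nat.eq_one_of_dvd_coprimes
      (hg.pow_right k) (orderOf_map_dvd (QuotientGroup.mk' C) g) (orderOf_dvd_of_pow_eq_one hk)))

/-- In a `p`-stable group, `p` odd, `Z(J(S))` controls strong fusion. -/
theorem controls_zj_of_isNormalizerPStable_odd {G : Type u} [Group G] [Finite G] (h2 : p ≠ 2)
    (hst : Cfsg.IsNormalizerPStable p G) (S : Sylow p G) :
    ∀ A : Set G, A ⊆ (S : Subgroup G) → Cfsg.ControlsStrongFusionOf
      (normalizer (Cfsg.centerThompsonAOf (S : Subgroup G) : Set G)) (S : Subgroup G) A := by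
  intro A hA
  have hc := ctrl_zj_of_isNormalizerPStable_aux_odd h2 _ G rfl hst
  refine ⟨hA, fun g hg => ?_⟩
  have h1 := familyControls_at (indSet_functor (fun W h => by
    rw [Set.mem_singleton_iff] at h; subst h; exact zjFunctor_isCharPFunctor)) hc (sylowIn_top S)
    A g (mem_top g) hA hg
  have h2' := h1.map_mono (Q := fun x => x ∈ normalizer
    (Cfsg.centerThompsonAOf (S : Subgroup G) : Set G)) ?_
  · obtain ⟨x, hx, he⟩ := h2'.exists_single
    exact ⟨x, hx, fun a ha => (he a ha).symm⟩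
  · rintro x ⟨_, ⟨W', rfl, rfl⟩, hx⟩
    show x ∈ normalizer (Cfsg.centerThompsonAOf (S : Subgroup G) : Set G)
    rw [← inducedFunctor_zj]
    exact hx.2

end CfsgLib.PLocal
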