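import Cfsg.Agent.Lib.Fusion.PStableConstrained
import Cfsg.Agent.Lib.Coprime.StableControlOdd

/-!
For odd `p` the centre of the Thompson subgroup is normal in the fusion system of a `p`-stable group.
-/

set_option autoImplicit false
set_option linter.style.haveILetI false

universe u

namespace CfsgLib.Fusion

open Cfsg Cfsg.FusionSystem Subgroup

variable {p : ℕ} [Fact p.Prime]

/-- For odd `p` the centre of the Thompson subgroup is normal in a `p`-stable fusion system. -/
theorem group_isNormal_centerThompson_odd {G : Type u} [Group G] [Finite G] (hp : p ≠ 2)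
    (hst : IsNormalizerPStable p G) (P : Sylow p G) :
    (groupFusionSystem (P : Subgroup G)).IsNormal (Cfsg.centerThompsonAOf (P : Subgroup G)) := by
  set W := Cfsg.centerThompsonAOf (P : Subgroup G) with hW
  have hWP : W ≤ (P : Subgroup G) := CfsgLib.Complement.centerThompsonAOf_le _
  refine ⟨hWP, fun R φ hφ => ?_⟩
  obtain ⟨hR, hφP, g, hg⟩ := hφ
  obtain ⟨x, hx, hxe⟩ := (CfsgLib.PLocal.controls_zj_of_isNormalizerPStable_odd hp hst P R hR).2 g (by
    rintro _ ⟨a, ha, rfl⟩
    show g * a * g⁻¹ ∈ (P : Subgroup G)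
    have h1 := hφP ⟨a, ha⟩
    rwa [hg] at h1)
  have hxW : W.map (MulAut.conj x).toMonoidHom = W := mem_normalizer_iff_map_conj_eq.1 hx
  have hle : conjSub x (R ⊔ W) ≤ (P : Subgroup G) := by
    rw [conjSub, Subgroup.map_sup, sup_le_iff]
    refine ⟨?_, hxW.le.trans hWP⟩
    rintro _ ⟨a, ha, rfl⟩
    show x * a * x⁻¹ ∈ (P : Subgroup G)
    rw [← hxe a ha]
    have h1 := hφP ⟨a, ha⟩
    rwa [hg] at h1
  refine ⟨conjHom (R ⊔ W) x, ⟨sup_le hR hWP, fun a => hle (conj_mem_conjSub a.2), x, fun a => rfl⟩,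
    fun a => ((hg a).trans (hxe a a.2)).symm, ?_⟩
  ext y
  constructor
  · rintro ⟨a, ha, rfl⟩
    have h1 := mem_map_of_mem (MulAut.conj x).toMonoidHom (show (a : G) ∈ W from ha); rwa [hxW] at h1
  · intro hy
    rw [← hxW] at hy
    obtain ⟨a, ha, rfl⟩ := hy
    exact ⟨⟨a, mem_sup_right ha⟩, ha, rfl⟩

/-- For odd `p` a nontrivial fusion system of a `p`-stable group has nontrivial core. -/
theorem group_core_ne_bot_of_pStable {G : Type u} [Group G] [Finite G] (hp : p ≠ 2)
    (hst : IsNormalizerPStable p G) (P : Sylow p G) (hP : (P : Subgroup G) ≠ ⊥) :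
    (groupFusionSystem (P : Subgroup G)).core ≠ ⊥ := by
  intro h
  have hne : Cfsg.centerThompsonAOf (P : Subgroup G) ≠ ⊥ := fun h0 =>
    (centerThompsonComplement.{u} p hp).ne_bot _ P.isPGroup' hP h0
  exact hne (eq_bot_iff.2 (h ▸ IsNormal.le_core (group_isNormal_centerThompson_odd hp hst P)))

end CfsgLib.Fusion
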