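import Cfsg.Agent.Lib.StructC.SylowFibre
import Cfsg.Agent.Lib.Solvable.Products
import Cfsg.Agent.Lib.Char.Burnside
import Cfsg.Agent.Lib.StructB.OrderCount

/-!
A finite group all of whose Sylow numbers are prime powers is soluble.
-/

set_option autoImplicit false
set_option linter.style.haveILetI false

namespace CfsgLib.Coprime

open Subgroup
open scoped Pointwise

universe u

section

variable {G : Type u} [Group G] [Finite G] {p : ℕ} [Fact p.Prime]

/-- The Sylow number of a normal subgroup divides that of the group. -/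
theorem card_sylow_dvd_of_normal (K : Subgroup G) [K.Normal] :
    Nat.card (Sylow p K) ∣ Nat.card (Sylow p G) := by
  classical
  obtain ⟨P⟩ : Nonempty (Sylow p G) := inferInstance
  have hequiv : ∀ (k : K) (Q : Sylow p G), CfsgLib.StructC.infSylow K ((k : G) • Q) =
      k • CfsgLib.StructC.infSylow K Q := by
    intro k Q
    apply Sylow.ext
    rw [CfsgLib.StructC.coe_infSylow, Sylow.coe_subgroup_smul, Sylow.coe_subgroup_smul,
      CfsgLib.StructC.coe_infSylow]
    ext x
    rw [Subgroup.mem_subgroupOf, Subgroup.mem_pointwise_smul_iff_inv_smul_mem,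
      Subgroup.mem_pointwise_smul_iff_inv_smul_mem, Subgroup.mem_subgroupOf]
    simp [MulAut.smul_def]
  refine ⟨_, CfsgLib.StructC.card_eq_mul_fibre (CfsgLib.StructC.infSylow K)
    (CfsgLib.StructC.infSylow K P) fun T => ?_⟩
  obtain ⟨k, hk⟩ := MulAction.exists_smul_eq K (CfsgLib.StructC.infSylow K P) T
  exact ⟨MulAction.toPerm (k : G), fun Q => by
    rw [MulAction.toPerm_apply, hequiv, ← hk, smul_left_cancel_iff]⟩

/-- A subgroup of index prime to `p` contains a Sylow subgroup. -/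
theorem exists_sylow_le_of_index (H : Subgroup G) (h : ¬ p ∣ H.index) :
    ∃ S : Sylow p G, (S : Subgroup G) ≤ H := by
  obtain ⟨S₀⟩ : Nonempty (Sylow p H) := inferInstance
  refine ⟨(S₀.2.map H.subtype).toSylow ?_, ?_⟩
  · rw [index_map_subtype]
    intro hd
    rcases (Fact.out : p.Prime).dvd_mul.1 hd with hd | hd
    · exact S₀.not_dvd_index hd
    · exact h hd
  · rw [IsPGroup.toSylow_coe]
    exact map_subtype_le _

end

/-- In a simple group, a subgroup normalised by one factor is not inside the other proper factor. -/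
theorem eq_top_of_factor {G : Type u} [Group G] [IsSimpleGroup G] {H K X : Subgroup G} (hX : X ≠ ⊥)
    (hHX : H ≤ normalizer (X : Set G)) (hXK : X ≤ K) (hfac : ∀ g : G, ∃ h ∈ H, ∃ k ∈ K, g = h * k) :
    K = ⊤ := by
  have hle : normalClosure (X : Set G) ≤ K := by
    refine (closure_le _).2 fun y hy => ?_
    obtain ⟨x, hx, hxy⟩ := Group.mem_conjugatesOfSet_iff.1 hy
    obtain ⟨g, rfl⟩ := isConj_iff.1 hxy
    obtain ⟨h, hh, k, hk, e⟩ := hfac g⁻¹
    rw [inv_eq_iff_eq_inv.1 e, _root_.mul_inv_rev, _root_.mul_inv_rev, inv_inv, inv_inv,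
      show k⁻¹ * h⁻¹ * x * (h * k) = k⁻¹ * (h⁻¹ * x * h) * k by group]
    refine mul_mem (mul_mem (inv_mem hk) (hXK ?_)) hk
    have := (mem_normalizer_iff.1 (hHX (inv_mem hh)) x).1 hx
    rwa [inv_inv] at this
  rcases Subgroup.Normal.eq_bot_or_eq_top (normalClosure_normal (s := (X : Set G))) with h | h
  · exact absurd (eq_bot_iff.2 ((le_normalClosure (H := X)).trans h.le)) hX
  · exact top_le_iff.1 (h ▸ hle)

theorem isSolvable_of_sylow_numbers_simple {G : Type u} [Group G] [Finite G] [IsSimpleGroup G]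
    (h : ∀ (r : ℕ) [Fact r.Prime], Nat.card (Sylow r G) = 1 ∨ IsPrimePow (Nat.card (Sylow r G))) :
    Group.IsSolvable G := by
  by_contra hns
  have hN : ∀ (r : ℕ) [Fact r.Prime], r ∣ Nat.card G → ∀ P : Sylow r G,
      normalizer ((P : Subgroup G) : Set G) ≠ ⊤ := by
    intro r _ hr P he
    rcases Subgroup.Normal.eq_bot_or_eq_top (normalizer_eq_top_iff.1 he) with h1 | h1
    · exact P.ne_bot_of_dvd_card hr h1
    · haveI := ((h1 ▸ P.2 : IsPGroup r (⊤ : Subgroup G)).of_equiv topEquiv).isNilpotent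
      exact hns inferInstance
  have hidx : ∀ (r : ℕ) [Fact r.Prime] (P : Sylow r G),
      Nat.card (Sylow r G) = (normalizer ((P : Subgroup G) : Set G)).index :=
    fun r _ P => P.card_eq_index_normalizer
  have partner : ∀ (r : ℕ) [Fact r.Prime], r ∣ Nat.card G → ∃ t, t.Prime ∧ t ∣ Nat.card G ∧ t ≠ r ∧
      ∀ P : Sylow r G, ∃ a, (normalizer ((P : Subgroup G) : Set G)).index = t ^ a := by
    intro r _ hr
    obtain ⟨P₀⟩ : Nonempty (Sylow r G) := inferInstance
    have hne : Nat.card (Sylow r G) ≠ 1 := fun he => hN r hr P₀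
      (index_eq_one.1 ((hidx r P₀) ▸ he))
    obtain ⟨t, a, ht, ha, e⟩ := (h r).resolve_left hne
    have ht' := Nat.prime_iff.2 ht
    refine ⟨t, ht', ?_, ?_, fun P => ⟨a, by rw [← hidx r P, e]⟩⟩
    · exact (dvd_pow_self t ha.ne').trans
        (e ▸ (hidx r P₀) ▸ index_dvd_card _)
    · rintro rfl
      exact not_dvd_card_sylow t G (e ▸ dvd_pow_self t ha.ne')
  have sym : ∀ (q t : ℕ) [Fact q.Prime] [Fact t.Prime], q ∣ Nat.card G → t ∣ Nat.card G → t ≠ q →
      (∀ P : Sylow q G, ∃ a, (normalizer ((P : Subgroup G) : Set G)).index = t ^ a) →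
      ∀ P : Sylow t G, ∃ a, (normalizer ((P : Subgroup G) : Set G)).index = q ^ a := by
    intro q t _ _ hq ht htq hpart
    obtain ⟨u, hu, -, hut, hu'⟩ := partner t ht
    by_cases huq : u = q
    · exact huq ▸ hu'
    exfalso
    obtain ⟨T⟩ : Nonempty (Sylow t G) := inferInstance
    obtain ⟨b, hb⟩ := hu' T
    obtain ⟨S, hS⟩ := exists_sylow_le_of_index (p := q) (normalizer ((T : Subgroup G) : Set G))
      (fun hd => huq (((Nat.prime_dvd_prime_iff_eq Fact.out hu).1
        ((Fact.out : q.Prime).dvd_of_dvd_pow (hb ▸ hd))).symm))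
    obtain ⟨a, ha⟩ := hpart S
    exact hN t ht T (eq_top_of_factor (S.ne_bot_of_dvd_card hq) le_rfl hS
      (CfsgLib.Solvable.forall_exists_mul_of_coprime_index (by
        rw [ha, hb]; exact ((Nat.coprime_primes Fact.out hu).2 hut.symm).pow a b)))
  by_cases h1 : Nat.card G = 1
  · haveI := (Nat.card_eq_one_iff_unique.1 h1).1
    exact hns inferInstance
  obtain ⟨q, hq', hqG⟩ := Nat.exists_prime_and_dvd h1
  haveI : Fact q.Prime := ⟨hq'⟩
  obtain ⟨t, ht', htG, htq, hqt⟩ := partner q hqG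
  haveI : Fact t.Prime := ⟨ht'⟩
  have htq' := sym q t hqG htG htq hqt
  refine hns (CfsgLib.StructB.OrderCount.isSolvable_of_two_primes hq' ht' fun r hr hrG => ?_)
  by_contra hne
  push Not at hne
  obtain ⟨hrq, hrt⟩ := hne
  haveI : Fact r.Prime := ⟨hr⟩
  obtain ⟨s, hs, hsG, hsr, hrs⟩ := partner r hrG
  haveI : Fact s.Prime := ⟨hs⟩
  have hsr' := sym r s hrG hsG hsr hrs
  obtain ⟨S⟩ : Nonempty (Sylow q G) := inferInstance
  obtain ⟨T⟩ : Nonempty (Sylow t G) := inferInstance
  obtain ⟨a, ha⟩ := hqt S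
  obtain ⟨b, hb⟩ := htq' T
  have hsq : s ≠ q := by
    rintro rfl
    obtain ⟨c, hc⟩ := hsr' S
    obtain ⟨P₀⟩ : Nonempty (Sylow s G) := inferInstance
    have ha0 : a ≠ 0 := fun h0 => hN s hsG S (index_eq_one.1 (by rw [ha, h0, pow_zero]))
    exact hrt ((Nat.prime_dvd_prime_iff_eq ht' hr).1
      (ht'.dvd_of_dvd_pow (hc ▸ ha ▸ dvd_pow_self t ha0))).symm
  have hst : s ≠ t := by
    rintro rfl
    obtain ⟨c, hc⟩ := hsr' T
    have hb0 : b ≠ 0 := fun h0 => hN s hsG T (index_eq_one.1 (by rw [hb, h0, pow_zero]))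
    exact hrq ((Nat.prime_dvd_prime_iff_eq hq' hr).1
      (hq'.dvd_of_dvd_pow (hc ▸ hb ▸ dvd_pow_self q hb0))).symm
  set K := normalizer ((S : Subgroup G) : Set G) ⊓ normalizer ((T : Subgroup G) : Set G) with hK
  have hKi : K.index = t ^ a * q ^ b := by
    rw [hK, CfsgLib.Solvable.index_inf_of_coprime (by
      rw [ha, hb]; exact ((Nat.coprime_primes ht' hq').2 htq).pow a b), ha, hb]
  obtain ⟨R, hR⟩ := exists_sylow_le_of_index (p := r) K (fun hd => by
    rw [hKi] at hd
    rcases hr.dvd_mul.1 hd with hd | hd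
    · exact hrt ((Nat.prime_dvd_prime_iff_eq hr ht').1 (hr.dvd_of_dvd_pow hd))
    · exact hrq ((Nat.prime_dvd_prime_iff_eq hr hq').1 (hr.dvd_of_dvd_pow hd)))
  obtain ⟨c, hc⟩ := hrs R
  have htop := eq_top_of_factor (R.ne_bot_of_dvd_card hrG) le_rfl hR
    (CfsgLib.Solvable.forall_exists_mul_of_coprime_index (by
      rw [hc, hKi]
      exact Nat.Coprime.mul_right (((Nat.coprime_primes hs ht').2 hst).pow c a)
        (((Nat.coprime_primes hs hq').2 hsq).pow c b)))
  exact hN q hqG S (top_le_iff.1 (htop ▸ inf_le_left))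

/-- A finite group all of whose Sylow numbers are prime powers is soluble. -/
theorem isSolvable_of_sylow_numbers {G : Type u} [Group G] [Finite G]
    (h : ∀ (r : ℕ) [Fact r.Prime], Nat.card (Sylow r G) = 1 ∨ IsPrimePow (Nat.card (Sylow r G))) :
    Group.IsSolvable G := by
  induction hn : Nat.card G using Nat.strong_induction_on generalizing G with
  | _ n ih =>
  subst hn
  have mono : ∀ {m k : ℕ}, m ∣ k → k = 1 ∨ IsPrimePow k → m = 1 ∨ IsPrimePow m := by
    intro m k hmk hk
    by_cases hm : m = 1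
    · exact Or.inl hm
    rcases hk with hk | hk
    · exact absurd (Nat.dvd_one.1 (hk ▸ hmk)) hm
    · exact Or.inr (hk.dvd hmk hm)
  rcases subsingleton_or_nontrivial G with hs | hs
  · infer_instance
  by_cases hsimp : ∀ N : Subgroup G, N.Normal → N = ⊥ ∨ N = ⊤
  · haveI : IsSimpleGroup G := ⟨fun N hN => hsimp N hN⟩
    exact isSolvable_of_sylow_numbers_simple h
  push Not at hsimp
  obtain ⟨N, hN, hNb, hNt⟩ := hsimp
  haveI := hN
  haveI h1 : Group.IsSolvable N := ih _ (by
    rw [← N.card_mul_index]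
    exact lt_mul_of_one_lt_right Nat.card_pos (Nat.lt_of_le_of_ne
      (Nat.pos_of_ne_zero index_ne_zero_of_finite) (fun e => hNt (index_eq_one.1 e.symm))))
    (fun r _ => mono (card_sylow_dvd_of_normal N) (h r)) rfl
  haveI h2 : Group.IsSolvable (G ⧸ N) := ih _ (by
    rw [card_eq_card_quotient_mul_card_subgroup N]
    exact lt_mul_of_one_lt_right Nat.card_pos ((one_lt_card_iff_ne_bot N).2 hNb))
    (fun r _ => by
      obtain ⟨P⟩ : Nonempty (Sylow r G) := inferInstance
      exact mono ⟨_, CfsgLib.StructC.card_sylow_eq_mul_quotient N P⟩ (h r)) rfl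
  exact solvable_of_ker_le_range N.subtype (QuotientGroup.mk' N)
    (by rw [QuotientGroup.ker_mk', range_subtype])

end CfsgLib.Coprime
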