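import Mathlib
import Cfsg.Agent.Lib.Amalgam.DoubleTransp
import Cfsg.Agent.Lib.Perm.PartitionMax

/-!
Maximal subgroups of alternating and symmetric groups containing a given Sylow 2-subgroup.
-/

set_option autoImplicit false
set_option linter.unusedSectionVars false
set_option linter.style.haveILetI false

namespace CfsgLib.Coprime.SylowTwoMaximal

open Equiv Equiv.Perm MulAction
open scoped Pointwise

variable {α : Type*} [Fintype α] [DecidableEq α]

/-- A 2-group fixes a member of every invariant set of odd size. -/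
theorem exists_fixed {β : Type*} {R : Subgroup (Perm α)} (hR : IsPGroup 2 R) (φ : ↥R →* Perm β)
    (X : Finset β) (hodd : Odd X.card) (hX : ∀ r, ∀ x ∈ X, φ r x ∈ X) :
    ∃ x ∈ X, ∀ r, φ r x = x := by
  haveI : Fact (Nat.Prime 2) := ⟨Nat.prime_two⟩
  letI : MulAction ↥R {x // x ∈ X} :=
    { smul := fun r x => ⟨φ r x.1, hX r x.1 x.2⟩
      one_smul := fun x => Subtype.ext (by show φ 1 x.1 = x.1; rw [map_one]; rfl)
      mul_smul := fun r s x => Subtype.ext (by
        show φ (r * s) x.1 = φ r (φ s x.1); rw [map_mul]; rfl) }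
  obtain ⟨x, hx⟩ := hR.nonempty_fixed_point_of_prime_not_dvd_card {x // x ∈ X}
    (by rw [Nat.card_eq_finsetCard]; exact fun h => Nat.not_even_iff_odd.2 hodd (even_iff_two_dvd.2 h))
  exact ⟨x.1, x.2, fun r => congrArg Subtype.val (hx r)⟩

theorem even_swap_swap {a b c d : α} (h : a ≠ b) (h' : c ≠ d) :
    swap a b * swap c d ∈ alternatingGroup α := by
  rw [mem_alternatingGroup, Perm.sign_mul, sign_swap h, sign_swap h']; rfl

theorem smul_compl (g : Perm α) (A : Finset α) : g • Aᶜ = (g • A)ᶜ := by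
  ext x
  simp [Finset.mem_compl, ← Finset.inv_smul_mem_iff]

theorem exists_two_others (hcard : 4 ≤ Fintype.card α) (a b : α) :
    ∃ c d : α, c ≠ d ∧ c ≠ a ∧ c ≠ b ∧ d ≠ a ∧ d ≠ b := by
  have h : 1 < ((Finset.univ : Finset α) \ {a, b}).card := by
    rw [Finset.card_univ_sdiff]
    have : ({a, b} : Finset α).card ≤ 2 := Finset.card_le_two
    omega
  obtain ⟨c, hc, d, hd, hcd⟩ := Finset.one_lt_card.1 h
  simp only [Finset.mem_sdiff, Finset.mem_univ, Finset.mem_insert, Finset.mem_singleton, true_and,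
    not_or] at hc hd
  exact ⟨c, d, hcd, hc.1, hc.2, hd.1, hd.2⟩

/-- Even permutations are transitive on ordered pairs. -/
theorem exists_alt_two (hcard : 4 ≤ Fintype.card α) {p x a b : α} (hpx : p ≠ x) (hab : a ≠ b) :
    ∃ g ∈ alternatingGroup α, g p = a ∧ g x = b := by
  set y := swap p a x with hy
  have hya : y ≠ a := fun e => hpx (by
    have := congrArg (swap p a) e
    rw [hy, swap_apply_self, swap_apply_right] at this
    exact this.symm)
  have h1 : (swap y b * swap p a) p = a := by
    rw [Perm.mul_apply, swap_apply_left, swap_apply_of_ne_of_ne hya.symm hab]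
  have h2 : (swap y b * swap p a) x = b := by rw [Perm.mul_apply, ← hy, swap_apply_left]
  rcases Int.units_eq_one_or (sign (swap y b * swap p a)) with h | h
  · exact ⟨_, mem_alternatingGroup.2 h, h1, h2⟩
  · obtain ⟨c, d, hcd, hca, hcb, hda, hdb⟩ := exists_two_others hcard a b
    refine ⟨swap c d * (swap y b * swap p a), mem_alternatingGroup.2 ?_, ?_, ?_⟩
    · rw [Perm.sign_mul, h, sign_swap hcd]; decide
    · rw [Perm.mul_apply, h1, swap_apply_of_ne_of_ne hca.symm hda.symm]
    · rw [Perm.mul_apply, h2, swap_apply_of_ne_of_ne hcb.symm hdb.symm]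

/-- A subgroup moving `p` whose stabiliser of `p` is transitive on the other points is primitive. -/
theorem isPreprimitive_of_point (K : Subgroup (Perm α)) (p : α) {g : Perm α} (hg : g ∈ K) (hgp : g p ≠ p)
    (hst : ∀ x y, x ≠ p → y ≠ p → ∃ k ∈ K, k p = p ∧ k x = y) : IsPreprimitive K α := by
  have hbase : ∀ x, ∃ k ∈ K, k p = x := fun x => by
    by_cases hx : x = p
    · exact ⟨1, one_mem _, by rw [hx]; rfl⟩
    · obtain ⟨k, hk, -, hk2⟩ := hst (g p) x hgp hx
      exact ⟨k * g, mul_mem hk hg, hk2⟩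
  haveI : IsPretransitive K α := ⟨fun x y => by
    obtain ⟨k, hk, hkx⟩ := hbase x
    obtain ⟨l, hl, hly⟩ := hbase y
    refine ⟨⟨l * k⁻¹, mul_mem hl (inv_mem hk)⟩, ?_⟩
    show (l * k⁻¹) x = y
    rw [← hkx, Perm.mul_apply, ← Perm.mul_apply k⁻¹, inv_mul_cancel, Perm.one_apply, hly]⟩
  refine .of_isTrivialBlock_base p fun {B} hpB hB => ?_
  by_cases hx : ∃ x ∈ B, x ≠ p
  · right
    obtain ⟨x, hxB, hxp⟩ := hx
    refine Set.eq_univ_of_forall fun y => ?_
    by_cases hy : y = p
    · rwa [hy]
    obtain ⟨k, hk, hkp, hkx⟩ := hst x y hxp hy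
    have hfix : (⟨k, hk⟩ : K) • B = B := by
      by_contra hne
      have hd := hB (g₁ := (⟨k, hk⟩ : K)) (g₂ := 1) (by rwa [one_smul])
      rw [one_smul] at hd
      exact hd.le_bot ⟨⟨p, hpB, hkp⟩, hpB⟩
    exact hfix ▸ ⟨x, hxB, hkx⟩
  · left
    push Not at hx
    exact fun a ha b hb => (hx a ha).trans (hx b hb).symm

theorem odd_choose_two_pow : ∀ a n : ℕ, 2 ^ a ≤ n → n < 2 ^ (a + 1) → Odd (n.choose (2 ^ a)) := by
  haveI : Fact (Nat.Prime 2) := ⟨Nat.prime_two⟩
  intro a
  induction a with
  | zero => intro n h1 h2; simp at *; interval_cases n; decide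
  | succ a ih =>
    intro n h1 h2
    have h := Choose.choose_modEq_choose_mod_mul_choose_div_nat (p := 2) (n := n) (k := 2 ^ (a + 1))
    have e1 : 2 ^ (a + 1) % 2 = 0 := by simp [pow_succ]
    have e2 : 2 ^ (a + 1) / 2 = 2 ^ a := by simp [pow_succ]
    rw [e1, e2, Nat.choose_zero_right, one_mul] at h
    have h3 := Nat.odd_iff.1 (ih (n / 2) (by rw [pow_succ] at h1; omega)
      (by rw [pow_succ _ (a + 1)] at h2; omega))
    rw [Nat.odd_iff]
    unfold Nat.ModEq at h
    omega

theorem odd_choose_two_pow_sub_one : ∀ k j : ℕ, j < 2 ^ k → Odd ((2 ^ k - 1).choose j) := by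
  haveI : Fact (Nat.Prime 2) := ⟨Nat.prime_two⟩
  intro k
  induction k with
  | zero => intro j hj; simp at *; simp [hj]
  | succ k ih =>
    intro j hj
    have h := Choose.choose_modEq_choose_mod_mul_choose_div_nat (p := 2) (n := 2 ^ (k + 1) - 1) (k := j)
    have hpos := Nat.two_pow_pos k
    have e1 : (2 ^ (k + 1) - 1) % 2 = 1 := by rw [pow_succ]; omega
    have e2 : (2 ^ (k + 1) - 1) / 2 = 2 ^ k - 1 := by rw [pow_succ]; omega
    have e3 : Nat.choose 1 (j % 2) = 1 := by
      rcases Nat.mod_two_eq_zero_or_one j with e | e <;> rw [e] <;> rfl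
    rw [e1, e2, e3, one_mul] at h
    have h3 := Nat.odd_iff.1 (ih (j / 2) (by rw [pow_succ] at hj; omega))
    rw [Nat.odd_iff]
    unfold Nat.ModEq at h
    omega

theorem odd_doubleFactorial : ∀ m : ℕ, Odd (Nat.doubleFactorial (2 * m + 1))
  | 0 => ⟨0, rfl⟩
  | m + 1 => by
    rw [show 2 * (m + 1) + 1 = (2 * m + 1) + 2 by ring, Nat.doubleFactorial_add_two]
    exact (Nat.odd_iff.2 (by omega)).mul (odd_doubleFactorial m)

/-- A 2-group of even degree centralises a fixed-point-free involution. -/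
theorem exists_fpf_involution {R : Subgroup (Perm α)} (hR : IsPGroup 2 R) {m : ℕ} (hm : 1 ≤ m)
    (hn : Fintype.card α = 2 * m) :
    ∃ σ : Perm α, (∀ x, σ x ≠ x) ∧ (∀ x, σ (σ x) = x) ∧ ∀ r ∈ R, ∀ x, r (σ x) = σ (r x) := by
  classical
  obtain ⟨m', rfl⟩ : ∃ m', m = m' + 1 := ⟨m - 1, by omega⟩
  let M : Multiset ℕ := Multiset.replicate (m' + 1) 2
  have hsum : M.sum = 2 * (m' + 1) := by simp [M]; ring
  let X : Finset (Perm α) := Finset.univ.filter fun g => g.cycleType = M
  have hcount : X.card = Nat.doubleFactorial (2 * m' + 1) := by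
    have h := card_of_cycleType_mul_eq (α := α) M
    rw [if_pos ⟨by omega, fun a ha => by rw [Multiset.eq_of_mem_replicate ha]⟩, hsum, hn] at h
    have e1 : M.toFinset = {2} := by
      show (Multiset.replicate (m' + 1) 2).toFinset = {2}
      rw [Multiset.toFinset_replicate, if_neg (Nat.succ_ne_zero m')]
    have e3 : (2 * (m' + 1)).factorial =
        Nat.doubleFactorial (2 * m' + 1) * (2 ^ (m' + 1) * (m' + 1).factorial) := by
      rw [← Nat.doubleFactorial_two_mul, show 2 * (m' + 1) = (2 * m' + 1) + 1 by ring,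
        Nat.factorial_eq_mul_doubleFactorial, mul_comm]
    rw [e1, Finset.prod_singleton] at h
    simp only [M, Multiset.prod_replicate, Multiset.count_replicate_self, Nat.sub_self,
      Nat.factorial_zero, one_mul] at h
    rw [e3] at h
    exact Nat.eq_of_mul_eq_mul_right (Nat.mul_pos (Nat.two_pow_pos _) (Nat.factorial_pos _)) h
  let φ : ↥R →* Perm (Perm α) := (MulAut.toPerm (Perm α)).comp (MulAut.conj.comp R.subtype)
  obtain ⟨σ, hσ, hfix⟩ := exists_fixed hR φ X (hcount ▸ odd_doubleFactorial m') (fun r x hx => by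
    simp only [X, Finset.mem_filter, Finset.mem_univ, true_and] at hx ⊢
    show ((r : Perm α) * x * (r : Perm α)⁻¹).cycleType = M
    rw [cycleType_conj, hx])
  simp only [X, Finset.mem_filter, Finset.mem_univ, true_and] at hσ
  have hsq : σ * σ = 1 := by
    rw [← sq]
    refine orderOf_dvd_iff_pow_eq_one.1 ?_
    rw [← lcm_cycleType, Multiset.lcm_dvd, hσ]
    exact fun a ha => (Multiset.eq_of_mem_replicate ha) ▸ dvd_rfl
  have hsupp : σ.support = Finset.univ := Finset.eq_univ_of_card _ (by
    rw [← sum_cycleType, hσ, hsum, hn])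
  refine ⟨σ, fun x => mem_support.1 (hsupp ▸ Finset.mem_univ x), fun x => ?_, fun r hr x => ?_⟩
  · rw [← Perm.mul_apply, hsq, Perm.one_apply]
  · have h : r * σ * r⁻¹ = σ := hfix ⟨r, hr⟩
    conv_rhs => rw [← h]
    simp

/-- The even case: two proper subgroups over a 2-group that generate the alternating group. -/
theorem exists_pair_even {G R : Subgroup (Perm α)} (hA : alternatingGroup α ≤ G) (hRG : R ≤ G)
    (hR : IsPGroup 2 R) {m : ℕ} (hm : 3 ≤ m) (hn : Fintype.card α = 2 * m) :
    ∃ H₁ H₂ : Subgroup (Perm α), R ≤ H₁ ∧ R ≤ H₂ ∧ H₁ ≤ G ∧ H₂ ≤ G ∧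
      ¬ alternatingGroup α ≤ H₁ ∧ ¬ alternatingGroup α ≤ H₂ ∧ alternatingGroup α ≤ H₁ ⊔ H₂ := by
  classical
  open CfsgLib.Perm.PartitionMax in
  -- the pairs
  obtain ⟨σ, hσ, hσ2, hcomm⟩ := exists_fpf_involution hR (by omega) hn
  let P : Finset (Finset α) := Finset.univ.image fun x => ({x, σ x} : Finset α)
  let f : α → Fin P.card := fun x => P.equivFin ⟨{x, σ x}, Finset.mem_image_of_mem _ (Finset.mem_univ x)⟩
  have hfeq : ∀ x y, f x = f y ↔ (y = x ∨ y = σ x) := fun x y => by
    simp only [f, EmbeddingLike.apply_eq_iff_eq, Subtype.mk.injEq]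
    constructor
    · intro h
      have : y ∈ ({x, σ x} : Finset α) := h ▸ Finset.mem_insert_self y _
      simpa using this
    · rintro (rfl | rfl)
      · rfl
      · rw [hσ2, Finset.pair_comm]
  have hf : ∀ i, Nat.card {x : α // f x = i} = 2 := fun i => by
    obtain ⟨x, -, hx⟩ := Finset.mem_image.1 (P.equivFin.symm i).2
    have hxi : f x = i := by
      show P.equivFin _ = i
      rw [← Equiv.eq_symm_apply]
      exact Subtype.ext hx
    rw [Nat.card_eq_fintype_card, Fintype.card_subtype, ← Finset.card_pair (hσ x).symm]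
    congr 1
    ext y
    rw [Finset.mem_filter, ← hxi, hfeq y x, Finset.mem_insert, Finset.mem_singleton]
    simp only [Finset.mem_univ, true_and]
    constructor
    · rintro (rfl | rfl)
      · exact Or.inl rfl
      · exact Or.inr (hσ2 y).symm
    · rintro (rfl | rfl)
      · exact Or.inl rfl
      · exact Or.inr (hσ2 x).symm
  have hb : 3 ≤ P.card := by
    have h := Nat.card_congr (Equiv.sigmaFiberEquiv f)
    rw [Nat.card_sigma, Nat.card_eq_fintype_card, hn] at h
    simp only [hf, Finset.sum_const, Finset.card_univ, Fintype.card_fin, smul_eq_mul] at h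
    omega
  have hsurj := surjective f hf le_rfl
  have hRpres : ∀ r ∈ R, Pres f r := fun r hr => pres_of_maps f hsurj fun x y hxy => by
    rw [hfeq] at hxy ⊢
    rcases hxy with rfl | rfl
    · exact Or.inl rfl
    · exact Or.inr (hcomm r hr x)
  have hnot : ∀ x y z : α, x ≠ y → x ≠ z → y ≠ z → ¬ Pres f (swap x y * swap x z) := by
    intro x y z hxy hxz hyz hp
    have h3 := (isThreeCycle_swap_mul_swap_same hxy hxz hyz)
    set c := swap x y * swap x z with hc
    have hsub : c.support ⊆ {x, y, z} := (support_mul_le _ _).trans (sup_le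
      (by rw [support_swap hxy]; intro u; simp; tauto) (by rw [support_swap hxz]; intro u; simp; tauto))
    have hsupp : c.support = {x, y, z} := Finset.eq_of_subset_of_card_le hsub (by
      rw [h3.card_support]; exact Finset.card_le_three)
    have hmate : ∀ u ∈ c.support, σ u ∈ c.support := fun u hu => by
      rw [mem_support] at hu ⊢
      intro hv
      have h1 := (hp u (σ u)).1 ((hfeq _ _).2 (Or.inr rfl))
      rw [hv] at h1
      have h2 := h1.trans ((hfeq u (σ u)).2 (Or.inr rfl)).symm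
      rcases (hfeq _ _).1 h2.symm with h | h
      · exact hu h
      · exact hσ u (c.injective (hv.trans h.symm))
    rw [hsupp] at hmate
    have h1 := hmate x (by simp)
    have h2 := hmate y (by simp)
    have h3' := hmate z (by simp)
    simp only [Finset.mem_insert, Finset.mem_singleton] at h1 h2 h3'
    rcases h1 with h | h | h
    · exact hσ x h
    · rcases h3' with e | e | e
      · exact hyz (by rw [← h, ← e, hσ2])
      · exact hxz (σ.injective (h.trans e.symm))
      · exact hσ z e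
    · rcases h2 with e | e | e
      · exact hyz (by rw [← h, ← e, hσ2])
      · exact hσ y e
      · exact hxy (σ.injective (h.trans e.symm))
  -- the set
  let φ : ↥R →* Perm (Finset (Finset α)) := (MulAction.toPermHom (Perm α) _).comp R.subtype
  have hA' : ∃ A : Finset α, 3 ≤ A.card ∧ A.card < Fintype.card α ∧
      ∀ r ∈ R, r • ({A, Aᶜ} : Finset (Finset α)) = {A, Aᶜ} := by
    set a := Nat.log 2 (2 * m) with ha
    have hlo : 2 ^ a ≤ 2 * m := Nat.pow_log_le_self 2 (by omega)
    have hhi : 2 * m < 2 ^ (a + 1) := Nat.lt_pow_succ_log_self (by norm_num) _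
    have ha2 : 2 ≤ a := Nat.le_log_of_pow_le (by norm_num) (by omega)
    have h4 : 4 ≤ 2 ^ a := by
      calc 4 = 2 ^ 2 := rfl
        _ ≤ 2 ^ a := Nat.pow_le_pow_right (by norm_num) ha2
    rcases hlo.lt_or_eq with hlt | heq
    · let ψ : ↥R →* Perm (Finset α) := (MulAction.toPermHom (Perm α) _).comp R.subtype
      obtain ⟨A, hA, hfix⟩ := exists_fixed hR ψ (Finset.univ.powersetCard (2 ^ a))
        (by rw [Finset.card_powersetCard, Finset.card_univ, hn]; exact odd_choose_two_pow a _ hlo hhi)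
        (fun r A hA => by
          rw [Finset.mem_powersetCard] at hA ⊢
          exact ⟨Finset.subset_univ _, by
            show ((r : Perm α) • A).card = _; rw [Finset.card_smul_finset, hA.2]⟩)
      rw [Finset.mem_powersetCard] at hA
      refine ⟨A, by omega, by omega, fun r hr => ?_⟩
      have e : r • A = A := hfix ⟨r, hr⟩
      rw [Finset.smul_finset_insert, Finset.smul_finset_singleton, smul_compl, e]
    · obtain ⟨z⟩ : Nonempty α := Fintype.card_pos_iff.1 (by omega)
      let Y : Finset (Finset α) := (Finset.univ.powersetCard m).filter fun A => z ∈ A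
      let X : Finset (Finset (Finset α)) := Y.image fun A => {A, Aᶜ}
      have hY : Odd Y.card := by
        have hco : Y = ((Finset.univ.erase z).powersetCard (m - 1)).image (insert z) := by
          ext A
          simp only [Y, Finset.mem_filter, Finset.mem_powersetCard, Finset.mem_image,
            Finset.subset_univ, true_and]
          constructor
          · rintro ⟨hA, hz⟩
            exact ⟨A.erase z, ⟨Finset.erase_subset_erase z (Finset.subset_univ A),
              by rw [Finset.card_erase_of_mem hz, hA]⟩, Finset.insert_erase hz⟩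
          · rintro ⟨B, ⟨hB, hBc⟩, rfl⟩
            have hz : z ∉ B := fun h => (Finset.mem_erase.1 (hB h)).1 rfl
            exact ⟨by rw [Finset.card_insert_of_notMem hz, hBc]; omega, Finset.mem_insert_self _ _⟩
        rw [hco, Finset.card_image_of_injOn, Finset.card_powersetCard,
          Finset.card_erase_of_mem (Finset.mem_univ z), Finset.card_univ, hn, ← heq]
        · exact odd_choose_two_pow_sub_one _ _ (by omega)
        · intro B hB C hC e
          simp only [Finset.mem_coe, Finset.mem_powersetCard] at hB hC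
          have hzB : z ∉ B := fun h => (Finset.mem_erase.1 (hB.1 h)).1 rfl
          have hzC : z ∉ C := fun h => (Finset.mem_erase.1 (hC.1 h)).1 rfl
          rw [← Finset.erase_insert hzB, ← Finset.erase_insert hzC]
          exact congrArg (fun S => S.erase z) e
      have hXc : X.card = Y.card := Finset.card_image_of_injOn fun A hA B hB e => by
        simp only [Y, Finset.mem_coe, Finset.mem_filter] at hA hB
        have : A ∈ ({B, Bᶜ} : Finset (Finset α)) := (show _ = _ from e) ▸ Finset.mem_insert_self A _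
        simp only [Finset.mem_insert, Finset.mem_singleton] at this
        rcases this with h | h
        · exact h
        · exact absurd hB.2 (Finset.mem_compl.1 (h ▸ hA.2))
      obtain ⟨P', hP', hfix⟩ := exists_fixed hR φ X (hXc ▸ hY) (fun r P' hP' => by
        simp only [X, Finset.mem_image] at hP' ⊢
        obtain ⟨A, hA, rfl⟩ := hP'
        simp only [Y, Finset.mem_filter, Finset.mem_powersetCard, Finset.subset_univ, true_and] at hA ⊢
        have hcA : ((r : Perm α) • A).card = m := by rw [Finset.card_smul_finset, hA.1]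
        have himg : φ r {A, Aᶜ} = {(r : Perm α) • A, ((r : Perm α) • A)ᶜ} := by
          show (r : Perm α) • ({A, Aᶜ} : Finset (Finset α)) = _
          rw [Finset.smul_finset_insert, Finset.smul_finset_singleton, smul_compl]
        by_cases hz : z ∈ (r : Perm α) • A
        · exact ⟨_, ⟨hcA, hz⟩, himg.symm⟩
        · refine ⟨((r : Perm α) • A)ᶜ, ⟨?_, Finset.mem_compl.2 hz⟩, ?_⟩
          · rw [Finset.card_compl, hcA, hn]; omega
          · rw [himg, compl_compl, Finset.pair_comm])
      obtain ⟨A, hA, rfl⟩ := Finset.mem_image.1 hP'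
      simp only [Y, Finset.mem_filter, Finset.mem_powersetCard] at hA
      exact ⟨A, by omega, by omega, fun r hr => hfix ⟨r, hr⟩⟩
  obtain ⟨A, hA3, hAn, hAR⟩ := hA'
  obtain ⟨x, y, z, hxA, hyA, hzA, hxy, hxz, hyz⟩ := Finset.two_lt_card_iff.1 (show 2 < A.card by omega)
  let c : Perm α := swap x y * swap x z
  let Q : Finset (Finset α) := {A, Aᶜ}
  have hswap : ∀ u v, u ∈ A → v ∈ A → swap u v • A = A := fun u v hu hv => by
    refine Finset.eq_of_subset_of_card_le (fun w hw => ?_) (Finset.card_smul_finset _ _).ge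
    obtain ⟨w', hw', rfl⟩ := Finset.mem_smul_finset.1 hw
    show swap u v w' ∈ A
    rw [swap_apply_def]
    split_ifs <;> assumption
  refine ⟨G ⊓ Subgroup.closure {g | Pres f g}, G ⊓ MulAction.stabilizer (Perm α) Q,
    le_inf hRG fun r hr => Subgroup.subset_closure (hRpres r hr), le_inf hRG fun r hr => hAR r hr,
    inf_le_left, inf_le_left, fun h => ?_, fun h => ?_, ?_⟩
  · exact hnot x y z hxy hxz hyz (pres_of_mem_closure f (h (even_swap_swap hxy hxz)).2)
  · obtain ⟨u, hu⟩ : ∃ u, u ∉ A := by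
      by_contra hc
      push Not at hc
      rw [Finset.eq_univ_iff_forall.2 hc, Finset.card_univ] at hAn
      omega
    have hux : u ≠ x := fun e => hu (e ▸ hxA)
    have huy : u ≠ y := fun e => hu (e ▸ hyA)
    have huz : u ≠ z := fun e => hu (e ▸ hzA)
    set d := swap x u * swap x y with hd
    have hmem : d • A ∈ Q := by
      have e : d • Q = Q := (h (even_swap_swap hux.symm hxy)).2
      rw [← e]
      exact Finset.smul_mem_smul_finset (Finset.mem_insert_self _ _)
    simp only [Q, Finset.mem_insert, Finset.mem_singleton] at hmem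
    have hdy : d y = u := by rw [hd, Perm.mul_apply, swap_apply_right, swap_apply_left]
    have hdz : d z = z := by
      rw [hd, Perm.mul_apply, swap_apply_of_ne_of_ne hxz.symm hyz.symm,
        swap_apply_of_ne_of_ne hxz.symm huz.symm]
    rcases hmem with e | e
    · have h1 : d y ∈ d • A := Finset.smul_mem_smul_finset hyA
      rw [e, hdy] at h1
      exact hu h1
    · have h1 : d z ∈ d • A := Finset.smul_mem_smul_finset hzA
      rw [e, hdz, Finset.mem_compl] at h1
      exact h1 hzA
  · set K := (G ⊓ Subgroup.closure {g | Pres f g}) ⊔ (G ⊓ MulAction.stabilizer (Perm α) Q)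
    have hcA : c • A = A := by
      show (swap x y * swap x z) • A = A
      rw [mul_smul, hswap x z hxA hzA, hswap x y hxA hyA]
    have hc : c ∈ K := by
      refine Subgroup.mem_sup_right ⟨hA (even_swap_swap hxy hxz), ?_⟩
      show c • Q = Q
      rw [Finset.smul_finset_insert, Finset.smul_finset_singleton, smul_compl, hcA]
    have hK : ∀ g, Pres f g → sign g = 1 → g ∈ K := fun g hg hs =>
      Subgroup.mem_sup_left ⟨hA (mem_alternatingGroup.2 hs), Subgroup.subset_closure hg⟩
    exact alternatingGroup_le_of_isPreprimitive_of_isThreeCycle_mem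
      (isPreprimitive f hf hK le_rfl (by omega) (Or.inr hb) hc (hnot x y z hxy hxz hyz))
      (isThreeCycle_swap_mul_swap_same hxy hxz hyz) hc

/-- The odd case, when the degree minus one is not a power of two. -/
theorem exists_pair_odd {G R : Subgroup (Perm α)} (hA : alternatingGroup α ≤ G) (hRG : R ≤ G)
    (hR : IsPGroup 2 R) {m : ℕ} (hm : 2 ≤ m) (hn : Fintype.card α = 2 * m + 1)
    (hne : ¬ ∃ k, 2 ≤ k ∧ Fintype.card α = 2 ^ k + 1) :
    ∃ H₁ H₂ : Subgroup (Perm α), R ≤ H₁ ∧ R ≤ H₂ ∧ H₁ ≤ G ∧ H₂ ≤ G ∧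
      ¬ alternatingGroup α ≤ H₁ ∧ ¬ alternatingGroup α ≤ H₂ ∧ alternatingGroup α ≤ H₁ ⊔ H₂ := by
  classical
  obtain ⟨p, -, hp⟩ := exists_fixed hR R.subtype Finset.univ (by rw [Finset.card_univ, hn]; exact ⟨m, rfl⟩)
    (fun _ _ _ => Finset.mem_univ _)
  set a := Nat.log 2 (2 * m) with ha
  have hlo : 2 ^ a ≤ 2 * m := Nat.pow_log_le_self 2 (by omega)
  have hhi : 2 * m < 2 ^ (a + 1) := Nat.lt_pow_succ_log_self (by norm_num) _
  have ha2 : 2 ≤ a := Nat.le_log_of_pow_le (by norm_num) (by omega)
  have hlt : 2 ^ a + 2 ≤ 2 * m := by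
    have hne' : 2 ^ a ≠ 2 * m := fun e => hne ⟨a, ha2, by omega⟩
    obtain ⟨a', ha'⟩ : ∃ a', a = a' + 1 := ⟨a - 1, by omega⟩
    rw [ha', pow_succ] at hlo hne' ⊢
    omega
  let ψ : ↥R →* Perm (Finset α) := (MulAction.toPermHom (Perm α) _).comp R.subtype
  obtain ⟨A, hA', hfix⟩ := exists_fixed hR ψ ((Finset.univ.erase p).powersetCard (2 ^ a))
    (by rw [Finset.card_powersetCard, Finset.card_erase_of_mem (Finset.mem_univ p), Finset.card_univ,
          hn, Nat.add_sub_cancel]; exact odd_choose_two_pow a _ hlo hhi)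
    (fun r A hA' => by
      rw [Finset.mem_powersetCard] at hA' ⊢
      refine ⟨fun w hw => ?_, by show ((r : Perm α) • A).card = _; rw [Finset.card_smul_finset, hA'.2]⟩
      obtain ⟨w', hw', rfl⟩ := Finset.mem_smul_finset.1 (show w ∈ (r : Perm α) • A from hw)
      exact Finset.mem_erase.2 ⟨fun e => (Finset.mem_erase.1 (hA'.1 hw')).1
        ((r : Perm α).injective (e.trans (hp r).symm)), Finset.mem_univ _⟩)
  rw [Finset.mem_powersetCard] at hA'
  have hpA : p ∉ A := fun h => (Finset.mem_erase.1 (hA'.1 h)).1 rfl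
  obtain ⟨u, v, hu, hv, huv⟩ := Finset.one_lt_card_iff.1 (show 1 < (Finset.univ.erase p \ A).card by
    rw [Finset.card_sdiff_of_subset hA'.1, Finset.card_erase_of_mem (Finset.mem_univ p),
      Finset.card_univ, hn, hA'.2]; omega)
  simp only [Finset.mem_sdiff, Finset.mem_erase, Finset.mem_univ, and_true] at hu hv
  obtain ⟨x, hx⟩ := Finset.card_pos.1 (show 0 < A.card by rw [hA'.2]; exact Nat.two_pow_pos a)
  have hswap : ∀ s t, s ∉ A → t ∉ A → swap s t • A = A := fun s t hs ht => by
    refine Finset.eq_of_subset_of_card_le (fun w hw => ?_) (Finset.card_smul_finset _ _).ge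
    obtain ⟨w', hw', rfl⟩ := Finset.mem_smul_finset.1 hw
    show swap s t w' ∈ A
    rw [swap_apply_of_ne_of_ne (by rintro rfl; exact hs hw') (by rintro rfl; exact ht hw')]
    exact hw'
  have hcard : 4 ≤ Fintype.card α := by omega
  refine ⟨G ⊓ MulAction.stabilizer (Perm α) p, G ⊓ MulAction.stabilizer (Perm α) A,
    le_inf hRG fun r hr => hp ⟨r, hr⟩, le_inf hRG fun r hr => hfix ⟨r, hr⟩, inf_le_left, inf_le_left,
    fun h => ?_, fun h => ?_, ?_⟩
  · obtain ⟨g, hg, hgp, -⟩ := exists_alt_two hcard (p := p) (x := x) (fun e => hpA (e ▸ hx))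
      (Ne.symm huv)
    exact hv.1 (hgp.symm.trans (show g p = p from (h hg).2))
  · obtain ⟨g, hg, hgx, -⟩ := exists_alt_two hcard (p := x) (x := p) (fun e => hpA (e ▸ hx))
      (Ne.symm huv)
    have e : g • A = A := (h hg).2
    have h1 : g x ∈ g • A := Finset.smul_mem_smul_finset hx
    rw [hgx, e] at h1
    exact hv.2 h1
  · set K := (G ⊓ MulAction.stabilizer (Perm α) p) ⊔ (G ⊓ MulAction.stabilizer (Perm α) A)
    have hpu : p ≠ u := fun e => hu.1 e.symm
    have hpv : p ≠ v := fun e => hv.1 e.symm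
    set c := swap p u * swap p v with hc
    have hcA : c • A = A := by rw [hc, mul_smul, hswap p v hpA hv.2, hswap p u hpA hu.2]
    have hcK : c ∈ K := Subgroup.mem_sup_right ⟨hA (even_swap_swap hpu hpv), hcA⟩
    have hcp : c p ≠ p := by
      rw [hc, Perm.mul_apply, swap_apply_left, swap_apply_of_ne_of_ne hpv.symm huv.symm]
      exact hpv.symm
    refine alternatingGroup_le_of_isPreprimitive_of_isThreeCycle_mem
      (isPreprimitive_of_point K p hcK hcp fun s t hs ht => ?_)
      (isThreeCycle_swap_mul_swap_same hpu hpv huv) hcK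
    obtain ⟨g, hg, hgp, hgs⟩ := exists_alt_two hcard (Ne.symm hs) (Ne.symm ht)
    exact ⟨g, Subgroup.mem_sup_left ⟨hA hg, hgp⟩, hgp, hgs⟩

/-- Every 2-subgroup of `G` has a conjugate inside a given 2-subgroup of odd index. -/
theorem exists_conj_into {G R Q : Subgroup (Perm α)} (hRG : R ≤ G) (hR : IsPGroup 2 R)
    (hodd : ¬ 2 ∣ R.relIndex G) (hQG : Q ≤ G) (hQ : IsPGroup 2 Q) :
    ∃ g ∈ G, ∀ q ∈ Q, g * q * g⁻¹ ∈ R := by
  haveI : Fact (Nat.Prime 2) := ⟨Nat.prime_two⟩
  obtain ⟨T, hT⟩ := (hQ.comap_of_injective G.subtype G.subtype_injective).exists_le_sylow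
  let S : Sylow 2 G := (hR.comap_of_injective G.subtype G.subtype_injective).toSylow hodd
  obtain ⟨g, hg⟩ := exists_smul_eq G T S
  refine ⟨g, g.2, fun q hq => ?_⟩
  have h1 : (⟨q, hQG hq⟩ : G) ∈ (T : Subgroup G) := hT hq
  have h2 : g * ⟨q, hQG hq⟩ * g⁻¹ ∈ ((g • T : Sylow 2 G) : Subgroup G) :=
    ⟨_, h1, rfl⟩
  rw [hg] at h2
  exact h2

/-- A Sylow 2-subgroup in degree `2 ^ k + 1` is transitive off its fixed point. -/
theorem transitive_off_point {G R : Subgroup (Perm α)} (hA : alternatingGroup α ≤ G) (hRG : R ≤ G)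
    (hodd : ¬ 2 ∣ R.relIndex G) {k : ℕ} (hk : 2 ≤ k) (hn : Fintype.card α = 2 ^ k + 1) {p : α}
    (hp : ∀ r ∈ R, r p = p) (x y : α) (hx : x ≠ p) (hy : y ≠ p) : ∃ r ∈ R, r x = y := by
  classical
  have h4 : 4 ≤ Fintype.card α := by
    have : 2 ^ 2 ≤ 2 ^ k := Nat.pow_le_pow_right (by norm_num) hk
    omega
  set P : Subgroup (Perm α) := MulAction.stabilizer (Perm α) p ⊓ MulAction.stabilizer (Perm α) x
  have hPG : (G ⊓ P).relIndex G = (2 ^ k + 1) * 2 ^ k := by
    have e : (G ⊓ P).subgroupOf G = MulAction.stabilizer G ((p, x) : α × α) := by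
      ext g
      simp [P, Subgroup.mem_subgroupOf, MulAction.mem_stabilizer_iff, Prod.smul_def, Subgroup.smul_def]
    rw [Subgroup.relIndex, e, MulAction.index_stabilizer]
    have e2 : MulAction.orbit G ((p, x) : α × α) = ↑((Finset.univ : Finset α).offDiag) := by
      ext ⟨a, b⟩
      simp only [MulAction.mem_orbit_iff, Finset.mem_coe, Finset.mem_offDiag, Finset.mem_univ, true_and]
      constructor
      · rintro ⟨g, hg⟩ e
        simp only [Prod.smul_mk, Prod.mk.injEq] at hg
        exact hx ((g : Perm α).injective ((hg.2.trans e.symm).trans hg.1.symm))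
      · intro hab
        obtain ⟨g, hg, h1, h2⟩ := exists_alt_two h4 hx.symm hab
        exact ⟨⟨g, hA hg⟩, Prod.ext h1 h2⟩
    rw [e2, Set.ncard_coe_finset, Finset.offDiag_card, Finset.card_univ, hn]
    rw [Nat.mul_add (2 ^ k + 1) (2 ^ k) 1, mul_one]
    omega
  have h1 := Subgroup.relIndex_mul_relIndex (R ⊓ P) R G inf_le_left hRG
  have h2 := Subgroup.relIndex_mul_relIndex (R ⊓ P) (G ⊓ P) G (inf_le_inf_right P hRG) inf_le_left
  have h3 : 2 ^ k ∣ (R ⊓ P).relIndex R * R.relIndex G := by
    rw [h1, ← h2, hPG, ← mul_assoc]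
    exact dvd_mul_left _ _
  have h5 : 2 ^ k ∣ (R ⊓ P).relIndex R := by
    refine Nat.Coprime.dvd_of_dvd_mul_right ?_ h3
    exact Nat.Coprime.pow_left k (Nat.prime_two.coprime_iff_not_dvd.2 hodd)
  have e3 : (R ⊓ P).subgroupOf R = MulAction.stabilizer R x := by
    ext r
    simp [P, Subgroup.mem_subgroupOf, MulAction.mem_stabilizer_iff, Subgroup.smul_def, hp r.1 r.2]
  rw [Subgroup.relIndex, e3, MulAction.index_stabilizer] at h5
  have hsub : MulAction.orbit R x ⊆ ↑(Finset.univ.erase p) := by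
    rintro w ⟨r, rfl⟩
    exact Finset.mem_coe.2 (Finset.mem_erase.2 ⟨fun e => hx ((r : Perm α).injective
      ((show (r : Perm α) x = p from e).trans (hp r.1 r.2).symm)), Finset.mem_univ _⟩)
  have hpos : 0 < (MulAction.orbit R x).ncard :=
    (Set.ncard_pos (Set.toFinite _)).2 ⟨x, MulAction.mem_orbit_self x⟩
  have hle := Nat.le_of_dvd hpos h5
  have heq : MulAction.orbit R x = ↑(Finset.univ.erase p) :=
    Set.eq_of_subset_of_ncard_le hsub (by
      rw [Set.ncard_coe_finset, Finset.card_erase_of_mem (Finset.mem_univ p), Finset.card_univ, hn]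
      omega) (Set.toFinite _)
  have : y ∈ MulAction.orbit R x := heq ▸ Finset.mem_coe.2 (Finset.mem_erase.2 ⟨hy, Finset.mem_univ _⟩)
  obtain ⟨r, hr⟩ := this
  exact ⟨r.1, r.2, hr⟩

/-- A Sylow 2-subgroup contains all double transpositions of some family of disjoint pairs. -/
theorem exists_pairs {G R : Subgroup (Perm α)} (hA : alternatingGroup α ≤ G) (hRG : R ≤ G)
    (hR : IsPGroup 2 R) (hodd : ¬ 2 ∣ R.relIndex G) {m : ℕ} (hn : Fintype.card α = 2 * m + 1) :
    ∃ ι : Fin m × Bool ↪ α, ∀ i j, i ≠ j →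
      swap (ι (i, false)) (ι (i, true)) * swap (ι (j, false)) (ι (j, true)) ∈ R := by
  classical
  obtain ⟨ι⟩ : Nonempty (Fin m × Bool ↪ α) := Function.Embedding.nonempty_of_card_le (by simp; omega)
  let f : α → Option (Fin m) := Function.extend ι (fun t => some t.1) fun _ => none
  have hι : ∀ t, f (ι t) = some t.1 := fun t => ι.injective.extend_apply _ _ t
  let Q₀ : Subgroup (Perm α) :=
    { carrier := {g | ∀ x, f (g x) = f x}
      one_mem' := fun _ => rfl
      mul_mem' := fun {g h} hg hh x => (hg (h x)).trans (hh x)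
      inv_mem' := fun {g} hg x => by
        have := hg (g⁻¹ x)
        rwa [← Perm.mul_apply, mul_inv_cancel, Perm.one_apply, eq_comm] at this }
  have hout : ∀ x y : α, x ∉ Set.range ι → y ∉ Set.range ι → x = y := by
    intro x y hx hy
    by_contra hne
    have hle : (Finset.univ.image ι) ⊆ Finset.univ \ {x, y} := fun w hw => by
      obtain ⟨t, -, rfl⟩ := Finset.mem_image.1 hw
      simp only [Finset.mem_sdiff, Finset.mem_univ, Finset.mem_insert, Finset.mem_singleton, true_and,
        not_or]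
      exact ⟨fun e => hx ⟨t, e⟩, fun e => hy ⟨t, e⟩⟩
    have := Finset.card_le_card hle
    rw [Finset.card_image_of_injective _ ι.injective, Finset.card_univ_sdiff, Finset.card_pair hne, hn] at this
    simp only [Finset.card_univ, Fintype.card_prod, Fintype.card_fin, Fintype.card_bool] at this
    have := Fintype.one_lt_card_iff.2 ⟨x, y, hne⟩
    omega
  have hsq : ∀ q ∈ Q₀, q * q = 1 := fun q hq => Equiv.ext fun x => by
    rw [Perm.mul_apply, Perm.one_apply]
    by_cases hx : q x = x
    · rw [hx, hx]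
    have h1 : f (q x) = f x := hq x
    have h2 : f (q (q x)) = f x := (hq _).trans h1
    by_cases hr : x ∈ Set.range ι
    · obtain ⟨⟨i, s⟩, rfl⟩ := hr
      rw [hι] at h1 h2
      have hin : ∀ w, f w = some i → ∃ t, ι (i, t) = w := fun w hw => by
        by_cases h : w ∈ Set.range ι
        · obtain ⟨⟨j, t⟩, rfl⟩ := h
          rw [hι] at hw
          obtain rfl : j = i := Option.some.inj hw
          exact ⟨t, rfl⟩
        · rw [show f w = none from Function.extend_apply' _ _ _ fun ⟨t, ht⟩ => h ⟨t, ht⟩] at hw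
          exact absurd hw (by simp)
      obtain ⟨t, ht⟩ := hin _ h1
      obtain ⟨t', ht'⟩ := hin _ h2
      have hts : t ≠ s := fun e => hx (by rw [← ht, e])
      have ht't : t' ≠ t := fun e => hx (q.injective (ht'.symm.trans (by rw [e, ht])))
      rw [← ht', show t' = s by revert hts ht't; cases t <;> cases t' <;> cases s <;> simp]
    · refine hout _ _ ?_ hr
      rintro ⟨t, ht⟩
      rw [← ht, hι, show f x = none from Function.extend_apply' _ _ _ fun ⟨t, ht⟩ => hr ⟨t, ht⟩] at h2
      exact absurd h2 (by simp)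
  obtain ⟨g, -, hg⟩ := exists_conj_into (Q := G ⊓ Q₀) hRG hR hodd inf_le_left (fun q => ⟨1, Subtype.ext (by
    rw [pow_one, pow_two]; exact hsq _ q.2.2)⟩)
  refine ⟨ι.trans g.toEmbedding, fun i j hij => ?_⟩
  have hne : ∀ l, ι (l, false) ≠ ι (l, true) := fun l e => Bool.noConfusion (Prod.mk.inj (ι.injective e)).2
  have hQ0 : ∀ l, swap (ι (l, false)) (ι (l, true)) ∈ Q₀ := fun l w => by
    rw [swap_apply_def]
    split_ifs with h1 h2
    · rw [h1, hι, hι]
    · rw [h2, hι, hι]
    · rfl
  have := hg _ ⟨hA (even_swap_swap (hne i) (hne j)), Q₀.mul_mem (hQ0 i) (hQ0 j)⟩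
  show swap (g (ι (i, false))) (g (ι (i, true))) * swap (g (ι (j, false))) (g (ι (j, true))) ∈ R
  rw [← CfsgLib.Amalgam.conj_swap, ← CfsgLib.Amalgam.conj_swap]
  convert this using 1
  group

/-- Degree at least nine: a transitive overgroup contains a 3-cycle. -/
theorem exists_threeCycle {G R K : Subgroup (Perm α)} (hA : alternatingGroup α ≤ G) (hRG : R ≤ G)
    (hR : IsPGroup 2 R) (hodd : ¬ 2 ∣ R.relIndex G) (hRK : R ≤ K) [IsPretransitive K α] {m : ℕ}
    (hm : 4 ≤ m) (hn : Fintype.card α = 2 * m + 1) : ∃ c ∈ K, c.IsThreeCycle := by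
  classical
  open CfsgLib.Amalgam in
  obtain ⟨ι, hι⟩ := exists_pairs hA hRG hR hodd hn
  obtain ⟨z, hz⟩ : ∃ z, z ∉ Finset.univ.image ι := by
    obtain ⟨z, -, hz⟩ := Finset.exists_mem_notMem_of_card_lt_card (s := Finset.univ.image ι)
      (t := Finset.univ) (by rw [Finset.card_image_of_injective _ ι.injective]; simp; omega)
    exact ⟨z, hz⟩
  have hne : ∀ i j (s t : Bool), i ≠ j ∨ s ≠ t → ι (i, s) ≠ ι (j, t) := fun i j s t h e => by
    have := Prod.mk.inj (ι.injective e)
    tauto
  have hDT : ∀ i j, i ≠ j → IsDT (swap (ι (i, false)) (ι (i, true)) * swap (ι (j, false)) (ι (j, true))) :=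
    fun i j h => ⟨_, _, _, _, hne _ _ _ _ (Or.inr (by decide)), hne _ _ _ _ (Or.inr (by decide)),
      hne _ _ _ _ (Or.inl h), hne _ _ _ _ (Or.inl h), hne _ _ _ _ (Or.inl h), hne _ _ _ _ (Or.inl h), rfl⟩
  let i0 : Fin m := ⟨0, by omega⟩
  let i1 : Fin m := ⟨1, by omega⟩
  have h01 : i0 ≠ i1 := by simp [i0, i1]
  obtain ⟨⟨g, hgK⟩, hg⟩ := exists_smul_eq K (ι (i0, false)) z
  set d := g * (swap (ι (i0, false)) (ι (i0, true)) * swap (ι (i1, false)) (ι (i1, true))) * g⁻¹
  have hd : IsDT d := (hDT _ _ h01).conj g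
  have hdK : d ∈ K := mul_mem (mul_mem hgK (hRK (hι _ _ h01))) (inv_mem hgK)
  have hzd : z ∈ d.support := by
    rw [← (show g (ι (i0, false)) = z from hg), mem_support]
    simp only [d, Perm.mul_apply, ← Perm.mul_apply g⁻¹ g, inv_mul_cancel, Perm.one_apply]
    intro e
    rw [swap_apply_of_ne_of_ne (hne _ _ _ _ (Or.inl h01)) (hne _ _ _ _ (Or.inl h01)), swap_apply_left] at e
    exact hne _ _ _ _ (Or.inr (by decide)) (g.injective e).symm
  let S : Finset (Fin m × Bool) := Finset.univ.filter fun t => ι t ∈ d.support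
  have hS : S.card = 3 := by
    have e : S.image ι = d.support.erase z := by
      ext w
      simp only [S, Finset.mem_image, Finset.mem_filter, Finset.mem_univ, true_and, Finset.mem_erase]
      constructor
      · rintro ⟨t, ht, rfl⟩
        exact ⟨fun e => hz (e ▸ Finset.mem_image_of_mem _ (Finset.mem_univ t)), ht⟩
      · rintro ⟨hwz, hw⟩
        have hwr : w ∈ Finset.univ.image ι := by
          by_contra hwr
          have hle : (Finset.univ.image ι) ⊆ Finset.univ \ {w, z} := fun u hu => by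
            simp only [Finset.mem_sdiff, Finset.mem_univ, Finset.mem_insert, Finset.mem_singleton,
              true_and, not_or]
            exact ⟨fun e => hwr (e ▸ hu), fun e => hz (e ▸ hu)⟩
          have := Finset.card_le_card hle
          rw [Finset.card_image_of_injective _ ι.injective, Finset.card_univ_sdiff,
            Finset.card_pair hwz, hn] at this
          simp at this
          omega
        obtain ⟨t, -, rfl⟩ := Finset.mem_image.1 hwr
        exact ⟨t, hw, rfl⟩
    rw [← Finset.card_image_of_injective S ι.injective, e, Finset.card_erase_of_mem hzd, hd.card_support]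
  have hsum : S.card = ∑ i : Fin m, (S.filter fun t => t.1 = i).card :=
    Finset.card_eq_sum_card_fiberwise fun t _ => Finset.mem_univ _
  obtain ⟨i, hi⟩ : ∃ i, (S.filter fun t => t.1 = i).card = 1 := by
    by_contra hno
    push Not at hno
    have heven : Even S.card := by
      rw [hsum]
      refine Finset.even_sum _ fun i _ => ?_
      have h2 : (S.filter fun t => t.1 = i).card ≤ 2 := by
        calc _ ≤ ((Finset.univ : Finset Bool).image fun s => (i, s)).card :=
              Finset.card_le_card fun t ht => Finset.mem_image.2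
                ⟨t.2, Finset.mem_univ _, by rw [← (Finset.mem_filter.1 ht).2]⟩
          _ ≤ 2 := Finset.card_image_le.trans (by simp)
      rcases (show (S.filter fun t => t.1 = i).card = 0 ∨ (S.filter fun t => t.1 = i).card = 2 by
        have := hno i; omega) with h | h <;> rw [h] <;> decide
    rw [hS] at heven
    exact absurd heven (by decide)
  obtain ⟨j, hj⟩ : ∃ j, ∀ t ∈ S, t.1 ≠ j := by
    obtain ⟨j, -, hj⟩ := Finset.exists_mem_notMem_of_card_lt_card (s := S.image Prod.fst)
      (t := (Finset.univ : Finset (Fin m)))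
      (Finset.card_image_le.trans_lt (by rw [hS, Finset.card_univ, Fintype.card_fin]; omega))
    exact ⟨j, fun t ht e => hj (e ▸ Finset.mem_image_of_mem _ ht)⟩
  have hij : i ≠ j := fun e => by
    obtain ⟨t, ht⟩ := Finset.card_pos.1 (show 0 < (S.filter fun t => t.1 = i).card by omega)
    exact hj t (Finset.mem_filter.1 ht).1 ((Finset.mem_filter.1 ht).2.trans e)
  obtain ⟨t, ht⟩ := Finset.card_eq_one.1 hi
  have ht' := Finset.mem_filter.1 (ht.ge (Finset.mem_singleton_self t))
  refine ⟨_, ?_, (hd.exists_threeCycle (hDT i j hij) (Finset.card_eq_one.2 ⟨ι t, ?_⟩)).1⟩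
  · exact mul_mem (mul_mem hdK (hRK (hι i j hij))) (mul_mem hdK (hRK (hι i j hij)))
  rw [IsDT.support_eq (hne _ _ _ _ (Or.inr (by decide))) (hne _ _ _ _ (Or.inr (by decide)))
    (hne _ _ _ _ (Or.inl hij)) (hne _ _ _ _ (Or.inl hij)) (hne _ _ _ _ (Or.inl hij))
    (hne _ _ _ _ (Or.inl hij))]
  ext w
  simp only [Finset.mem_inter, Finset.mem_union, Finset.mem_insert, Finset.mem_singleton]
  constructor
  · rintro ⟨hw, hw'⟩
    have key : ∀ l s, w = ι (l, s) → l = i → w = ι t := fun l s e el => by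
      have : (l, s) ∈ S.filter fun t => t.1 = i :=
        Finset.mem_filter.2 ⟨Finset.mem_filter.2 ⟨Finset.mem_univ _, e ▸ hw⟩, el⟩
      rw [ht, Finset.mem_singleton] at this
      rw [e, this]
    have no : ∀ s, w ≠ ι (j, s) := fun s e =>
      hj (j, s) (Finset.mem_filter.2 ⟨Finset.mem_univ _, e ▸ hw⟩) rfl
    rcases hw' with (e | e) | (e | e)
    · exact key _ _ e rfl
    · exact key _ _ e rfl
    · exact absurd e (no _)
    · exact absurd e (no _)
  · rintro rfl
    refine ⟨(Finset.mem_filter.1 ht'.1).2, Or.inl ?_⟩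
    obtain ⟨l, s⟩ := t
    cases s <;> simp [← ht'.2]

/-- Degree five: a transitive overgroup of a Sylow 2-subgroup contains the alternating group. -/
theorem alternating_le_five {G R K : Subgroup (Perm α)} (hA : alternatingGroup α ≤ G)
    (hodd : ¬ 2 ∣ R.relIndex G) (hRK : R ≤ K) (hKG : K ≤ G) [IsPretransitive K α]
    (hn : Fintype.card α = 5) : alternatingGroup α ≤ K := by
  classical
  obtain ⟨x⟩ : Nonempty α := Fintype.card_pos_iff.1 (by omega)
  have h5 : 5 ∣ Nat.card K := by
    have := MulAction.index_stabilizer_of_transitive K x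
    rw [Nat.card_eq_fintype_card, hn] at this
    exact this ▸ Subgroup.index_dvd_card _
  have hdvd := Subgroup.relIndex_dvd_of_le_left G hRK
  have hjodd : ¬ 2 ∣ K.relIndex G := fun h => hodd (h.trans hdvd)
  have hmul : Nat.card K * K.relIndex G = Nat.card G := by
    have h := Subgroup.card_mul_index (K.subgroupOf G)
    rwa [Nat.card_congr (Subgroup.subgroupOfEquivOfLe hKG).toEquiv] at h
  have h120 : Nat.card G ∣ 120 := by
    have := Subgroup.card_subgroup_dvd_card G
    rw [Nat.card_perm, Nat.card_eq_fintype_card (α := α), hn] at this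
    exact this
  have hj : K.relIndex G ∣ 24 := by
    have h := (mul_dvd_mul_right h5 (K.relIndex G)).trans (hmul ▸ h120)
    exact Nat.dvd_of_mul_dvd_mul_left (by norm_num) (show 5 * _ ∣ 5 * 24 from h)
  have hj3 : K.relIndex G ≤ 3 := by
    have hc : Nat.Coprime (K.relIndex G) 8 := Nat.Coprime.pow_right 3
      ((Nat.prime_two.coprime_iff_not_dvd.2 hjodd).symm)
    exact Nat.le_of_dvd (by norm_num) (hc.dvd_of_dvd_mul_left (show _ ∣ 8 * 3 from hj))
  have hj0 : K.relIndex G ≠ 0 := fun e => by rw [e] at hj; simp at hj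
  have hle : K.relIndex (alternatingGroup α) ≤ 3 := (Subgroup.relIndex_le_of_le_right hA hj0).trans hj3
  set H := K.subgroupOf (alternatingGroup α) with hH
  haveI : IsSimpleGroup (alternatingGroup α) :=
    alternatingGroup.isSimpleGroup (by rw [Nat.card_eq_fintype_card, hn])
  rcases (H.normalCore_normal).eq_bot_or_eq_top with h | h
  · exfalso
    have hinj : Function.Injective (MulAction.toPermHom (alternatingGroup α) (alternatingGroup α ⧸ H)) := by
      rw [← MonoidHom.ker_eq_bot_iff, ← Subgroup.normalCore_eq_ker, h]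
    have h1 := Nat.card_le_card_of_injective _ hinj
    haveI : Nontrivial α := Fintype.one_lt_card_iff_nontrivial.1 (by omega)
    rw [Nat.card_perm, ← Subgroup.index_eq_card] at h1
    have h2 : (H.index).factorial ≤ 6 := (Nat.factorial_le (show H.index ≤ 3 from hle)).trans (le_refl _)
    have h3 := two_mul_nat_card_alternatingGroup (α := α)
    rw [Nat.card_perm, Nat.card_eq_fintype_card (α := α), hn,
      show Nat.factorial 5 = 120 from rfl] at h3
    omega
  · intro g hg
    have : (⟨g, hg⟩ : alternatingGroup α) ∈ H := H.normalCore_le (h ▸ Subgroup.mem_top _)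
    exact this

/-- Degree `2 ^ k + 1`: overgroups either fix the point or contain the alternating group. -/
theorem fix_or_alternating {G R : Subgroup (Perm α)} (hA : alternatingGroup α ≤ G) (hRG : R ≤ G)
    (hR : IsPGroup 2 R) (hodd : ¬ 2 ∣ R.relIndex G) {k : ℕ} (hk : 2 ≤ k)
    (hn : Fintype.card α = 2 ^ k + 1) :
    ∃ p, (∀ r ∈ R, r p = p) ∧ ∀ K : Subgroup (Perm α), R ≤ K → K ≤ G →
      K ≤ MulAction.stabilizer (Perm α) p ∨ alternatingGroup α ≤ K := by
  obtain ⟨k', rfl⟩ : ∃ k', k = k' + 2 := ⟨k - 2, by omega⟩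
  have hn' : Fintype.card α = 2 * (2 * 2 ^ k') + 1 := by rw [hn, pow_add]; ring
  obtain ⟨p, -, hp⟩ := exists_fixed hR R.subtype Finset.univ (by rw [Finset.card_univ, hn']; exact ⟨_, rfl⟩)
    (fun _ _ _ => Finset.mem_univ _)
  refine ⟨p, fun r hr => hp ⟨r, hr⟩, fun K hRK hKG => or_iff_not_imp_left.2 fun hK => ?_⟩
  obtain ⟨g, hg, hgp⟩ := SetLike.not_le_iff_exists.1 hK
  have hprim : IsPreprimitive K α := isPreprimitive_of_point K p hg hgp fun x y hx hy => by
    obtain ⟨r, hr, hrx⟩ := transitive_off_point hA hRG hodd hk hn (fun r hr => hp ⟨r, hr⟩) x y hx hy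
    exact ⟨r, hRK hr, hp ⟨r, hr⟩, hrx⟩
  haveI := hprim.toIsPretransitive
  rcases Nat.eq_zero_or_pos k' with e | e
  · exact alternating_le_five hA hodd hRK hKG (by rw [hn, e]; rfl)
  · obtain ⟨c, hc, h3⟩ := exists_threeCycle hA hRG hR hodd hRK
      (by calc 4 = 2 * 2 ^ 1 := rfl
            _ ≤ 2 * 2 ^ k' := by gcongr <;> omega) hn'
    exact alternatingGroup_le_of_isPreprimitive_of_isThreeCycle_mem hprim h3 hc

/-- Uniqueness of the maximal subgroup over a Sylow 2-subgroup, for any group between the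
alternating and the symmetric group. -/
theorem unique_maximal_iff {Γ : Type*} [Group Γ] [Finite Γ] (ι : Γ →* Perm α)
    (hι : Function.Injective ι) (hA : alternatingGroup α ≤ ι.range) (hn : 5 ≤ Fintype.card α)
    (R : Sylow 2 Γ) :
    (∃! M : Subgroup Γ, IsCoatom M ∧ (R : Subgroup Γ) ≤ M) ↔
      ∃ k : ℕ, 2 ≤ k ∧ Fintype.card α = 2 ^ k + 1 := by
  haveI : Fact (Nat.Prime 2) := ⟨Nat.prime_two⟩
  haveI : Nontrivial α := Fintype.one_lt_card_iff_nontrivial.1 (by omega)
  set Rι := (R : Subgroup Γ).map ι with hRι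
  have hRG : Rι ≤ ι.range := Subgroup.map_le_range ι _
  have hR : IsPGroup 2 Rι := R.isPGroup'.map ι
  have hodd : ¬ 2 ∣ Rι.relIndex ι.range := by
    rw [MonoidHom.range_eq_map, hRι, Subgroup.relIndex_map_map_of_injective _ _ hι, Subgroup.relIndex_top_right]
    exact R.not_dvd_index
  have htop : ∀ M : Subgroup Γ, (R : Subgroup Γ) ≤ M → alternatingGroup α ≤ M.map ι → M = ⊤ := by
    intro M hRM hAM
    have h1 : (M.map ι).relIndex ι.range ∣ 2 :=
      (Subgroup.relIndex_dvd_of_le_left _ hAM).trans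
        ((Subgroup.relIndex_dvd_index_of_normal _ _).trans (alternatingGroup.index_eq_two).dvd)
    have h2 : ¬ 2 ∣ (M.map ι).relIndex ι.range := fun h =>
      hodd (h.trans (Subgroup.relIndex_dvd_of_le_left _ (Subgroup.map_mono hRM)))
    have h3 : (M.map ι).relIndex ι.range = 1 := by
      rcases (Nat.dvd_prime Nat.prime_two).1 h1 with h | h
      · exact h
      · exact absurd (h ▸ dvd_rfl) h2
    rw [MonoidHom.range_eq_map, Subgroup.relIndex_map_map_of_injective _ _ hι, Subgroup.relIndex_top_right,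
      Subgroup.index_eq_one] at h3
    exact h3
  constructor
  · intro ⟨M, ⟨hM, hRM⟩, huniq⟩
    by_contra hne
    obtain ⟨H₁, H₂, h1, h2, h1G, h2G, hn1, hn2, hsup⟩ :
        ∃ H₁ H₂ : Subgroup (Perm α), Rι ≤ H₁ ∧ Rι ≤ H₂ ∧ H₁ ≤ ι.range ∧ H₂ ≤ ι.range ∧
          ¬ alternatingGroup α ≤ H₁ ∧ ¬ alternatingGroup α ≤ H₂ ∧ alternatingGroup α ≤ H₁ ⊔ H₂ := by
      rcases Nat.even_or_odd' (Fintype.card α) with ⟨m, hm | hm⟩
      · exact exists_pair_even hA hRG hR (m := m) (by omega) hm
      · exact exists_pair_odd hA hRG hR (m := m) (by omega) hm hne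
    have key : ∀ H : Subgroup (Perm α), Rι ≤ H → H ≤ ι.range → ¬ alternatingGroup α ≤ H → H ≤ M.map ι := by
      intro H hRH hHG hnH
      rcases eq_top_or_exists_le_coatom (H.comap ι) with h | ⟨N, hN, hle⟩
      · exact absurd (fun g hg => by
          obtain ⟨γ, rfl⟩ := hA hg
          exact (show γ ∈ H.comap ι from h ▸ Subgroup.mem_top γ)) hnH
      · have hRN : (R : Subgroup Γ) ≤ N := (Subgroup.map_le_iff_le_comap.1 hRH).trans hle
        rw [← huniq N ⟨hN, hRN⟩, ← Subgroup.map_comap_eq_self hHG]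
        exact Subgroup.map_mono hle
    exact hM.1 (htop M hRM (hsup.trans (sup_le (key H₁ h1 h1G hn1) (key H₂ h2 h2G hn2))))
  · rintro ⟨k, hk, hk'⟩
    obtain ⟨p, hp, hdich⟩ := fix_or_alternating hA hRG hR hodd hk hk'
    set M₀ := (MulAction.stabilizer (Perm α) p).comap ι
    have hne : M₀ ≠ ⊤ := fun h => by
      obtain ⟨q, hq⟩ := exists_ne p
      obtain ⟨g, hg, hgp, -⟩ := exists_alt_two (by omega) hq.symm hq
      obtain ⟨γ, rfl⟩ := hA hg
      exact hq (hgp.symm.trans (show γ ∈ M₀ from h ▸ Subgroup.mem_top γ))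
    have hRM₀ : (R : Subgroup Γ) ≤ M₀ := fun r hr => hp _ (Subgroup.mem_map_of_mem ι hr)
    have hmax : ∀ N : Subgroup Γ, (R : Subgroup Γ) ≤ N → N ≠ ⊤ → N ≤ M₀ := by
      intro N hN hNt
      rcases hdich (N.map ι) (Subgroup.map_mono hN) (Subgroup.map_le_range ι N) with h | h
      · exact Subgroup.map_le_iff_le_comap.1 h
      · exact absurd (htop N hN h) hNt
    have hco : IsCoatom M₀ := ⟨hne, fun N hN => by
      by_contra hNt
      exact hN.not_ge (hmax N (hRM₀.trans hN.le) hNt)⟩
    refine ⟨M₀, ⟨hco, hRM₀⟩, fun N ⟨hN, hRN⟩ => ?_⟩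
    exact ((hN.le_iff.1 (hmax N hRN hN.1)).resolve_left hne).symm

end CfsgLib.Coprime.SylowTwoMaximal
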