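import Cfsg.Agent.Lib.Transfer.Extraspecial
import Cfsg.Agent.Lib.Coprime.Basic
import Mathlib
set_option autoImplicit false

/-!
A fixed point free cyclic group of isometries of a symplectic space over `ZMod p`.
-/

namespace CfsgLib.Coprime

open Polynomial Matrix

theorem sum_dvd_of_invariant {U : Type*} [Group U] [Fintype U] (Γ : Subgroup U) (m : U → ℕ)
    (hm : ∀ g ∈ Γ, ∀ u, m (u * g) = m u) : Nat.card Γ ∣ ∑ u, m u := by
  classical
  rw [← (Subgroup.groupEquivQuotientProdSubgroup (s := Γ)).symm.sum_comp, Fintype.sum_prod_type]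
  refine Finset.dvd_sum fun q _ => ?_
  have hconst : ∀ g : Γ, m ((Subgroup.groupEquivQuotientProdSubgroup (s := Γ)).symm (q, g)) = m q.out := by
    intro g
    have hmem : q.out⁻¹ * (Subgroup.groupEquivQuotientProdSubgroup (s := Γ)).symm (q, g) ∈ Γ := by
      refine QuotientGroup.eq.1 ?_
      rw [QuotientGroup.out_eq']
      exact (congrArg Prod.fst ((Subgroup.groupEquivQuotientProdSubgroup (s := Γ)).apply_symm_apply (q, g))).symm
    have := hm _ hmem q.out
    rwa [mul_inv_cancel_left] at this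
  rw [Finset.sum_congr rfl fun g _ => hconst g, Finset.sum_const, Finset.card_univ, smul_eq_mul,
    ← Nat.card_eq_fintype_card]
  exact dvd_mul_right _ _

theorem rootMultiplicity_inv_ge {K : Type*} [Field K] {f : K[X]} {c : K} (hf : f ≠ 0)
    (hrev : f = C c * f.reverse) {a : K} (ha : a ≠ 0) :
    f.rootMultiplicity a ≤ f.rootMultiplicity a⁻¹ := by
  obtain ⟨g, hg, -⟩ := exists_eq_pow_rootMultiplicity_mul_and_not_dvd f hf a
  set m := f.rootMultiplicity a
  have hlin : (X - C a).reverse = C (-a) * (X - C a⁻¹) := by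
    rw [reverse, natDegree_X_sub_C, reflect_sub, reflect_one_X, reflect_C, pow_one, mul_sub, ← C_mul, neg_mul,
      mul_inv_cancel₀ ha]
    simp only [map_neg, map_one]
    ring
  have hpow : ∀ k : ℕ, ((X - C a) ^ k).reverse = (X - C a).reverse ^ k := by
    intro k
    induction k with
    | zero => simp [reverse, reflect_one]
    | succ k ih => rw [pow_succ, reverse_mul_of_domain, ih, pow_succ]
  rw [le_rootMultiplicity_iff hf]
  rw [hrev]
  refine Dvd.dvd.mul_left ?_ _
  conv_rhs => rw [hg]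
  rw [reverse_mul_of_domain, hpow, hlin, mul_pow]
  exact Dvd.dvd.mul_right (dvd_mul_left _ _) _

theorem dvd_of_units_pow {h p n : ℕ} (hh : 0 < h) (hp : 0 < p) (u : (ZMod h)ˣ) (hu : (u : ZMod h) = p)
    (e : u ^ n = 1 ∨ u ^ n = -1) : h ∣ p ^ n + 1 ∨ h ∣ p ^ n - 1 := by
  have : NeZero h := ⟨hh.ne'⟩
  rcases e with e | e
  · right
    have e' := congrArg (fun u : (ZMod h)ˣ => (u : ZMod h)) e
    simp only [Units.val_pow_eq_pow_val, hu, Units.val_one] at e'
    rw [← ZMod.natCast_eq_zero_iff, Nat.cast_sub (Nat.one_le_pow _ _ hp), Nat.cast_pow, e', Nat.cast_one, sub_self]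
  · left
    have e' := congrArg (fun u : (ZMod h)ˣ => (u : ZMod h)) e
    simp only [Units.val_pow_eq_pow_val, hu, Units.val_neg, Units.val_one] at e'
    rw [← ZMod.natCast_eq_zero_iff, Nat.cast_add, Nat.cast_pow, e', Nat.cast_one, neg_add_cancel]

theorem matrix_isometry_dvd {p : ℕ} [Fact p.Prime] {ι : Type*} [Fintype ι] [DecidableEq ι]
    (A J : Matrix ι ι (ZMod p)) (hJ : J.det ≠ 0) (hiso : Aᵀ * J * A = J) {h : ℕ} (hh : 0 < h)
    (hcop : h.Coprime p) (hA : A ^ h = 1) (hfpf : ∀ k, 0 < k → k < h → (A ^ k - 1).det ≠ 0)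
    {n : ℕ} (hn : Fintype.card ι = 2 * n) : h ∣ p ^ n + 1 ∨ h ∣ p ^ n - 1 := by
  classical
  have hp : p.Prime := Fact.out
  have : NeZero h := ⟨hh.ne'⟩
  let K := AlgebraicClosure (ZMod p)
  let i : ZMod p →+* K := algebraMap _ K
  let f : K[X] := A.charpoly.map i
  rcases Nat.eq_zero_or_pos n with rfl | hn0
  · right; simp
  have hAu : IsUnit A := IsUnit.of_mul_eq_one _ (show A * A ^ (h - 1) = 1 by
    rw [← pow_succ', Nat.sub_add_cancel hh, hA])
  have hJu : IsUnit J := (Matrix.isUnit_iff_isUnit_det J).2 (isUnit_iff_ne_zero.2 hJ)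
  -- self reciprocal
  have hinv : A⁻¹.charpoly = A.charpoly := by
    have hT : J⁻¹ * Aᵀ * J = A⁻¹ := by
      refine (Matrix.inv_eq_left_inv ?_).symm
      rw [Matrix.mul_assoc J⁻¹, Matrix.mul_assoc J⁻¹, hiso, Matrix.nonsing_inv_mul _ ((Matrix.isUnit_iff_isUnit_det J).1 hJu)]
    rw [← hT, ← Matrix.charpoly_transpose A]
    obtain ⟨u, hu⟩ := hJu
    rw [← hu]
    exact Matrix.charpoly_units_conj' u Aᵀ
  have hf0 : f ≠ 0 := (Polynomial.map_ne_zero (Matrix.charpoly_monic A).ne_zero)
  have hrev : ∃ c : K, f = C c * f.reverse := by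
    refine ⟨i ((-1) ^ Fintype.card ι * Ring.inverse A.det), ?_⟩
    have e := Matrix.charpoly_inv A hAu
    rw [hinv] at e
    show A.charpoly.map i = _
    conv_lhs => rw [e]
    rw [Polynomial.map_mul, ← Matrix.reverse_charpoly]
    congr 1
    · simp [map_mul, map_pow]
    · rw [reverse, reverse, ← reflect_map, natDegree_map_eq_of_injective i.injective]
  obtain ⟨c, hc⟩ := hrev
  -- Frobenius invariance
  have hfrob : ∀ a : K, f.rootMultiplicity (a ^ p) = f.rootMultiplicity a := by
    intro a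
    have h1 := eq_rootMultiplicity_map (p := f) (f := frobenius K p) (RingHom.injective _) a
    rw [h1, frobenius_def]
    congr 1
    show f = (A.charpoly.map i).map (frobenius K p)
    rw [Polynomial.map_map, Subsingleton.elim ((frobenius K p).comp i) i]
  -- the roots are primitive
  have hprim : ∀ a : K, f.IsRoot a → IsPrimitiveRoot a h := by
    intro a ha
    have hev : (Matrix.scalar ι a - A.map i).det = 0 := by
      rw [← Matrix.eval_charpoly, Matrix.charpoly_map]; exact ha
    obtain ⟨v, hv0, hv⟩ := Matrix.exists_mulVec_eq_zero_iff.2 hev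
    have hAv : A.map i *ᵥ v = a • v := by
      rw [Matrix.sub_mulVec, sub_eq_zero] at hv
      rw [← hv]
      ext j; simp [Matrix.mulVec_diagonal]
    have hAk : ∀ k : ℕ, (A.map i) ^ k *ᵥ v = a ^ k • v := by
      intro k
      induction k with
      | zero => simp
      | succ k ih => rw [pow_succ, ← Matrix.mulVec_mulVec, hAv, Matrix.mulVec_smul, ih, smul_smul, ← pow_succ']
    have hmap : ∀ k : ℕ, (A ^ k).map i = (A.map i) ^ k := fun k => map_pow i.mapMatrix A k
    refine IsPrimitiveRoot.mk_of_lt a hh ?_ fun k hk0 hkh hak => ?_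
    · have h1 := hAk h
      rw [← hmap, hA, Matrix.map_one i (map_zero i) (map_one i), Matrix.one_mulVec] at h1
      by_contra hne
      obtain ⟨j, hj⟩ := Function.ne_iff.1 hv0
      have h2 := congrFun h1 j
      simp only [Pi.smul_apply, smul_eq_mul, Pi.zero_apply] at h2 hj
      exact hne (mul_right_cancel₀ hj ((one_mul (v j)).trans h2).symm)
    · refine hfpf k hk0 hkh (i.injective ?_)
      rw [RingHom.map_det, map_zero, RingHom.mapMatrix_apply]
      refine Matrix.exists_mulVec_eq_zero_iff.1 ⟨v, hv0, ?_⟩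
      rw [Matrix.map_sub i (map_sub i), hmap, Matrix.map_one i (map_zero i) (map_one i), Matrix.sub_mulVec,
        Matrix.one_mulVec, hAk, hak, one_smul, sub_self]
  have hsplit : f.Splits := IsAlgClosed.splits f
  have hdeg : Multiset.card f.roots = 2 * n := by
    rw [IsAlgClosed.card_roots_eq_natDegree, natDegree_map, Matrix.charpoly_natDegree_eq_dim, hn]
  obtain ⟨ζ, hζr⟩ : ∃ ζ, ζ ∈ f.roots := Multiset.card_pos_iff_exists_mem.1 (by omega)
  have hζ := hprim ζ (isRoot_of_mem_roots hζr)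
  have hord : orderOf ζ = h := hζ.eq_orderOf.symm
  let m : (ZMod h)ˣ → ℕ := fun u => f.rootMultiplicity (ζ ^ (u : ZMod h).val)
  have hsum : ∑ u, m u = 2 * n := by
    rw [← hdeg]
    have hinj : Function.Injective fun u : (ZMod h)ˣ => ζ ^ (u : ZMod h).val := fun u v e =>
      Units.ext (ZMod.val_injective h (hζ.pow_inj (ZMod.val_lt _) (ZMod.val_lt _) e))
    rw [← Multiset.sum_count_eq_card (s := Finset.univ.image fun u : (ZMod h)ˣ => ζ ^ (u : ZMod h).val) (m := f.roots),
      Finset.sum_image hinj.injOn]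
    · exact Finset.sum_congr rfl fun u _ => (count_roots f).symm
    · intro a ha
      have ha' := hprim a (isRoot_of_mem_roots ha)
      obtain ⟨j, hj, rfl⟩ := hζ.eq_pow_of_pow_eq_one ha'.pow_eq_one
      have hjc : j.Coprime h := (hζ.pow_iff_coprime hh j).1 ha'
      refine Finset.mem_image.2 ⟨ZMod.unitOfCoprime j hjc, Finset.mem_univ _, ?_⟩
      rw [ZMod.coe_unitOfCoprime, ZMod.val_natCast, Nat.mod_eq_of_lt hj]
  let P : (ZMod h)ˣ := ZMod.unitOfCoprime p hcop.symm
  have hmod : ∀ k : ℕ, ζ ^ (k % h) = ζ ^ k := fun k => hord ▸ pow_mod_orderOf ζ k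
  have hmP : ∀ u, m (u * P) = m u := by
    intro u
    show f.rootMultiplicity _ = _
    rw [Units.val_mul, ZMod.coe_unitOfCoprime, ZMod.val_mul, ZMod.val_natCast, Nat.mul_mod_mod, hmod, pow_mul, hfrob]
  have hmN : ∀ u, m (u * -1) = m u := by
    intro u
    show f.rootMultiplicity _ = f.rootMultiplicity _
    have e : ζ ^ ((u * -1 : (ZMod h)ˣ) : ZMod h).val = (ζ ^ (u : ZMod h).val)⁻¹ := by
      refine eq_inv_of_mul_eq_one_left ?_
      rw [← pow_add, ← hmod, ← ZMod.val_add]
      simp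
    rw [e]
    refine le_antisymm ?_ (rootMultiplicity_inv_ge hf0 hc (pow_ne_zero _ (hζ.ne_zero hh.ne')))
    have := rootMultiplicity_inv_ge hf0 hc (inv_ne_zero (pow_ne_zero (u : ZMod h).val (hζ.ne_zero hh.ne')))
    rwa [inv_inv] at this
  let Γ : Subgroup (ZMod h)ˣ := Subgroup.zpowers P ⊔ Subgroup.zpowers (-1)
  have hm : ∀ g ∈ Γ, ∀ u, m (u * g) = m u := by
    let S : Subgroup (ZMod h)ˣ :=
      { carrier := {g | ∀ u, m (u * g) = m u}
        one_mem' := fun u => by rw [mul_one]
        mul_mem' := fun {a b} ha hb u => by rw [← mul_assoc, hb, ha]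
        inv_mem' := fun {a} ha u => by rw [← ha (u * a⁻¹), inv_mul_cancel_right] }
    exact fun g hg => (sup_le (Subgroup.zpowers_le.2 (show P ∈ S from hmP))
      (Subgroup.zpowers_le.2 (show (-1 : (ZMod h)ˣ) ∈ S from hmN)) : Γ ≤ S) hg
  have hdvd : Nat.card Γ ∣ 2 * n := hsum ▸ sum_dvd_of_invariant Γ m hm
  refine dvd_of_units_pow hh hp.pos P (ZMod.coe_unitOfCoprime _ _) ?_
  by_cases hneg : (-1 : (ZMod h)ˣ) ∈ Subgroup.zpowers P
  · have h2 : (P ^ n) ^ 2 = 1 := by
      rw [← pow_mul, mul_comm n, ← orderOf_dvd_iff_pow_eq_one, ← Nat.card_zpowers]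
      exact (Subgroup.card_dvd_of_le le_sup_left).trans hdvd
    by_cases hn1 : (-1 : (ZMod h)ˣ) = 1
    · left
      rw [← orderOf_dvd_iff_pow_eq_one]
      have h12 : (h : ℕ) ∣ 2 := by
        have e := congrArg (fun u : (ZMod h)ˣ => (u : ZMod h)) hn1
        simp only [Units.val_neg, Units.val_one] at e
        rw [← ZMod.natCast_eq_zero_iff]
        push_cast
        linear_combination -e
      have : Subsingleton (ZMod h)ˣ := by
        rcases (Nat.dvd_prime Nat.prime_two).1 h12 with rfl | rfl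
        · infer_instance
        · exact ⟨by decide⟩
      rw [show P = 1 from Subsingleton.elim _ _, orderOf_one]
      exact one_dvd _
    · by_contra hc2
      push Not at hc2
      have hcyc := IsCyclic.card_pow_eq_one_le (α := Subgroup.zpowers P) two_pos
      let a : Subgroup.zpowers P := ⟨P ^ n, pow_mem (Subgroup.mem_zpowers P) n⟩
      let b : Subgroup.zpowers P := ⟨-1, hneg⟩
      have h3 : ({1, a, b} : Finset (Subgroup.zpowers P)).card ≤ 2 := by
        refine le_trans (Finset.card_le_card fun x hx => ?_) hcyc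
        simp only [Finset.mem_insert, Finset.mem_singleton] at hx
        simp only [Finset.mem_filter, Finset.mem_univ, true_and]
        rcases hx with rfl | rfl | rfl
        · exact one_pow 2
        · exact Subtype.ext h2
        · exact Subtype.ext (by simp [b])
      rw [Finset.card_insert_of_notMem, Finset.card_pair (fun e => hc2.2 (congrArg Subtype.val e))] at h3
      · omega
      · simp only [Finset.mem_insert, Finset.mem_singleton]
        rintro (e | e)
        · exact hc2.1 (congrArg Subtype.val e).symm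
        · exact hn1 (congrArg Subtype.val e).symm
  · left
    have hne : (-1 : (ZMod h)ˣ) ≠ 1 := fun e => hneg (by rw [e]; exact one_mem _)
    have hord2 : Nat.card (Subgroup.zpowers (-1 : (ZMod h)ˣ)) = 2 := by
      rw [Nat.card_zpowers]; exact orderOf_eq_prime (by simp) hne
    have hbot : Subgroup.zpowers (-1 : (ZMod h)ˣ) ⊓ Subgroup.zpowers P = ⊥ := by
      by_contra hb
      have h1 : Subgroup.zpowers (-1 : (ZMod h)ˣ) ⊓ Subgroup.zpowers P = Subgroup.zpowers (-1 : (ZMod h)ˣ) := by
        refine Subgroup.eq_of_le_of_card_ge inf_le_left ?_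
        rw [hord2]
        have := (Subgroup.one_lt_card_iff_ne_bot _).2 hb
        omega
      exact hneg ((h1.ge (Subgroup.mem_zpowers _)).2)
    have hcard : Nat.card Γ = Nat.card (Subgroup.zpowers P) * 2 := by
      have := card_sup_of_inf_eq_bot (A := Subgroup.zpowers (-1 : (ZMod h)ˣ)) (N := Subgroup.zpowers P)
        (fun g _ => by rw [Subgroup.normalizer_eq_top]; trivial) hbot
      rw [hord2] at this
      exact this
    rw [hcard, mul_comm _ 2, Nat.card_zpowers] at hdvd
    exact orderOf_dvd_iff_pow_eq_one.1 (Nat.dvd_of_mul_dvd_mul_left two_pos hdvd)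

theorem isometry_dvd {p : ℕ} [Fact p.Prime] {V : Type*} [AddCommGroup V] [Module (ZMod p) V]
    [FiniteDimensional (ZMod p) V] (B : LinearMap.BilinForm (ZMod p) V) (hB : B.Nondegenerate)
    (σ : V →ₗ[ZMod p] V) (hiso : ∀ u v, B (σ u) (σ v) = B u v) {h : ℕ} (hh : 0 < h) (hcop : h.Coprime p)
    (hσ : σ ^ h = 1) (hfpf : ∀ k, 0 < k → k < h → ∀ v, (σ ^ k) v = v → v = 0) {n : ℕ}
    (hn : Module.finrank (ZMod p) V = 2 * n) : h ∣ p ^ n + 1 ∨ h ∣ p ^ n - 1 := by
  classical
  let b := Module.finBasis (ZMod p) V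
  let A := LinearMap.toMatrixAlgEquiv b σ
  let J := LinearMap.BilinForm.toMatrix b B
  refine matrix_isometry_dvd A J (LinearMap.BilinForm.Nondegenerate.toMatrix hB b).det_ne_zero ?_ hh hcop ?_
    (fun k hk0 hkh => ?_) (by rw [Fintype.card_fin, hn])
  · have : B.comp σ σ = B := by ext u v; exact hiso u v
    conv_rhs => rw [show J = LinearMap.BilinForm.toMatrix b (B.comp σ σ) by rw [this]]
    rw [LinearMap.BilinForm.toMatrix_comp b b]
    rfl
  · show LinearMap.toMatrixAlgEquiv b σ ^ h = 1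
    rw [← map_pow, hσ, map_one]
  · show (LinearMap.toMatrixAlgEquiv b σ ^ k - 1).det ≠ 0
    rw [← map_pow, ← map_one (LinearMap.toMatrixAlgEquiv b), ← map_sub]
    show (LinearMap.toMatrix b b (σ ^ k - 1)).det ≠ 0
    rw [LinearMap.det_toMatrix]
    intro hd
    obtain ⟨v, hv, hv0⟩ := (Submodule.ne_bot_iff _).1 (LinearMap.bot_lt_ker_of_det_eq_zero hd).ne'
    rw [LinearMap.mem_ker, LinearMap.sub_apply, sub_eq_zero] at hv
    exact hv0 (hfpf k hk0 hkh v hv)

/-- The group form: a pairing on an elementary abelian `p`-group invariant under `θ`. -/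
theorem group_isometry_dvd_aux {p : ℕ} [Fact p.Prime] {W : Type*} [CommGroup W] [Finite W] [Module (ZMod p) (Additive W)]
    (ω : W →* W →* Multiplicative (ZMod p)) (hl : ∀ u, (∀ v, ω u v = 1) → u = 1) (hr : ∀ v, (∀ u, ω u v = 1) → v = 1)
    (θ : MulAut W) (hiso : ∀ u v, ω (θ u) (θ v) = ω u v) {h : ℕ} (hh : 0 < h) (hcop : h.Coprime p) (hθ : θ ^ h = 1)
    (hfpf : ∀ k, 0 < k → k < h → ∀ w, (θ ^ k) w = w → w = 1) {n : ℕ} (hn : Nat.card W = p ^ (2 * n)) :
    h ∣ p ^ n + 1 ∨ h ∣ p ^ n - 1 := by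
  have : FiniteDimensional (ZMod p) (Additive W) := Module.Finite.of_finite
  let β : Additive W → Additive W → ZMod p := fun u v => Multiplicative.toAdd (ω u.toMul v.toMul)
  have hβl : ∀ u u' v, β (u + u') v = β u v + β u' v := fun u u' v => by simp [β]
  have hβr : ∀ u v v', β u (v + v') = β u v + β u v' := fun u v v' => by simp [β]
  let B : LinearMap.BilinForm (ZMod p) (Additive W) :=
    LinearMap.mk₂ (ZMod p) β hβl (fun c u v => ZMod.map_smul (AddMonoidHom.mk' (fun u => β u v) fun a b => hβl a b v) c u)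
      hβr (fun c u v => ZMod.map_smul (AddMonoidHom.mk' (β u) (hβr u)) c v)
  let σ : Module.End (ZMod p) (Additive W) := (MonoidHom.toAdditive θ.toMonoidHom).toZModLinearMap p
  have hσk : ∀ (k : ℕ) (v : Additive W), (σ ^ k) v = Additive.ofMul ((θ ^ k) v.toMul) := by
    intro k
    induction k with
    | zero => intro v; rfl
    | succ k ih => intro v; rw [pow_succ', pow_succ', Module.End.mul_apply, ih]; rfl
  refine isometry_dvd B ⟨fun u hu => ?_, fun v hv => ?_⟩ σ ?_ hh hcop ?_ (fun k hk0 hkh v hv => ?_) ?_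
  · exact Additive.toMul.injective (hl _ fun v => Multiplicative.toAdd.injective (hu (Additive.ofMul v)))
  · exact Additive.toMul.injective (hr _ fun u => Multiplicative.toAdd.injective (hv (Additive.ofMul u)))
  · exact fun u v => congrArg Multiplicative.toAdd (hiso u.toMul v.toMul)
  · refine LinearMap.ext fun v => ?_
    rw [hσk, hθ]; rfl
  · rw [hσk] at hv
    exact Additive.toMul.injective (hfpf k hk0 hkh _ (congrArg Additive.toMul hv))
  · have h1 : Nat.card (Additive W) = p ^ (2 * n) := by rw [Nat.card_congr Additive.toMul, hn]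
    rw [Module.natCard_eq_pow_finrank (K := ZMod p), Nat.card_zmod] at h1
    exact Nat.pow_right_injective (Fact.out : p.Prime).two_le h1

theorem group_isometry_dvd {p : ℕ} [Fact p.Prime] {W : Type*} [CommGroup W] [Finite W] (hexp : ∀ w : W, w ^ p = 1)
    (ω : W →* W →* Multiplicative (ZMod p)) (hl : ∀ u, (∀ v, ω u v = 1) → u = 1) (hr : ∀ v, (∀ u, ω u v = 1) → v = 1)
    (θ : MulAut W) (hiso : ∀ u v, ω (θ u) (θ v) = ω u v) {h : ℕ} (hh : 0 < h) (hcop : h.Coprime p) (hθ : θ ^ h = 1)
    (hfpf : ∀ k, 0 < k → k < h → ∀ w, (θ ^ k) w = w → w = 1) {n : ℕ} (hn : Nat.card W = p ^ (2 * n)) :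
    h ∣ p ^ n + 1 ∨ h ∣ p ^ n - 1 :=
  @group_isometry_dvd_aux p _ W _ _ (AddCommGroup.zmodModule fun v => Additive.toMul.injective (hexp v.toMul))
    ω hl hr θ hiso h hh hcop hθ hfpf n hn

end CfsgLib.Coprime
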