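import Cfsg.Agent.Lib.Coprime.FixedCube
import Cfsg.Agent.Lib.FixedSpace.Cover

/-!
A coprime `p`-group, `p` odd, all of whose generator pairs factorise `N` into two centralizers, acts trivially.
-/

set_option autoImplicit false

namespace CfsgLib.Coprime.TwoCentralizers

open Subgroup
open scoped commutatorElement

variable {X : Type*} [Group X] [Finite X]

theorem isSolvable_zpowers (c : X) : Group.IsSolvable (zpowers c) :=
  Group.isSolvable_of_comm fun a b => mul_comm' a b

theorem centralizer_zpowers_eq (c : X) : centralizer (zpowers c : Set X) = centralizer {c} := by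
  rw [zpowers_eq_closure, centralizer_closure]

theorem card_le_of_invariant {N : Subgroup X} {c : X} (hcop : (Nat.card (zpowers c)).Coprime (Nat.card N))
    (hcN : zpowers c ≤ normalizer (N : Set X)) {q : ℕ} [Fact q.Prime] (Q : Sylow q N)
    (hQ : zpowers c ≤ normalizer (((Q : Subgroup N).map N.subtype : Subgroup X) : Set X))
    {U : Subgroup X} (hU : IsPGroup q U) (hUN : U ≤ N) (hUc : U ≤ centralizer {c}) :
    Nat.card U ≤ Nat.card ((Q : Subgroup N).map N.subtype ⊓ centralizer {c} : Subgroup X) := by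
  have hs : Group.IsSolvable (zpowers c) ∨ Group.IsSolvable N := Or.inl (isSolvable_zpowers c)
  have hUA : zpowers c ≤ normalizer (U : Set X) := by
    refine le_trans ?_ (centralizer_le_normalizer _)
    rw [zpowers_le]
    exact mem_centralizer_iff.2 fun u hu => ((mem_centralizer_iff.1 (hUc hu)) c rfl).symm
  obtain ⟨Q', hUQ, hQ'⟩ := exists_invariant_sylow_ge hcN hcop hs hU hUN hUA
  obtain ⟨x, hx, hxQ⟩ := exists_conj_invariant_sylow hcN hcop hs Q' Q hQ' hQ
  rw [← card_map_conj x U]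
  refine card_le_of_le fun y hy => ⟨hxQ ▸ Subgroup.map_mono hUQ hy, ?_⟩
  obtain ⟨u, hu, rfl⟩ := hy
  have hxc : x ∈ centralizer {c} := (centralizer_zpowers_eq c).le hx.2
  exact (centralizer ({c} : Set X)).mul_mem ((centralizer ({c} : Set X)).mul_mem hxc (hUc hu)) ((centralizer ({c} : Set X)).inv_mem hxc)

open scoped Pointwise in
theorem factor_sylow {N : Subgroup X} {c d : X}
    (hcc : (Nat.card (zpowers c)).Coprime (Nat.card N)) (hcd : (Nat.card (zpowers d)).Coprime (Nat.card N))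
    (hcN : zpowers c ≤ normalizer (N : Set X)) (hdN : zpowers d ≤ normalizer (N : Set X))
    (hfac : ∀ x ∈ N, ∃ a ∈ N, a * d = d * a ∧ ∃ b ∈ N, b * c = c * b ∧ x = a * b)
    {q : ℕ} [hq : Fact q.Prime] (Q : Sylow q N)
    (hQc : zpowers c ≤ normalizer (((Q : Subgroup N).map N.subtype : Subgroup X) : Set X))
    (hQd : zpowers d ≤ normalizer (((Q : Subgroup N).map N.subtype : Subgroup X) : Set X)) :
    ∀ x ∈ (Q : Subgroup N).map N.subtype, ∃ a ∈ (Q : Subgroup N).map N.subtype, a * d = d * a ∧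
      ∃ b ∈ (Q : Subgroup N).map N.subtype, b * c = c * b ∧ x = a * b := by
  set S := (Q : Subgroup N).map N.subtype with hS
  have hSN : S ≤ N := map_subtype_le _
  have hSp : IsPGroup q S := Q.isPGroup'.map _
  set A := N ⊓ centralizer {d} with hA
  set B := N ⊓ centralizer {c} with hB
  have hAB : (A : Set X) * (B : Set X) = (N : Set X) := by
    refine Set.eq_of_subset_of_subset (fun x ⟨a, ha, b, hb, e⟩ => e ▸ mul_mem ha.1 hb.1) fun x hx => ?_
    obtain ⟨a, ha, had, b, hb, hbc, e⟩ := hfac x hx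
    exact ⟨a, ⟨ha, mem_centralizer_singleton_iff.2 had⟩, b, ⟨hb, mem_centralizer_singleton_iff.2 hbc⟩, e.symm⟩
  have h1 := CfsgLib.Solvable.card_mul_set_mul_card_inf A B
  rw [hAB] at h1
  have h2 := CfsgLib.Solvable.card_mul_set_mul_card_inf (S ⊓ centralizer {d}) (S ⊓ centralizer {c})
  obtain ⟨QA⟩ : Nonempty (Sylow q A) := inferInstance
  obtain ⟨QB⟩ : Nonempty (Sylow q B) := inferInstance
  have hA1 : q ^ (Nat.card A).factorization q ≤ Nat.card (S ⊓ centralizer {d} : Subgroup X) := by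
    rw [← Sylow.card_eq_multiplicity QA, ← card_map_of_injective A.subtype_injective]
    exact card_le_of_invariant hcd hdN Q hQd (QA.isPGroup'.map _) ((map_subtype_le _).trans inf_le_left)
      ((map_subtype_le _).trans inf_le_right)
  have hB1 : q ^ (Nat.card B).factorization q ≤ Nat.card (S ⊓ centralizer {c} : Subgroup X) := by
    rw [← Sylow.card_eq_multiplicity QB, ← card_map_of_injective B.subtype_injective]
    exact card_le_of_invariant hcc hcN Q hQc (QB.isPGroup'.map _) ((map_subtype_le _).trans inf_le_left)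
      ((map_subtype_le _).trans inf_le_right)
  have hI : Nat.card ((S ⊓ centralizer {d}) ⊓ (S ⊓ centralizer {c}) : Subgroup X) ≤
      q ^ (Nat.card (A ⊓ B : Subgroup X)).factorization q := by
    obtain ⟨k, hk⟩ := IsPGroup.iff_card.1 (hSp.to_le (inf_le_left.trans inf_le_left :
      (S ⊓ centralizer {d}) ⊓ (S ⊓ centralizer {c}) ≤ S))
    rw [hk]
    refine Nat.pow_le_pow_right hq.out.pos ?_
    have hd : q ^ k ∣ Nat.card (A ⊓ B : Subgroup X) := hk ▸ card_dvd_of_le
      (le_inf (le_inf (inf_le_left.trans (inf_le_left.trans hSN)) (inf_le_left.trans inf_le_right))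
        (le_inf (inf_le_left.trans (inf_le_left.trans hSN)) (inf_le_right.trans inf_le_right)))
    exact (hq.out.pow_dvd_iff_le_factorization Nat.card_pos.ne').1 hd
  have h3 : q ^ (Nat.card A).factorization q * q ^ (Nat.card B).factorization q =
      Nat.card S * q ^ (Nat.card (A ⊓ B : Subgroup X)).factorization q := by
    have e := congrArg (fun m => m.factorization q) h1
    rw [Nat.factorization_mul Nat.card_pos.ne' Nat.card_pos.ne',
      Nat.factorization_mul Nat.card_pos.ne' Nat.card_pos.ne', Finsupp.add_apply, Finsupp.add_apply] at e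
    rw [hS, card_map_of_injective N.subtype_injective, Sylow.card_eq_multiplicity Q, ← pow_add, ← pow_add, ← e]
    rfl
  set T := ((S ⊓ centralizer {d} : Subgroup X) : Set X) * ((S ⊓ centralizer {c} : Subgroup X) : Set X) with hT
  have hsub : T ⊆ (S : Set X) := fun x ⟨a, ha, b, hb, e⟩ => e ▸ mul_mem ha.1 hb.1
  have hge : Nat.card S ≤ Nat.card T := by
    by_contra h
    push Not at h
    have h4 := Nat.mul_le_mul hA1 hB1
    rw [h3, ← h2] at h4
    have h5 := Nat.mul_lt_mul_of_lt_of_le h hI (pow_pos hq.out.pos _)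
    omega
  have heq : T = (S : Set X) :=
    Set.eq_of_subset_of_ncard_le hsub (by rw [← Nat.card_coe_set_eq, ← Nat.card_coe_set_eq]; exact hge)
  intro x hx
  obtain ⟨a, ha, b, hb, e⟩ := (heq ▸ hx : x ∈ T)
  exact ⟨a, ha.1, mem_centralizer_singleton_iff.1 ha.2, b, hb.1, mem_centralizer_singleton_iff.1 hb.2, e.symm⟩

theorem conj_mem_centralizer_iff {P : Subgroup X} {g : X} (hg : g ∈ P) (x : X) :
    x ∈ centralizer (P : Set X) ↔ g * x * g⁻¹ ∈ centralizer (P : Set X) := by
  constructor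
  · intro hx
    have e : g * x * g⁻¹ = x := by rw [mem_centralizer_iff.1 hx g hg, mul_inv_cancel_right]
    rwa [e]
  · intro hx
    have h1 := mem_centralizer_iff.1 hx g hg
    have e : g * x * g⁻¹ = x := by
      have h2 : x * g⁻¹ * g = g * x * g⁻¹ := by
        have := h1.symm
        calc x * g⁻¹ * g = g⁻¹ * (g * x * g⁻¹ * g) := by group
          _ = g⁻¹ * (g * (g * x * g⁻¹)) := by rw [this]
          _ = g * x * g⁻¹ := by group
      rw [← h2, inv_mul_cancel_right]
    rwa [e] at hx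

theorem pgroup_case {p q : ℕ} [Fact p.Prime] [Fact q.Prime] (hp2 : p ≠ 2) (hqp : q ≠ p) {P Q : Subgroup X}
    (hP : IsPGroup p P) (hQ : IsPGroup q Q) (hPQ : P ≤ normalizer (Q : Set X))
    (C D : Set X) (hC : closure C = P) (hD : closure D = P)
    (hfac : ∀ c ∈ C, ∀ d ∈ D, ∀ x ∈ Q, ∃ a ∈ Q, a * d = d * a ∧ ∃ b ∈ Q, b * c = c * b ∧ x = a * b) :
    P ≤ centralizer (Q : Set X) := by
  classical
  by_contra hne
  have : Group.IsNilpotent Q := hQ.isNilpotent
  have hcop : (Nat.card P).Coprime (Nat.card Q) := by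
    obtain ⟨a, ha⟩ := IsPGroup.iff_card.1 hP
    obtain ⟨b, hb⟩ := IsPGroup.iff_card.1 hQ
    rw [ha, hb]
    exact Nat.Coprime.pow a b ((Nat.coprime_primes (Fact.out : p.Prime) (Fact.out : q.Prime)).2 hqp.symm)
  set Cq := Q ⊓ centralizer (P : Set X) with hCq
  set M := commutator Q with hM
  -- maximal invariant proper normal subgroup over `C_Q(P)` and `Q'`
  let S : Set (Subgroup X) := {K | K < Q ∧ Cq ≤ K ∧ P ≤ normalizer (K : Set X) ∧ ⁅Q, Q⁆ ≤ K}
  have hne' : S.Nonempty := by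
    have hQQ : ⁅Q, Q⁆ ≤ Q := commutator_le.2 fun x hx y hy => by
      rw [commutatorElement_def]
      exact mul_mem (mul_mem (mul_mem hx hy) (inv_mem hx)) (inv_mem hy)
    refine ⟨Cq ⊔ ⁅Q, Q⁆, lt_of_le_of_ne (sup_le inf_le_left hQQ) fun h => hne ?_,
      le_sup_left, ?_, le_sup_right⟩
    · have h2 : Q ≤ Cq := CfsgLib.FixedSpace.le_of_sup_commutator hQ inf_le_left h.ge
      intro g hg
      exact mem_centralizer_iff.2 fun x hx => ((mem_centralizer_iff.1 (h2 hx).2) g hg).symm
    · intro g hg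
      refine normalizer_inf_normalizer_le_normalizer_sup _ _ ⟨?_, ?_⟩
      · refine mem_normalizer_iff.2 fun x => ?_
        show x ∈ Cq ↔ _ ∈ Cq
        simp only [hCq, mem_inf]
        refine and_congr (mem_normalizer_iff.1 (hPQ hg) x) ?_
        exact conj_mem_centralizer_iff hg x
      · have e : (⁅Q, Q⁆).map (MulAut.conj g).toMonoidHom = ⁅Q, Q⁆ := by
          rw [map_commutator, map_conj_of_mem_normalizer (hPQ hg)]
        exact mem_normalizer_iff_map_conj.2 e
  obtain ⟨K, hK⟩ := (Set.toFinite S).exists_maximal hne'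
  obtain ⟨hKQ, hCK, hKP, hQK⟩ := hK.prop
  have hKn : (K.subgroupOf Q).Normal := ⟨fun y hy g => by
    have h1 : ⁅(g : X), (y : X)⁆ * y ∈ K := mul_mem (hQK (commutator_mem_commutator g.2 y.2)) hy
    rw [mem_subgroupOf, Subgroup.coe_mul, Subgroup.coe_mul, Subgroup.coe_inv]
    rwa [commutatorElement_def, inv_mul_cancel_right] at h1⟩
  let V := Q ⧸ K.subgroupOf Q
  have hVc : ∀ a b : V, a * b = b * a := by
    intro a b
    obtain ⟨a, rfl⟩ := QuotientGroup.mk_surjective a
    obtain ⟨b, rfl⟩ := QuotientGroup.mk_surjective b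
    rw [← QuotientGroup.mk_mul, ← QuotientGroup.mk_mul, QuotientGroup.eq, mem_subgroupOf]
    have : (b : X)⁻¹ * (a : X)⁻¹ * (b : X)⁻¹⁻¹ * (a : X)⁻¹⁻¹ ∈ K :=
      hQK (commutator_mem_commutator (inv_mem b.2) (inv_mem a.2))
    simpa [mul_assoc] using this
  let _ : CommGroup V := { (inferInstance : Group V) with mul_comm := hVc }
  have hmap : ∀ g : P, (K.subgroupOf Q).map (Subgroup.normalizerMonoidHom Q ⟨g, hPQ g.2⟩).toMonoidHom =
      K.subgroupOf Q := by
    intro g
    refine le_antisymm ?_ ?_ <;> intro x hx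
    · obtain ⟨y, hy, rfl⟩ := hx
      exact ((mem_normalizer_iff.1 (hKP g.2)) y).1 hy
    · refine ⟨(Subgroup.normalizerMonoidHom Q ⟨g, hPQ g.2⟩).symm x, ?_, MulEquiv.apply_symm_apply _ x⟩
      have e := congrArg Subtype.val (MulEquiv.apply_symm_apply (Subgroup.normalizerMonoidHom Q ⟨g, hPQ g.2⟩) x)
      have hx' : (x : X) ∈ K := hx
      rw [← e] at hx'
      exact ((mem_normalizer_iff.1 (hKP g.2)) _).2 hx' 
  let ψ : P →* MulAut V :=
    { toFun := fun g => QuotientGroup.congr _ _ (Subgroup.normalizerMonoidHom Q ⟨g, hPQ g.2⟩) (hmap g)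
      map_one' := by
        refine MulEquiv.ext fun v => ?_
        obtain ⟨x, rfl⟩ := QuotientGroup.mk_surjective v
        show ((Subgroup.normalizerMonoidHom Q ⟨(1 : P), _⟩ x : Q) : V) = x
        exact congrArg _ (Subtype.ext (by show (1 : X) * x * 1⁻¹ = x; group))
      map_mul' := fun g h => by
        refine MulEquiv.ext fun v => ?_
        obtain ⟨x, rfl⟩ := QuotientGroup.mk_surjective v
        show ((Subgroup.normalizerMonoidHom Q ⟨(g * h : P), _⟩ x : Q) : V) = _
        exact congrArg _ (Subtype.ext (by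
          show ((g : X) * h) * x * ((g : X) * h)⁻¹ = g * (h * x * (h : X)⁻¹) * (g : X)⁻¹
          group)) }
  have hψ : ∀ (g : P) (x : Q), ψ g (x : V) = ((⟨g * x * (g : X)⁻¹,
      (mem_normalizer_iff.1 (hPQ g.2) _).1 x.2⟩ : Q) : V) := fun g x => rfl
  have : Nontrivial V := by
    obtain ⟨x, hxQ, hxK⟩ := SetLike.exists_of_lt hKQ
    exact ⟨⟨((⟨x, hxQ⟩ : Q) : V), 1, fun h => hxK ((QuotientGroup.eq_one_iff (⟨x, hxQ⟩ : Q)).1 h)⟩⟩
  -- the kernel is proper
  obtain ⟨g₀, hg₀⟩ : ∃ g : P, ψ g ≠ 1 := by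
    by_contra h
    push Not at h
    obtain ⟨x, hxQ, hxK⟩ := SetLike.exists_of_lt hKQ
    obtain ⟨n, hn, hc⟩ := exists_mem_centralizer_of_coset hPQ hKP hKQ.le hcop (Or.inl (by
      have := hP.isNilpotent; infer_instance)) hxQ (fun a ha => by
        have h1 := congrArg (fun t : MulAut V => t ((⟨x, hxQ⟩ : Q) : V)) (h ⟨a, ha⟩)
        simp only [hψ, MulAut.one_apply] at h1
        rw [eq_comm, QuotientGroup.eq, mem_subgroupOf] at h1
        simpa [mul_assoc] using h1)
    have h2 := hCK ⟨mul_mem hxQ (hKQ.le hn), hc⟩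
    exact hxK (by simpa using mul_mem h2 (inv_mem hn))
  let R := ψ.range
  have : Nontrivial R := ⟨⟨⟨ψ g₀, g₀, rfl⟩, 1, fun h => hg₀ (congrArg Subtype.val h)⟩⟩
  have hirr : ∀ W : Subgroup V, (∀ g : R, ∀ w ∈ W, R.subtype g w ∈ W) → W = ⊥ ∨ W = ⊤ := by
    intro W hW
    set L := (W.comap (QuotientGroup.mk' (K.subgroupOf Q))).map Q.subtype with hL
    have hLQ : L ≤ Q := map_subtype_le _
    have hKL : K ≤ L := fun x hx => ⟨⟨x, hKQ.le hx⟩, by
      show ((⟨x, hKQ.le hx⟩ : Q) : V) ∈ W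
      rw [(QuotientGroup.eq_one_iff _).2 (by exact hx)]; exact one_mem W, rfl⟩
    rcases hLQ.eq_or_lt with h | h
    · refine Or.inr (eq_top_iff.2 fun v _ => ?_)
      obtain ⟨x, rfl⟩ := QuotientGroup.mk_surjective v
      obtain ⟨y, hy, e⟩ := h.ge x.2
      exact Subtype.ext e ▸ hy
    · have hLP : P ≤ normalizer (L : Set X) := by
        have step : ∀ g ∈ P, ∀ x ∈ L, g * x * g⁻¹ ∈ L := by
          rintro g hg _ ⟨y, hy, rfl⟩
          exact ⟨_, hW ⟨ψ ⟨g, hg⟩, ⟨g, hg⟩, rfl⟩ _ hy, rfl⟩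
        intro g hg
        refine mem_normalizer_iff.2 fun x => ⟨step g hg x, fun hx => ?_⟩
        simpa [mul_assoc] using step g⁻¹ (inv_mem hg) _ hx
      have h1 : L ≤ K := hK.le_of_ge ⟨h, hCK.trans hKL, hLP, hQK.trans hKL⟩ hKL
      refine Or.inl (eq_bot_iff.2 fun v hv => ?_)
      obtain ⟨x, rfl⟩ := QuotientGroup.mk_surjective v
      exact mem_bot.2 ((QuotientGroup.eq_one_iff _).2 (h1 ⟨x, hv, rfl⟩))
  have hcopV : (Nat.card V).Coprime p := by
    obtain ⟨b, hb⟩ := IsPGroup.iff_card.1 (hQ.to_quotient (K.subgroupOf Q))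
    rw [hb]
    exact Nat.Coprime.pow_left b ((Nat.coprime_primes (Fact.out : q.Prime) (Fact.out : p.Prime)).2 hqp)
  have hgenR : ∀ C' : Set X, closure C' = P → closure {r : R | ∃ g : P, (g : X) ∈ C' ∧ (r : MulAut V) = ψ g} = ⊤ := by
    intro C' hC'
    have h1 : closure ((fun g : P => (g : X)) ⁻¹' C') = ⊤ := by
      subst hC'
      exact closure_closure_coe_preimage
    have h2 := congrArg (Subgroup.map ψ.rangeRestrict) h1
    rw [MonoidHom.map_closure, Subgroup.map_top_of_surjective _ ψ.rangeRestrict_surjective] at h2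
    refine top_le_iff.1 (h2 ▸ closure_mono ?_)
    rintro _ ⟨g, hg, rfl⟩
    exact ⟨g, hg, rfl⟩
  have hRp : IsPGroup p R := hP.of_surjective ψ.rangeRestrict ψ.rangeRestrict_surjective
  obtain ⟨r₁, ⟨c, hc, hr₁⟩, h₁⟩ := FixedCube.exists_small_fixed R.subtype hp2 hRp hcopV
    R.subtype_injective hirr _ (hgenR C hC)
  obtain ⟨r₂, ⟨d, hd, hr₂⟩, h₂⟩ := FixedCube.exists_small_fixed R.subtype hp2 hRp hcopV
    R.subtype_injective hirr _ (hgenR D hD)
  let f : {v : V // R.subtype r₂ v = v} × {v : V // R.subtype r₁ v = v} → V := fun u => u.1.1 * u.2.1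
  have hf : Function.Surjective f := by
    intro v
    obtain ⟨x, rfl⟩ := QuotientGroup.mk_surjective v
    obtain ⟨a, ha, had, b, hb, hbc, e⟩ := hfac c hc d hd x x.2
    refine ⟨(⟨((⟨a, ha⟩ : Q) : V), ?_⟩, ⟨((⟨b, hb⟩ : Q) : V), ?_⟩), ?_⟩
    · rw [Subgroup.subtype_apply, hr₂, hψ]
      exact congrArg _ (Subtype.ext (by
        show (d : X) * a * (d : X)⁻¹ = a
        rw [← had, mul_inv_cancel_right]))
    · rw [Subgroup.subtype_apply, hr₁, hψ]
      exact congrArg _ (Subtype.ext (by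
        show (c : X) * b * (c : X)⁻¹ = b
        rw [← hbc, mul_inv_cancel_right]))
    · show ((⟨a, ha⟩ : Q) : V) * ((⟨b, hb⟩ : Q) : V) = x
      rw [← QuotientGroup.mk_mul]
      exact congrArg _ (Subtype.ext e.symm)
  have h3 := Nat.card_le_card_of_surjective f hf
  rw [Nat.card_prod] at h3
  have hV : 2 ≤ Nat.card V := Finite.one_lt_card
  have h4 : Nat.card V ^ 3 ≤ Nat.card V ^ 2 := by
    calc Nat.card V ^ 3 ≤ (Nat.card {v : V // R.subtype r₂ v = v} * Nat.card {v : V // R.subtype r₁ v = v}) ^ 3 :=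
          Nat.pow_le_pow_left h3 3
      _ = Nat.card {v : V // R.subtype r₂ v = v} ^ 3 * Nat.card {v : V // R.subtype r₁ v = v} ^ 3 := mul_pow _ _ _
      _ ≤ Nat.card V * Nat.card V := Nat.mul_le_mul h₂ h₁
      _ = Nat.card V ^ 2 := (sq _).symm
  exact absurd ((Nat.pow_le_pow_iff_right hV).1 h4) (by norm_num)

end CfsgLib.Coprime.TwoCentralizers
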